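import Groth.Agent.E4O.FibreDim

/-!
Irreducible components of fibres and their dimensions in terms of `fdeg`.
-/

universe u

open AlgebraicGeometry CategoryTheory TopologicalSpace Topology

namespace Groth.Agent.E4O

variable {X Y : Scheme.{u}}

theorem apply_fiberι (f : X ⟶ Y) (y : Y) (z : ↥(f.fiber y)) : f (f.fiberι y z) = y := by
  rw [← f.fiberHomeo_apply y z]
  exact (f.fiberHomeo y z).2

theorem isEmbedding_fiberι (f : X ⟶ Y) (y : Y) : IsEmbedding (f.fiberι y) := by
  have := IsEmbedding.subtypeVal.comp (f.fiberHomeo y).isEmbedding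
  exact this

theorem specializes_fiberι_iff (f : X ⟶ Y) (y : Y) (a b : ↥(f.fiber y)) :
    f.fiberι y a ⤳ f.fiberι y b ↔ a ⤳ b :=
  (isEmbedding_fiberι f y).isInducing.specializes_iff

theorem exists_fiberι_eq (f : X ⟶ Y) {y : Y} {x : X} (h : f x = y) :
    ∃ z : ↥(f.fiber y), f.fiberι y z = x :=
  ⟨(f.fiberHomeo y).symm ⟨x, h⟩, f.fiberι_fiberHomeo_symm y ⟨x, h⟩⟩

theorem dim_closure_fiber (f : X ⟶ Y) [LocallyOfFiniteType f] (y : Y) (z : ↥(f.fiber y)) :
    topologicalKrullDim ↥(closure ({z} : Set ↥(f.fiber y))) = (fdeg f (f.fiberι y z) : ℕ) := by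
  rw [← dim_fibreClosure (f := f) (f.fiberι y z), apply_fiberι,
    (isEmbedding_fiberι f y).isInducing.closure_eq_preimage_closure_image, Set.image_singleton,
    dim_preimage_of_isEmbedding (isEmbedding_fiberι f y), f.range_fiberι]

/-- A point of `X` is maximal in its fibre. -/
def IsFibreMax (f : X ⟶ Y) (x : X) : Prop := ∀ x' : X, x' ⤳ x → f x' = f x → x' = x

theorem isFibreMax_fiberι_iff (f : X ⟶ Y) (y : Y) (z : ↥(f.fiber y)) :
    IsFibreMax f (f.fiberι y z) ↔ ∀ z', z' ⤳ z → z' = z := by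
  refine ⟨fun h z' hz' => (isEmbedding_fiberι f y).injective
    (h _ ((specializes_fiberι_iff f y _ _).2 hz') (by rw [apply_fiberι, apply_fiberι])),
    fun h x' hx' hfx' => ?_⟩
  obtain ⟨z', rfl⟩ := exists_fiberι_eq f (hfx'.trans (apply_fiberι f y z))
  rw [h z' ((specializes_fiberι_iff f y _ _).1 hx')]

theorem exists_eq_closure_of_mem_irreducibleComponents {α : Type*} [TopologicalSpace α]
    [QuasiSober α] [T0Space α] {Z : Set α} (hZ : Z ∈ irreducibleComponents α) :
    ∃ z, Z = closure {z} ∧ ∀ z', z' ⤳ z → z' = z := by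
  obtain ⟨z, hz⟩ := QuasiSober.sober hZ.1 (isClosed_of_mem_irreducibleComponents Z hZ)
  refine ⟨z, hz.def.symm, fun z' hz' => ?_⟩
  have h2 : Z ⊆ closure {z'} := hz.def.symm.le.trans
    (closure_minimal (Set.singleton_subset_iff.2 (specializes_iff_mem_closure.1 hz')) isClosed_closure)
  exact (hz'.antisymm (hz.specializes (hZ.2 isIrreducible_singleton.closure h2 (subset_closure rfl)))).eq

theorem closure_mem_irreducibleComponents {α : Type*} [TopologicalSpace α] [QuasiSober α]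
    [T0Space α] {z : α} (h : ∀ z', z' ⤳ z → z' = z) :
    closure {z} ∈ irreducibleComponents α := by
  refine ⟨isIrreducible_singleton.closure, fun W hW hsub => ?_⟩
  obtain ⟨w, hw⟩ := QuasiSober.sober hW.closure isClosed_closure
  have hwz : w ⤳ z := hw.specializes (subset_closure (hsub (subset_closure rfl)))
  have := hw.def
  rw [h w hwz] at this
  exact subset_closure.trans this.ge

/-- Components of a fibre correspond to maximal points, with dimension `fdeg`. -/
theorem exists_of_mem_irreducibleComponents_fiber (f : X ⟶ Y) [LocallyOfFiniteType f] {y : Y}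
    {Z : Set ↥(f.fiber y)} (hZ : Z ∈ irreducibleComponents ↥(f.fiber y)) :
    ∃ z, Z = closure {z} ∧ IsFibreMax f (f.fiberι y z) ∧
      topologicalKrullDim ↥Z = (fdeg f (f.fiberι y z) : ℕ) := by
  obtain ⟨z, rfl, hz⟩ := exists_eq_closure_of_mem_irreducibleComponents hZ
  exact ⟨z, rfl, (isFibreMax_fiberι_iff f y z).2 hz, dim_closure_fiber f y z⟩

theorem exists_component_of_isFibreMax (f : X ⟶ Y) [LocallyOfFiniteType f] {y : Y} {x : X}
    (hfx : f x = y) (hx : IsFibreMax f x) :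
    ∃ Z ∈ irreducibleComponents ↥(f.fiber y), topologicalKrullDim ↥Z = (fdeg f x : ℕ) := by
  obtain ⟨z, rfl⟩ := exists_fiberι_eq f hfx
  exact ⟨_, closure_mem_irreducibleComponents ((isFibreMax_fiberι_iff f y z).1 hx),
    dim_closure_fiber f y z⟩

theorem exists_isFibreMax_specializes (f : X ⟶ Y) [LocallyOfFiniteType f] (x : X) :
    ∃ z, z ⤳ x ∧ f z = f x ∧ IsFibreMax f z ∧ FlatMor.fibreDimAt f x = (fdeg f z : ℕ) ∧
      fdeg f x ≤ fdeg f z := by
  obtain ⟨z, hz, hfz, hd, hmax, hgen⟩ := exists_fibreDimAt_eq f x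
  exact ⟨z, hz, hfz, fun x' h1 h2 => hgen x' h1 (h2.trans hfz), hd, hmax x specializes_rfl rfl⟩

theorem fdeg_comp_openImmersion {U : Scheme.{u}} (i : U ⟶ X) [IsOpenImmersion i] (f : X ⟶ Y)
    [LocallyOfFiniteType f] (x : U) : fdeg (i ≫ f) x = fdeg f (i x) := by
  have h := dim_fibreClosure (f := i ≫ f) x
  have he : IsEmbedding i := i.isOpenEmbedding.isEmbedding
  rw [he.isInducing.closure_eq_preimage_closure_image, Set.image_singleton] at h
  have h2 : (i ≫ f) ⁻¹' {(i ≫ f) x} = i ⁻¹' (f ⁻¹' {f (i x)}) := rfl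
  rw [h2, ← Set.preimage_inter, dim_preimage_of_isEmbedding he, Set.inter_comm,
    dim_open_inter_fibreClosure (f := f) (i x) i.isOpenEmbedding.isOpen_range ⟨x, rfl⟩] at h
  exact_mod_cast h.symm

/-- The dimension of a fibre is bounded by a bound on `fdeg`. -/
theorem dim_fiber_le_iff (f : X ⟶ Y) [LocallyOfFiniteType f] (y : Y) (c : WithBot ℕ∞) :
    topologicalKrullDim ↥(f.fiber y) ≤ c ↔ ∀ x, f x = y → ((fdeg f x : ℕ) : WithBot ℕ∞) ≤ c := by
  constructor
  · intro h x hx
    obtain ⟨z, rfl⟩ := exists_fiberι_eq f hx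
    rw [← dim_closure_fiber f y z]
    exact (topologicalKrullDim_subspace_le _ _).trans h
  · intro h
    rw [TopDim50.dim_eq_iSup_irreducibleComponents]
    refine iSup₂_le fun Z hZ => ?_
    obtain ⟨z, -, -, hd⟩ := exists_of_mem_irreducibleComponents_fiber f hZ
    rw [hd]
    exact h _ (apply_fiberι f y z)

theorem le_dim_fiber (f : X ⟶ Y) [LocallyOfFiniteType f] (x : X) :
    ((fdeg f x : ℕ) : WithBot ℕ∞) ≤ topologicalKrullDim ↥(f.fiber (f x)) :=
  (dim_fiber_le_iff f (f x) _).1 le_rfl x rfl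

theorem fibreDimAt_le_dim_fiber (f : X ⟶ Y) (x : X) :
    FlatMor.fibreDimAt f x ≤ topologicalKrullDim ↥(f.fiber (f x)) :=
  TopDim50.localDim_le_dim _

end Groth.Agent.E4O
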