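import Groth.Agent.E4O.DimFormula
import Mathlib.RingTheory.NoetherNormalization
import Mathlib.RingTheory.IntegralClosure.GoingDown
import Mathlib.RingTheory.Jacobson.Ring
import Mathlib.RingTheory.Polynomial.UniqueFactorization
import Mathlib.RingTheory.Polynomial.RationalRoot

universe u

namespace Groth.Agent.E4O

theorem trdeg_quotient_bot {k S : Type u} [CommRing k] [IsDomain k] [CommRing S] [IsDomain S]
    [Algebra k S] [Algebra (k ⧸ (⊥ : Ideal k)) S] [IsScalarTower k (k ⧸ (⊥ : Ideal k)) S] :
    Algebra.trdeg (k ⧸ (⊥ : Ideal k)) S = Algebra.trdeg k S := by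
  let ι : k →+* k ⧸ (⊥ : Ideal k) := Ideal.Quotient.mk ⊥
  have hinj : Function.Injective ι := (RingHom.injective_iff_ker_eq_bot _).2 Ideal.mk_ker
  have : Algebra.IsAlgebraic k (k ⧸ (⊥ : Ideal k)) := ⟨fun x => by
    obtain ⟨r, rfl⟩ := Ideal.Quotient.mk_surjective x; exact isAlgebraic_algebraMap r⟩
  by_cases hf : FaithfulSMul (k ⧸ (⊥ : Ideal k)) S
  · have : FaithfulSMul k (k ⧸ (⊥ : Ideal k)) := (faithfulSMul_iff_algebraMap_injective _ _).2 hinj
    rw [← trdeg_add_eq k (k ⧸ (⊥ : Ideal k)) (A := S), trdeg_eq_zero (R := k) (A := k ⧸ (⊥ : Ideal k)), zero_add]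
  · rw [faithfulSMul_iff_algebraMap_injective] at hf
    rw [trdeg_eq_zero_of_not_injective hf, trdeg_eq_zero_of_not_injective]
    intro h
    refine hf fun a b hab => ?_
    obtain ⟨a, rfl⟩ := Ideal.Quotient.mk_surjective a
    obtain ⟨b, rfl⟩ := Ideal.Quotient.mk_surjective b
    refine congrArg _ (h ?_)
    rw [IsScalarTower.algebraMap_apply k (k ⧸ (⊥ : Ideal k)) S,
      IsScalarTower.algebraMap_apply k (k ⧸ (⊥ : Ideal k)) S]
    exact hab

/-- For a domain of finite type over a field, height + trdeg of the residue domain = trdeg. -/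
theorem height_add_trdeg_eq (k : Type u) [Field k] (S : Type u) [CommRing S] [IsDomain S]
    [Algebra k S] [Algebra.FiniteType k S] (P : Ideal S) [P.IsPrime] :
    (P.height : Cardinal.{u}) + Algebra.trdeg k (S ⧸ P) = Algebra.trdeg k S := by
  have hb : (⊥ : Ideal k).height = 0 := by
    rw [Ideal.height_eq_zero_iff, IsDomain.minimalPrimes_eq_singleton_bot]; rfl
  refine le_antisymm ?_ ?_
  · have : P.LiesOver (⊥ : Ideal k) :=
      ⟨((Ideal.eq_bot_or_top (P.under k)).resolve_right (Ideal.IsPrime.ne_top inferInstance)).symm⟩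
    have := height_add_trdeg_le k S (⊥ : Ideal k) P
    rw [hb, Cardinal.ofENat_zero, zero_add, trdeg_quotient_bot] at this
    exact this
  · obtain ⟨s, g, hg, hfin⟩ := exists_finite_inj_algHom_of_fg k S
    let A := MvPolynomial (Fin s) k
    algebraize [g.toRingHom]
    have : Module.Finite A S := hfin
    have : FaithfulSMul A S := (faithfulSMul_iff_algebraMap_injective _ _).2 hg
    have : IsScalarTower k A S := IsScalarTower.of_algebraMap_eq fun r => (g.commutes r).symm
    have hS : IsNoetherianRing S := Algebra.FiniteType.isNoetherianRing k S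
    let p : Ideal A := P.under A
    have hlop : p.LiesOver (⊥ : Ideal k) :=
      ⟨((Ideal.eq_bot_or_top (p.under k)).resolve_right (Ideal.IsPrime.ne_top inferInstance)).symm⟩
    have h1 := height_add_trdeg_mvPolynomial k s (⊥ : Ideal k) p
    rw [hb, Cardinal.ofENat_zero, zero_add, trdeg_quotient_bot] at h1
    have hint : Algebra.IsIntegral A S := Algebra.IsIntegral.of_finite A S
    have : Algebra.HasGoingDown A S := inferInstance
    have h2 : p.height ≤ P.height := by
      rw [Ideal.height_eq_height_add_of_liesOver_of_hasGoingDown p P]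
      exact le_self_add
    have h3 : Algebra.trdeg k (A ⧸ p) ≤ Algebra.trdeg k (S ⧸ P) :=
      trdeg_le_of_injective (IsScalarTower.toAlgHom k (A ⧸ p) (S ⧸ P))
        Ideal.algebraMap_quotient_injective
    have h4 : Algebra.trdeg k S = s := by
      have : Algebra.IsAlgebraic A S := Algebra.IsIntegral.isAlgebraic
      rw [← trdeg_add_eq k A (A := S), trdeg_eq_zero (R := A), add_zero,
        MvPolynomial.trdeg_of_isDomain, Cardinal.mk_fin, Cardinal.lift_natCast]
    rw [h4, ← h1]
    gcongr

theorem trdeg_eq_natCast (k : Type u) [Field k] (S : Type u) [CommRing S] [IsDomain S]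
    [Algebra k S] [Algebra.FiniteType k S] :
    Algebra.trdeg k S = (Cardinal.toNat (Algebra.trdeg k S) : Cardinal.{u}) :=
  (Cardinal.cast_toNat_of_lt_aleph0 (trdeg_lt_aleph0_of_finiteType (R := k) (S := S))).symm

theorem trdeg_quotient_maximal (k : Type u) [Field k] (S : Type u) [CommRing S]
    [Algebra k S] [Algebra.FiniteType k S] (m : Ideal S) [m.IsMaximal] :
    Algebra.trdeg k (S ⧸ m) = 0 := by
  let _ : Field (S ⧸ m) := Ideal.Quotient.field m
  have : Module.Finite k (S ⧸ m) := finite_of_finite_type_of_isJacobsonRing k (S ⧸ m)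
  exact trdeg_eq_zero

/-- All maximal ideals of a domain of finite type over a field have height the transcendence
degree. -/
theorem height_maximal_eq (k : Type u) [Field k] (S : Type u) [CommRing S] [IsDomain S]
    [Algebra k S] [Algebra.FiniteType k S] (m : Ideal S) [m.IsMaximal] :
    m.height = Cardinal.toNat (Algebra.trdeg k S) := by
  have h := height_add_trdeg_eq k S m
  rw [trdeg_quotient_maximal, add_zero, trdeg_eq_natCast k S] at h
  exact Cardinal.ofENat_injective (h.trans (Cardinal.ofENat_nat _).symm)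

theorem ringKrullDim_eq_trdeg (k : Type u) [Field k] (S : Type u) [CommRing S] [IsDomain S]
    [Algebra k S] [Algebra.FiniteType k S] :
    ringKrullDim S = (Cardinal.toNat (Algebra.trdeg k S) : ℕ) := by
  have hS : IsNoetherianRing S := Algebra.FiniteType.isNoetherianRing k S
  refine le_antisymm ((ringKrullDim_le_iff_isMaximal_height_le _).2 fun m hm => ?_) ?_
  · rw [height_maximal_eq k S m]; rfl
  · obtain ⟨m, hm⟩ := Ideal.exists_maximal S
    have := Ideal.height_le_ringKrullDim_of_ne_top (I := m) hm.ne_top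
    rw [height_maximal_eq k S m] at this
    exact this

end Groth.Agent.E4O
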