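import Groth.Agent.E4O.FibreDimRing
import Groth.Agent.TopDim50.Basic
import Groth.Agent.Ega11.PointDim
import Groth.Prelude.Def_Flat
import Mathlib.AlgebraicGeometry.Fiber
import Mathlib.AlgebraicGeometry.Noetherian

/-!
Dimensions of fibres of morphisms locally of finite type, via the invariant
`fdeg f x` = dimension of the closure of `x` in its fibre = transcendence degree of `κ(x)` over
`κ(f x)`.
-/

universe u

open AlgebraicGeometry CategoryTheory TopologicalSpace Topology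

namespace Groth.Agent.E4O

theorem dim_preimage_of_isEmbedding {α β : Type*} [TopologicalSpace α] [TopologicalSpace β]
    {e : α → β} (he : IsEmbedding e) (s : Set β) :
    topologicalKrullDim ↥(e ⁻¹' s) = topologicalKrullDim ↥(s ∩ Set.range e) := by
  refine IsHomeomorph.topologicalKrullDim_eq
    (f := fun x : e ⁻¹' s => (⟨e x.1, x.2, x.1, rfl⟩ : ↥(s ∩ Set.range e))) ?_
  refine isHomeomorph_iff_isEmbedding_surjective.2 ⟨?_, ?_⟩
  · exact IsEmbedding.of_comp (by fun_prop) continuous_subtype_val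
      (he.comp (IsEmbedding.subtypeVal (p := fun x => x ∈ e ⁻¹' s)))
  · rintro ⟨y, hy, x, rfl⟩
    exact ⟨⟨x, hy⟩, rfl⟩

theorem dim_set_congr {α : Type*} [TopologicalSpace α] {s t : Set α} (h : s = t) :
    topologicalKrullDim ↥s = topologicalKrullDim ↥t := h ▸ rfl

/-- A pair of affine charts of a morphism. -/
structure Chart {X Y : Scheme.{u}} (f : X ⟶ Y) where
  A : Type u
  B : Type u
  [crA : CommRing A]
  [crB : CommRing B]
  [alg : Algebra A B]
  [ft : Algebra.FiniteType A B]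
  e : Spec (CommRingCat.of B) ⟶ X
  j : Spec (CommRingCat.of A) ⟶ Y
  [oe : IsOpenImmersion e]
  [oj : IsOpenImmersion j]
  comm : e ≫ f = Spec.map (CommRingCat.ofHom (algebraMap A B)) ≫ j

attribute [instance] Chart.crA Chart.crB Chart.alg Chart.ft Chart.oe Chart.oj

variable {X Y : Scheme.{u}} {f : X ⟶ Y}

/-- The points of the source chart. -/
noncomputable def Chart.pt (C : Chart f) : PrimeSpectrum C.B → X := fun q => C.e q

theorem Chart.isOpenEmbedding_pt (C : Chart f) : IsOpenEmbedding C.pt := C.e.isOpenEmbedding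

/-- The points of the target chart. -/
noncomputable def Chart.ptY (C : Chart f) : PrimeSpectrum C.A → Y := fun q => C.j q

theorem Chart.isOpenEmbedding_ptY (C : Chart f) : IsOpenEmbedding C.ptY := C.j.isOpenEmbedding

theorem Chart.apply (C : Chart f) (q : PrimeSpectrum C.B) :
    f (C.pt q) = C.ptY (PrimeSpectrum.comap (algebraMap C.A C.B) q) := by
  have := congrArg (fun k : Spec (CommRingCat.of C.B) ⟶ Y => k.base q) C.comm
  exact this

theorem Chart.isOpen_range (C : Chart f) : IsOpen (Set.range C.pt) :=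
  C.isOpenEmbedding_pt.isOpen_range

theorem Chart.preimage_fibre (C : Chart f) (q : PrimeSpectrum C.B) :
    C.pt ⁻¹' (f ⁻¹' {f (C.pt q)}) =
      PrimeSpectrum.comap (algebraMap C.A C.B) ⁻¹'
        {PrimeSpectrum.comap (algebraMap C.A C.B) q} := by
  ext t
  simp only [Set.mem_preimage, Set.mem_singleton_iff, C.apply]
  exact C.isOpenEmbedding_ptY.injective.eq_iff

variable (f) in
theorem exists_chart_le [LocallyOfFiniteType f] (x : X) (U : X.Opens) (hx : x ∈ U) :
    ∃ C : Chart f, x ∈ Set.range C.pt ∧ Set.range C.pt ⊆ (U : Set X) ∧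
      (IsLocallyNoetherian Y → IsNoetherianRing C.A) := by
  obtain ⟨_, ⟨W, hW, rfl⟩, hxW, -⟩ :=
    Y.isBasis_affineOpens.exists_subset_of_mem_open (Set.mem_univ (f x)) isOpen_univ
  obtain ⟨_, ⟨V, hV, rfl⟩, hxV, hVW⟩ :=
    X.isBasis_affineOpens.exists_subset_of_mem_open
      (show x ∈ ((f ⁻¹ᵁ W) ⊓ U : X.Opens) from ⟨hxW, hx⟩) ((f ⁻¹ᵁ W) ⊓ U).isOpen
  replace hW : IsAffineOpen W := hW
  replace hV : IsAffineOpen V := hV
  have hle : V ≤ f ⁻¹ᵁ W := fun z hz => (hVW hz).1
  let φ := f.appLE W V hle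
  algebraize [φ.hom]
  have hft : φ.hom.FiniteType := f.finiteType_appLE hW hV hle
  have : Algebra.FiniteType Γ(Y, W) Γ(X, V) := hft
  have := hV.isOpenImmersion_fromSpec
  have := hW.isOpenImmersion_fromSpec
  refine ⟨⟨Γ(Y, W), Γ(X, V), hV.fromSpec, hW.fromSpec,
    (IsAffineOpen.SpecMap_appLE_fromSpec f hW hV hle).symm⟩, ?_, ?_, fun h => ?_⟩
  · exact hV.range_fromSpec.ge hxV
  · exact hV.range_fromSpec.le.trans fun z hz => (hVW hz).2
  · exact IsLocallyNoetherian.component_noetherian ⟨W, hW⟩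

variable (f) in
theorem exists_chart [LocallyOfFiniteType f] (x : X) :
    ∃ C : Chart f, x ∈ Set.range C.pt ∧ (IsLocallyNoetherian Y → IsNoetherianRing C.A) := by
  obtain ⟨C, h1, -, h2⟩ := exists_chart_le f x ⊤ trivial
  exact ⟨C, h1, h2⟩

/-- The residue transcendence degree at a point of a chart. -/
noncomputable def Chart.deg (C : Chart f) (q : PrimeSpectrum C.B) : ℕ :=
  Cardinal.toNat (Algebra.trdeg (C.A ⧸ q.asIdeal.under C.A) (C.B ⧸ q.asIdeal))

theorem Chart.trdeg_eq (C : Chart f) (q : PrimeSpectrum C.B) :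
    Algebra.trdeg (C.A ⧸ q.asIdeal.under C.A) (C.B ⧸ q.asIdeal) = (C.deg q : Cardinal.{u}) :=
  (Cardinal.cast_toNat_of_lt_aleph0 (trdeg_quotient_lt_aleph0 C.A C.B _ _)).symm

theorem Chart.dim_inter (C : Chart f) (q : PrimeSpectrum C.B) (W : Set X) (hW : IsOpen W)
    (hq : C.pt q ∈ W) :
    topologicalKrullDim ↥((W ∩ Set.range C.pt) ∩ (closure {C.pt q} ∩ f ⁻¹' {f (C.pt q)})) =
      (C.deg q : ℕ) := by
  let p := PrimeSpectrum.comap (algebraMap C.A C.B) q
  let h := PrimeSpectrum.preimageHomeomorphFiber C.A C.B p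
  let ι : PrimeSpectrum (p.asIdeal.Fiber C.B) → PrimeSpectrum C.B := fun t => (h.symm t).1
  have hι : IsEmbedding ι := IsEmbedding.subtypeVal.comp h.symm.isEmbedding
  let Q := h ⟨q, rfl⟩
  have hQ : ι Q = q := congrArg Subtype.val (h.symm_apply_apply ⟨q, rfl⟩)
  have hrange : Set.range ι = PrimeSpectrum.comap (algebraMap C.A C.B) ⁻¹' {p} := by
    rw [show ι = Subtype.val ∘ h.symm from rfl, Set.range_comp, h.symm.surjective.range_eq,
      Set.image_univ, Subtype.range_coe]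
  have he : IsEmbedding C.pt := C.isOpenEmbedding_pt.isEmbedding
  calc topologicalKrullDim ↥((W ∩ Set.range C.pt) ∩ (closure {C.pt q} ∩ f ⁻¹' {f (C.pt q)}))
      = topologicalKrullDim ↥((W ∩ (closure {C.pt q} ∩ f ⁻¹' {f (C.pt q)})) ∩ Set.range C.pt) :=
        dim_set_congr (by ac_rfl)
    _ = topologicalKrullDim ↥(C.pt ⁻¹' (W ∩ (closure {C.pt q} ∩ f ⁻¹' {f (C.pt q)}))) :=
        (dim_preimage_of_isEmbedding he _).symm
    _ = topologicalKrullDim ↥((C.pt ⁻¹' W ∩ closure {q}) ∩ Set.range ι) := by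
        refine dim_set_congr ?_
        rw [Set.preimage_inter, Set.preimage_inter, C.preimage_fibre, hrange,
          show C.pt ⁻¹' closure {C.pt q} = closure {q} from by
            rw [he.isInducing.closure_eq_preimage_closure_image, Set.image_singleton],
          Set.inter_assoc]
    _ = topologicalKrullDim ↥(ι ⁻¹' (C.pt ⁻¹' W ∩ closure {q})) :=
        (dim_preimage_of_isEmbedding hι _).symm
    _ = topologicalKrullDim ↥((C.pt ∘ ι) ⁻¹' W ∩ closure {Q}) := by
        refine dim_set_congr ?_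
        rw [Set.preimage_inter, hι.isInducing.closure_eq_preimage_closure_image,
          Set.image_singleton, hQ, Set.preimage_comp]
    _ = _ := by
        rw [dim_open_inter_closure p.asIdeal.ResidueField (p.asIdeal.Fiber C.B) Q _
          (hW.preimage (C.isOpenEmbedding_pt.continuous.comp hι.continuous))
          (show C.pt (ι Q) ∈ W by rw [hQ]; exact hq)]
        have hlo : q.asIdeal.LiesOver p.asIdeal := ⟨rfl⟩
        rw [trdeg_fiber_quotient p.asIdeal Q.asIdeal q.asIdeal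
          (congrArg PrimeSpectrum.asIdeal hQ).symm]
        rfl

/-- The dimension of the closure of `x` in its fibre, i.e. the transcendence degree of the residue
extension at `x`. -/
noncomputable def fdeg (f : X ⟶ Y) (x : X) : ℕ :=
  ((topologicalKrullDim ↥(closure {x} ∩ f ⁻¹' {f x})).unbotD 0).toNat

theorem dim_open_inter_fibreClosure_aux [LocallyOfFiniteType f] (x : X) :
    ∃ n : ℕ, (∀ W : Set X, IsOpen W → x ∈ W →
      topologicalKrullDim ↥(W ∩ (closure {x} ∩ f ⁻¹' {f x})) = n) ∧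
      ∀ (C : Chart f) (q : PrimeSpectrum C.B), C.pt q = x → C.deg q = n := by
  obtain ⟨C, ⟨q, rfl⟩, -⟩ := exists_chart f x
  have heq : ∀ (C' : Chart f) (q' : PrimeSpectrum C'.B), C'.pt q' = C.pt q → C'.deg q' = C.deg q := by
    intro C' q' h
    have h1 := C.dim_inter q (Set.range C'.pt) C'.isOpen_range (h ▸ ⟨q', rfl⟩)
    have h2 := C'.dim_inter q' (Set.range C.pt) C.isOpen_range (h.symm ▸ ⟨q, rfl⟩)
    rw [h, Set.inter_comm (Set.range C.pt), h1] at h2
    exact_mod_cast h2.symm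
  refine ⟨C.deg q, fun W hW hxW => le_antisymm ?_ ?_, heq⟩
  · let Z : Set X := W ∩ (closure {C.pt q} ∩ f ⁻¹' {f (C.pt q)})
    have hcov : ⋃ C' : Chart f, (Subtype.val : Z → X) ⁻¹' Set.range C'.pt = Set.univ :=
      Set.eq_univ_of_forall fun z => by
        obtain ⟨C', hC', -⟩ := exists_chart f z.1
        exact Set.mem_iUnion.2 ⟨C', hC'⟩
    rw [TopDim50.dim_eq_iSup_of_open_cover (X := Z)
      (fun C' : Chart f => (Subtype.val : Z → X) ⁻¹' Set.range C'.pt)
      (fun C' => C'.isOpen_range.preimage continuous_subtype_val) hcov]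
    refine iSup_le fun C' => ?_
    rw [dim_preimage_of_isEmbedding IsEmbedding.subtypeVal, Subtype.range_coe]
    by_cases hmem : C.pt q ∈ Set.range C'.pt
    · obtain ⟨q', hq'⟩ := hmem
      have h2 := C'.dim_inter q' W hW (hq'.symm ▸ hxW)
      rw [hq', heq C' q' hq'] at h2
      rw [← h2]
      exact (dim_set_congr (by simp only [Z]; ac_rfl)).le
    · have : IsEmpty ↥(Set.range C'.pt ∩ Z) := ⟨fun z => hmem
        ((specializes_iff_mem_closure.2 z.2.2.2.1).mem_open C'.isOpen_range z.2.1)⟩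
      have : IsEmpty (IrreducibleCloseds ↥(Set.range C'.pt ∩ Z)) :=
        ⟨fun T => IsEmpty.false T.isIrreducible.nonempty.some⟩
      rw [topologicalKrullDim, Order.krullDim_eq_bot]
      exact bot_le
  · rw [← C.dim_inter q W hW hxW]
    exact TopDim50.dim_mono (Set.inter_subset_inter_left _ Set.inter_subset_left)

theorem dim_open_inter_fibreClosure [LocallyOfFiniteType f] (x : X) {W : Set X} (hW : IsOpen W)
    (hx : x ∈ W) : topologicalKrullDim ↥(W ∩ (closure {x} ∩ f ⁻¹' {f x})) = (fdeg f x : ℕ) := by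
  obtain ⟨n, hn, -⟩ := dim_open_inter_fibreClosure_aux (f := f) x
  have h := hn Set.univ isOpen_univ (Set.mem_univ x)
  rw [Set.univ_inter] at h
  rw [hn W hW hx, fdeg, h]
  simp

theorem dim_fibreClosure [LocallyOfFiniteType f] (x : X) :
    topologicalKrullDim ↥(closure {x} ∩ f ⁻¹' {f x}) = (fdeg f x : ℕ) := by
  rw [← dim_open_inter_fibreClosure (f := f) x isOpen_univ (Set.mem_univ x), Set.univ_inter]

theorem Chart.deg_eq_fdeg [LocallyOfFiniteType f] (C : Chart f) (q : PrimeSpectrum C.B) :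
    C.deg q = fdeg f (C.pt q) := by
  obtain ⟨n, hn, hn'⟩ := dim_open_inter_fibreClosure_aux (f := f) (C.pt q)
  have h := hn Set.univ isOpen_univ (Set.mem_univ _)
  rw [Set.univ_inter, dim_fibreClosure] at h
  rw [hn' C q rfl]
  exact_mod_cast h.symm

theorem Chart.trdeg_eq_fdeg [LocallyOfFiniteType f] (C : Chart f) (q : PrimeSpectrum C.B) :
    Algebra.trdeg (C.A ⧸ q.asIdeal.under C.A) (C.B ⧸ q.asIdeal) =
      (fdeg f (C.pt q) : Cardinal.{u}) := by
  rw [C.trdeg_eq, C.deg_eq_fdeg]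

theorem Chart.bddAbove_deg (C : Chart f) : ∃ N : ℕ, ∀ q, C.deg q ≤ N := by
  classical
  obtain ⟨G, hG⟩ := Algebra.FiniteType.out (R := C.A) (A := C.B)
  refine ⟨G.card, fun q => toNat_le_of_le ?_⟩
  refine trdeg_quotient_le_of_integral (fun i => (G.equivFin.symm i).1) (G : Set C.B) hG _ _
    fun β hβ => ⟨1, fun h => q.2.ne_top ((Ideal.eq_top_iff_one _).2 h), isIntegral_one, ?_⟩
  rw [one_mul]
  have hmem : β ∈ Algebra.adjoin C.A (Set.range fun i => (G.equivFin.symm i).1) :=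
    Algebra.subset_adjoin ⟨G.equivFin ⟨β, hβ⟩, by simp⟩
  exact isIntegral_algebraMap (R := Algebra.adjoin C.A (Set.range fun i => (G.equivFin.symm i).1))
    (x := ⟨β, hmem⟩)

theorem fdeg_lt [LocallyOfFiniteType f] {x z : X} (h : z ⤳ x) (hf : f z = f x) (hne : z ≠ x) :
    fdeg f x < fdeg f z := by
  let T : Set X := closure {z} ∩ f ⁻¹' {f x}
  have hzT : z ∈ T := ⟨subset_closure rfl, hf⟩
  have : IrreducibleSpace T := by
    refine (irreducibleSpace_def _).2 ?_
    rw [Set.top_eq_univ]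
    have : (Set.univ : Set T) = closure {⟨z, hzT⟩} := (Set.eq_univ_of_forall fun t => by
      rw [closure_subtype, Set.image_singleton]; exact t.2.1).symm
    rw [this]
    exact isIrreducible_singleton.closure
  let Y' : Set T := Subtype.val ⁻¹' closure {x}
  have hY : IsClosed Y' := isClosed_closure.preimage continuous_subtype_val
  have hne' : Y' ≠ Set.univ := fun hu => hne
    ((specializes_iff_mem_closure.2 (hu.ge (Set.mem_univ (⟨z, hzT⟩ : T)) : _ ∈ closure {x})).antisymm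
      h).eq.symm
  have hT : topologicalKrullDim T = (fdeg f z : ℕ) := by
    rw [← dim_fibreClosure (f := f) z, hf]
  have hlt := TopDim50.dim_lt_of_ssubset (by rw [hT]; exact WithBot.coe_inj.not.2 (ENat.natCast_ne_top _))
    hY hne'
  rw [dim_preimage_of_isEmbedding IsEmbedding.subtypeVal, Subtype.range_coe, hT] at hlt
  have hsub : closure {x} ∩ f ⁻¹' {f x} ⊆ closure {x} ∩ T := fun t ht =>
    ⟨ht.1, specializes_iff_mem_closure.1 (h.trans (specializes_iff_mem_closure.2 ht.1)), ht.2⟩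
  have := (TopDim50.dim_mono hsub).trans_lt hlt
  rw [dim_fibreClosure] at this
  exact_mod_cast this

theorem fdeg_le [LocallyOfFiniteType f] {x z : X} (h : z ⤳ x) (hf : f z = f x) :
    fdeg f x ≤ fdeg f z := by
  by_cases hne : z = x
  · rw [hne]
  · exact (fdeg_lt h hf hne).le

variable (f) in
/-- Among the generizations of `x` in its fibre there is one maximal in the fibre with largest
residue transcendence degree. -/
theorem exists_fdeg_max [LocallyOfFiniteType f] (x : X) :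
    ∃ z : X, z ⤳ x ∧ f z = f x ∧ (∀ z', z' ⤳ x → f z' = f x → fdeg f z' ≤ fdeg f z) ∧
      ∀ z', z' ⤳ z → f z' = f x → z' = z := by
  classical
  obtain ⟨C, hx, -⟩ := exists_chart f x
  obtain ⟨N, hN⟩ := C.bddAbove_deg
  let S : Set ℕ := {n | ∃ z, z ⤳ x ∧ f z = f x ∧ fdeg f z = n}
  have hb : BddAbove S := ⟨N, by
    rintro n ⟨z, hz, -, rfl⟩
    obtain ⟨q, rfl⟩ := hz.mem_open C.isOpen_range hx
    rw [← C.deg_eq_fdeg]
    exact hN q⟩
  obtain ⟨z, hz, hfz, hzn⟩ := Nat.sSup_mem (s := S) ⟨_, x, specializes_rfl, rfl, rfl⟩ hb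
  refine ⟨z, hz, hfz, fun z' hz' hfz' => hzn ▸ le_csSup hb ⟨z', hz', hfz', rfl⟩, fun z' hz' hfz' => ?_⟩
  by_contra hne
  have h1 := fdeg_lt (f := f) hz' (hfz'.trans hfz.symm) hne
  have h2 : fdeg f z' ≤ sSup S := le_csSup hb ⟨z', hz'.trans hz, hfz', rfl⟩
  omega

theorem localDim_eq_of_homeomorph {α β : Type*} [TopologicalSpace α] [TopologicalSpace β]
    (h : α ≃ₜ β) (a : α) : FlatMor.localDim α a = FlatMor.localDim β (h a) := by
  refine le_antisymm (le_iInf fun U => ?_) (le_iInf fun U => ?_)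
  · refine le_trans (TopDim50.localDim_le ⟨h ⁻¹' U.1, U.1.isOpen.preimage h.continuous⟩ U.2) ?_
    rw [Opens.coe_mk, dim_preimage_of_isEmbedding h.isEmbedding]
    exact TopDim50.dim_mono Set.inter_subset_left
  · refine le_trans (TopDim50.localDim_le ⟨h.symm ⁻¹' U.1, U.1.isOpen.preimage h.symm.continuous⟩
      (by simpa using U.2)) ?_
    rw [Opens.coe_mk, dim_preimage_of_isEmbedding h.symm.isEmbedding]
    exact TopDim50.dim_mono Set.inter_subset_left

theorem fibreDimAt_eq_localDim (f : X ⟶ Y) (x : X) :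
    FlatMor.fibreDimAt f x = FlatMor.localDim ↥(f ⁻¹' {f x}) ⟨x, rfl⟩ :=
  (localDim_eq_of_homeomorph (f.fiberHomeo (f x)) (f.asFiber x)).trans
    (congrArg _ ((f.fiberHomeo (f x)).apply_symm_apply ⟨x, rfl⟩))

theorem noetherianSpace_chartFibre (C : Chart f) (q : PrimeSpectrum C.B) :
    NoetherianSpace ↥(f ⁻¹' {f (C.pt q)} ∩ Set.range C.pt) := by
  let p := PrimeSpectrum.comap (algebraMap C.A C.B) q
  let h := PrimeSpectrum.preimageHomeomorphFiber C.A C.B p
  have : IsNoetherianRing (p.asIdeal.Fiber C.B) :=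
    Algebra.FiniteType.isNoetherianRing p.asIdeal.ResidueField _
  let g : PrimeSpectrum (p.asIdeal.Fiber C.B) → ↥(f ⁻¹' {f (C.pt q)} ∩ Set.range C.pt) := fun t =>
    ⟨C.pt (h.symm t).1, (C.preimage_fibre q).ge (h.symm t).2, _, rfl⟩
  refine noetherianSpace_of_surjective g ?_ ?_
  · exact Continuous.subtype_mk (C.isOpenEmbedding_pt.continuous.comp
      (continuous_subtype_val.comp h.symm.continuous)) _
  · rintro ⟨_, hy, t, rfl⟩
    exact ⟨h ⟨t, (C.preimage_fibre q).le hy⟩, Subtype.ext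
      (congrArg (fun s => C.pt (Subtype.val s)) (h.symm_apply_apply _))⟩

variable (f) in
/-- The local dimension of the fibre at `x` is the largest residue transcendence degree of a
generization of `x` in the fibre. -/
theorem exists_fibreDimAt_eq [LocallyOfFiniteType f] (x : X) :
    ∃ z : X, z ⤳ x ∧ f z = f x ∧ FlatMor.fibreDimAt f x = (fdeg f z : ℕ) ∧
      (∀ z', z' ⤳ x → f z' = f x → fdeg f z' ≤ fdeg f z) ∧
      ∀ z', z' ⤳ z → f z' = f x → z' = z := by
  classical
  obtain ⟨z, hz, hfz, hmax, hgen⟩ := exists_fdeg_max f x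
  refine ⟨z, hz, hfz, le_antisymm ?_ ?_, hmax, hgen⟩
  · obtain ⟨C, hxC, -⟩ := exists_chart f x
    obtain ⟨q, rfl⟩ := hxC
    let F : Set X := f ⁻¹' {f (C.pt q)} ∩ Set.range C.pt
    have hN : NoetherianSpace F := noetherianSpace_chartFibre C q
    let x₀ : F := ⟨C.pt q, rfl, q, rfl⟩
    let bad : Set (Set F) := {T ∈ irreducibleComponents F | x₀ ∉ T}
    have hbad : IsClosed (⋃₀ bad) := by
      rw [Set.sUnion_eq_biUnion]
      exact Set.Finite.isClosed_biUnion
        (NoetherianSpace.finite_irreducibleComponents.subset fun T hT => hT.1)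
        fun T hT => isClosed_of_mem_irreducibleComponents T hT.1
    obtain ⟨O, hO, hOeq⟩ := isOpen_induced_iff.1 hbad.isOpen_compl
    have hxO : C.pt q ∈ O ∩ Set.range C.pt := by
      refine ⟨?_, q, rfl⟩
      have : x₀ ∈ Subtype.val ⁻¹' O := by
        rw [hOeq]; rintro ⟨T, hT, hxT⟩; exact hT.2 hxT
      exact this
    let U : Opens ↥(f ⁻¹' {f (C.pt q)}) :=
      ⟨Subtype.val ⁻¹' (O ∩ Set.range C.pt), (hO.inter C.isOpen_range).preimage continuous_subtype_val⟩
    rw [fibreDimAt_eq_localDim]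
    refine (TopDim50.localDim_le U hxO).trans ?_
    rw [Opens.coe_mk, dim_preimage_of_isEmbedding IsEmbedding.subtypeVal, Subtype.range_coe,
      dim_set_congr (show O ∩ Set.range C.pt ∩ f ⁻¹' {f (C.pt q)} = O ∩ F by
        simp only [F]; ac_rfl),
      ← Subtype.range_coe (s := F), ← dim_preimage_of_isEmbedding IsEmbedding.subtypeVal, hOeq,
      TopDim50.dim_eq_iSup_irreducibleComponents]
    refine iSup₂_le fun T hT => ?_
    have : QuasiSober F := by
      have h1 : QuasiSober ↥(f ⁻¹' {f (C.pt q)}) := (f.fiberHomeo (f (C.pt q))).symm.isClosedEmbedding.quasiSober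
      let P : Set ↥(f ⁻¹' {f (C.pt q)}) := Subtype.val ⁻¹' Set.range C.pt
      have hP : QuasiSober P := (C.isOpen_range.preimage continuous_subtype_val).isOpenEmbedding_subtypeVal.quasiSober
      let hh : F ≃ₜ P :=
        { toFun := fun a => ⟨⟨a.1, a.2.1⟩, a.2.2⟩
          invFun := fun a => ⟨a.1.1, a.1.2, a.2⟩
          left_inv := fun a => rfl
          right_inv := fun a => rfl
          continuous_toFun := by fun_prop
          continuous_invFun := by fun_prop }
      exact hh.isClosedEmbedding.quasiSober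
    have := hbad.isOpen_compl.isOpenEmbedding_subtypeVal.quasiSober
    obtain ⟨t, ht⟩ := QuasiSober.sober hT.1 (isClosed_of_mem_irreducibleComponents T hT)
    have htx : t.1.1 ⤳ C.pt q := by
      obtain ⟨T', hT', htT'⟩ :
          ∃ T' ∈ irreducibleComponents F, t.1 ∈ T' :=
        ⟨irreducibleComponent t.1, irreducibleComponent_mem_irreducibleComponents _,
          mem_irreducibleComponent⟩
      have hx₀ : x₀ ∈ T' := by
        by_contra hx'
        exact t.2 ⟨T', ⟨hT', hx'⟩, htT'⟩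
      obtain ⟨g, hg⟩ := QuasiSober.sober hT'.1 (isClosed_of_mem_irreducibleComponents T' hT')
      have hgbad : g ∈ (⋃₀ bad)ᶜ := (hg.specializes htT').mem_open hbad.isOpen_compl t.2
      have hgt : (⟨g, hgbad⟩ : ↥(⋃₀ bad)ᶜ) ⤳ t :=
        (subtype_specializes_iff _ _).2 (hg.specializes htT')
      have hmem : (⟨g, hgbad⟩ : ↥(⋃₀ bad)ᶜ) ∈ T := by
        have h1 : IsIrreducible (closure {(⟨g, hgbad⟩ : ↥(⋃₀ bad)ᶜ)}) := isIrreducible_singleton.closure
        have h2 : T ⊆ closure {(⟨g, hgbad⟩ : ↥(⋃₀ bad)ᶜ)} :=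
          ht.def.symm.le.trans (closure_minimal (Set.singleton_subset_iff.2
            (specializes_iff_mem_closure.1 hgt)) isClosed_closure)
        exact hT.2 h1 h2 (subset_closure rfl)
      have : (⟨g, hgbad⟩ : ↥(⋃₀ bad)ᶜ) = t := (hgt.antisymm (ht.specializes hmem)).eq
      have hspec : g ⤳ x₀ := hg.specializes hx₀
      rw [← this]
      exact (subtype_specializes_iff _ _).1 hspec
    have hft : f t.1.1 = f (C.pt q) := t.1.2.1
    refine le_trans (le_of_le_of_eq ?_ (dim_fibreClosure (f := f) t.1.1))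
      (by exact_mod_cast hmax _ htx hft)
    let g : T → ↥(closure {t.1.1} ∩ f ⁻¹' {f t.1.1}) := fun s => ⟨s.1.1.1,
      specializes_iff_mem_closure.1 ((subtype_specializes_iff _ _).1
        ((subtype_specializes_iff _ _).1 (ht.specializes s.2))), hft.symm ▸ s.1.1.2.1⟩
    exact IsInducing.topologicalKrullDim_le (f := g) (IsInducing.of_comp (by fun_prop)
      continuous_subtype_val ((IsInducing.subtypeVal.comp (IsInducing.subtypeVal (t := (⋃₀ bad)ᶜ))).comp
        (IsInducing.subtypeVal (t := T))))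
  · rw [fibreDimAt_eq_localDim]
    refine le_iInf fun ⟨U, hxU⟩ => ?_
    obtain ⟨O, hO, hOeq⟩ := isOpen_induced_iff.1 U.isOpen
    have hxO : x ∈ O := by
      have h1 : (⟨x, rfl⟩ : ↥(f ⁻¹' {f x})) ∈ Subtype.val ⁻¹' O := by rw [hOeq]; exact hxU
      exact h1
    rw [← hOeq, dim_preimage_of_isEmbedding IsEmbedding.subtypeVal, Subtype.range_coe,
      ← dim_open_inter_fibreClosure (f := f) z hO (hz.mem_open hO hxO)]
    exact TopDim50.dim_mono fun t ht => ⟨ht.1, by rw [← hfz]; exact ht.2.2⟩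

theorem fdeg_le_fibreDimAt [LocallyOfFiniteType f] {x z : X} (hz : z ⤳ x) (hf : f z = f x) :
    ((fdeg f z : ℕ) : WithBot ℕ∞) ≤ FlatMor.fibreDimAt f x := by
  obtain ⟨w, -, -, hw, hmax, -⟩ := exists_fibreDimAt_eq f x
  rw [hw]
  exact_mod_cast hmax z hz hf

theorem fibreDimAt_eq_fdeg [LocallyOfFiniteType f] {x : X}
    (hmax : ∀ z, z ⤳ x → f z = f x → z = x) : FlatMor.fibreDimAt f x = (fdeg f x : ℕ) := by
  obtain ⟨w, hw, hfw, h, -, -⟩ := exists_fibreDimAt_eq f x
  rw [h, hmax w hw hfw]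

variable (f) in
/-- Upper semicontinuity of the fibre dimension. -/
theorem exists_open_forall_fibreDimAt_le [LocallyOfFiniteType f] (x : X) :
    ∃ U : X.Opens, x ∈ U ∧ ∀ x' ∈ U, FlatMor.fibreDimAt f x' ≤ FlatMor.fibreDimAt f x := by
  obtain ⟨z₀, -, -, hz₀, -, -⟩ := exists_fibreDimAt_eq f x
  obtain ⟨U₀, hxU₀, hU₀⟩ := TopDim50.exists_localDim_eq (⟨x, rfl⟩ : ↥(f ⁻¹' {f x}))
  obtain ⟨O, hO, hOeq⟩ := isOpen_induced_iff.1 U₀.isOpen
  obtain ⟨C, hxC, hCO, -⟩ := exists_chart_le f x ⟨O, hO⟩ (by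
    have h1 : (⟨x, rfl⟩ : ↥(f ⁻¹' {f x})) ∈ Subtype.val ⁻¹' O := by rw [hOeq]; exact hxU₀
    exact h1)
  obtain ⟨q, rfl⟩ := hxC
  let p := PrimeSpectrum.comap (algebraMap C.A C.B) q
  let h := PrimeSpectrum.preimageHomeomorphFiber C.A C.B p
  let ι : PrimeSpectrum (p.asIdeal.Fiber C.B) → X := fun t => C.pt (h.symm t).1
  have hι : IsEmbedding ι :=
    C.isOpenEmbedding_pt.isEmbedding.comp (IsEmbedding.subtypeVal.comp h.symm.isEmbedding)
  have hd : ringKrullDim (p.asIdeal.Fiber C.B) ≤ (fdeg f z₀ : ℕ) := by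
    rw [← PrimeSpectrum.topologicalKrullDim_eq_ringKrullDim, ← hz₀, fibreDimAt_eq_localDim, hU₀,
      ← hOeq, dim_preimage_of_isEmbedding IsEmbedding.subtypeVal, Subtype.range_coe]
    refine le_trans (le_of_eq ?_) (TopDim50.dim_mono
      (s := Set.range ι) (fun y ⟨t, ht⟩ => ?_))
    · exact (IsHomeomorph.topologicalKrullDim_eq _ (hι.toHomeomorph).isHomeomorph)
    · subst ht
      exact ⟨hCO ⟨_, rfl⟩, (C.preimage_fibre q).ge (h.symm t).2⟩
  have : q.asIdeal.LiesOver p.asIdeal := ⟨rfl⟩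
  obtain ⟨g, hg, hgle⟩ := exists_notMem_forall_trdeg_le p.asIdeal q.asIdeal hd
  refine ⟨⟨C.pt '' (PrimeSpectrum.basicOpen g : Set _),
    C.isOpenEmbedding_pt.isOpenMap _ (PrimeSpectrum.basicOpen g).isOpen⟩, ⟨q, hg, rfl⟩, ?_⟩
  rintro _ ⟨q₁, hq₁, rfl⟩
  obtain ⟨z, hz, hfz, hzd, -, -⟩ := exists_fibreDimAt_eq f (C.pt q₁)
  obtain ⟨r, hr, rfl⟩ := hz.mem_open
    (C.isOpenEmbedding_pt.isOpenMap _ (PrimeSpectrum.basicOpen g).isOpen) ⟨q₁, hq₁, rfl⟩
  rw [hzd, hz₀, ← C.deg_eq_fdeg]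
  exact_mod_cast toNat_le_of_le (hgle r.asIdeal hr)

theorem fdeg_le_fibreDimAt_of_specializes [LocallyOfFiniteType f] {ξ x : X} (h : ξ ⤳ x) :
    ((fdeg f ξ : ℕ) : WithBot ℕ∞) ≤ FlatMor.fibreDimAt f x := by
  obtain ⟨U, hxU, hU⟩ := exists_open_forall_fibreDimAt_le f x
  exact (fdeg_le_fibreDimAt specializes_rfl rfl).trans (hU ξ (h.mem_open U.isOpen hxU))

end Groth.Agent.E4O
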