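import Groth.Prelude.Def_EGA43
import Mathlib.AlgebraicGeometry.PullbackCarrier
import Mathlib.AlgebraicGeometry.Morphisms.UniversallyClosed

universe u

open CategoryTheory AlgebraicGeometry Limits

namespace Groth.Agent.E4O

open EGA43

section Top

variable {α β γ : Type*} [TopologicalSpace α] [TopologicalSpace β] [TopologicalSpace γ]

theorem isOpenAt_comp {f : α → β} {g : β → γ} {x : α} (hf : IsOpenAt f x)
    (hg : IsOpenAt g (f x)) : IsOpenAt (g ∘ f) x := by
  intro U hU
  rw [Set.image_comp]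
  exact hg _ (hf U hU)

theorem isOpenAt_of_comp {f : α → β} {g : γ → α} {x : γ} (hg : Continuous g)
    (h : IsOpenAt (f ∘ g) x) : IsOpenAt f (g x) := by
  intro U hU
  refine Filter.mem_of_superset (h _ (hg.continuousAt.preimage_mem_nhds hU)) ?_
  rw [Set.image_comp]
  exact Set.image_mono (Set.image_preimage_subset _ _)

theorem isOpenAt_of_isOpenMap {f : α → β} (hf : IsOpenMap f) (x : α) : IsOpenAt f x :=
  fun _ hU => hf.image_mem_nhds hU

theorem isOpenAt_iff_le {f : α → β} {x : α} :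
    IsOpenAt f x ↔ nhds (f x) ≤ Filter.map f (nhds x) := by
  constructor
  · intro h s hs
    exact Filter.mem_of_superset (h _ hs) (Set.image_preimage_subset _ _)
  · intro h U hU
    exact h (Filter.image_mem_map hU)

theorem isOpenAt_restrictPreimage {f : α → β} {x : α} (h : IsOpenAt f x) {Y' : Set β}
    (hx : f x ∈ Y') : IsOpenAt (Y'.restrictPreimage f) ⟨x, hx⟩ := by
  intro U hU
  obtain ⟨V, hV, hVU⟩ := mem_nhds_subtype _ _ _ |>.1 hU
  refine mem_nhds_subtype _ _ _ |>.2 ⟨f '' V, h V hV, ?_⟩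
  rintro ⟨y, hy⟩ ⟨a, ha, rfl⟩
  exact ⟨⟨a, hy⟩, hVU ha, rfl⟩

/-- `f` is open at `x` if the neighbourhoods are detected by a finite jointly surjective family of
closed maps. -/
theorem isOpenAt_of_closedMaps {ι : Type*} [Finite ι] {T : ι → Type*}
    [∀ i, TopologicalSpace (T i)] {f : α → β} {x : α} (v : ∀ i, T i → β)
    (hv : ∀ i, IsClosedMap (v i)) (hsurj : ∀ b : β, ∃ i t, v i t = b)
    (h : ∀ U ∈ nhds x, ∀ i, ∀ t, v i t = f x → (v i) ⁻¹' (f '' U) ∈ nhds t) :
    IsOpenAt f x := by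
  intro U hU
  let C : ι → Set β := fun i => v i '' (interior ((v i) ⁻¹' (f '' U)))ᶜ
  have hC : ∀ i, IsClosed (C i) := fun i => hv i _ isOpen_interior.isClosed_compl
  have hx : f x ∈ ⋂ i, (C i)ᶜ := by
    simp only [Set.mem_iInter, Set.mem_compl_iff]
    rintro i ⟨t, ht, htx⟩
    exact ht (mem_interior_iff_mem_nhds.2 (h U hU i t htx))
  refine Filter.mem_of_superset
    ((isOpen_iInter_of_finite fun i => (hC i).isOpen_compl).mem_nhds hx) ?_
  intro b hb
  obtain ⟨i, t, rfl⟩ := hsurj b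
  have hb' := Set.mem_iInter.1 hb i
  by_contra hcon
  exact hb' ⟨t, fun ht => hcon (interior_subset (s := (v i) ⁻¹' (f '' U)) ht), rfl⟩

end Top

section Scheme

variable {X Y : Scheme.{u}} {f : X ⟶ Y}

theorem isOpenAt_of_isPullback {x : X} (h : IsUnivOpenAt f x) {Y' P : Scheme.{u}} {g : Y' ⟶ Y}
    {p : P ⟶ X} {q : P ⟶ Y'} (hsq : IsPullback p q f g) (x' : P) (hx' : p x' = x) :
    IsOpenAt q x' := by
  have hx'' : (pullback.fst f g) (hsq.isoPullback.hom x') = x := by
    rw [← Scheme.Hom.comp_apply, IsPullback.isoPullback_hom_fst]; exact hx'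
  have h1 := h Y' g _ hx''
  have h2 : IsOpenAt ⇑hsq.isoPullback.hom x' :=
    isOpenAt_of_isOpenMap hsq.isoPullback.hom.homeomorph.isOpenMap x'
  have h3 := isOpenAt_comp h2 h1
  have h4 : (⇑(pullback.snd f g) ∘ ⇑hsq.isoPullback.hom) = ⇑q := by
    funext a
    simp only [Function.comp_apply, ← Scheme.Hom.comp_apply, IsPullback.isoPullback_hom_snd]
  exact h4 ▸ h3

theorem isUnivOpenAt_of_isPullback {x : X} (h : IsUnivOpenAt f x) {Y' P : Scheme.{u}}
    {g : Y' ⟶ Y} {p : P ⟶ X} {q : P ⟶ Y'} (hsq : IsPullback p q f g) (x' : P) (hx' : p x' = x) :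
    IsUnivOpenAt q x' := by
  intro W w w' hw'
  refine isOpenAt_of_isPullback h ((IsPullback.of_hasPullback q w).paste_horiz hsq) w' ?_
  rw [Scheme.Hom.comp_apply, hw', hx']

theorem exists_of_isPullback {S P A B : Scheme.{u}} {p : P ⟶ A} {q : P ⟶ B} {a : A ⟶ S}
    {b : B ⟶ S} (hsq : IsPullback p q a b) (x : A) (y : B) (hxy : a x = b y) :
    ∃ z : P, p z = x ∧ q z = y := by
  obtain ⟨z, h1, h2⟩ := Scheme.Pullback.exists_preimage_pullback x y hxy
  refine ⟨hsq.isoPullback.inv z, ?_, ?_⟩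
  · rw [← Scheme.Hom.comp_apply, IsPullback.isoPullback_inv_fst, h1]
  · rw [← Scheme.Hom.comp_apply, IsPullback.isoPullback_inv_snd, h2]

theorem isOpenAt_of_pullback_closedMaps {ι : Type*} [Finite ι] {T : ι → Scheme.{u}} (x : X)
    (v : ∀ i, T i ⟶ Y) (hv : ∀ i, IsClosedMap (v i))
    (hsurj : ∀ y : Y, ∃ i t, v i t = y)
    (h : ∀ i, ∀ x' : ↥(pullback f (v i)), pullback.fst f (v i) x' = x →
      IsOpenAt (pullback.snd f (v i)) x') :
    IsOpenAt f x := by
  refine isOpenAt_of_closedMaps (fun i => ⇑(v i)) hv hsurj fun U hU i t ht => ?_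
  obtain ⟨z, hz1, hz2⟩ := Scheme.Pullback.exists_preimage_pullback (f := f) (g := v i) x t ht.symm
  subst hz2
  refine Filter.mem_of_superset
    (h i z hz1 _ ((pullback.fst f (v i)).continuous.continuousAt.preimage_mem_nhds
      (hz1.symm ▸ hU))) ?_
  rintro _ ⟨a, ha, rfl⟩
  refine ⟨pullback.fst f (v i) a, ha, ?_⟩
  simp only [← Scheme.Hom.comp_apply, pullback.condition]

theorem isUnivOpenAt_of_pullback_universallyClosed {ι : Type*} [Finite ι] {T : ι → Scheme.{u}}
    (x : X) (v : ∀ i, T i ⟶ Y) [∀ i, UniversallyClosed (v i)]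
    (hsurj : ∀ y : Y, ∃ i t, v i t = y)
    (h : ∀ i, ∀ x' : ↥(pullback f (v i)), pullback.fst f (v i) x' = x →
      IsUnivOpenAt (pullback.snd f (v i)) x') :
    IsUnivOpenAt f x := by
  intro W w x' hx'
  refine isOpenAt_of_pullback_closedMaps x' (fun i => pullback.fst w (v i))
    (fun i => (pullback.fst w (v i)).isClosedMap) ?_ ?_
  · intro b
    obtain ⟨i, t, ht⟩ := hsurj (w b)
    obtain ⟨z, hz1, -⟩ := Scheme.Pullback.exists_preimage_pullback (f := w) (g := v i) b t ht.symm
    exact ⟨i, z, hz1⟩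
  · intro i x'' hx''
    have hc : (pullback.fst (pullback.snd f w) (pullback.fst w (v i)) ≫ pullback.fst f w) ≫ f =
        (pullback.snd (pullback.snd f w) (pullback.fst w (v i)) ≫ pullback.snd w (v i)) ≫ v i := by
      rw [Category.assoc, pullback.condition, ← Category.assoc, pullback.condition, Category.assoc,
        pullback.condition, Category.assoc]
    have outer := (IsPullback.of_hasPullback (pullback.snd f w) (pullback.fst w (v i))).paste_horiz
      (IsPullback.of_hasPullback f w)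
    have e : pullback.fst w (v i) ≫ w = pullback.snd w (v i) ≫ v i := pullback.condition
    rw [e] at outer
    let k := pullback.lift _ _ hc
    have hk1 : k ≫ pullback.fst f (v i) = _ := pullback.lift_fst _ _ _
    have hk2 : k ≫ pullback.snd f (v i) = _ := pullback.lift_snd _ _ _
    rw [← hk1] at outer
    have sq := IsPullback.of_right outer hk2 (IsPullback.of_hasPullback f (v i))
    refine isOpenAt_of_isPullback (h i (k x'') ?_) sq x'' rfl
    rw [← Scheme.Hom.comp_apply, hk1, Scheme.Hom.comp_apply, hx'', hx']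

end Scheme

end Groth.Agent.E4O
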