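import Groth.Agent.E4O.UnibranchPoly
import Groth.Agent.E4O.OpenAt
import Mathlib.AlgebraicGeometry.AffineSpace
import Mathlib.AlgebraicGeometry.Properties

/-!
Stalks through affine charts, and geometric unibranchness of affine spaces.
-/

universe u

open CategoryTheory AlgebraicGeometry

namespace Groth.Agent.E4O

/-- The local ring at a point of an affine chart is the localization of the chart ring. -/
theorem exists_isLocalization_stalk {R : Type u} [CommRing R] {X : Scheme.{u}}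
    (e : Spec (CommRingCat.of R) ⟶ X) [IsOpenImmersion e] (P : PrimeSpectrum R) :
    ∃ _ : Algebra R (X.presheaf.stalk (e P)),
      IsLocalization.AtPrime (X.presheaf.stalk (e P)) P.asIdeal := by
  let k : Algebra R ((Spec (CommRingCat.of R)).presheaf.stalk P) :=
    StructureSheaf.stalkAlgebra R P
  have h : IsLocalization.AtPrime ((Spec (CommRingCat.of R)).presheaf.stalk P) P.asIdeal :=
    StructureSheaf.IsLocalization.to_stalk R P
  let i : X.presheaf.stalk (e P) ≃+* (Spec (CommRingCat.of R)).presheaf.stalk P :=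
    let P' : ↥(Spec (CommRingCat.of R)) := P
    (asIso (e.stalkMap P')).commRingCatIsoToRingEquiv
  let a : Algebra R (X.presheaf.stalk (e P)) := (i.symm.toRingHom.comp (algebraMap R _)).toAlgebra
  refine ⟨a, ?_⟩
  let i' : (Spec (CommRingCat.of R)).presheaf.stalk P ≃ₐ[R] X.presheaf.stalk (e P) :=
    { i.symm with commutes' := fun r => rfl }
  exact IsLocalization.isLocalization_of_algEquiv P.asIdeal.primeCompl i'

/-- Affine space over a geometrically unibranch point is geometrically unibranch. -/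
theorem isGeomUnibranch_affineSpace {Y : Scheme.{u}} {σ : Type u} (y' : ↥𝔸(σ; Y))
    (hy : CAlg2.IsGeomUnibranch (Y.presheaf.stalk ((𝔸(σ; Y) ↘ Y) y'))) :
    CAlg2.IsGeomUnibranch ((𝔸(σ; Y)).presheaf.stalk y') := by
  obtain ⟨_, ⟨V, hV, rfl⟩, hyV, -⟩ :=
    Y.isBasis_affineOpens.exists_subset_of_mem_open (Set.mem_univ ((𝔸(σ; Y) ↘ Y) y')) isOpen_univ
  replace hV : IsAffineOpen V := hV
  let j : Spec Γ(Y, V) ⟶ Y := hV.fromSpec
  have : IsOpenImmersion j := hV.isOpenImmersion_fromSpec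
  let e : Spec (CommRingCat.of (MvPolynomial σ Γ(Y, V))) ⟶ 𝔸(σ; Y) :=
    (AffineSpace.SpecIso σ Γ(Y, V)).inv ≫ AffineSpace.map σ j
  have hpb := AffineSpace.isPullback_map (n := σ) j
  have : IsOpenImmersion (AffineSpace.map σ j) :=
    MorphismProperty.of_isPullback hpb.flip inferInstance
  have hcomm : e ≫ (𝔸(σ; Y) ↘ Y) = Spec.map (CommRingCat.ofHom MvPolynomial.C) ≫ j := by
    simp [e]
  obtain ⟨P, hP⟩ : y' ∈ Set.range (fun P : PrimeSpectrum (MvPolynomial σ Γ(Y, V)) => e P) := by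
    obtain ⟨t, ht⟩ := hV.range_fromSpec.ge hyV
    obtain ⟨w, hw, -⟩ := exists_of_isPullback hpb y' t ht.symm
    refine ⟨(AffineSpace.SpecIso σ Γ(Y, V)).hom w, ?_⟩
    show ((AffineSpace.SpecIso σ Γ(Y, V)).hom ≫ (AffineSpace.SpecIso σ Γ(Y, V)).inv ≫
      AffineSpace.map σ j) w = y'
    rw [Iso.hom_inv_id_assoc, hw]
  subst hP
  let p : PrimeSpectrum Γ(Y, V) := PrimeSpectrum.comap MvPolynomial.C P
  have hp : (𝔸(σ; Y) ↘ Y) (e P) = j p := congrArg (fun k : _ ⟶ Y => k.base P) hcomm
  rw [hp] at hy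
  obtain ⟨a, ha⟩ := exists_isLocalization_stalk (R := Γ(Y, V)) j p
  obtain ⟨b, hb⟩ := exists_isLocalization_stalk e P
  exact isGeomUnibranch_mvPolynomial p.asIdeal (Y.presheaf.stalk (j p)) hy σ P.asIdeal rfl _

end Groth.Agent.E4O
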