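import Groth.Agent.E4O.OpenDim
import Groth.Agent.E4O.FibreComp
import Groth.Agent.E4O.StalkChart
import Mathlib.AlgebraicGeometry.Morphisms.UniversallyOpen

/-!
Components of `X` through a point, their traces on fibres, and spreading of universal openness
inside a fibre.
-/

universe u

open CategoryTheory AlgebraicGeometry Limits TopologicalSpace Topology

namespace Groth.Agent.E4O

variable {X Y : Scheme.{u}}

theorem isOpenAt_of_isUnivOpenAt {f : X ⟶ Y} {x : X} (h : EGA43.IsUnivOpenAt f x) :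
    EGA43.IsOpenAt f x :=
  isOpenAt_of_isPullback h (IsPullback.id_horiz f) x rfl

/-- Universal openness spreads to specializations in the same fibre. -/
theorem isUnivOpenAt_of_specializes_fibre {f : X ⟶ Y} {x z : X} (hzx : z ⤳ x) (hfz : f z = f x)
    (h : EGA43.IsUnivOpenAt f z) : EGA43.IsUnivOpenAt f x := by
  intro Y' g x' hx'
  let q := pullback.snd f g
  let p := pullback.fst f g
  let y' := q x'
  have hy : g y' = f x := by
    rw [← hx']
    simp only [y', q, ← Scheme.Hom.comp_apply, pullback.condition]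
  let m : q.fiber y' ⟶ f.fiber (g y') := pullback.lift (q.fiberι y' ≫ p)
    (q.fiberToSpecResidueField y' ≫ Spec.map (g.residueFieldMap y')) (by
      show (pullback.fst _ _ ≫ p) ≫ f = (pullback.snd _ _ ≫ _) ≫ _
      rw [Category.assoc, Category.assoc, pullback.condition, pullback.condition_assoc,
        Scheme.Hom.SpecMap_residueFieldMap_fromSpecResidueField])
  have hm : IsPullback m (q.fiberToSpecResidueField y') (f.fiberToSpecResidueField (g y'))
      (Spec.map (g.residueFieldMap y')) := by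
    refine IsPullback.of_right ?_ (pullback.lift_snd _ _ _) (IsPullback.of_hasPullback f _)
    erw [pullback.lift_fst, Scheme.Hom.SpecMap_residueFieldMap_fromSpecResidueField]
    exact (IsPullback.of_hasPullback q (Y'.fromSpecResidueField y')).paste_horiz
      (IsPullback.of_hasPullback f g)
  have : Flat m := MorphismProperty.of_isPullback (P := @Flat) hm.flip inferInstance
  obtain ⟨a, ha⟩ := exists_fiberι_eq q (rfl : q x' = y')
  obtain ⟨b, hb⟩ := exists_fiberι_eq f (hfz.trans hy.symm)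
  have hma : f.fiberι (g y') (m a) = x := by
    have h1 : f.fiberι (g y') (m a) = p (q.fiberι y' a) := by
      exact ((Scheme.Hom.comp_apply m _ a).symm.trans
        (congrArg (fun k : q.fiber y' ⟶ X => k a) (pullback.lift_fst _ _ _))).trans
        (Scheme.Hom.comp_apply _ _ a)
    rw [h1, ha, hx']
  obtain ⟨a', ha', hma'⟩ := Flat.generalizingMap m (a := a) (b := b)
    ((specializes_fiberι_iff f _ b (m a)).1 (by rw [hb, hma]; exact hzx))
  have hpa' : p (q.fiberι y' a') = z := by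
    rw [← hb, ← hma']
    exact (((Scheme.Hom.comp_apply m _ a').symm.trans
        (congrArg (fun k : q.fiber y' ⟶ X => k a') (pullback.lift_fst _ _ _))).trans
        (Scheme.Hom.comp_apply _ _ a')).symm
  have hsp : q.fiberι y' a' ⤳ x' := ha ▸ (specializes_fiberι_iff q y' a' a).2 ha'
  intro U hU
  obtain ⟨V, hVU, hVo, hxV⟩ := mem_nhds_iff.1 hU
  have h1 := h Y' g (q.fiberι y' a') hpa' U
    (Filter.mem_of_superset (hVo.mem_nhds (hsp.mem_open hVo hxV)) hVU)
  rw [show q (q.fiberι y' a') = q x' from apply_fiberι q y' a'] at h1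
  exact h1

/-- A point with unibranch local ring has a generization below all the others. -/
theorem exists_generic_of_isUnibranch {y : Y} (hy : CAlg2.IsUnibranch (Y.presheaf.stalk y)) :
    ∃ η : Y, η ⤳ y ∧ (∀ y' : Y, y' ⤳ y → η ⤳ y') := by
  obtain ⟨_, ⟨U, hU, rfl⟩, hyU, -⟩ :=
    Y.isBasis_affineOpens.exists_subset_of_mem_open (Set.mem_univ y) isOpen_univ
  replace hU : IsAffineOpen U := hU
  have := hU.isOpenImmersion_fromSpec
  let j : Spec (CommRingCat.of Γ(Y, U)) ⟶ Y := hU.fromSpec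
  have hoj : IsOpenImmersion j := hU.isOpenImmersion_fromSpec
  obtain ⟨p, rfl⟩ : y ∈ Set.range j := hU.range_fromSpec.ge hyU
  obtain ⟨a, ha⟩ : ∃ _ : Algebra Γ(Y, U) (Y.presheaf.stalk (j p)),
      IsLocalization.AtPrime (Y.presheaf.stalk (j p)) (PrimeSpectrum.asIdeal (R := Γ(Y, U)) p) :=
    exists_isLocalization_stalk j p
  obtain ⟨hdom, -⟩ := hy
  have hn : (nilradical (Y.presheaf.stalk (j p))).IsPrime := (Ideal.Quotient.isDomain_iff_prime _).1 hdom
  let P : PrimeSpectrum Γ(Y, U) :=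
    ⟨(nilradical (Y.presheaf.stalk (j p))).comap (algebraMap Γ(Y, U) _), hn.comap _⟩
  have hP : ∀ t : PrimeSpectrum Γ(Y, U), t.asIdeal ≤ PrimeSpectrum.asIdeal (R := Γ(Y, U)) p →
      P.asIdeal ≤ t.asIdeal := by
    intro t ht
    have hdisj : Disjoint ((PrimeSpectrum.asIdeal (R := Γ(Y, U)) p).primeCompl : Set Γ(Y, U)) t.asIdeal :=
      Set.disjoint_left.2 fun x hx hx' => hx (ht hx')
    have := IsLocalization.isPrime_of_isPrime_disjoint _ (Y.presheaf.stalk (j p)) _ t.2 hdisj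
    exact (Ideal.comap_mono (nilradical_le_prime _)).trans
      (IsLocalization.under_map_of_isPrime_disjoint _ (Y.presheaf.stalk (j p)) t.2 hdisj).le
  have hPp : (P : Spec (CommRingCat.of Γ(Y, U))) ⤳ p :=
    (PrimeSpectrum.le_iff_specializes P p).1 (hP p le_rfl)
  refine ⟨j P, hPp.map j.continuous, fun y' hy' => ?_⟩
  obtain ⟨t, rfl⟩ := hy'.mem_open j.isOpenEmbedding.isOpen_range ⟨p, rfl⟩
  exact (((PrimeSpectrum.le_iff_specializes P t).1 (hP t
    ((PrimeSpectrum.le_iff_specializes t p).2 (j.isOpenEmbedding.isInducing.specializes_iff.1 hy')))) :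
      (P : Spec (CommRingCat.of Γ(Y, U))) ⤳ t).map j.continuous

/-- The component of a point with unibranch local ring. -/
theorem exists_component_generic {y : Y} (hy : CAlg2.IsUnibranch (Y.presheaf.stalk y)) :
    ∃ η : Y, η ⤳ y ∧ (∀ y' : Y, y' ⤳ y → η ⤳ y') ∧
      closure {η} ∈ irreducibleComponents (Y : Type u) ∧ y ∈ closure {η} := by
  obtain ⟨η, hη, hmin⟩ := exists_generic_of_isUnibranch hy
  exact ⟨η, hη, hmin, closure_mem_irreducibleComponents fun z hz =>
    (hz.antisymm (hmin z (hz.trans hη))).eq, specializes_iff_mem_closure.1 hη⟩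

theorem eq_of_specializes_of_component {η : Y} (h : closure {η} ∈ irreducibleComponents (Y : Type u))
    {y' : Y} (hy' : y' ⤳ η) : y' = η := by
  refine (hy'.antisymm (specializes_iff_mem_closure.2 ?_)).eq
  exact h.2 isIrreducible_singleton.closure (closure_minimal
    (Set.singleton_subset_iff.2 (specializes_iff_mem_closure.1 hy')) isClosed_closure)
    (subset_closure rfl)

theorem closure_image_closure_singleton (f : X ⟶ Y) (ξ : X) :
    closure (f '' closure {ξ}) = closure {f ξ} := by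
  rw [closure_image_closure f.continuous, Set.image_singleton]

/-- The trace on a fibre of the closure of a point over `η`. -/
theorem dim_closure_inter_fibre (f : X ⟶ Y) [LocallyOfFiniteType f] {ξ : X} {η : Y} (h : f ξ = η) :
    topologicalKrullDim ↥(closure {ξ} ∩ f ⁻¹' {η}) = (fdeg f ξ : ℕ) := by
  subst h; exact dim_fibreClosure ξ

theorem le_localDim_inter_fibre (f : X ⟶ Y) [LocallyOfFiniteType f] {Z : Set X} (hZ : IsClosed Z)
    {x z : X} (hzx : z ⤳ x) (hfz : f z = f x) (hz : z ∈ Z) {y : Y} (hy : f x = y) (hx : x ∈ Z) :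
    ((fdeg f z : ℕ) : WithBot ℕ∞) ≤
      FlatMor.localDim ↥(Z ∩ f ⁻¹' {y}) ⟨x, ⟨hx, hy⟩⟩ := by
  subst hy
  refine le_iInf fun ⟨U, hxU⟩ => ?_
  obtain ⟨O, hO, hOeq⟩ := isOpen_induced_iff.1 U.isOpen
  have hxO : x ∈ O := by
    have h1 : (⟨x, ⟨hx, rfl⟩⟩ : ↥(Z ∩ f ⁻¹' {f x})) ∈ Subtype.val ⁻¹' O := by rw [hOeq]; exact hxU
    exact h1
  rw [← hOeq, dim_preimage_of_isEmbedding IsEmbedding.subtypeVal, Subtype.range_coe,
    ← dim_open_inter_fibreClosure (f := f) z hO (hzx.mem_open hO hxO)]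
  exact TopDim50.dim_mono fun t ht => ⟨ht.1,
    closure_minimal (Set.singleton_subset_iff.2 hz) hZ ht.2.1, by rw [← hfz]; exact ht.2.2⟩

theorem localDim_inter_fibre_le (f : X ⟶ Y) {Z : Set X} {x : X} {y : Y} (hy : f x = y) (hx : x ∈ Z) :
    FlatMor.localDim ↥(Z ∩ f ⁻¹' {y}) ⟨x, ⟨hx, hy⟩⟩ ≤ FlatMor.fibreDimAt f x := by
  subst hy
  rw [fibreDimAt_eq_localDim]
  refine le_iInf fun ⟨U, hxU⟩ => ?_
  let g : ↥(Z ∩ f ⁻¹' {f x}) → ↥(f ⁻¹' {f x}) := fun t => ⟨t.1, t.2.2⟩
  have hg : IsEmbedding g :=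
    IsEmbedding.of_comp (by fun_prop) continuous_subtype_val IsEmbedding.subtypeVal
  refine (TopDim50.localDim_le ⟨g ⁻¹' U, U.isOpen.preimage hg.continuous⟩ hxU).trans ?_
  rw [Opens.coe_mk, dim_preimage_of_isEmbedding hg]
  exact TopDim50.dim_mono Set.inter_subset_left

theorem dim_inter_fibre_le_iff (f : X ⟶ Y) [LocallyOfFiniteType f] (U : X.Opens) (y : Y)
    (c : WithBot ℕ∞) :
    topologicalKrullDim ↥((U : Set X) ∩ f ⁻¹' {y}) ≤ c ↔
      ∀ x ∈ U, f x = y → ((fdeg f x : ℕ) : WithBot ℕ∞) ≤ c := by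
  have h : topologicalKrullDim ↥((U : Set X) ∩ f ⁻¹' {y}) =
      topologicalKrullDim ↥((U.ι ≫ f).fiber y) := by
    rw [IsHomeomorph.topologicalKrullDim_eq _ ((U.ι ≫ f).fiberHomeo y).isHomeomorph]
    rw [show ⇑(U.ι ≫ f) ⁻¹' {y} = U.ι ⁻¹' (f ⁻¹' {y}) from rfl,
      dim_preimage_of_isEmbedding U.ι.isOpenEmbedding.isEmbedding, Scheme.Opens.range_ι,
      Set.inter_comm]
  rw [h, dim_fiber_le_iff]
  constructor
  · intro hh x hx hfx
    have := hh ⟨x, hx⟩ hfx
    rwa [fdeg_comp_openImmersion] at this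
  · intro hh x hfx
    rw [fdeg_comp_openImmersion]
    exact hh _ x.2 hfx

theorem le_dim_inter_fibre (f : X ⟶ Y) [LocallyOfFiniteType f] (U : X.Opens) {x : X} (hx : x ∈ U)
    {y : Y} (hy : f x = y) :
    ((fdeg f x : ℕ) : WithBot ℕ∞) ≤ topologicalKrullDim ↥((U : Set X) ∩ f ⁻¹' {y}) :=
  (dim_inter_fibre_le_iff f U y _).1 le_rfl x hx hy

/-- From a large point in a generic fibre to a component with the expected trace. -/
theorem exists_component_of_fdeg_ge (f : X ⟶ Y) [LocallyOfFiniteType f] {x z ξ : X} (hzx : z ⤳ x)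
    (hfz : f z = f x) (hd : FlatMor.fibreDimAt f x = (fdeg f z : ℕ))
    (hξ : ξ ⤳ z) (hη : closure {f ξ} ∈ irreducibleComponents (Y : Type u))
    (hle : fdeg f z ≤ fdeg f ξ) :
    ∃ Z ∈ irreducibleComponents (X : Type u), ∃ hx : x ∈ Z, closure (f '' Z) = closure {f ξ} ∧
      FlatMor.localDim ↥(Z ∩ f ⁻¹' {f x}) ⟨x, ⟨hx, rfl⟩⟩ = (fdeg f z : ℕ) ∧
      topologicalKrullDim ↥(Z ∩ f ⁻¹' {f ξ}) = (fdeg f z : ℕ) := by
  obtain ⟨w, hw, hfw, hwmax, -, hle'⟩ := exists_isFibreMax_specializes f ξ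
  have hmax : ∀ w', w' ⤳ w → w' = w := fun w' h =>
    hwmax w' h ((eq_of_specializes_of_component hη (hfw ▸ h.map f.continuous)).trans hfw.symm)
  have hwx : w ⤳ x := hw.trans (hξ.trans hzx)
  refine ⟨closure {w}, closure_mem_irreducibleComponents hmax, specializes_iff_mem_closure.1 hwx,
    by rw [closure_image_closure_singleton, hfw], le_antisymm ?_ ?_, ?_⟩
  · exact (localDim_inter_fibre_le f rfl (specializes_iff_mem_closure.1 hwx)).trans hd.le
  · exact le_localDim_inter_fibre f isClosed_closure hzx hfz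
      (specializes_iff_mem_closure.1 (hw.trans hξ)) rfl (specializes_iff_mem_closure.1 hwx)
  · rw [dim_closure_inter_fibre f hfw]
    have := fdeg_le_fibreDimAt_of_specializes (f := f) hwx
    rw [hd] at this
    have h1 : fdeg f w ≤ fdeg f z := by exact_mod_cast this
    rw [le_antisymm h1 (hle.trans hle')]

theorem exists_generic_of_component_dominating (f : X ⟶ Y) [LocallyOfFiniteType f] {Z : Set X}
    (hZ : Z ∈ irreducibleComponents (X : Type u)) {η : Y} (h : closure (f '' Z) = closure {η}) :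
    ∃ ξ : X, Z = closure {ξ} ∧ f ξ = η ∧ IsFibreMax f ξ ∧
      topologicalKrullDim ↥(Z ∩ f ⁻¹' {η}) = (fdeg f ξ : ℕ) := by
  obtain ⟨ξ, rfl, hmax⟩ := exists_eq_closure_of_mem_irreducibleComponents hZ
  rw [closure_image_closure_singleton] at h
  have hη : f ξ = η := (inseparable_iff_closure_eq.2 h).eq
  exact ⟨ξ, rfl, hη, fun a ha _ => hmax a ha, dim_closure_inter_fibre f hη⟩

/-- If every neighbourhood of `x` meets the fibre over the generic point `θ` of a component in
dimension at least `fdeg f x`, a generization of `x` over `θ` is at least as large. -/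
theorem exists_fdeg_ge_of_forall_opens [IsLocallyNoetherian Y] (f : X ⟶ Y) [LocallyOfFiniteType f]
    {x : X} {θ : Y} (hY₀ : closure {θ} ∈ irreducibleComponents (Y : Type u))
    (h : ∀ U : X.Opens, x ∈ U → ((fdeg f x : ℕ) : WithBot ℕ∞) ≤
      topologicalKrullDim ↥((U : Set X) ∩ f ⁻¹' {θ})) :
    ∃ ξ : X, f ξ = θ ∧ ξ ⤳ x ∧ fdeg f x ≤ fdeg f ξ := by
  by_contra hne
  push Not at hne
  obtain ⟨C, ⟨q, hq⟩, hC⟩ := exists_chart f x
  have := hC ‹_›
  have : IsNoetherianRing C.B := Algebra.FiniteType.isNoetherianRing C.A _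
  let bad : Set (PrimeSpectrum C.B) := {m | m.asIdeal ∈ minimalPrimes C.B ∧ ¬ C.pt m ⤳ x}
  have hbad : bad.Finite :=
    ((minimalPrimes.finite_of_isNoetherianRing C.B).preimage
      (fun a _ b _ h => PrimeSpectrum.ext h)).subset fun m hm => hm.1
  let U : X.Opens :=
    ⟨Set.range C.pt ∩ (⋃ m ∈ bad, closure {C.pt m})ᶜ,
      C.isOpen_range.inter (hbad.isClosed_biUnion fun _ _ => isClosed_closure).isOpen_compl⟩
  have hxU : x ∈ U := by
    refine ⟨⟨q, hq⟩, fun hmem => ?_⟩
    obtain ⟨m, hm, hxm⟩ := Set.mem_iUnion₂.1 hmem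
    exact hm.2 (specializes_iff_mem_closure.2 hxm)
  have hlt : ∀ t ∈ U, f t = θ → fdeg f t < fdeg f x := by
    rintro _ ⟨⟨r, rfl⟩, hnot⟩ hfr
    obtain ⟨m, hm, hmr⟩ := Ideal.exists_minimalPrimes_le (I := ⊥) (J := r.asIdeal) bot_le
    have hmp : m.IsPrime := Ideal.minimalPrimes_isPrime hm
    have hspec : C.pt ⟨m, hmp⟩ ⤳ C.pt r := (C.specializes_iff _ _).2 hmr
    have hmθ : f (C.pt ⟨m, hmp⟩) = θ :=
      eq_of_specializes_of_component hY₀ (hfr ▸ hspec.map f.continuous)
    have hmx : C.pt ⟨m, hmp⟩ ⤳ x := by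
      by_contra hc
      exact hnot (Set.mem_iUnion₂.2 ⟨⟨m, hmp⟩, ⟨hm, hc⟩, specializes_iff_mem_closure.1 hspec⟩)
    exact (fdeg_le hspec (hmθ.trans hfr.symm)).trans_lt (hne _ hmθ hmx)
  have h0 := h U hxU
  cases hn : fdeg f x with
  | zero =>
    have : IsEmpty ↥((U : Set X) ∩ f ⁻¹' {θ}) := ⟨fun t => by
      have := hlt t.1 t.2.1 t.2.2
      omega⟩
    have : IsEmpty (TopologicalSpace.IrreducibleCloseds ↥((U : Set X) ∩ f ⁻¹' {θ})) :=
      ⟨fun T => IsEmpty.false T.isIrreducible.nonempty.some⟩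
    rw [hn, topologicalKrullDim, Order.krullDim_eq_bot] at h0
    exact absurd (le_bot_iff.1 h0) WithBot.coe_ne_bot
  | succ n =>
    have hle : topologicalKrullDim ↥((U : Set X) ∩ f ⁻¹' {θ}) ≤ (n : ℕ) :=
      (dim_inter_fibre_le_iff f U θ _).2 fun t ht hft => by
        have := hlt t ht hft
        exact_mod_cast (by omega : fdeg f t ≤ n)
    rw [hn] at h0
    have : n + 1 ≤ n := by exact_mod_cast h0.trans hle
    omega

end Groth.Agent.E4O
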