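import Groth.Agent.E4O.OpenDim
import Groth.Agent.E4O.FibreComp
import Groth.Agent.E4O.FibreSets
import Mathlib.AlgebraicGeometry.Noetherian
import Mathlib.AlgebraicGeometry.Morphisms.FiniteType

/-!
Dimensions of fibres of an open morphism of finite type (EGA IV 14.2).
-/

universe u

open CategoryTheory AlgebraicGeometry TopologicalSpace Topology

namespace Groth.Agent.E4O

variable {X Y : Scheme.{u}}

/-- Open sets of locally Noetherian schemes are locally constructible. -/
theorem isLocallyConstructible_of_isOpen' [IsLocallyNoetherian X] {U : Set X} (hU : IsOpen U) :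
    IsLocallyConstructible U := by
  intro a
  obtain ⟨_, ⟨W, hW, rfl⟩, haW, -⟩ :=
    X.isBasis_affineOpens.exists_subset_of_mem_open (Set.mem_univ a) isOpen_univ
  have : IsNoetherianRing Γ(X, W) := IsLocallyNoetherian.component_noetherian ⟨W, hW⟩
  have : NoetherianSpace (W : Set X) := noetherianSpace_of_isAffineOpen W hW
  exact ⟨W, W.isOpen.mem_nhds haW, W.isOpen,
    IsRetrocompact.isConstructible (hU.preimage continuous_subtype_val)
      fun T hT hTo => NoetherianSpace.isCompact _⟩

theorem isLocallyConstructible_compl {α : Type*} [TopologicalSpace α] {s : Set α}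
    (h : IsLocallyConstructible s) : IsLocallyConstructible sᶜ := fun a => by
  obtain ⟨U, h1, h2, h3⟩ := h a
  exact ⟨U, h1, h2, by rw [Set.preimage_compl]; exact h3.compl⟩

/-- The set of local fibre dimensions over a point. -/
def fibreDims (f : X ⟶ Y) (z : Y) : Set ℕ :=
  {d | ∃ x, f x = z ∧ FlatMor.fibreDimAt f x = (d : ℕ)}

theorem isOpen_fibreDimAt_le (f : X ⟶ Y) [LocallyOfFiniteType f] (c : WithBot ℕ∞) :
    IsOpen {x | FlatMor.fibreDimAt f x ≤ c} := by
  refine isOpen_iff_forall_mem_open.2 fun x hx => ?_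
  obtain ⟨U, hxU, hU⟩ := exists_open_forall_fibreDimAt_le f x
  exact ⟨U, fun x' hx' => (hU x' hx').trans hx, U.isOpen, hxU⟩

theorem isOpen_fibreDimAt_lt (f : X ⟶ Y) [LocallyOfFiniteType f] (c : WithBot ℕ∞) :
    IsOpen {x | FlatMor.fibreDimAt f x < c} := by
  refine isOpen_iff_forall_mem_open.2 fun x hx => ?_
  obtain ⟨U, hxU, hU⟩ := exists_open_forall_fibreDimAt_le f x
  exact ⟨U, fun x' hx' => (hU x' hx').trans_lt hx, U.isOpen, hxU⟩

variable (f : X ⟶ Y) [IsLocallyNoetherian Y] [LocallyOfFiniteType f]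

/-- Along an open morphism fibre dimensions propagate to generizations. -/
theorem fibreDims_subset (hf : IsOpenMap f) {y z : Y} (hz : z ⤳ y) :
    fibreDims f y ⊆ fibreDims f z := by
  rintro d ⟨x, rfl, hd⟩
  obtain ⟨x₀, hx₀, hfx₀, -, hd₀, -⟩ := exists_isFibreMax_specializes f x
  obtain ⟨ξ, hξ, hξx, hle⟩ := exists_fdeg_ge_of_isOpenAt (isOpenAt_of_isOpenMap hf x₀)
    (η := z) (by rw [hfx₀]; exact hz)
  rw [hd] at hd₀
  have hd₀' : d = fdeg f x₀ := by exact_mod_cast hd₀
  obtain ⟨w, hw, hfw, -, hdw, hξw⟩ := exists_isFibreMax_specializes f ξ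
  refine ⟨ξ, hξ, ?_⟩
  have h1 := fdeg_le_fibreDimAt_of_specializes (f := f) ((hw.trans hξx).trans hx₀)
  rw [hd] at h1
  have h1' : fdeg f w ≤ d := by exact_mod_cast h1
  rw [hdw]
  exact_mod_cast (by omega : fdeg f w = d)

omit [IsLocallyNoetherian Y] in
set_option backward.isDefEq.respectTransparency.types false in
theorem finite_fibreDims [QuasiCompact f] (y : Y) : (fibreDims f y).Finite := by
  have : LocallyOfFiniteType (f.fiberToSpecResidueField y) :=
    MorphismProperty.pullback_snd _ _ inferInstance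
  have : IsLocallyNoetherian (f.fiber y) :=
    LocallyOfFiniteType.isLocallyNoetherian (f.fiberToSpecResidueField y)
  have : IsNoetherian (f.fiber y) := {}
  have hfin := (NoetherianSpace.finite_irreducibleComponents (α := ↥(f.fiber y))).image
    fun Z : Set ↥(f.fiber y) => topologicalKrullDim ↥Z
  refine (hfin.preimage (f := fun d : ℕ => ((d : ℕ) : WithBot ℕ∞))
    (fun a _ b _ h => Nat.cast_inj.1 (WithBot.coe_inj.1 h))).subset ?_
  rintro d ⟨x, rfl, hd⟩
  obtain ⟨x₀, hx₀, hfx₀, hmax, hd₀, -⟩ := exists_isFibreMax_specializes f x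
  obtain ⟨Z, hZ, hZd⟩ := exists_component_of_isFibreMax f hfx₀ hmax
  exact ⟨Z, hZ, hZd.trans (hd₀.symm.trans hd)⟩

theorem isLocallyConstructible_image_dim [QuasiCompact f] (d : ℕ) :
    IsLocallyConstructible (f '' {x | FlatMor.fibreDimAt f x = (d : ℕ)}) := by
  have : LocallyOfFinitePresentation f := locallyOfFinitePresentation_of_isLocallyNoetherian f
  have : IsLocallyNoetherian X := LocallyOfFiniteType.isLocallyNoetherian f
  refine f.isLocallyConstructible_image ?_
  have : {x | FlatMor.fibreDimAt f x = (d : ℕ)} =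
      {x | FlatMor.fibreDimAt f x ≤ (d : ℕ)} ∩ {x | FlatMor.fibreDimAt f x < (d : ℕ)}ᶜ := by
    ext x
    simp only [Set.mem_inter_iff, Set.mem_compl_iff, Set.mem_ofPred_eq, not_lt]
    exact le_antisymm_iff
  rw [this]
  exact (isLocallyConstructible_of_isOpen' (isOpen_fibreDimAt_le f _)).inter
    (isLocallyConstructible_compl (isLocallyConstructible_of_isOpen' (isOpen_fibreDimAt_lt f _)))

theorem isLocallyConstructible_image_gt [QuasiCompact f] (c : WithBot ℕ∞) :
    IsLocallyConstructible (f '' {x | FlatMor.fibreDimAt f x ≤ c}ᶜ) := by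
  have : LocallyOfFinitePresentation f := locallyOfFinitePresentation_of_isLocallyNoetherian f
  have : IsLocallyNoetherian X := LocallyOfFiniteType.isLocallyNoetherian f
  exact f.isLocallyConstructible_image
    (isLocallyConstructible_compl (isLocallyConstructible_of_isOpen' (isOpen_fibreDimAt_le f c)))

/-- Near `y` every dimension occurring over `y` occurs. -/
theorem exists_nhds_fibreDims_superset [QuasiCompact f] (hf : IsOpenMap f) (y : Y) :
    ∃ V ∈ nhds y, ∀ z ∈ V, fibreDims f y ⊆ fibreDims f z := by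
  have hmem : ∀ d ∈ fibreDims f y, f '' {x | FlatMor.fibreDimAt f x = (d : ℕ)} ∈ nhds y :=
    fun d hd => mem_nhds_of_forall_generization (isLocallyConstructible_image_dim f d) fun z hz => by
      obtain ⟨x, hx, hxd⟩ := fibreDims_subset f hf hz hd
      exact ⟨x, hxd, hx⟩
  refine ⟨_, (Filter.biInter_mem (finite_fibreDims f y)).2 hmem, fun z hz d hd => ?_⟩
  obtain ⟨x, hxd, hx⟩ := Set.mem_iInter₂.1 hz d hd
  exact ⟨x, hx, hxd⟩

omit [IsLocallyNoetherian Y] in
/-- The fibre dimension is the supremum of `fibreDims`. -/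
theorem dim_fiber_le_iff_fibreDims (y : Y) (c : WithBot ℕ∞) :
    topologicalKrullDim ↥(f.fiber y) ≤ c ↔ ∀ d ∈ fibreDims f y, ((d : ℕ) : WithBot ℕ∞) ≤ c := by
  rw [dim_fiber_le_iff]
  constructor
  · rintro h d ⟨x, rfl, hd⟩
    obtain ⟨w, -, hfw, -, hdw, -⟩ := exists_isFibreMax_specializes f x
    rw [← hd, hdw]
    exact h w hfw
  · intro h x hx
    obtain ⟨w, -, hfw, -, hdw, hle⟩ := exists_isFibreMax_specializes f x
    refine le_trans ?_ (h _ ⟨x, hx, hdw⟩)
    exact_mod_cast hle

omit [IsLocallyNoetherian Y] in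
/-- Points with `fibreDimAt ≤ c` everywhere in the fibre bound its dimension. -/
theorem dim_fiber_le_of_notMem_image (z : Y) (c : WithBot ℕ∞)
    (h : z ∉ f '' {x | FlatMor.fibreDimAt f x ≤ c}ᶜ) : topologicalKrullDim ↥(f.fiber z) ≤ c :=
  (dim_fiber_le_iff_fibreDims f z c).2 fun d ⟨x, hx, hd⟩ => by
    by_contra hc
    exact h ⟨x, by rw [Set.mem_compl_iff, Set.mem_ofPred_eq, hd]; exact hc, hx⟩

end Groth.Agent.E4O
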