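import Groth.Agent.E4O.GenOpen
import Mathlib.AlgebraicGeometry.Morphisms.FiniteType
import Mathlib.AlgebraicGeometry.Pullbacks

universe u

open CategoryTheory AlgebraicGeometry Limits
open scoped TensorProduct

namespace Groth.Agent.E4O

theorem exists_subalgebra_fg_tensor {R B A' : Type u} [CommRing R] [CommRing B] [CommRing A']
    [Algebra R B] [Algebra R A'] (g : B ⊗[R] A') :
    ∃ S : Subalgebra R A', S.FG ∧
      ∃ g₀ : B ⊗[R] S, Algebra.TensorProduct.map (AlgHom.id R B) S.val g₀ = g := by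
  induction g using TensorProduct.induction_on with
  | zero => exact ⟨⊥, Subalgebra.fg_bot, 0, by simp⟩
  | tmul b a =>
    exact ⟨Algebra.adjoin R {a}, Subalgebra.fg_adjoin_finset {a} |> fun h => by simpa using h,
      b ⊗ₜ ⟨a, Algebra.subset_adjoin rfl⟩, by simp⟩
  | add x y hx hy =>
    obtain ⟨S, hS, g₁, hg₁⟩ := hx
    obtain ⟨T, hT, g₂, hg₂⟩ := hy
    refine ⟨S ⊔ T, hS.sup hT,
      Algebra.TensorProduct.map (AlgHom.id R B) (Subalgebra.inclusion le_sup_left) g₁ +
      Algebra.TensorProduct.map (AlgHom.id R B) (Subalgebra.inclusion le_sup_right) g₂, ?_⟩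
    rw [map_add, ← AlgHom.comp_apply, ← AlgHom.comp_apply, ← Algebra.TensorProduct.map_comp,
      ← Algebra.TensorProduct.map_comp]
    exact congrArg₂ (· + ·) hg₁ hg₂

theorem exists_lift_tensor {R S B C A' : Type u} [CommRing R] [CommRing S] [CommRing B] [CommRing C]
    [CommRing A'] [Algebra R S] [Algebra R B] [Algebra R C] [Algebra R A'] [Algebra S C]
    [Algebra S A'] [IsScalarTower R S C] [IsScalarTower R S A'] (ι : B →ₐ[R] C) :
    ∃ Ψ : B ⊗[R] A' →ₐ[R] C ⊗[S] A', ∀ (b : B) (a : A'), Ψ (b ⊗ₜ[R] a) = ι b ⊗ₜ[S] a :=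
  ⟨Algebra.TensorProduct.lift
      ((Algebra.TensorProduct.includeLeft : C →ₐ[R] C ⊗[S] A').comp ι)
      ((Algebra.TensorProduct.includeRight : A' →ₐ[S] C ⊗[S] A').restrictScalars R)
      fun _ _ => Commute.all _ _,
    fun b a => by simp⟩

theorem mem_closure_affine {R B A' : Type u} [CommRing R] [CommRing B] [CommRing A']
    [Algebra R B] [Algebra R A'] (z : PrimeSpectrum (B ⊗[R] A')) (w' : PrimeSpectrum A')
    (hw : w' ⤳ PrimeSpectrum.comap Algebra.TensorProduct.includeRight.toRingHom z)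
    (h : ∀ S : Subalgebra R A', S.FG →
      EGA43.IsOpenAt (PrimeSpectrum.comap
        (Algebra.TensorProduct.includeRight : S →ₐ[R] B ⊗[R] S).toRingHom)
        (PrimeSpectrum.comap (Algebra.TensorProduct.map (AlgHom.id R B) S.val).toRingHom z)) :
    z ∈ closure (PrimeSpectrum.comap
      (Algebra.TensorProduct.includeRight : A' →ₐ[R] B ⊗[R] A').toRingHom ⁻¹' {w'}) := by
  rw [mem_closure_iff]
  intro O hO hzO
  obtain ⟨_, ⟨g, rfl⟩, hzg, hgO⟩ :=
    PrimeSpectrum.isTopologicalBasis_basic_opens.exists_subset_of_mem_open hzO hO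
  obtain ⟨S, hS, g₀, hg₀⟩ := exists_subalgebra_fg_tensor g
  let π := (Algebra.TensorProduct.map (AlgHom.id R B) S.val).toRingHom
  have hzg₀ : PrimeSpectrum.comap π z ∈ PrimeSpectrum.basicOpen g₀ := fun hh =>
    hzg (hg₀ ▸ hh : g ∈ z.asIdeal)
  have hs : PrimeSpectrum.comap S.val.toRingHom w' ⤳
      PrimeSpectrum.comap (Algebra.TensorProduct.includeRight : S →ₐ[R] B ⊗[R] S).toRingHom
        (PrimeSpectrum.comap π z) := by
    have e : (Algebra.TensorProduct.includeRight : A' →ₐ[R] B ⊗[R] A').toRingHom.comp S.val.toRingHom =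
        π.comp (Algebra.TensorProduct.includeRight : S →ₐ[R] B ⊗[R] S).toRingHom := by
      ext a; simp [π]
    rw [← PrimeSpectrum.comap_comp_apply, ← e, PrimeSpectrum.comap_comp_apply]
    exact hw.map (PrimeSpectrum.continuous_comap _)
  obtain ⟨V, hV, hVo, hmV⟩ := mem_nhds_iff.1
    (h S hS _ ((PrimeSpectrum.basicOpen g₀).2.mem_nhds hzg₀))
  obtain ⟨u, hug, huw⟩ := hV (hs.mem_open hVo hmV)
  let _ : Algebra S (B ⊗[R] S) :=
    (Algebra.TensorProduct.includeRight : S →ₐ[R] B ⊗[R] S).toRingHom.toAlgebra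
  have : IsScalarTower R S (B ⊗[R] S) := IsScalarTower.of_algebraMap_eq fun r =>
    ((Algebra.TensorProduct.includeRight : S →ₐ[R] B ⊗[R] S).commutes r).symm
  obtain ⟨q, hq1, hq2⟩ := Scheme.Pullback.exists_preimage_pullback
    (f := Spec.map (CommRingCat.ofHom (algebraMap S (B ⊗[R] S))))
    (g := Spec.map (CommRingCat.ofHom (algebraMap S A'))) u w' huw
  let q' : PrimeSpectrum ((B ⊗[R] S) ⊗[S] A') := (pullbackSpecIso S (B ⊗[R] S) A').hom q
  obtain ⟨Ψ, hΨ⟩ := exists_lift_tensor (S := S) (A' := A')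
    (Algebra.TensorProduct.includeLeft : B →ₐ[R] B ⊗[R] S)
  let v := PrimeSpectrum.comap Ψ.toRingHom q'
  have hv1 : PrimeSpectrum.comap π v = u := by
    rw [← hq1]
    have e : Ψ.toRingHom.comp π =
        (Algebra.TensorProduct.includeLeftRingHom : B ⊗[R] S →+* (B ⊗[R] S) ⊗[S] A') := by
      refine RingHom.ext fun x => ?_
      induction x using TensorProduct.induction_on with
      | zero => simp
      | add a b ha hb => rw [map_add, map_add, ha, hb]
      | tmul b s =>
        show Ψ (b ⊗ₜ[R] (s : A')) = (b ⊗ₜ[R] s) ⊗ₜ[S] (1 : A')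
        rw [hΨ]
        have hs' : (s : A') = s • (1 : A') := by rw [Algebra.smul_def, mul_one]; rfl
        rw [hs', ← TensorProduct.smul_tmul]
        congr 1
        show (Algebra.TensorProduct.includeRight : S →ₐ[R] B ⊗[R] S) s * (b ⊗ₜ[R] 1) = _
        simp
    rw [← PrimeSpectrum.comap_comp_apply, e, ← pullbackSpecIso_hom_fst S (B ⊗[R] S) A']
    rfl
  have hv2 : PrimeSpectrum.comap
      (Algebra.TensorProduct.includeRight : A' →ₐ[R] B ⊗[R] A').toRingHom v = w' := by
    rw [← hq2]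
    have e : Ψ.toRingHom.comp (Algebra.TensorProduct.includeRight : A' →ₐ[R] B ⊗[R] A').toRingHom =
        (Algebra.TensorProduct.includeRight : A' →ₐ[S] (B ⊗[R] S) ⊗[S] A').toRingHom := by
      refine RingHom.ext fun a => ?_
      show Ψ (1 ⊗ₜ[R] a) = _
      rw [hΨ]; rfl
    rw [← PrimeSpectrum.comap_comp_apply, e, ← pullbackSpecIso_hom_snd S (B ⊗[R] S) A']
    rfl
  refine ⟨v, hgO (fun hh => hug ?_), hv2⟩
  rw [← hv1]
  exact (hg₀ ▸ hh : π g₀ ∈ v.asIdeal)

theorem exists_tensor_chart {X Y W : Scheme.{u}} (f : X ⟶ Y) (w : W ⟶ Y) {R B A' : Type u}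
    [CommRing R] [CommRing B] [CommRing A'] [Algebra R B] [Algebra R A']
    (i : Spec (CommRingCat.of B) ⟶ X) (j : Spec (CommRingCat.of A') ⟶ W)
    (u : Spec (CommRingCat.of R) ⟶ Y) [IsOpenImmersion i] [IsOpenImmersion j] [IsOpenImmersion u]
    (hi : i ≫ f = Spec.map (CommRingCat.ofHom (algebraMap R B)) ≫ u)
    (hj : j ≫ w = Spec.map (CommRingCat.ofHom (algebraMap R A')) ≫ u) :
    ∃ e : Spec (CommRingCat.of (B ⊗[R] A')) ⟶ pullback f w, IsOpenImmersion e ∧
      e ≫ pullback.fst f w =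
        Spec.map (CommRingCat.ofHom Algebra.TensorProduct.includeLeftRingHom) ≫ i ∧
      e ≫ pullback.snd f w =
        Spec.map (CommRingCat.ofHom Algebra.TensorProduct.includeRight.toRingHom) ≫ j ∧
      Set.range e = pullback.fst f w ⁻¹' Set.range i ∩ pullback.snd f w ⁻¹' Set.range j := by
  let a := Spec.map (CommRingCat.ofHom (algebraMap R B))
  let b := Spec.map (CommRingCat.ofHom (algebraMap R A'))
  let m := pullback.map a b f w i j u hi.symm hj.symm
  refine ⟨(pullbackSpecIso R B A').inv ≫ m, inferInstance, ?_, ?_, ?_⟩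
  · simp only [m, pullback.map, Category.assoc, pullback.lift_fst]
    rw [← Category.assoc, pullbackSpecIso_inv_fst]
  · simp only [m, pullback.map, Category.assoc, pullback.lift_snd]
    rw [← Category.assoc, pullbackSpecIso_inv_snd]
    rfl
  · rw [← Scheme.Pullback.range_map a b f w i j u hi.symm hj.symm]
    exact Set.Subset.antisymm (by rintro _ ⟨q, rfl⟩; exact ⟨_, (Scheme.Hom.comp_apply _ _ q).symm⟩)
      (by
        rintro _ ⟨q, rfl⟩
        refine ⟨(pullbackSpecIso R B A').hom q, ?_⟩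
        rw [← Scheme.Hom.comp_apply, Iso.hom_inv_id_assoc])

/-- Universal openness at a point may be tested on affine base changes of finite type. -/
theorem isUnivOpenAt_of_forall_finiteType {X Y : Scheme.{u}} {f : X ⟶ Y}
    [LocallyOfFinitePresentation f] {x : X}
    (h : ∀ (W : Scheme.{u}) [IsAffine W] (w : W ⟶ Y) [LocallyOfFiniteType w] (z : ↥(pullback f w)),
      pullback.fst f w z = x → EGA43.IsOpenAt (pullback.snd f w) z) :
    EGA43.IsUnivOpenAt f x := by
  intro W w z hz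
  rw [isOpenAt_iff_forall_mem_closure]
  intro w' hw'
  obtain ⟨_, ⟨U, hU, rfl⟩, hfU, -⟩ :=
    Y.isBasis_affineOpens.exists_subset_of_mem_open (Set.mem_univ (f x)) isOpen_univ
  obtain ⟨_, ⟨V, hV, rfl⟩, hxV, hVU⟩ :=
    X.isBasis_affineOpens.exists_subset_of_mem_open (show x ∈ f ⁻¹' (U : Set Y) from hfU)
      (U.2.preimage f.continuous)
  have hwz : f x = w (pullback.snd f w z) := by
    rw [← hz]; simp only [← Scheme.Hom.comp_apply, pullback.condition]
  obtain ⟨_, ⟨Wa, hWa, rfl⟩, hzW, hWU⟩ :=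
    W.isBasis_affineOpens.exists_subset_of_mem_open
      (show pullback.snd f w z ∈ w ⁻¹' (U : Set Y) from (hwz ▸ hfU :))
      (U.2.preimage w.continuous)
  replace hU : IsAffineOpen U := hU
  replace hV : IsAffineOpen V := hV
  replace hWa : IsAffineOpen Wa := hWa
  let φ := f.appLE U V hVU
  let ψ := w.appLE U Wa hWU
  let _ : Algebra Γ(Y, U) Γ(X, V) := φ.hom.toAlgebra
  let _ : Algebra Γ(Y, U) Γ(W, Wa) := ψ.hom.toAlgebra
  have hi : hV.fromSpec ≫ f =
      Spec.map (CommRingCat.ofHom (algebraMap Γ(Y, U) Γ(X, V))) ≫ hU.fromSpec :=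
    (hU.SpecMap_appLE_fromSpec f hV hVU).symm
  obtain ⟨e, he, he1, he2, her⟩ := exists_tensor_chart f w hV.fromSpec hWa.fromSpec hU.fromSpec hi
    (hU.SpecMap_appLE_fromSpec w hWa hWU).symm
  obtain ⟨zc, hzc⟩ : z ∈ Set.range e := by
    rw [her]
    exact ⟨by rw [Set.mem_preimage, hz, hV.range_fromSpec]; exact hxV,
      by rw [Set.mem_preimage, hWa.range_fromSpec]; exact hzW⟩
  have hsnd : ∀ q, hWa.fromSpec (PrimeSpectrum.comap
      (Algebra.TensorProduct.includeRight : Γ(W, Wa) →ₐ[Γ(Y, U)] Γ(X, V) ⊗[Γ(Y, U)] Γ(W, Wa)).toRingHom q) =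
      pullback.snd f w (e q) := fun q => by
    exact ((Scheme.Hom.comp_apply e (pullback.snd f w) q).symm.trans
      (congrArg (fun k : _ ⟶ W => k q) he2)).symm
  obtain ⟨wc, hwc⟩ : w' ∈ Set.range hWa.fromSpec := by
    rw [hWa.range_fromSpec]; exact hw'.mem_open Wa.2 hzW
  have hclos := mem_closure_affine (R := Γ(Y, U)) (B := Γ(X, V)) (A' := Γ(W, Wa)) zc wc
    (hWa.fromSpec.isOpenEmbedding.isInducing.specializes_iff.1 (by
      rw [hwc]
      exact ((hsnd zc).trans (congrArg (pullback.snd f w).base hzc)).symm ▸ hw'))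
    fun S hS => ?_
  · have : e zc ∈ closure (pullback.snd f w ⁻¹' {w'}) := by
      refine map_mem_closure e.continuous hclos fun q hq => ?_
      show pullback.snd f w (e q) = w'
      exact ((hsnd q).symm.trans (congrArg hWa.fromSpec (hq : _ = wc))).trans hwc
    rwa [hzc] at this
  · let wS : Spec (CommRingCat.of S) ⟶ Y :=
      Spec.map (CommRingCat.ofHom (algebraMap Γ(Y, U) S)) ≫ hU.fromSpec
    have : LocallyOfFiniteType (Spec.map (CommRingCat.ofHom (algebraMap Γ(Y, U) S))) := by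
      rw [HasRingHomProperty.Spec_iff (P := @LocallyOfFiniteType)]
      exact RingHom.finiteType_algebraMap.2 ((Subalgebra.fg_iff_finiteType S).1 hS)
    obtain ⟨eS, heS, heS1, heS2, -⟩ := exists_tensor_chart f wS hV.fromSpec (𝟙 _) hU.fromSpec hi
      (Category.id_comp _)
    let zS : Spec (CommRingCat.of (Γ(X, V) ⊗[Γ(Y, U)] S)) :=
      PrimeSpectrum.comap (Algebra.TensorProduct.map (AlgHom.id Γ(Y, U) Γ(X, V)) S.val).toRingHom zc
    have hzS : pullback.fst f wS (eS zS) = x := by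
      rw [← hz, ← hzc, ← Scheme.Hom.comp_apply, heS1, ← Scheme.Hom.comp_apply, he1]
      show hV.fromSpec _ = hV.fromSpec _
      congr 1
    have h1 := isOpenAt_comp (isOpenAt_of_isOpenMap eS.isOpenEmbedding.isOpenMap zS)
      (h (Spec (CommRingCat.of S)) wS (eS zS) hzS)
    have e2 : (⇑(pullback.snd f wS) ∘ ⇑eS) = ⇑(Spec.map (CommRingCat.ofHom
        (Algebra.TensorProduct.includeRight : S →ₐ[Γ(Y, U)] Γ(X, V) ⊗[Γ(Y, U)] S).toRingHom)) := by
      funext q
      rw [Function.comp_apply, ← Scheme.Hom.comp_apply, heS2, Category.comp_id]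
    rw [e2] at h1
    exact h1

end Groth.Agent.E4O
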