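import Groth.Agent.E4O.DvrDom
import Groth.Agent.E4O.UnivOpenFT
import Mathlib.AlgebraicGeometry.Noetherian
import Mathlib.AlgebraicGeometry.ResidueField
import Mathlib.AlgebraicGeometry.Morphisms.UniversallyOpen
import Mathlib.RingTheory.Valuation.ValuationSubring

universe u

open CategoryTheory AlgebraicGeometry Limits

namespace Groth.Agent.E4O

theorem locallyOfFinitePresentation_of_isLocallyNoetherian {X Y : Scheme.{u}} (f : X ⟶ Y)
    [IsLocallyNoetherian Y] [LocallyOfFiniteType f] : LocallyOfFinitePresentation f := by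
  rw [HasRingHomProperty.iff_appLE (P := @LocallyOfFinitePresentation)]
  intro U V e
  have : IsNoetherianRing Γ(Y, U.1) := IsLocallyNoetherian.component_noetherian U
  exact RingHom.FinitePresentation.of_finiteType.mp
    (LocallyOfFiniteType.finiteType_appLE (f := f) U.2 V.2 e)

theorem eq_closedPoint_or_eq_genericPoint {A : Type u} [CommRing A] [IsDomain A]
    [IsDiscreteValuationRing A] (s : Spec (CommRingCat.of A)) :
    s = IsLocalRing.closedPoint A ∨ s = genericPoint (Spec (CommRingCat.of A)) := by
  change PrimeSpectrum A at s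
  by_cases h : s.asIdeal = ⊥
  · refine Or.inr (IsGenericPoint.eq ?_ (genericPoint_spec (Spec (CommRingCat.of A))))
    show closure {s} = Set.univ
    rw [PrimeSpectrum.closure_singleton, h]
    exact PrimeSpectrum.zeroLocus_bot
  · have : s.asIdeal.IsMaximal := s.isPrime.isMaximal h
    exact Or.inl (PrimeSpectrum.ext (IsLocalRing.eq_maximalIdeal this))

theorem genericPoint_ne_closedPoint {A : Type u} [CommRing A] [IsDomain A]
    [IsDiscreteValuationRing A] :
    genericPoint (Spec (CommRingCat.of A)) ≠ IsLocalRing.closedPoint A := by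
  intro h
  have hb : (⊥ : Ideal A).IsPrime := Ideal.isPrime_bot
  have h1 : genericPoint (Spec (CommRingCat.of A)) ⤳ (⟨⊥, hb⟩ : PrimeSpectrum A) :=
    genericPoint_specializes _
  have h2 : IsLocalRing.closedPoint A ⤳ (⟨⊥, hb⟩ : PrimeSpectrum A) := h ▸ h1
  exact IsDiscreteValuationRing.not_a_field A
    (le_bot_iff.1 ((PrimeSpectrum.le_iff_specializes _ _).2 h2))

theorem genericPoint_eq_map_fractionRing {A L : Type u} [CommRing A] [IsDomain A] [Field L]
    [Algebra A L] [FaithfulSMul A L] (t : Spec (CommRingCat.of L)) :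
    Spec.map (CommRingCat.ofHom (algebraMap A L)) t = genericPoint (Spec (CommRingCat.of A)) := by
  refine IsGenericPoint.eq ?_ (genericPoint_spec (Spec (CommRingCat.of A)))
  change PrimeSpectrum L at t
  have ht : t.asIdeal = ⊥ := t.asIdeal.eq_bot_of_prime
  show closure {(PrimeSpectrum.comap (algebraMap A L) t : PrimeSpectrum A)} = Set.univ
  have hb : (PrimeSpectrum.comap (algebraMap A L) t).asIdeal = ⊥ := by
    show t.asIdeal.comap (algebraMap A L) = ⊥
    rw [ht, ← RingHom.ker_eq_comap_bot,
      (RingHom.injective_iff_ker_eq_bot _).1 (FaithfulSMul.algebraMap_injective A L)]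
  rw [PrimeSpectrum.closure_singleton, hb]
  exact PrimeSpectrum.zeroLocus_bot

theorem eq_of_isLocalHom_residueField {Y : Scheme.{u}} {y y' : Y}
    (σ' : Y.presheaf.stalk y ⟶ Y.residueField y')
    (hκ : Spec.map σ' ≫ Y.fromSpecStalk y = Y.fromSpecResidueField y') [IsLocalHom σ'.hom] :
    y' = y := by
  let c : Spec (Y.residueField y') := IsLocalRing.closedPoint _
  have h1 : Spec.map σ' c = IsLocalRing.closedPoint (Y.presheaf.stalk y) :=
    IsLocalRing.comap_closedPoint σ'.hom
  have h2 : Y.fromSpecResidueField y' c = y' := Scheme.fromSpecResidueField_apply _ _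
  rw [← h2, ← hκ, Scheme.Hom.comp_apply, h1, Scheme.fromSpecStalk_closedPoint]

set_option synthInstance.maxHeartbeats 100000 in
/-- A discrete valuation ring in a prescribed finitely generated extension of `κ(y')` realising
the specialisation `y' ⤳ y`. -/
theorem exists_dvr_hom {Y : Scheme.{u}} [IsLocallyNoetherian Y] {y y' : Y} (h : y' ⤳ y)
    (hne : y' ≠ y) (L : Type u) [Field L] [Algebra (Y.residueField y') L]
    (hfg : (⊤ : IntermediateField (Y.residueField y') L).FG) :
    ∃ (V : ValuationSubring L) (_ : IsDiscreteValuationRing V) (g : Spec (CommRingCat.of V) ⟶ Y),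
      g (IsLocalRing.closedPoint V) = y ∧ g (genericPoint (Spec (CommRingCat.of V))) = y' ∧
      Spec.map (CommRingCat.ofHom (algebraMap V L)) ≫ g =
        Spec.map (CommRingCat.ofHom (algebraMap (Y.residueField y') L)) ≫
          Y.fromSpecResidueField y' := by
  let σ' : Y.presheaf.stalk y ⟶ Y.residueField y' := Y.presheaf.stalkSpecializes h ≫ Y.residue y'
  let σ : Y.presheaf.stalk y →+* Y.residueField y' := σ'.hom
  have hκ : Spec.map σ' ≫ Y.fromSpecStalk y = Y.fromSpecResidueField y' := by
    simp only [σ', Spec.map_comp, Category.assoc, Scheme.SpecMap_stalkSpecializes_fromSpecStalk]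
    rfl
  obtain ⟨_, ⟨U, hU, rfl⟩, hyU, -⟩ :=
    Y.isBasis_affineOpens.exists_subset_of_mem_open (Set.mem_univ y) isOpen_univ
  replace hU : IsAffineOpen U := hU
  have hy'U : y' ∈ U := h.mem_open U.2 hyU
  let R := Y.presheaf.stalk y
  let D := R ⧸ RingHom.ker σ
  have : (RingHom.ker σ).IsPrime := RingHom.ker_isPrime σ
  have hDi : Function.Injective (Ideal.Quotient.lift (RingHom.ker σ) σ fun a ha => ha) :=
    RingHom.lift_injective_of_ker_le_ideal _ _ le_rfl
  let _ : Algebra D (Y.residueField y') :=
    (Ideal.Quotient.lift (RingHom.ker σ) σ fun a ha => ha).toAlgebra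
  have : IsLocalRing D := IsLocalRing.of_surjective' (Ideal.Quotient.mk _) Ideal.Quotient.mk_surjective
  have : IsNoetherianRing R := inferInstance
  have : IsNoetherianRing D := inferInstance
  have : FaithfulSMul D (Y.residueField y') := (faithfulSMul_iff_algebraMap_injective _ _).2 hDi
  have hgerm : ∀ a : Γ(Y, U), σ (Y.presheaf.germ U y hyU a) =
      Y.residue y' (Y.presheaf.germ U y' hy'U a) := fun a => by
    simp only [σ, σ', CommRingCat.hom_comp, RingHom.comp_apply]
    exact congrArg _ (TopCat.Presheaf.germ_stalkSpecializes_apply Y.presheaf hyU h a)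
  have : IsFractionRing D (Y.residueField y') := by
    refine IsFractionRing.of_field D _ fun z => ?_
    obtain ⟨z, rfl⟩ := Y.residue_surjective y' z
    let _ := TopCat.Presheaf.algebra_section_stalk Y.presheaf ⟨y', hy'U⟩
    have := hU.isLocalization_stalk ⟨y', hy'U⟩
    obtain ⟨a, s, rfl⟩ := IsLocalization.exists_mk'_eq (hU.primeIdealOf ⟨y', hy'U⟩).asIdeal.primeCompl z
    refine ⟨Ideal.Quotient.mk _ (Y.presheaf.germ U y hyU a),
      Ideal.Quotient.mk _ (Y.presheaf.germ U y hyU s.1), ?_⟩
    show Y.residue y' _ = σ _ / σ _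
    rw [hgerm, hgerm]
    refine (eq_div_iff (((IsLocalization.map_units (Y.presheaf.stalk y') s).map
      (Y.residue y').hom).ne_zero)).2 ?_
    exact (map_mul (Y.residue y').hom _ _).symm.trans
      (congrArg (Y.residue y').hom (IsLocalization.mk'_spec (Y.presheaf.stalk y') a s))
  have hD : ¬ IsField D := by
    intro hf
    apply hne
    have hker : RingHom.ker σ = IsLocalRing.maximalIdeal R :=
      IsLocalRing.eq_maximalIdeal (Ideal.Quotient.maximal_of_isField _ hf)
    have : IsLocalHom σ'.hom := ⟨fun r hr => by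
      by_contra hu
      have : σ r = 0 := hker.ge hu
      exact hr.ne_zero this⟩
    exact eq_of_isLocalHom_residueField σ' hκ
  let _ : Algebra D L := ((algebraMap (Y.residueField y') L).comp (algebraMap D (Y.residueField y'))).toAlgebra
  have : IsScalarTower D (Y.residueField y') L := IsScalarTower.of_algebraMap_eq fun _ => rfl
  obtain ⟨V, hV, hVD, hVm⟩ := exists_dvr_dominating hD (Y.residueField y') L hfg
  let τ : R →+* V := (((algebraMap (Y.residueField y') L).comp σ).codRestrict V.toSubring
    fun r => hVD (Ideal.Quotient.mk _ r))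
  have hτ : IsLocalHom τ := ⟨fun r hr => by
    by_contra hu
    have : IsLocalHom (Ideal.Quotient.mk (RingHom.ker σ)) :=
      IsLocalHom.of_surjective _ Ideal.Quotient.mk_surjective
    have hDm : Ideal.Quotient.mk (RingHom.ker σ) r ∈ IsLocalRing.maximalIdeal D :=
      fun hh => hu (isUnit_of_map_unit _ r hh)
    exact ((V.valuation_lt_one_iff (τ r)).2 (hVm _ hDm) : τ r ∈ IsLocalRing.maximalIdeal V) hr⟩
  have hfact : Spec.map (CommRingCat.ofHom (algebraMap V L)) ≫ Spec.map (CommRingCat.ofHom τ) ≫
      Y.fromSpecStalk y = Spec.map (CommRingCat.ofHom (algebraMap (Y.residueField y') L)) ≫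
        Y.fromSpecResidueField y' := by
    rw [← hκ, ← Spec.map_comp_assoc, ← Spec.map_comp_assoc]
    congr 2
  refine ⟨V, hV, Spec.map (CommRingCat.ofHom τ) ≫ Y.fromSpecStalk y, ?_, ?_, ?_⟩
  · exact (Scheme.Hom.comp_apply _ _ _).trans ((congrArg _ (show
      (Spec.map (CommRingCat.ofHom τ)) (IsLocalRing.closedPoint V) = IsLocalRing.closedPoint R from
      IsLocalRing.comap_closedPoint τ)).trans Scheme.fromSpecStalk_closedPoint)
  · have hcomp : Spec.map (CommRingCat.ofHom (algebraMap V L)) ≫ Spec.map (CommRingCat.ofHom τ) ≫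
        Y.fromSpecStalk y = Spec.map (CommRingCat.ofHom (algebraMap (Y.residueField y') L)) ≫
          Y.fromSpecResidueField y' := hfact
    let c : Spec (CommRingCat.of L) := IsLocalRing.closedPoint L
    refine (congrArg _ (genericPoint_eq_map_fractionRing (A := V) (L := L) c).symm).trans
      ((Scheme.Hom.comp_apply _ _ c).symm.trans ((congrArg (fun k : _ ⟶ Y => k c) hcomp).trans ?_))
    exact (Scheme.Hom.comp_apply _ _ c).trans (Scheme.fromSpecResidueField_apply _ _)
  · exact hfact

/-- The specialisation condition over discrete valuation rings implies universal openness. -/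
theorem isUnivOpenAt_of_dvr {X Y : Scheme.{u}} [IsLocallyNoetherian Y] (f : X ⟶ Y)
    [LocallyOfFiniteType f] (x : X)
    (h : ∀ (A : Type u) [CommRing A] [IsDomain A] [IsDiscreteValuationRing A]
      (g : Spec (CommRingCat.of A) ⟶ Y), g (IsLocalRing.closedPoint A) = f x →
      ∀ z : ↥(pullback f g), pullback.fst f g z = x →
        pullback.snd f g z = IsLocalRing.closedPoint A →
        z ∈ closure (pullback.snd f g ⁻¹' {genericPoint (Spec (CommRingCat.of A))})) :
    EGA43.IsUnivOpenAt f x := by
  have := locallyOfFinitePresentation_of_isLocallyNoetherian f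
  refine isUnivOpenAt_of_forall_finiteType fun W _ w _ z hz => ?_
  have : IsLocallyNoetherian W := LocallyOfFiniteType.isLocallyNoetherian w
  rw [isOpenAt_iff_forall_mem_closure]
  intro w' hw'
  by_cases hne : w' = pullback.snd f w z
  · exact subset_closure hne.symm
  obtain ⟨V, hV, g, hg1, hg2, -⟩ := exists_dvr_hom hw' hne (W.residueField w')
    ⟨{}, by rw [Finset.coe_empty, IntermediateField.adjoin_empty]; exact Subsingleton.elim _ _⟩
  let P := pullback (pullback.snd f w) g
  obtain ⟨zP, hz1, hz2⟩ := Scheme.Pullback.exists_preimage_pullback (f := pullback.snd f w) (g := g) z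
    (IsLocalRing.closedPoint V) hg1.symm
  have sq : IsPullback (pullback.fst (pullback.snd f w) g ≫ pullback.fst f w)
      (pullback.snd (pullback.snd f w) g) f (g ≫ w) :=
    (IsPullback.of_hasPullback (pullback.snd f w) g).paste_horiz (IsPullback.of_hasPullback f w)
  let e := sq.isoPullback
  have hgx : (g ≫ w) (IsLocalRing.closedPoint V) = f x := by
    refine (Scheme.Hom.comp_apply _ _ _).trans ((congrArg w hg1).trans ?_)
    rw [← hz]; simp only [← Scheme.Hom.comp_apply, pullback.condition]
  have hcl := h V (g ≫ w) hgx (e.hom zP)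
    (by rw [← Scheme.Hom.comp_apply, IsPullback.isoPullback_hom_fst, Scheme.Hom.comp_apply, hz1, hz])
    (by rw [← Scheme.Hom.comp_apply, IsPullback.isoPullback_hom_snd, hz2])
  obtain ⟨q, hq1, hq2⟩ := exists_specializes_of_mem_closure_preimage _ hcl
  have hq' : e.inv q ⤳ zP := by
    have := hq2.map e.inv.continuous
    rwa [← Scheme.Hom.comp_apply, Iso.hom_inv_id] at this
  refine (mem_closure_preimage_iff _).2 ⟨pullback.fst (pullback.snd f w) g (e.inv q), ?_,
    hz1 ▸ hq'.map (pullback.fst (pullback.snd f w) g).continuous⟩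
  rw [← Scheme.Hom.comp_apply, pullback.condition, Scheme.Hom.comp_apply]
  refine (congrArg g ?_).trans hg2
  rw [← Scheme.Hom.comp_apply, IsPullback.isoPullback_inv_snd, hq1]

theorem mem_closure_of_components_dominate {P S : Scheme.{u}} (p : P ⟶ S) (η : S) (hη : closure {η} = Set.univ)
    (h : ∀ Z ∈ irreducibleComponents (P : Type u), Dense (p '' Z)) (z : P) :
    z ∈ closure (p ⁻¹' {η}) := by
  obtain ⟨Z, hZ, hzZ⟩ : ∃ Z ∈ irreducibleComponents (P : Type u), z ∈ Z :=
    ⟨irreducibleComponent z, irreducibleComponent_mem_irreducibleComponents z, mem_irreducibleComponent⟩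
  obtain ⟨ξ, hξ⟩ := QuasiSober.sober hZ.1 (isClosed_of_mem_irreducibleComponents Z hZ)
  have hd : closure {p ξ} = Set.univ := by
    refine Set.eq_univ_of_univ_subset ?_
    rw [← (h Z hZ).closure_eq]
    refine closure_minimal ?_ isClosed_closure
    rintro _ ⟨a, ha, rfl⟩
    exact ((hξ.specializes ha).map p.continuous).mem_closure
  have hp : p ξ = η := IsGenericPoint.eq hd hη
  exact (hξ.specializes hzZ).mem_closed isClosed_closure (subset_closure hp)

theorem components_dominate_of_isUnivOpenAt {X Y : Scheme.{u}} [IsLocallyNoetherian Y] (f : X ⟶ Y)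
    [LocallyOfFiniteType f] {A : Type u} [CommRing A] [IsDomain A] [IsDiscreteValuationRing A]
    (g : Spec (CommRingCat.of A) ⟶ Y)
    (h : ∀ x : X, f x = g (IsLocalRing.closedPoint A) → EGA43.IsUnivOpenAt f x)
    (Z : Set ↥(pullback f g)) (hZ : Z ∈ irreducibleComponents (↥(pullback f g) : Type u)) :
    Dense (pullback.snd f g '' Z) := by
  have := locallyOfFinitePresentation_of_isLocallyNoetherian f
  have hc := isClosed_of_mem_irreducibleComponents Z hZ
  obtain ⟨ξ, hξ⟩ := QuasiSober.sober hZ.1 hc
  let η := genericPoint (Spec (CommRingCat.of A))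
  suffices hsη : pullback.snd f g ξ = η by
    refine dense_iff_closure_eq.2 (Set.eq_univ_of_univ_subset ?_)
    rw [← genericPoint_closure (Spec (CommRingCat.of A))]
    exact closure_mono (Set.singleton_subset_iff.2 ⟨ξ, hξ.mem, hsη⟩)
  rcases eq_closedPoint_or_eq_genericPoint (pullback.snd f g ξ) with hs | hs
  · have hx : f (pullback.fst f g ξ) = g (IsLocalRing.closedPoint A) := by
      rw [← hs]; simp only [← Scheme.Hom.comp_apply, pullback.condition]
    have ho := h _ hx _ g ξ rfl
    rw [isOpenAt_iff_forall_exists_specializes] at ho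
    obtain ⟨ξ', h1, h2⟩ := ho η (genericPoint_specializes _)
    have hsub : Z ⊆ closure {ξ'} :=
      hξ.def.symm.trans_subset (closure_minimal (Set.singleton_subset_iff.2 h2.mem_closure) isClosed_closure)
    have hback : ξ' ∈ Z := hZ.2 isIrreducible_singleton.closure hsub (subset_closure rfl)
    have hsp : pullback.snd f g ξ ⤳ η := h1 ▸ (hξ.specializes hback).map (pullback.snd f g).continuous
    exact (hsp.antisymm (genericPoint_specializes _)).eq
  · exact hs

end Groth.Agent.E4O
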