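import Groth.Agent.E4O.OpenAt
import Mathlib.AlgebraicGeometry.Morphisms.FinitePresentation
import Mathlib.AlgebraicGeometry.Fiber
import Mathlib.RingTheory.Ideal.MinimalPrime.Localization
import Mathlib.RingTheory.Spectrum.Prime.ConstructibleSet

universe u

open CategoryTheory AlgebraicGeometry Limits Topology

namespace Groth.Agent.E4O

theorem exists_specializes_of_mem_closure_range_comap {R S : Type*} [CommRing R] [CommRing S]
    (f : R →+* S) {p : PrimeSpectrum R} (hp : p ∈ closure (Set.range (PrimeSpectrum.comap f))) :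
    ∃ q : PrimeSpectrum S, PrimeSpectrum.comap f q ⤳ p := by
  rw [PrimeSpectrum.closure_range_comap] at hp
  obtain ⟨m, hm, hmp⟩ := Ideal.exists_minimalPrimes_le (show RingHom.ker f ≤ p.asIdeal from hp)
  obtain ⟨q, hq, -, hqm⟩ := Ideal.exists_comap_eq_of_mem_minimalPrimes f (I := ⊥) m
    (by rwa [← RingHom.ker_eq_comap_bot])
  refine ⟨⟨q, hq⟩, (PrimeSpectrum.le_iff_specializes _ _).1 ?_⟩
  show q.comap f ≤ p.asIdeal
  rw [hqm]; exact hmp

theorem exists_specializes_of_mem_closure_isLocallyConstructible {Y : Scheme.{u}} {E : Set Y}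
    (hE : IsLocallyConstructible E) {y : Y} (hy : y ∈ closure E) : ∃ z ∈ E, z ⤳ y := by
  obtain ⟨_, ⟨U, hU, rfl⟩, hyU, -⟩ :=
    Y.isBasis_affineOpens.exists_subset_of_mem_open (Set.mem_univ y) isOpen_univ
  replace hU : IsAffineOpen U := hU
  let e := hU.fromSpec
  obtain ⟨p, hp⟩ : y ∈ Set.range e := by rw [hU.range_fromSpec]; exact hyU
  have hc : IsConstructible (e ⁻¹' E) :=
    (hE.preimage_of_isOpenEmbedding e.isOpenEmbedding).isConstructible
  have hp' : p ∈ closure (e ⁻¹' E) := by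
    rw [← e.isOpenEmbedding.isOpenMap.preimage_closure_eq_closure_preimage e.continuous]
    exact (hp ▸ hy : e p ∈ closure E)
  obtain ⟨S, _, φ, hφ⟩ := PrimeSpectrum.exists_range_eq_of_isConstructible hc
  rw [← hφ] at hp'
  obtain ⟨q, hq⟩ := exists_specializes_of_mem_closure_range_comap φ hp'
  refine ⟨e (PrimeSpectrum.comap φ q), ?_, hp ▸ hq.map e.continuous⟩
  have : PrimeSpectrum.comap φ q ∈ e ⁻¹' E := hφ ▸ ⟨q, rfl⟩
  exact this

theorem mem_nhds_of_forall_generization {Y : Scheme.{u}} {E : Set Y}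
    (hE : IsLocallyConstructible E) {y : Y} (hy : ∀ z, z ⤳ y → z ∈ E) : E ∈ nhds y := by
  by_contra h
  rw [← mem_interior_iff_mem_nhds, ← Set.notMem_compl_iff, not_not, ← closure_compl] at h
  have hE' : IsLocallyConstructible Eᶜ := fun a => by
    obtain ⟨U, h1, h2, h3⟩ := hE a
    exact ⟨U, h1, h2, by rw [Set.preimage_compl]; exact h3.compl⟩
  obtain ⟨z, hz, hzy⟩ := exists_specializes_of_mem_closure_isLocallyConstructible hE' h
  exact hz (hy z hzy)

theorem isOpenAt_iff_forall_mem_closure {X Y : Scheme.{u}} {f : X ⟶ Y}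
    [LocallyOfFinitePresentation f] {x : X} :
    EGA43.IsOpenAt f x ↔ ∀ y' : Y, y' ⤳ f x → x ∈ closure (f ⁻¹' {y'}) := by
  constructor
  · intro h y' hy'
    rw [mem_closure_iff]
    intro O hO hxO
    obtain ⟨V, hV, hVo, hxV⟩ := mem_nhds_iff.1 (h O (hO.mem_nhds hxO))
    obtain ⟨a, ha, hay⟩ := hV (hy'.mem_open hVo hxV)
    exact ⟨a, ha, hay⟩
  · intro h U hU
    obtain ⟨_, ⟨W, hW, rfl⟩, hfW, -⟩ :=
      Y.isBasis_affineOpens.exists_subset_of_mem_open (Set.mem_univ (f x)) isOpen_univ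
    obtain ⟨_, ⟨V, hV, rfl⟩, hxV, hVsub⟩ :=
      X.isBasis_affineOpens.exists_subset_of_mem_open
        (show x ∈ interior U ∩ f ⁻¹' (W : Set Y) from ⟨mem_interior_iff_mem_nhds.2 hU, hfW⟩)
        (isOpen_interior.inter (W.2.preimage f.continuous))
    replace hW : IsAffineOpen W := hW
    replace hV : IsAffineOpen V := hV
    let g := f.resLE W V fun a ha => (hVsub ha).2
    have : IsAffine W := hW
    have : IsAffine V := hV
    have : LocallyOfFinitePresentation g := by
      have : LocallyOfFinitePresentation (f ∣_ W) :=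
        MorphismProperty.of_isPullback (P := @LocallyOfFinitePresentation)
          (isPullback_morphismRestrict f W).flip inferInstance
      exact MorphismProperty.comp_mem @LocallyOfFinitePresentation _ _
        (inferInstance : LocallyOfFinitePresentation (X.homOfLE _)) this
    have hg : ∀ b : V, (g b).1 = f b.1 := fun b => by
      show Scheme.Opens.ι W (g b) = f (Scheme.Opens.ι V b)
      exact congrArg (fun k : (Scheme.Opens.toScheme V) ⟶ Y => k b) (Scheme.Hom.resLE_comp_ι f _)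
    have hc : IsLocallyConstructible (g '' Set.univ) :=
      g.isLocallyConstructible_image IsConstructible.univ.isLocallyConstructible
    have hn : g '' Set.univ ∈ nhds (⟨f x, hfW⟩ : W) := by
      refine mem_nhds_of_forall_generization hc fun z hz => ?_
      obtain ⟨a, haV, haz⟩ := mem_closure_iff.1 (h z.1 (hz.map continuous_subtype_val)) V V.2 hxV
      exact ⟨⟨a, haV⟩, trivial, Subtype.ext ((hg ⟨a, haV⟩).trans haz)⟩
    refine Filter.mem_of_superset (W.2.isOpenEmbedding_subtypeVal.image_mem_nhds.2 hn) ?_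
    rintro _ ⟨_, ⟨⟨a, haV⟩, -, rfl⟩, rfl⟩
    exact ⟨a, interior_subset (s := U) (hVsub haV).1,
      (hg ⟨a, haV⟩).symm⟩

theorem exists_specializes_of_mem_closure_preimage {X Y : Scheme.{u}} (f : X ⟶ Y) {x : X} {y' : Y}
    (hx : x ∈ closure (f ⁻¹' {y'})) : ∃ x' : X, f x' = y' ∧ x' ⤳ x := by
  obtain ⟨_, ⟨W, hW, rfl⟩, hyW, -⟩ :=
    Y.isBasis_affineOpens.exists_subset_of_mem_open (Set.mem_univ (f x)) isOpen_univ
  obtain ⟨_, ⟨V, hV, rfl⟩, hxV, hVW⟩ :=
    X.isBasis_affineOpens.exists_subset_of_mem_open (show x ∈ f ⁻¹' (W : Set Y) from hyW)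
      (W.2.preimage f.continuous)
  replace hW : IsAffineOpen W := hW
  replace hV : IsAffineOpen V := hV
  obtain ⟨a, haV, hay⟩ := mem_closure_iff.1 hx V V.2 hxV
  let e := hV.fromSpec
  let φ := f.appLE W V hVW
  have hsq : Spec.map φ ≫ hW.fromSpec = e ≫ f := hW.SpecMap_appLE_fromSpec f hV hVW
  obtain ⟨p, hp⟩ : x ∈ Set.range e := by rw [hV.range_fromSpec]; exact hxV
  obtain ⟨q, hq⟩ : y' ∈ Set.range hW.fromSpec := by
    rw [hW.range_fromSpec, ← show f a = y' from hay]; exact hVW haV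
  change PrimeSpectrum Γ(Y, W) at q
  algebraize [φ.hom]
  have key : e ⁻¹' (f ⁻¹' {y'}) = Set.range
      (PrimeSpectrum.comap (Algebra.TensorProduct.includeRight :
        Γ(X, V) →ₐ[Γ(Y, W)] q.asIdeal.Fiber Γ(X, V)).toRingHom) := by
    ext t
    have := fun t => congrArg (fun k => (k : Spec Γ(X, V) ⟶ Y) t) hsq
    simp only [Scheme.Hom.comp_apply] at this
    constructor
    · intro ht
      have h' : Spec.map φ t = q :=
        hW.fromSpec.isOpenEmbedding.injective (by rw [this, hq]; exact ht)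
      exact ⟨PrimeSpectrum.preimageHomeomorphFiber Γ(Y, W) Γ(X, V) q ⟨t, h'⟩, congrArg Subtype.val
        ((PrimeSpectrum.preimageHomeomorphFiber Γ(Y, W) Γ(X, V) q).symm_apply_apply ⟨t, h'⟩)⟩
    · rintro ⟨s, rfl⟩
      refine (this _).symm.trans (Eq.trans (congrArg hW.fromSpec ?_) hq)
      exact ((PrimeSpectrum.preimageHomeomorphFiber Γ(Y, W) Γ(X, V) q).symm s).2
  have hp' : p ∈ closure (e ⁻¹' (f ⁻¹' {y'})) := by
    rw [← e.isOpenEmbedding.isOpenMap.preimage_closure_eq_closure_preimage e.continuous]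
    exact (hp ▸ hx : e p ∈ closure _)
  rw [key] at hp'
  obtain ⟨s, hs⟩ := exists_specializes_of_mem_closure_range_comap _ hp'
  refine ⟨e (PrimeSpectrum.comap _ s), ?_, hp ▸ hs.map e.continuous⟩
  exact (key.ge ⟨s, rfl⟩ :)

theorem mem_closure_preimage_iff {X Y : Scheme.{u}} (f : X ⟶ Y) {x : X} {y' : Y} :
    x ∈ closure (f ⁻¹' {y'}) ↔ ∃ x' : X, f x' = y' ∧ x' ⤳ x :=
  ⟨exists_specializes_of_mem_closure_preimage f, fun ⟨_, h1, h2⟩ =>
    h2.mem_closed isClosed_closure (subset_closure h1)⟩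

/-- EGA IV 1.10.3 at a point. -/
theorem isOpenAt_iff_forall_exists_specializes {X Y : Scheme.{u}} {f : X ⟶ Y}
    [LocallyOfFinitePresentation f] {x : X} :
    EGA43.IsOpenAt f x ↔ ∀ y' : Y, y' ⤳ f x → ∃ x' : X, f x' = y' ∧ x' ⤳ x := by
  simp only [isOpenAt_iff_forall_mem_closure, mem_closure_preimage_iff]

end Groth.Agent.E4O
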