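import Groth.Agent.E4O.FibreDim
import Groth.Agent.E4O.GenOpen
import Groth.Agent.E4O.DvrCrit
import Mathlib.RingTheory.Ideal.MinimalPrime.Noetherian
import Mathlib.RingTheory.Ideal.KrullsHeightTheorem

/-!
EGA IV 14.2.1: openness at a point forces the generic fibres to be large.
-/

universe u

open AlgebraicGeometry CategoryTheory TopologicalSpace Topology

namespace Groth.Agent.E4O

/-- In a Noetherian domain, a nonzero element `a` of a prime `P` avoids some prime below `P` that is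
immediately below it. -/
theorem exists_height_le_one_quotient {A : Type u} [CommRing A] [IsNoetherianRing A]
    (p₀ P : Ideal A) [p₀.IsPrime] [P.IsPrime] (h₀ : p₀ ≤ P) (a : A) (ha₀ : a ∉ p₀) (ha : a ∈ P) :
    ∃ p' : Ideal A, p'.IsPrime ∧ p₀ ≤ p' ∧ p' < P ∧ a ∉ p' ∧
      (P.map (Ideal.Quotient.mk p')).height ≤ 1 := by
  classical
  let T : Set (Ideal A) := {p | p.IsPrime ∧ p₀ ≤ p ∧ p ≤ P ∧ a ∉ p}
  obtain ⟨p', ⟨hp', h₀', hle, ha'⟩, hmax⟩ :=
    set_has_maximal_iff_noetherian.2 (inferInstance : IsNoetherian A A) T ⟨p₀, ‹_›, le_rfl, h₀, ha₀⟩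
  refine ⟨p', hp', h₀', lt_of_le_of_ne hle (fun h => ha' (h ▸ ha)), ha', ?_⟩
  let π := Ideal.Quotient.mk p'
  let P' := P.map π
  have hπ : Function.Surjective π := Ideal.Quotient.mk_surjective
  have hP' : P'.IsPrime := Ideal.map_isPrime_of_surjective hπ (by rw [Ideal.mk_ker]; exact hle)
  have hcomap : P'.comap π = P := by
    rw [Ideal.comap_map_of_surjective π hπ, ← RingHom.ker_eq_comap_bot, Ideal.mk_ker]
    exact sup_eq_left.2 hle
  -- every nonzero prime below `P'` contains `a`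
  have hall : ∀ Q : Ideal (A ⧸ p'), Q.IsPrime → Q ≤ P' → Q ≠ ⊥ → π a ∈ Q := by
    intro Q hQ hQle hQ0
    by_contra hn
    have hle' : p' ≤ Q.comap π := by
      intro x hx
      rw [Ideal.mem_comap, Ideal.Quotient.eq_zero_iff_mem.2 hx]
      exact Q.zero_mem
    have hmem : Q.comap π ∈ T :=
      ⟨inferInstance, h₀'.trans hle', hcomap ▸ Ideal.comap_mono hQle, hn⟩
    have : p' = Q.comap π := by
      by_contra hne
      exact hmax _ hmem (lt_of_le_of_ne hle' hne)
    apply hQ0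
    rw [← Ideal.map_comap_of_surjective π hπ Q, ← this, Ideal.map_quotient_self]
  have ha0 : π a ≠ 0 := fun h => ha' (Ideal.Quotient.eq_zero_iff_mem.1 h)
  by_contra hgt
  replace hgt : ¬ P'.height ≤ 1 := hgt
  have hfin : (Ideal.span {π a}).minimalPrimes.Finite :=
    Ideal.finite_minimalPrimes_of_isNoetherianRing _ _
  have hnot : ¬ (P' : Set (A ⧸ p')) ⊆
      ⋃ Q ∈ (↑hfin.toFinset : Set (Ideal (A ⧸ p'))), (Q : Set (A ⧸ p')) := by
    intro hsub
    obtain ⟨Q, hQ, hP⟩ := (Ideal.subset_union_prime (s := hfin.toFinset) (f := fun Q => Q) ⊥ ⊥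
      (fun i hi _ _ => (hfin.mem_toFinset.1 hi).1.1)).1 hsub
    rw [hfin.mem_toFinset] at hQ
    have hQle : (Ideal.span {π a}) ≤ P' := (Ideal.span_singleton_le_iff_mem _).2
      (Ideal.mem_map_of_mem π ha)
    have : P' = Q := le_antisymm hP (hQ.2 ⟨hP', hQle⟩ hP)
    exact hgt (this ▸ Ideal.height_le_one_of_isPrincipal_of_mem_minimalPrimes _ Q hQ)
  obtain ⟨b, hb, hb'⟩ := Set.not_subset.1 hnot
  obtain ⟨Q, hQ, hQP⟩ := Ideal.exists_minimalPrimes_le (J := P')
    ((Ideal.span_singleton_le_iff_mem _).2 hb : Ideal.span {b} ≤ P')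
  have hb0 : b ≠ 0 := by
    rintro rfl
    obtain ⟨M, hM, -⟩ := Ideal.exists_minimalPrimes_le (J := P')
      ((Ideal.span_singleton_le_iff_mem _).2 (Ideal.mem_map_of_mem π ha) :
        Ideal.span {π a} ≤ P')
    exact hb' (Set.mem_biUnion (hfin.mem_toFinset.2 hM) M.zero_mem)
  have hbQ : b ∈ Q := hQ.1.2 (Ideal.mem_span_singleton_self b)
  have hQ1 : Q.height ≤ 1 := Ideal.height_le_one_of_isPrincipal_of_mem_minimalPrimes _ Q hQ
  have hQprime := hQ.1.1
  have hQ0 : Q ≠ ⊥ := fun h => hb0 (by rw [h] at hbQ; exact hbQ)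
  obtain ⟨M, hM, hMQ⟩ := Ideal.exists_minimalPrimes_le (J := Q)
    ((Ideal.span_singleton_le_iff_mem _).2 (hall Q hQprime hQP hQ0) : Ideal.span {π a} ≤ Q)
  have hMprime := hM.1.1
  rcases eq_or_lt_of_le hMQ with h | h
  · exact hb' (Set.mem_biUnion (hfin.mem_toFinset.2 hM) (h ▸ hbQ))
  · have h1 : 1 ≤ M.height := Order.one_le_iff_ne_zero.2 fun h0 => ha0 (by
      rw [Ideal.height_eq_zero_iff, IsDomain.minimalPrimes_eq_singleton_bot] at h0
      have := hM.1.2 (Ideal.mem_span_singleton_self (π a))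
      rw [h0] at this
      exact this)
    have h2 : M.height < Q.height := Ideal.height_strict_mono_of_isPrime h
    exact absurd (h1.trans_lt h2) (not_lt.2 hQ1)

theorem trdeg_le_of_ringEquiv {R S R' S' : Type u} [CommRing R] [CommRing S] [CommRing R']
    [Nontrivial R'] [CommRing S'] [Algebra R S] [Algebra R' S'] (eR : R ≃+* R') (eS : S ≃+* S')
    (h : (algebraMap R' S').comp eR.toRingHom = eS.toRingHom.comp (algebraMap R S)) :
    Algebra.trdeg R S ≤ Algebra.trdeg R' S' := by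
  refine ciSup_le' fun ⟨t, ht⟩ => ?_
  exact AlgebraicIndependent.cardinalMk_le_trdeg
    (AlgebraicIndependent.ringHom_of_comp_eq eR.toRingHom eS.toRingHom ht eR.surjective eS.injective h)

theorem trdeg_eq_of_ringEquiv {R S R' S' : Type u} [CommRing R] [Nontrivial R] [CommRing S]
    [CommRing R'] [Nontrivial R'] [CommRing S'] [Algebra R S] [Algebra R' S'] (eR : R ≃+* R')
    (eS : S ≃+* S') (h : (algebraMap R' S').comp eR.toRingHom = eS.toRingHom.comp (algebraMap R S)) :
    Algebra.trdeg R S = Algebra.trdeg R' S' := by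
  refine le_antisymm (trdeg_le_of_ringEquiv eR eS h) (trdeg_le_of_ringEquiv eR.symm eS.symm ?_)
  refine RingHom.ext fun x => eS.injective ?_
  have := congr($h (eR.symm x))
  simpa using this.symm

theorem trdeg_congr_under {A B : Type u} [CommRing A] [CommRing B] [Algebra A B] (r : Ideal B)
    (p : Ideal A) [r.LiesOver p] (h : r.under A = p) :
    Algebra.trdeg (A ⧸ r.under A) (B ⧸ r) = Algebra.trdeg (A ⧸ p) (B ⧸ r) := by
  subst h
  rfl

/-- The dimension inequality for an immediate specialization. -/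
theorem trdeg_le_of_height_le_one {A B : Type u} [CommRing A] [IsNoetherianRing A] [CommRing B]
    [Algebra A B] [Algebra.FiniteType A B] (p' p : Ideal A) [p'.IsPrime] [p.IsPrime]
    (q' q : Ideal B) [q'.IsPrime] [q.IsPrime] [q'.LiesOver p'] [q.LiesOver p] (hlt : q' < q)
    (hh : (p.map (Ideal.Quotient.mk p')).height ≤ 1) :
    Cardinal.toNat (Algebra.trdeg (A ⧸ p) (B ⧸ q)) ≤
      Cardinal.toNat (Algebra.trdeg (A ⧸ p') (B ⧸ q')) := by
  let R := A ⧸ p'
  let S := B ⧸ q'
  have hfs : FaithfulSMul R S := (faithfulSMul_iff_algebraMap_injective _ _).2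
    ((injective_iff_map_eq_zero _).2 fun d hd => by
      obtain ⟨r, rfl⟩ := Ideal.Quotient.mk_surjective d
      exact Ideal.Quotient.eq_zero_iff_mem.2 ((Ideal.LiesOver.over (P := q') (p := p')).symm.le
        (show algebraMap A B r ∈ q' from Ideal.Quotient.eq_zero_iff_mem.1 hd)))
  have hS : Algebra.FiniteType R S := by
    have : Algebra.FiniteType A S :=
      Algebra.FiniteType.of_surjective (Ideal.Quotient.mkₐ A q') Ideal.Quotient.mk_surjective
    exact .of_restrictScalars_finiteType A _ _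
  have hpp : p' ≤ p := by
    rw [Ideal.LiesOver.over (P := q') (p := p'), Ideal.LiesOver.over (P := q) (p := p)]
    exact Ideal.comap_mono hlt.le
  let P := p.map (Ideal.Quotient.mk p')
  let Q := q.map (Ideal.Quotient.mk q')
  have hP : P.IsPrime :=
    Ideal.map_isPrime_of_surjective Ideal.Quotient.mk_surjective (by rw [Ideal.mk_ker]; exact hpp)
  have hQ : Q.IsPrime :=
    Ideal.map_isPrime_of_surjective Ideal.Quotient.mk_surjective (by rw [Ideal.mk_ker]; exact hlt.le)
  have hQc : Q.comap (Ideal.Quotient.mk q') = q := by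
    rw [Ideal.comap_map_of_surjective _ Ideal.Quotient.mk_surjective, ← RingHom.ker_eq_comap_bot,
      Ideal.mk_ker]
    exact sup_eq_left.2 hlt.le
  have hPc : P.comap (Ideal.Quotient.mk p') = p := by
    rw [Ideal.comap_map_of_surjective _ Ideal.Quotient.mk_surjective, ← RingHom.ker_eq_comap_bot,
      Ideal.mk_ker]
    exact sup_eq_left.2 hpp
  have hlo : Q.LiesOver P := ⟨by
    refine Ideal.comap_injective_of_surjective (Ideal.Quotient.mk p') Ideal.Quotient.mk_surjective ?_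
    rw [hPc, Ideal.under_def, Ideal.comap_comap]
    conv_lhs => rw [Ideal.LiesOver.over (P := q) (p := p), Ideal.under_def, ← hQc, Ideal.comap_comap]
    rfl⟩
  have h1 := height_add_trdeg_le R S P Q
  have hQ1 : 1 ≤ Q.height := Order.one_le_iff_ne_zero.2 fun h0 => by
    rw [Ideal.height_eq_zero_iff, IsDomain.minimalPrimes_eq_singleton_bot] at h0
    refine hlt.ne' (hQc.symm.trans ?_)
    rw [show Q = ⊥ from h0, ← RingHom.ker_eq_comap_bot, Ideal.mk_ker]
  have h2 : Algebra.trdeg (R ⧸ P) (S ⧸ Q) = Algebra.trdeg (A ⧸ p) (B ⧸ q) := by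
    let eR : (R ⧸ P) ≃+* A ⧸ p := DoubleQuot.quotQuotEquivQuotOfLE hpp
    let eS : (S ⧸ Q) ≃+* B ⧸ q := DoubleQuot.quotQuotEquivQuotOfLE hlt.le
    refine trdeg_eq_of_ringEquiv eR eS ?_
    refine RingHom.ext fun x => ?_
    obtain ⟨x, rfl⟩ := Ideal.Quotient.mk_surjective x
    obtain ⟨x, rfl⟩ := Ideal.Quotient.mk_surjective x
    rfl
  rw [h2, (Cardinal.cast_toNat_of_lt_aleph0 (trdeg_quotient_lt_aleph0 A B p q)).symm] at h1
  obtain ⟨m, hm⟩ : ∃ m : ℕ, Algebra.trdeg R S = m :=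
    ⟨_, (Cardinal.cast_toNat_of_lt_aleph0 (trdeg_quotient_lt_aleph0 A B p' q')).symm⟩
  rw [hm, Cardinal.toNat_natCast]
  rw [hm] at h1
  have h3 : ((1 : ℕ) : Cardinal.{u}) + (Cardinal.toNat (Algebra.trdeg (A ⧸ p) (B ⧸ q)) : ℕ) ≤
      ((1 : ℕ) : Cardinal.{u}) + (m : ℕ) := by
    refine le_trans (le_trans ?_ h1) ?_
    · gcongr
      rw [Nat.cast_one, ← Cardinal.ofENat_one]
      exact_mod_cast hQ1
    · gcongr
      rw [Nat.cast_one, ← Cardinal.ofENat_one]
      exact_mod_cast hh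
  rw [← Nat.cast_add, ← Nat.cast_add, Nat.cast_le] at h3
  omega

/-- EGA IV 14.2.1, ring version. -/
theorem exists_trdeg_ge_of_lifts {A B : Type u} [CommRing A] [IsNoetherianRing A] [CommRing B]
    [Algebra A B] [Algebra.FiniteType A B] (q : Ideal B) [q.IsPrime] (p₀ : Ideal A) [p₀.IsPrime]
    (hp₀ : p₀ ≤ q.under A)
    (hlift : ∀ p' : Ideal A, p'.IsPrime → p' ≤ q.under A →
      ∃ q' : Ideal B, q'.IsPrime ∧ q' ≤ q ∧ q'.under A = p') :
    ∃ q' : Ideal B, q'.IsPrime ∧ q' ≤ q ∧ q'.under A = p₀ ∧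
      Cardinal.toNat (Algebra.trdeg (A ⧸ q.under A) (B ⧸ q)) ≤
        Cardinal.toNat (Algebra.trdeg (A ⧸ q'.under A) (B ⧸ q')) := by
  classical
  have hB : IsNoetherianRing B := Algebra.FiniteType.isNoetherianRing A B
  by_cases hpp : p₀ = q.under A
  · exact ⟨q, ‹_›, le_rfl, hpp.symm, le_rfl⟩
  by_contra hcon
  push Not at hcon
  set d := Cardinal.toNat (Algebra.trdeg (A ⧸ q.under A) (B ⧸ q))
  let M := (p₀.map (algebraMap A B)).minimalPrimes
  have hMfin : M.Finite := Ideal.finite_minimalPrimes_of_isNoetherianRing _ _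
  have key : ∀ r ∈ M, r ≤ q → ∃ a : A, a ∉ p₀ ∧ a ∈ q.under A ∧
      ∀ (q' : Ideal B) [q'.IsPrime], r ≤ q' → algebraMap A B a ∉ q' →
        Cardinal.toNat (Algebra.trdeg (A ⧸ q'.under A) (B ⧸ q')) < d := by
    intro r hr hrq
    have := hr.1.1
    by_cases hru : r.under A = p₀
    · let R := A ⧸ p₀
      let S := B ⧸ r
      have : r.LiesOver p₀ := ⟨hru.symm⟩
      have hfs : FaithfulSMul R S := (faithfulSMul_iff_algebraMap_injective _ _).2
        ((injective_iff_map_eq_zero _).2 fun t ht => by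
          obtain ⟨t, rfl⟩ := Ideal.Quotient.mk_surjective t
          exact Ideal.Quotient.eq_zero_iff_mem.2 ((Ideal.LiesOver.over (P := r) (p := p₀)).symm.le
            (show algebraMap A B t ∈ r from Ideal.Quotient.eq_zero_iff_mem.1 ht)))
      have hS : Algebra.FiniteType R S := by
        have : Algebra.FiniteType A S :=
          Algebra.FiniteType.of_surjective (Ideal.Quotient.mkₐ A r) Ideal.Quotient.mk_surjective
        exact .of_restrictScalars_finiteType A _ _
      have hlt : Cardinal.toNat (Algebra.trdeg R S) < d := by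
        have := hcon r hr.1.1 hrq hru
        exact (trdeg_congr_under r p₀ hru) ▸ this
      obtain ⟨a, ha, hle⟩ := exists_ne_zero_forall_trdeg_le (A := R) (B := S)
        (d := Cardinal.toNat (Algebra.trdeg R S))
        (Cardinal.cast_toNat_of_lt_aleph0 (trdeg_quotient_lt_aleph0 A B p₀ r)).ge
      obtain ⟨a, rfl⟩ := Ideal.Quotient.mk_surjective a
      obtain ⟨c, hc, hc'⟩ := Set.exists_of_ssubset ((lt_of_le_of_ne hp₀ hpp : p₀ < q.under A))
      refine ⟨a * c, fun h => ?_, Ideal.mul_mem_left _ _ hc, fun q' _ hrq' hq' => ?_⟩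
      · rcases ‹p₀.IsPrime›.mem_or_mem h with h | h
        · exact ha (Ideal.Quotient.eq_zero_iff_mem.2 h)
        · exact hc' h
      · have hq'a : algebraMap A B a ∉ q' := fun h => hq' (by
          rw [map_mul]; exact Ideal.mul_mem_right _ _ h)
        let Q := q'.map (Ideal.Quotient.mk r)
        have hQ : Q.IsPrime := Ideal.map_isPrime_of_surjective Ideal.Quotient.mk_surjective
          (by rw [Ideal.mk_ker]; exact hrq')
        have hQc : Q.comap (Ideal.Quotient.mk r) = q' := by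
          rw [Ideal.comap_map_of_surjective _ Ideal.Quotient.mk_surjective,
            ← RingHom.ker_eq_comap_bot, Ideal.mk_ker]
          exact sup_eq_left.2 hrq'
        have hQa : algebraMap R S (Ideal.Quotient.mk p₀ a) ∉ Q := fun h => hq'a (hQc.le h)
        have h1 := hle Q hQa
        have h2 : Algebra.trdeg (R ⧸ Q.under R) (S ⧸ Q) = Algebra.trdeg (A ⧸ q'.under A) (B ⧸ q') := by
          have hpu : p₀ ≤ q'.under A := hru ▸ Ideal.comap_mono hrq'
          have hu : Q.under R = (q'.under A).map (Ideal.Quotient.mk p₀) := by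
            refine Ideal.comap_injective_of_surjective (Ideal.Quotient.mk p₀)
              Ideal.Quotient.mk_surjective ?_
            rw [Ideal.comap_map_of_surjective (Ideal.Quotient.mk p₀) Ideal.Quotient.mk_surjective
              (q'.under A), ← RingHom.ker_eq_comap_bot, Ideal.mk_ker, sup_eq_left.2 hpu]
            conv_rhs => rw [← hQc]
            rfl
          let eR : (R ⧸ Q.under R) ≃+* A ⧸ q'.under A :=
            (Ideal.quotEquivOfEq hu).trans (DoubleQuot.quotQuotEquivQuotOfLE hpu)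
          let eS : (S ⧸ Q) ≃+* B ⧸ q' := DoubleQuot.quotQuotEquivQuotOfLE hrq'
          refine trdeg_eq_of_ringEquiv eR eS ?_
          refine RingHom.ext fun x => ?_
          obtain ⟨x, rfl⟩ := Ideal.Quotient.mk_surjective x
          obtain ⟨x, rfl⟩ := Ideal.Quotient.mk_surjective x
          rfl
        rw [h2] at h1
        exact lt_of_le_of_lt (toNat_le_of_le h1) hlt
    · have hle : p₀ ≤ r.under A := Ideal.map_le_iff_le_comap.1 hr.1.2
      obtain ⟨a, ha, ha'⟩ := Set.exists_of_ssubset (lt_of_le_of_ne hle (Ne.symm hru) : p₀ < r.under A)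
      exact ⟨a, ha', Ideal.comap_mono hrq ha, fun q' _ hrq' hq' => absurd (hrq' ha) hq'⟩
  choose! a ha₀ hap hlt using key
  obtain ⟨c, hc, hc'⟩ := Set.exists_of_ssubset ((lt_of_le_of_ne hp₀ hpp : p₀ < q.under A))
  let s := hMfin.toFinset.filter fun r => r ≤ q
  let b : A := c * ∏ r ∈ s, a r
  have hb₀ : b ∉ p₀ := fun h => by
    rcases ‹p₀.IsPrime›.mem_or_mem h with h | h
    · exact hc' h
    · obtain ⟨r, hr, h⟩ := (Ideal.IsPrime.prod_mem_iff).1 h
      simp only [s, Finset.mem_filter, Set.Finite.mem_toFinset] at hr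
      exact ha₀ r hr.1 hr.2 h
  obtain ⟨p', hp', hp₀', hp'lt, hbp', hh⟩ := exists_height_le_one_quotient p₀ (q.under A) hp₀ b hb₀
    (Ideal.mul_mem_right _ _ hc)
  obtain ⟨q', hq', hq'le, hq'u⟩ := hlift p' hp' hp'lt.le
  obtain ⟨r, hr, hrq'⟩ := Ideal.exists_minimalPrimes_le (J := q')
    (Ideal.map_le_iff_le_comap.2 (hp₀'.trans hq'u.ge))
  have hrs : r ∈ s := Finset.mem_filter.2 ⟨hMfin.mem_toFinset.2 hr, hrq'.trans hq'le⟩
  have h1 := hlt r hr (hrq'.trans hq'le) q' hrq' fun h => hbp' (by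
    rw [← hq'u]
    exact Ideal.mul_mem_left _ _ (Ideal.prod_mem (I := q'.under A) hrs h))
  have : q'.LiesOver p' := ⟨hq'u.symm⟩
  have h2 := trdeg_le_of_height_le_one p' (q.under A) q' q
    (lt_of_le_of_ne hq'le fun h => hp'lt.ne (by rw [← hq'u, h])) hh
  rw [trdeg_congr_under q' p' hq'u] at h1
  omega

variable {X Y : Scheme.{u}} {f : X ⟶ Y}

theorem Chart.specializes_iff (C : Chart f) (a b : PrimeSpectrum C.B) :
    C.pt a ⤳ C.pt b ↔ a.asIdeal ≤ b.asIdeal :=
  C.isOpenEmbedding_pt.isInducing.specializes_iff.trans (PrimeSpectrum.le_iff_specializes a b).symm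

theorem Chart.specializesY_iff (C : Chart f) (a b : PrimeSpectrum C.A) :
    C.ptY a ⤳ C.ptY b ↔ a.asIdeal ≤ b.asIdeal :=
  C.isOpenEmbedding_ptY.isInducing.specializes_iff.trans (PrimeSpectrum.le_iff_specializes a b).symm

/-- EGA IV 14.2.1: if generizations of `f z` lift to generizations of `z`, then over every
generization `η` of `f z` there is a generization of `z` with residue transcendence degree at least
that of `z`. -/
theorem exists_fdeg_ge_of_lifts [IsLocallyNoetherian Y] [LocallyOfFiniteType f] {z : X}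
    (hopen : ∀ y' : Y, y' ⤳ f z → ∃ x' : X, f x' = y' ∧ x' ⤳ z) {η : Y} (hη : η ⤳ f z) :
    ∃ ξ : X, f ξ = η ∧ ξ ⤳ z ∧ fdeg f z ≤ fdeg f ξ := by
  obtain ⟨C, ⟨q, rfl⟩, hC⟩ := exists_chart f z
  have := hC ‹_›
  change ∀ y' : Y, y' ⤳ f (C.pt q) → ∃ x' : X, f x' = y' ∧ x' ⤳ C.pt q at hopen
  change η ⤳ f (C.pt q) at hη
  rw [C.apply] at hη
  obtain ⟨p₀, rfl⟩ := hη.mem_open C.isOpenEmbedding_ptY.isOpen_range ⟨_, rfl⟩
  obtain ⟨q', hq', hle, hu, hd⟩ := exists_trdeg_ge_of_lifts (A := C.A) q.asIdeal p₀.asIdeal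
    ((C.specializesY_iff _ _).1 hη) fun p' hp' hle => by
      obtain ⟨x', hx', hsp⟩ := hopen (C.ptY ⟨p', hp'⟩)
        (by rw [C.apply]; exact (C.specializesY_iff _ _).2 hle)
      obtain ⟨q', rfl⟩ := hsp.mem_open C.isOpenEmbedding_pt.isOpen_range ⟨q, rfl⟩
      rw [C.apply] at hx'
      exact ⟨q'.asIdeal, q'.2, (C.specializes_iff _ _).1 hsp,
        congrArg PrimeSpectrum.asIdeal (C.isOpenEmbedding_ptY.injective hx')⟩
  refine ⟨C.pt ⟨q', hq'⟩, ?_, (C.specializes_iff _ _).2 hle, ?_⟩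
  · rw [C.apply]
    exact congrArg C.ptY (PrimeSpectrum.ext hu)
  · show fdeg f (C.pt q) ≤ fdeg f (C.pt ⟨q', hq'⟩)
    rw [← C.deg_eq_fdeg, ← C.deg_eq_fdeg]
    exact hd

theorem exists_fdeg_ge_of_isOpenAt [IsLocallyNoetherian Y] [LocallyOfFiniteType f] {z : X}
    (hopen : EGA43.IsOpenAt f z) {η : Y} (hη : η ⤳ f z) :
    ∃ ξ : X, f ξ = η ∧ ξ ⤳ z ∧ fdeg f z ≤ fdeg f ξ := by
  have : LocallyOfFinitePresentation f := locallyOfFinitePresentation_of_isLocallyNoetherian f
  exact exists_fdeg_ge_of_lifts (isOpenAt_iff_forall_exists_specializes.1 hopen) hη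

end Groth.Agent.E4O
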