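import Groth.Agent.CAlg1.AB
import Groth.Agent.CAlg1.Serre
import Groth.Agent.CAlg1.Regular
import Groth.Agent.QC70.GenIso
import Groth.Prelude.Def_CAlg
import Mathlib

/-!
Dimension of the generizations of a point, and rectified depth on regular biequidimensional schemes.
-/

set_option autoImplicit false
set_option linter.style.haveILetI false
universe u

open CategoryTheory AlgebraicGeometry TopologicalSpace

namespace Groth.Agent.E4O

/-- The set of generizations of a point has the dimension of its local ring. -/
theorem topologicalKrullDim_generizations {X : Scheme.{u}} (x : X) :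
    topologicalKrullDim ↥{t : X | t ⤳ x} = ringKrullDim (X.presheaf.stalk x) := by
  rw [← PrimeSpectrum.topologicalKrullDim_eq_ringKrullDim, ← Scheme.range_fromSpecStalk]
  exact (IsHomeomorph.topologicalKrullDim_eq _
    (X.fromSpecStalk x).isEmbedding.toHomeomorph.isHomeomorph).symm

/-- A point with domain local ring lies on exactly one component, which contains all its
generizations. -/
theorem exists_component_of_isDomain {X : Scheme.{u}} (x : X) [IsDomain (X.presheaf.stalk x)] :
    ∃ T ∈ irreducibleComponents (X : Type u), x ∈ T ∧ ∀ t : X, t ⤳ x → t ∈ T := by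
  let η₀ := X.fromSpecStalk x (⟨⊥, Ideal.isPrime_bot⟩ : PrimeSpectrum _)
  have hgen : ∀ t : X, t ⤳ x → η₀ ⤳ t := by
    intro t ht
    obtain ⟨p, rfl⟩ : t ∈ Set.range (X.fromSpecStalk x) := X.range_fromSpecStalk.ge ht
    exact ((PrimeSpectrum.le_iff_specializes _ p).1 bot_le).map (X.fromSpecStalk x).continuous
  have hη : η₀ ⤳ x := X.range_fromSpecStalk.le ⟨_, rfl⟩
  refine ⟨closure {η₀}, ⟨isIrreducible_singleton.closure, fun Z hZ hle => ?_⟩, hη.mem_closure, fun t ht => (hgen t ht).mem_closure⟩
  obtain ⟨ξ, hξ⟩ := QuasiSober.sober hZ.closure isClosed_closure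
  have h1 : ξ ⤳ η₀ := specializes_iff_mem_closure.2 (hξ.def.ge (subset_closure (hle (subset_closure rfl))))
  have h2 : η₀ ⤳ ξ := hgen ξ (h1.trans hη)
  intro z hz
  exact (h2.trans (specializes_iff_mem_closure.2 (hξ.def.ge (subset_closure hz)))).mem_closure

/-- On a regular biequidimensional scheme: dim of the closure plus dim of the local ring is dim. -/
theorem dim_closure_add_ringKrullDim (X : Scheme.{u}) (x : X) [IsDomain (X.presheaf.stalk x)]
    (hcomp : ∀ C ∈ irreducibleComponents (X : Type u), topologicalKrullDim ↥C = topologicalKrullDim X)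
    (hchain : ∀ (y : X) (T : Set X), IsClosed T → IsIrreducible T → y ∈ T →
      topologicalKrullDim ↥T = topologicalKrullDim ↥(closure ({y} : Set X)) + topologicalKrullDim ↥{t : X | t ∈ T ∧ t ⤳ y}) :
    topologicalKrullDim ↥(closure ({x} : Set X)) + ringKrullDim (X.presheaf.stalk x) = topologicalKrullDim X := by
  obtain ⟨T, hT, hxT, hall⟩ := exists_component_of_isDomain x
  rw [← topologicalKrullDim_generizations x, ← hcomp T hT,
    hchain x T (isClosed_of_mem_irreducibleComponents T hT) hT.1 hxT]
  rw [show {t : X | t ∈ T ∧ t ⤳ x} = {t : X | t ⤳ x} from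
    Set.ext fun t => ⟨fun h => h.2, fun h => ⟨hall t h, h⟩⟩]

/-- Auslander–Buchsbaum over a regular local ring. -/
theorem depth_add_pd_eq_dim (R : Type u) [CommRing R] [IsRegularLocalRing R] (M : Type u) [AddCommGroup M]
    [Module R M] [Module.Finite R M] [Nontrivial M] :
    ∃ d e n : ℕ, ringKrullDim R = d ∧ LocCoh.depth R M = n ∧
      projectiveDimension (ModuleCat.of R M) = e ∧ n + e = d := by
  classical
  obtain ⟨d, hd⟩ : ∃ d : ℕ, ringKrullDim R = d := by
    have hb := ringKrullDim_ne_bot (R := R)
    have ht := ringKrullDim_ne_top (R := R)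
    generalize ringKrullDim R = D at hb ht ⊢
    induction D with
    | bot => exact absurd rfl hb
    | coe a =>
      induction a with
      | top => exact absurd rfl ht
      | coe n => exact ⟨n, rfl⟩
  have h0 : HasProjectiveDimensionLE (ModuleCat.of R M) d := CAlg1.hasPD_of_regular R hd _
  have hex : ∃ m, HasProjectiveDimensionLE (ModuleCat.of R M) m := ⟨d, h0⟩
  have hAB := CAlg1.auslander_buchsbaum (Nat.find hex) M (Nat.find_spec hex) fun m hm => Nat.find_min' hex hm
  rw [CAlg1.depth_regular R hd] at hAB
  obtain ⟨n, hn⟩ : ∃ n : ℕ, LocCoh.depth R M = n := by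
    refine ⟨_, (ENat.natCast_toNat fun htop => ?_).symm⟩
    rw [htop, add_top] at hAB
    exact ENat.natCast_ne_top d hAB
  refine ⟨d, Nat.find hex, n, hd, hn, le_antisymm ?_ ?_, ?_⟩
  · exact (projectiveDimension_le_iff _ _).2 (Nat.find_spec hex)
  · rw [projectiveDimension_ge_iff]
    intro hlt
    rcases Nat.eq_zero_or_pos (Nat.find hex) with h | h
    · rw [h, hasProjectiveDimensionLT_zero_iff_isZero, ModuleCat.isZero_iff_subsingleton] at hlt
      exact not_subsingleton M hlt
    · exact Nat.find_min hex (Nat.sub_one_lt_of_lt h) (by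
        show HasProjectiveDimensionLT _ (Nat.find hex - 1 + 1)
        rwa [Nat.sub_add_cancel h])
  · rw [hn] at hAB
    exact_mod_cast (add_comm n (Nat.find hex)).trans (by exact_mod_cast hAB.symm)

end Groth.Agent.E4O
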