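import Groth.Agent.E4O.JacobsonLocalDim
import Groth.Agent.E4O.RectDepth
import Groth.Agent.EGA4H10.ProjDim
import Groth.Agent.EGA4H10.CompleteUC
import Groth.Agent.Div89.DepthTwo
import Groth.Agent.EGA4Alg4.DepthChange
import Mathlib.RingTheory.RegularLocalRing.Polynomial

/-!
Lower semicontinuity of the rectified depth over a regular Jacobson base with equidimensional
components (EGA IV 10.8).
-/

set_option autoImplicit false
set_option backward.isDefEq.respectTransparency.types false
set_option linter.style.haveILetI false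
universe u

open CategoryTheory AlgebraicGeometry TopologicalSpace
open Groth.Agent.Cyc90

namespace Groth.Agent.E4O

/-- A localisation of a module over a quotient ring is one over the ring. -/
theorem isLocalizedModule_of_surjective {B R M : Type u} [CommRing B] [CommRing R] [Algebra B R]
    (h : Function.Surjective (algebraMap B R)) (p : Ideal R) [p.IsPrime] [AddCommGroup M] [Module R M]
    [Module B M] [IsScalarTower B R M] :
    IsLocalizedModule (p.comap (algebraMap B R)).primeCompl
      ((LocalizedModule.mkLinearMap p.primeCompl M).restrictScalars B) where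
  map_units s := by
    have h1 := IsLocalizedModule.map_units (LocalizedModule.mkLinearMap p.primeCompl M)
      (⟨algebraMap B R s, s.2⟩ : p.primeCompl)
    rw [Module.End.isUnit_iff] at h1 ⊢
    refine (congrArg Function.Bijective (funext fun x => ?_)).mp h1
    show algebraMap B R s.1 • x = s.1 • x
    rw [algebraMap_smul]
  surj y := by
    obtain ⟨⟨m, r⟩, hr⟩ := IsLocalizedModule.surj p.primeCompl (LocalizedModule.mkLinearMap p.primeCompl M) y
    obtain ⟨b, hb⟩ := h r.1
    refine ⟨⟨m, ⟨b, fun hb' => r.2 (hb ▸ (hb' : algebraMap B R b ∈ p))⟩⟩, ?_⟩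
    refine Eq.trans ?_ hr
    show b • y = r.1 • y
    rw [← algebraMap_smul R b y, hb]
  exists_of_eq {m₁ m₂} e := by
    obtain ⟨r, hr⟩ := IsLocalizedModule.exists_of_eq (S := p.primeCompl)
      (f := LocalizedModule.mkLinearMap p.primeCompl M) e
    obtain ⟨b, hb⟩ := h r.1
    refine ⟨⟨b, fun hb' => r.2 (hb ▸ (hb' : algebraMap B R b ∈ p))⟩, ?_⟩
    show b • m₁ = b • m₂
    rw [← algebraMap_smul R b m₁, ← algebraMap_smul R b m₂, hb]
    exact hr

/-- Depth of a localised module over a quotient ring is that over the ring. -/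
theorem depth_localized_of_surjective {B R : Type u} [CommRing B] [IsNoetherianRing B] [CommRing R]
    [Algebra B R] (h : Function.Surjective (algebraMap B R)) (p : Ideal R) [p.IsPrime]
    (M : Type u) [AddCommGroup M] [Module R M] [Module B M] [IsScalarTower B R M] [Module.Finite B M] :
    LocCoh.depth (Localization.AtPrime p) (LocalizedModule p.primeCompl M) =
      LocCoh.depth (Localization.AtPrime (p.comap (algebraMap B R)))
        (LocalizedModule (p.comap (algebraMap B R)).primeCompl M) := by
  let P := p.comap (algebraMap B R)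
  let A' := Localization.AtPrime P
  let B' := Localization.AtPrime p
  haveI : IsNoetherianRing A' := IsLocalization.isNoetherianRing P.primeCompl A' inferInstance
  haveI : IsNoetherianRing R := isNoetherianRing_of_surjective B R _ h
  haveI : IsNoetherianRing B' := IsLocalization.isNoetherianRing p.primeCompl B' inferInstance
  letI : Algebra A' B' := (Localization.localRingHom P p (algebraMap B R) rfl).toAlgebra
  haveI : IsScalarTower B A' B' := IsScalarTower.of_algebraMap_eq fun b => by
    show algebraMap B B' b = Localization.localRingHom P p (algebraMap B R) rfl (algebraMap B A' b)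
    rw [Localization.localRingHom_to_map, ← IsScalarTower.algebraMap_apply]
  have hs : Function.Surjective (algebraMap A' B') := (RingHom.surjectiveOnStalks_of_surjective h) p inferInstance
  let N := LocalizedModule p.primeCompl M
  haveI := isLocalizedModule_of_surjective h p (M := M)
  letI : Module A' N := Module.compHom N (algebraMap A' B')
  haveI : IsScalarTower A' B' N := IsScalarTower.of_algebraMap_smul fun _ _ => rfl
  haveI : IsScalarTower B A' N := IsScalarTower.of_algebraMap_smul fun b x => by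
    show algebraMap A' B' (algebraMap B A' b) • x = b • x
    rw [← IsScalarTower.algebraMap_apply, algebraMap_smul]
  let E : LocalizedModule P.primeCompl M ≃ₗ[A'] N := LinearEquiv.extendScalarsOfIsLocalization P.primeCompl A'
    (IsLocalizedModule.iso P.primeCompl ((LocalizedModule.mkLinearMap p.primeCompl M).restrictScalars B))
  haveI : Module.Finite A' (LocalizedModule P.primeCompl M) := Module.Finite.of_isLocalizedModule P.primeCompl
    (LocalizedModule.mkLinearMap P.primeCompl M)
  haveI : Module.Finite A' N := Module.Finite.equiv E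
  haveI : IsLocalHom (algebraMap A' B') := IsLocalHom.of_surjective _ hs
  haveI : Module.Finite A' B' := Module.Finite.of_surjective (Algebra.linearMap A' B') hs
  exact (EGA4Alg4.depth_eq_of_finite N).symm.trans (EGA4Alg4.depth_eq_of_equiv E.symm)

/-- Regularity of the local rings gives regularity of affine coordinate rings. -/
theorem isRegularRing_sections {S : Scheme.{u}} [IsLocallyNoetherian S]
    (hreg : ∀ s : S, IsRegularLocalRing ↑(S.presheaf.stalk s)) {W : S.Opens} (hW : IsAffineOpen W) :
    IsRegularRing Γ(S, W) := by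
  haveI : IsNoetherianRing Γ(S, W) := IsLocallyNoetherian.component_noetherian ⟨W, hW⟩
  refine isRegularRing_iff.2 fun p hp => ?_
  obtain ⟨⟨y, hy⟩, hyp⟩ : ∃ y : W, hW.primeIdealOf y = ⟨p, hp⟩ := by
    have hy : hW.fromSpec ⟨p, hp⟩ ∈ W := hW.range_fromSpec.le ⟨_, rfl⟩
    exact ⟨⟨_, hy⟩, hW.fromSpec.isOpenEmbedding.injective (hW.fromSpec_primeIdealOf ⟨_, hy⟩)⟩
  letI : Algebra Γ(S, W) (S.presheaf.stalk y) := (S.presheaf.germ W y hy).hom.toAlgebra
  haveI : IsLocalization.AtPrime (S.presheaf.stalk y) p := by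
    have := hW.isLocalization_stalk ⟨y, hy⟩
    rwa [hyp] at this
  haveI := hreg y
  exact IsRegularLocalRing.of_ringEquiv
    (IsLocalization.algEquiv p.primeCompl (S.presheaf.stalk y) (Localization.AtPrime p)).toRingEquiv

/-- Universal catenarity of regular local rings. -/
theorem isUniversallyCatenary_of_regular (R : Type u) [CommRing R] [IsRegularLocalRing R] :
    CAlg.IsUniversallyCatenary R := by
  haveI := EGA4H10.isCohenMacaulayRing_of_regular R
  exact CAlg1.isUniversallyCatenary_of_cm R

/-- On the spectrum of a regular ring, with a dimension function, the rectified depth is lower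
semicontinuous. -/
theorem isOpen_rectDepth_spec (B : Type u) [CommRing B] [IsRegularRing B]
    (δ : ↥(Spec (CommRingCat.of B)) → ℤ) (hδ : Cyc.IsDimFun (Spec (CommRingCat.of B)) δ)
    (hn : ∀ P, 0 ≤ δ P) (M : Type u) [AddCommGroup M] [Module B M] [Module.Finite B M] (n : ℕ) :
    IsOpen {P : PrimeSpectrum B | (n : WithBot ℕ∞) ≤
      ((LocCoh.depth (Localization.AtPrime P.asIdeal) (LocalizedModule P.asIdeal.primeCompl M) : ℕ∞) : WithBot ℕ∞) +
        ((δ P).toNat : WithBot ℕ∞)} := by
  classical
  refine isOpen_iff_forall_mem_open.2 fun P₀ hP₀ => ?_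
  have hout : ∀ P : PrimeSpectrum B, P ∉ Module.support B M → (n : WithBot ℕ∞) ≤
      ((LocCoh.depth (Localization.AtPrime P.asIdeal) (LocalizedModule P.asIdeal.primeCompl M) : ℕ∞) : WithBot ℕ∞) +
        ((δ P).toNat : WithBot ℕ∞) := fun P hP => by
    haveI := Module.notMem_support_iff.1 hP
    rw [EGA4Alg4.depth_of_subsingleton, ← WithBot.coe_natCast, ← WithBot.coe_natCast, ← WithBot.coe_add, top_add]
    exact WithBot.coe_le_coe.2 le_top
  by_cases hsupp : P₀ ∈ Module.support B M
  swap
  · exact ⟨(Module.support B M)ᶜ, fun P hP => hout P hP,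
      (Module.isClosed_support (R := B) (M := M)).isOpen_compl, hsupp⟩
  -- the component
  have hgen : ∀ P : ↥(Spec (CommRingCat.of B)), ∃ η, η ⤳ P ∧ ∀ t, t ⤳ P → η ⤳ t := fun P => by
    haveI : IsRegularLocalRing ((Spec (CommRingCat.of B)).presheaf.stalk P) :=
      IsRegularLocalRing.of_ringEquiv (Spec.stalkIso (CommRingCat.of B) P).symm.commRingCatIsoToRingEquiv
    haveI : IsDomain ((Spec (CommRingCat.of B)).presheaf.stalk P) := CAlg1.isDomain_regular _
    obtain ⟨T, hT, hPT, hall⟩ := exists_component_of_isDomain P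
    obtain ⟨η, hη⟩ := QuasiSober.sober hT.1 (isClosed_of_mem_irreducibleComponents T hT)
    exact ⟨η, hη.specializes hPT, fun t ht => hη.specializes (hall t ht)⟩
  choose η hη1 hη2 using hgen
  have hmin : ∀ P, (η P).asIdeal ∈ minimalPrimes B := fun P =>
    ⟨⟨(η P).2, bot_le⟩, fun q hq hle => (PrimeSpectrum.le_iff_specializes _ _).2
      (hη2 P ⟨q, hq.1⟩ (((PrimeSpectrum.le_iff_specializes (⟨q, hq.1⟩ : PrimeSpectrum B) (η P)).1 hle).trans (hη1 P)))⟩
  let G : Set (PrimeSpectrum B) :=
    (⋃ q ∈ minimalPrimes B \ {(η P₀).asIdeal}, PrimeSpectrum.zeroLocus (q : Set B))ᶜ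
  have hG : IsOpen G := ((minimalPrimes.finite_of_isNoetherianRing B).sdiff.isClosed_biUnion
    fun q _ => PrimeSpectrum.isClosed_zeroLocus _).isOpen_compl
  have hGη : ∀ P ∈ G, η P = η P₀ := fun P hP => by
    by_contra hne
    refine hP (Set.mem_biUnion ⟨hmin P, fun e => hne (PrimeSpectrum.ext e)⟩ ?_)
    exact (PrimeSpectrum.le_iff_specializes (η P) P).2 (hη1 P)
  have hP₀G : P₀ ∈ G := by
    intro hmem
    obtain ⟨q, ⟨hq, hne⟩, hle⟩ := Set.mem_iUnion₂.1 hmem
    refine hne ?_
    have h1 : (η P₀).asIdeal ≤ q := (PrimeSpectrum.le_iff_specializes (η P₀) ⟨q, hq.1.1⟩).2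
      (hη2 P₀ ⟨q, hq.1.1⟩ ((PrimeSpectrum.le_iff_specializes (⟨q, hq.1.1⟩ : PrimeSpectrum B) P₀).1 hle))
    exact (le_antisymm h1 (hq.2 ⟨(η P₀).2, bot_le⟩ h1)).symm
  -- the formula on the component
  have hform : ∀ P ∈ G, P ∈ Module.support B M → ∃ d e : ℕ,
      LocCoh.depth (Localization.AtPrime P.asIdeal) (LocalizedModule P.asIdeal.primeCompl M) = d ∧
      projectiveDimension (ModuleCat.of (Localization.AtPrime P.asIdeal) (LocalizedModule P.asIdeal.primeCompl M)) = e ∧
      d + (δ P).toNat + e = (δ (η P₀)).toNat := by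
    intro P hP hPs
    haveI : Nontrivial (LocalizedModule P.asIdeal.primeCompl M) := Module.mem_support_iff.1 hPs
    haveI : Module.Finite (Localization.AtPrime P.asIdeal) (LocalizedModule P.asIdeal.primeCompl M) :=
      Module.Finite.of_isLocalizedModule P.asIdeal.primeCompl (LocalizedModule.mkLinearMap P.asIdeal.primeCompl M)
    obtain ⟨k, e, d, hk, hd, he, hde⟩ :=
      depth_add_pd_eq_dim (Localization.AtPrime P.asIdeal) (LocalizedModule P.asIdeal.primeCompl M)
    have h1 := ringKrullDim_stalk hδ (hη1 P) (hη2 P)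
    rw [ringKrullDim_eq_of_ringEquiv (Spec.stalkIso (CommRingCat.of B) P).commRingCatIsoToRingEquiv] at h1
    have h2 : k = (δ (η P) - δ P).toNat := by exact_mod_cast hk.symm.trans h1
    rw [hGη P hP] at h2
    have h3 := hn P
    have h4 := delta_le hδ (hGη P hP ▸ hη1 P)
    exact ⟨d, e, hd, he, by omega⟩
  obtain ⟨d₀, e₀, hd₀, he₀, hsum₀⟩ := hform P₀ hP₀G hsupp
  refine ⟨G ∩ {P | projectiveDimension (ModuleCat.of (Localization.AtPrime P.asIdeal)
      (LocalizedModule P.asIdeal.primeCompl M)) ≤ e₀}, fun P hP => ?_,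
    hG.inter (EGA4H10.isOpen_pd_le B M e₀), hP₀G, he₀.le⟩
  by_cases hPs : P ∈ Module.support B M
  swap
  · exact hout P hPs
  obtain ⟨d, e, hd, he, hsum⟩ := hform P hP.1 hPs
  have h5 : e ≤ e₀ := by exact_mod_cast (he.symm.le.trans hP.2)
  have h6 : n ≤ d₀ + (δ P₀).toNat := by
    have := hP₀
    simp only [Set.mem_ofPred_eq, hd₀] at this
    exact_mod_cast this
  show (n : WithBot ℕ∞) ≤ _
  rw [hd]
  exact_mod_cast (show n ≤ d + (δ P).toNat by omega)

/-- Lower semicontinuity of the rectified depth. -/
theorem isOpen_rectDepth {X S : Scheme.{u}} [IsLocallyNoetherian S] [JacobsonSpace S]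
    (hreg : ∀ s : S, IsRegularLocalRing ↑(S.presheaf.stalk s))
    (h3 : ∀ S' ∈ irreducibleComponents (S : Type u), ∀ s ∈ S', IsClosed ({s} : Set S) →
      topologicalKrullDim (↥S' : Type u) = topologicalKrullDim ↥{t : S | t ∈ S' ∧ t ⤳ s})
    (g : X ⟶ S) [LocallyOfFiniteType g] (F : X.Modules) (hF : Coh.IsCoh F) (n : ℕ) :
    IsOpen {x : X | (n : WithBot ℕ∞) ≤
      ((LocCoh.depth ↑(X.presheaf.stalk x) ↑(F.presheaf.stalk x) : ℕ∞) : WithBot ℕ∞) +
        topologicalKrullDim ↥(closure ({x} : Set X))} := by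
  haveI : IsLocallyNoetherian X := LocallyOfFiniteType.isLocallyNoetherian g
  haveI : JacobsonSpace X := LocallyOfFiniteType.jacobsonSpace g
  obtain ⟨δS, hS, hS0⟩ := exists_dimFun (fun s => haveI := hreg s; isUniversallyCatenary_of_regular _) h3
  obtain ⟨δX, hX, hX0⟩ := exists_dimFun_lft g δS hS hS0
  haveI := hF.1
  haveI := hF.2
  refine isOpen_iff_forall_mem_open.2 fun x₀ hx₀ => ?_
  obtain ⟨W, hW, hxW, -⟩ := exists_isAffineOpen_mem_and_subset (X := S) (x := g x₀) (U := ⊤) trivial
  obtain ⟨V, hV, hxV, eV⟩ := exists_isAffineOpen_mem_and_subset (X := X) (x := x₀) (U := g ⁻¹ᵁ W) hxW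
  let R := Γ(X, V)
  let A := Γ(S, W)
  letI : Algebra A R := (g.appLE W V eV).hom.toAlgebra
  haveI : Algebra.FiniteType A R := LocallyOfFiniteType.finiteType_appLE (f := g) hW hV eV
  haveI : IsRegularRing A := isRegularRing_sections hreg hW
  obtain ⟨N, φ, hφ⟩ := Algebra.FiniteType.iff_quotient_mvPolynomial''.1 ‹Algebra.FiniteType A R›
  let B := MvPolynomial (Fin N) A
  letI : Algebra B R := φ.toRingHom.toAlgebra
  haveI : IsRegularRing B := inferInstanceAs (IsRegularRing (MvPolynomial (Fin N) A))
  let M := Γ(F, V)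
  haveI : Module.Finite R M := QC70.finite_sections_of_isFiniteType F hV
  letI : Module B M := Module.compHom M φ.toRingHom
  haveI : IsScalarTower B R M := IsScalarTower.of_algebraMap_smul fun _ _ => rfl
  haveI : Module.Finite B R := Module.Finite.of_surjective (Algebra.linearMap B R) hφ
  haveI : Module.Finite B M := Module.Finite.trans R M
  let k : Spec (CommRingCat.of B) ⟶ S := Spec.map (CommRingCat.ofHom (algebraMap A B)) ≫ hW.fromSpec
  haveI : LocallyOfFiniteType (Spec.map (CommRingCat.ofHom (algebraMap A B))) :=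
    (HasRingHomProperty.Spec_iff (P := @LocallyOfFiniteType)).2
      (RingHom.finiteType_algebraMap.2 (inferInstanceAs (Algebra.FiniteType A (MvPolynomial (Fin N) A))))
  haveI : JacobsonSpace ↥(Spec (CommRingCat.of B)) := LocallyOfFiniteType.jacobsonSpace k
  obtain ⟨δP, hP, hP0⟩ := exists_dimFun_lft k δS hS hS0
  let i : Spec (CommRingCat.of R) ⟶ Spec (CommRingCat.of B) := Spec.map (CommRingCat.ofHom (algebraMap B R))
  haveI : IsClosedImmersion i := IsClosedImmersion.spec_of_surjective _ hφ
  -- the closures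
  have hdim : ∀ q : ↥(Spec (CommRingCat.of R)),
      topologicalKrullDim ↥(closure ({hV.fromSpec q} : Set X)) = ((δP (i q)).toNat : WithBot ℕ∞) := by
    intro q
    have e1 : topologicalKrullDim ↥(closure ({q} : Set (Spec (CommRingCat.of R)))) =
        ((δP (i q)).toNat : WithBot ℕ∞) := by
      rw [← topologicalKrullDim_closure hP.2.2 hP0 (i q), ← Set.image_singleton,
        i.isClosedEmbedding.closure_image_eq]
      exact IsHomeomorph.topologicalKrullDim_eq _
        (i.isClosedEmbedding.isEmbedding.homeomorphImage (closure {q})).isHomeomorph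
    have hq : hV.fromSpec q ∈ Set.range hV.fromSpec := ⟨q, rfl⟩
    have e2 : topologicalKrullDim ↥(closure ({q} : Set (Spec (CommRingCat.of R)))) =
        topologicalKrullDim ↥(Set.range hV.fromSpec ∩ closure ({hV.fromSpec q} : Set X)) := by
      have h1 : hV.fromSpec '' closure {q} = Set.range hV.fromSpec ∩ closure {hV.fromSpec q} := by
        rw [hV.fromSpec.isOpenEmbedding.isEmbedding.closure_eq_preimage_closure_image, Set.image_singleton,
          Set.image_preimage_eq_range_inter]
      rw [← h1]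
      exact IsHomeomorph.topologicalKrullDim_eq _
        (hV.fromSpec.isOpenEmbedding.isEmbedding.homeomorphImage (closure {q})).isHomeomorph
    have hge := delta_le_dim_inter hX.2.2 hX0 hV.fromSpec.isOpenEmbedding.isOpen_range isClosed_closure hq
      (subset_closure (Set.mem_singleton (hV.fromSpec q)))
    rw [← e1, e2]
    refine le_antisymm ?_ (TopDim50.dim_mono Set.inter_subset_right)
    rw [topologicalKrullDim_closure hX.2.2 hX0]
    exact hge
  -- the depths
  have hdepth : ∀ q : ↥(Spec (CommRingCat.of R)),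
      LocCoh.depth (X.presheaf.stalk (hV.fromSpec q)) (F.presheaf.stalk (hV.fromSpec q)) =
        LocCoh.depth (Localization.AtPrime (i q).asIdeal) (LocalizedModule (i q).asIdeal.primeCompl M) := by
    intro q
    have hmem : hV.fromSpec q ∈ V := hV.range_fromSpec.le ⟨q, rfl⟩
    have hpr : hV.primeIdealOf ⟨hV.fromSpec q, hmem⟩ = q :=
      hV.fromSpec.isOpenEmbedding.injective (hV.fromSpec_primeIdealOf ⟨_, hmem⟩)
    rw [← Div89.depth_localized_eq_stalk F hF ⟨V, hV⟩ _ hmem]
    haveI : (Div89.primeAt (⟨V, hV⟩ : X.affineOpens) (hV.fromSpec q) hmem).IsPrime := Div89.primeAt_isPrime _ _ hmem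
    rw [depth_localized_of_surjective (B := B) hφ (Div89.primeAt (⟨V, hV⟩ : X.affineOpens) (hV.fromSpec q) hmem) M]
    have hJ : ∀ (J J' : Ideal B) [J.IsPrime] [J'.IsPrime], J = J' →
        LocCoh.depth (Localization.AtPrime J) (LocalizedModule J.primeCompl M) =
          LocCoh.depth (Localization.AtPrime J') (LocalizedModule J'.primeCompl M) := by
      intro J J' _ _ e
      subst e
      rfl
    exact hJ _ _ (congrArg (fun q' => (i q').asIdeal) hpr)
  refine ⟨hV.fromSpec '' (i ⁻¹' {P : PrimeSpectrum B | (n : WithBot ℕ∞) ≤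
      ((LocCoh.depth (Localization.AtPrime P.asIdeal) (LocalizedModule P.asIdeal.primeCompl M) : ℕ∞) : WithBot ℕ∞) +
        ((δP P).toNat : WithBot ℕ∞)}), ?_, ?_, ?_⟩
  · rintro _ ⟨q, hq, rfl⟩
    rw [Set.mem_ofPred_eq, hdim q, hdepth q]
    exact hq
  · exact hV.fromSpec.isOpenEmbedding.isOpenMap _
      ((isOpen_rectDepth_spec B δP hP.2.2 (fun P => delta_nonneg hP.2.2 hP0 P) M n).preimage i.continuous)
  · refine ⟨hV.primeIdealOf ⟨x₀, hxV⟩, ?_, hV.fromSpec_primeIdealOf _⟩
    show (n : WithBot ℕ∞) ≤ _
    rw [← hdim, ← hdepth, hV.fromSpec_primeIdealOf]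
    exact hx₀

end Groth.Agent.E4O
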