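import Groth.Agent.E4O.RelInjAlg
import Groth.Agent.LimTop61.PullBC
import Groth.Agent.FlatMor68.FlatSections
import Groth.Agent.Props58.LocFree.FP
import Groth.Agent.QC70.Stalk
import Mathlib.AlgebraicGeometry.Morphisms.Flat
import Mathlib.AlgebraicGeometry.Morphisms.FinitePresentation

/-!
Relative injectivity of restriction to an open subscheme is a fibrewise property.
-/

set_option autoImplicit false
set_option backward.isDefEq.respectTransparency.types false
set_option linter.style.haveILetI false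
universe u

open CategoryTheory Limits AlgebraicGeometry TopologicalSpace Opposite TensorProduct
open Groth.Agent.QC70

namespace Groth.Agent.E4O

/-- Sections of a pulled back module over a product of affine opens. -/
theorem exists_chart_equiv {X S X' S' : Scheme.{u}} {f : X ⟶ S} {g : S' ⟶ S} {f' : X' ⟶ S'}
    {g' : X' ⟶ X} (H : IsPullback g' f' f g) (F : X.Modules) [F.IsQuasicoherent]
    {V : S.Opens} {U : X.Opens} {W : S'.Opens} (hV : IsAffineOpen V) (hU : IsAffineOpen U)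
    (hW : IsAffineOpen W) (eU : U ≤ f ⁻¹ᵁ V) (eW : W ≤ g ⁻¹ᵁ V) :
    letI : Algebra Γ(S, V) Γ(S', W) := (g.appLE V W eW).hom.toAlgebra
    letI : Algebra Γ(S, V) Γ(X, U) := (f.appLE V U eU).hom.toAlgebra
    letI : Module Γ(S, V) Γ(F, U) := Module.compHom _ (f.appLE V U eU).hom
    haveI : IsScalarTower Γ(S, V) Γ(X, U) Γ(F, U) := IsScalarTower.of_algebraMap_smul fun _ _ => rfl
    IsAffineOpen (g' ⁻¹ᵁ U ⊓ f' ⁻¹ᵁ W) ∧
      ∃ E : Γ((Scheme.Modules.pullback g').obj F, g' ⁻¹ᵁ U ⊓ f' ⁻¹ᵁ W) ≃+ (Γ(S', W) ⊗[Γ(S, V)] Γ(F, U)),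
        ∀ (b : Γ(X, U)) s, E (g'.appLE U (g' ⁻¹ᵁ U ⊓ f' ⁻¹ᵁ W) inf_le_left b • s) =
          (mulBy Γ(S, V) Γ(F, U) b).lTensor Γ(S', W) (E s) := by
  letI : Algebra Γ(S, V) Γ(S', W) := (g.appLE V W eW).hom.toAlgebra
  letI : Algebra Γ(S, V) Γ(X, U) := (f.appLE V U eU).hom.toAlgebra
  letI : Module Γ(S, V) Γ(F, U) := Module.compHom _ (f.appLE V U eU).hom
  haveI : IsScalarTower Γ(S, V) Γ(X, U) Γ(F, U) := IsScalarTower.of_algebraMap_smul fun _ _ => rfl
  let O := g' ⁻¹ᵁ U ⊓ f' ⁻¹ᵁ W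
  haveI : IsAffine (V : Scheme.{u}) := hV
  haveI : IsAffine (U : Scheme.{u}) := hU
  haveI : IsAffine (W : Scheme.{u}) := hW
  have hO : IsAffineOpen O := .of_isIso (Scheme.Hom.isPullback_resLE H.flip eU eW
    (inf_comm (g' ⁻¹ᵁ U) (f' ⁻¹ᵁ W))).isoPullback.hom
  have hpo := (isIso_pushoutSection_iff H.flip eU eW (inf_comm (g' ⁻¹ᵁ U) (f' ⁻¹ᵁ W))).mp
    (isIso_pushoutSection_of_isAffineOpen H.flip eU eW (inf_comm (g' ⁻¹ᵁ U) (f' ⁻¹ᵁ W)) hV hU hW)
  letI : Algebra Γ(X, U) Γ(X', O) := (g'.appLE U O inf_le_left).hom.toAlgebra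
  letI : Algebra Γ(S', W) Γ(X', O) := (f'.appLE W O inf_le_right).hom.toAlgebra
  letI : Algebra Γ(S, V) Γ(X', O) := (f.appLE V U eU ≫ g'.appLE U O inf_le_left).hom.toAlgebra
  haveI : IsScalarTower Γ(S, V) Γ(X, U) Γ(X', O) := .of_algebraMap_eq' rfl
  haveI : IsScalarTower Γ(S, V) Γ(S', W) Γ(X', O) :=
    .of_algebraMap_eq' (congrArg CommRingCat.Hom.hom hpo.w).symm
  haveI : Algebra.IsPushout Γ(S, V) Γ(S', W) Γ(X, U) Γ(X', O) :=
    (CommRingCat.isPushout_iff_isPushout).1 hpo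
  obtain ⟨E₁, -⟩ := LimTop61.exists_baseChange_equiv g' F hU hO (inf_le_left : O ≤ g' ⁻¹ᵁ U)
  let e := Algebra.IsPushout.cancelBaseChange Γ(S, V) Γ(S', W) Γ(X, U) Γ(X', O) Γ(F, U)
  refine ⟨hO, E₁.toAddEquiv.trans e.toAddEquiv, fun b s => ?_⟩
  show e (E₁ (algebraMap Γ(X, U) Γ(X', O) b • s)) = _
  rw [map_smul, algebraMap_smul]
  apply e.symm.injective
  rw [cancelBaseChange_symm_mulBy, LinearEquiv.symm_apply_apply]
  show b • E₁ s = b • e.symm (e (E₁ s))
  rw [LinearEquiv.symm_apply_apply]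

/-- A section killed by functions restricts to zero on their non-vanishing loci. -/
theorem res_eq_zero_of_smul {X : Scheme.{u}} {M : X.Modules} {O W : X.Opens} (hW : W ≤ O) (c : Γ(M, O))
    {ι : Type*} (b : ι → Γ(X, O)) (hcov : ∀ y ∈ W, ∃ i, y ∈ X.basicOpen (b i))
    (hc : ∀ i, b i • c = 0) : res M hW c = 0 := by
  refine TopCat.Presheaf.section_ext (F := ⟨_, M.isSheaf⟩) W _ _ fun y hy => ?_
  show germM M W y hy (res M hW c) = germM M W y hy 0
  rw [germM_zero, germM_res]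
  obtain ⟨i, hi⟩ := hcov y hy
  have := congrArg (germM M O y (hW hy)) (hc i)
  rw [germM_smul, germM_zero] at this
  exact (isUnit_germ hi).smul_eq_zero.mp this

/-- Restriction to `U` is injective after every base change if it is so on every fibre. -/
theorem rel_injective_of_fibres {X S : Scheme.{u}} (f : X ⟶ S) [LocallyOfFinitePresentation f]
    (F : X.Modules) [Coh.IsQCoh F] (hF : CohB1.IsFP F) (hflat : FlatMod.IsFlatOver f F) (U : X.Opens)
    (h : ∀ (s : S) (V : (↑(f.fiber s) : Scheme.{u}).Opens),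
      Function.Injective (((Scheme.Modules.pullback (f.fiberι s)).obj F).presheaf.map
        (homOfLE (inf_le_left : V ⊓ (f.fiberι s) ⁻¹ᵁ U ≤ V)).op))
    (S' : Scheme.{u}) (g : S' ⟶ S) (V : (↑(pullback f g) : Scheme.{u}).Opens) :
    Function.Injective (((Scheme.Modules.pullback (pullback.fst f g)).obj F).presheaf.map
      (homOfLE (inf_le_left : V ⊓ (pullback.fst f g) ⁻¹ᵁ U ≤ V)).op) := by
  classical
  haveI : F.IsQuasicoherent := ‹Coh.IsQCoh F›
  let F' := (Scheme.Modules.pullback (pullback.fst f g)).obj F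
  haveI : F'.IsQuasicoherent := QCPull72.isQuasicoherent_pullback _ F
  rw [injective_iff_map_eq_zero]
  intro t ht
  change res F' (inf_le_left : V ⊓ pullback.fst f g ⁻¹ᵁ U ≤ V) t = 0 at ht
  refine TopCat.Presheaf.section_ext (F := ⟨_, F'.isSheaf⟩) V _ _ fun x' hx' => ?_
  show germM F' V x' hx' t = germM F' V x' hx' 0
  rw [germM_zero]
  obtain ⟨U₀, hU₀, hs, -⟩ := exists_isAffineOpen_mem_and_subset (X := S)
    (x := g (pullback.snd f g x')) (U := ⊤) trivial
  obtain ⟨W, hW, hxW, eW⟩ := exists_isAffineOpen_mem_and_subset (X := S') (x := pullback.snd f g x')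
    (U := g ⁻¹ᵁ U₀) hs
  have hx0 : f (pullback.fst f g x') ∈ U₀ := by
    rw [← Scheme.Hom.comp_apply, pullback.condition, Scheme.Hom.comp_apply]
    exact hs
  obtain ⟨Ω, hΩ, hxΩ, eΩ⟩ := exists_isAffineOpen_mem_and_subset (X := X) (x := pullback.fst f g x')
    (U := f ⁻¹ᵁ U₀) hx0
  letI : Algebra Γ(S, U₀) Γ(X, Ω) := (f.appLE U₀ Ω eΩ).hom.toAlgebra
  letI : Module Γ(S, U₀) Γ(F, Ω) := Module.compHom _ (f.appLE U₀ Ω eΩ).hom
  haveI : IsScalarTower Γ(S, U₀) Γ(X, Ω) Γ(F, Ω) := IsScalarTower.of_algebraMap_smul fun _ _ => rfl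
  haveI : Algebra.FinitePresentation Γ(S, U₀) Γ(X, Ω) := f.finitePresentation_appLE hU₀ hΩ eΩ
  haveI := Props58.LocFree.finitePresentation_sections F (hM := hF) hΩ
  haveI : Module.Flat Γ(S, U₀) Γ(F, Ω) := FlatMor68.FlatSections.flat_sections f (M := F) eΩ hΩ hU₀
    (isLocAt_of_isQuasicoherent F hΩ) fun x _ => hflat x
  let P := hΩ.primeIdealOf ⟨pullback.fst f g x', hxΩ⟩
  have hP : hΩ.fromSpec P = pullback.fst f g x' := hΩ.fromSpec_primeIdealOf _
  let G : Set Γ(X, Ω) := {b | X.basicOpen b ≤ U}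
  -- the fibre
  have hfib : NoKilled Γ(S, U₀) Γ(F, Ω) G (P.asIdeal.under Γ(S, U₀)).ResidueField := by
    let s := f (pullback.fst f g x')
    let gs := S.fromSpecResidueField s
    have egs : (⊤ : (Spec (S.residueField s)).Opens) ≤ gs ⁻¹ᵁ U₀ := fun y _ => by
      show gs y ∈ U₀
      rw [show gs y = s from Scheme.fromSpecResidueField_apply _ _]
      exact hx0
    letI : Algebra Γ(S, U₀) Γ(Spec (S.residueField s), ⊤) := (gs.appLE U₀ ⊤ egs).hom.toAlgebra
    have hfield : IsField Γ(Spec (S.residueField s), ⊤) :=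
      (Scheme.ΓSpecIso (S.residueField s)).commRingCatIsoToRingEquiv.toMulEquiv.isField (Field.toIsField _)
    letI := hfield.toField
    obtain ⟨hO, E, hE⟩ := exists_chart_equiv (IsPullback.of_hasPullback f gs) F hU₀ hΩ
      (isAffineOpen_top _) eΩ egs
    let p := P.asIdeal.under Γ(S, U₀)
    have hker : RingHom.ker (gs.appLE U₀ ⊤ egs).hom = p := by
      let q : PrimeSpectrum Γ(Spec (S.residueField s), ⊤) := ⟨⊥, Ideal.isPrime_bot⟩
      have h1 := hU₀.SpecMap_appLE_fromSpec gs (isAffineOpen_top _) egs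
      have h2 := hU₀.SpecMap_appLE_fromSpec f hΩ eΩ
      have e1 : hU₀.fromSpec (Spec.map (gs.appLE U₀ ⊤ egs) q) = s := by
        rw [← Scheme.Hom.comp_apply, h1, Scheme.Hom.comp_apply]
        exact Scheme.fromSpecResidueField_apply _ _
      have e2 : hU₀.fromSpec (Spec.map (f.appLE U₀ Ω eΩ) P) = s := by
        rw [← Scheme.Hom.comp_apply, h2, Scheme.Hom.comp_apply, hP]
      have h3 := congrArg PrimeSpectrum.asIdeal (hU₀.fromSpec.isOpenEmbedding.injective (e1.trans e2.symm))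
      exact (RingHom.ker_eq_comap_bot _).trans h3
    let ι : p.ResidueField →ₐ[Γ(S, U₀)] Γ(Spec (S.residueField s), ⊤) :=
      Ideal.ResidueField.liftₐ p (Algebra.ofId _ _) hker.ge (fun a ha => by
        refine IsUnit.mk0 _ fun h0 => ha ?_
        exact hker.le h0)
    refine noKilled_of_subfield _ _ ι fun c hc => ?_
    obtain ⟨c, rfl⟩ := E.surjective c
    rw [AddEquiv.map_eq_zero_iff]
    let O := pullback.fst f gs ⁻¹ᵁ Ω ⊓ pullback.snd f gs ⁻¹ᵁ ⊤
    refine (injective_iff_map_eq_zero _).mp (h s O) c ?_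
    refine res_eq_zero_of_smul (inf_le_left : O ⊓ f.fiberι s ⁻¹ᵁ U ≤ O) c
      (fun b : G => (pullback.fst f gs).appLE Ω O inf_le_left b.1) (fun y hy => ?_) fun b => ?_
    · obtain ⟨b, hbU, hyb⟩ := hΩ.exists_basicOpen_le (V := U) ⟨pullback.fst f gs y, hy.2⟩ hy.1.1
      refine ⟨⟨b, hbU⟩, ?_⟩
      rw [Scheme.basicOpen_appLE]
      exact ⟨hy.1, hyb⟩
    · exact E.injective ((hE b.1 c).trans ((hc b.1 b.2).trans (map_zero E).symm))
  obtain ⟨m, gen, hgG, hkey⟩ := exists_smul_eq_zero P G hfib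
  letI : Algebra Γ(S, U₀) Γ(S', W) := (g.appLE U₀ W eW).hom.toAlgebra
  -- the chart
  obtain ⟨hO, E, hE⟩ := exists_chart_equiv (IsPullback.of_hasPullback f g) F hU₀ hΩ hW eΩ eW
  let O := pullback.fst f g ⁻¹ᵁ Ω ⊓ pullback.snd f g ⁻¹ᵁ W
  have hxO : x' ∈ O := ⟨hxΩ, hxW⟩
  obtain ⟨r, hrV, hxr⟩ := hO.exists_basicOpen_le ⟨x', hx'⟩ hxO
  have hloc := isLocAt_of_isQuasicoherent F' hO
  obtain ⟨n, t₁, ht₁⟩ := hloc.exists_of r (res F' hrV t)
  let β : Γ(X, Ω) → Γ(pullback f g, O) := fun b => (pullback.fst f g).appLE Ω O inf_le_left b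
  have hkill : ∀ j, ∃ k : ℕ, (β (gen j) * r) ^ k • t₁ = 0 := fun j => by
    refine hloc.eq_zero_of _ t₁ ?_
    refine TopCat.Presheaf.section_ext (F := ⟨_, F'.isSheaf⟩) _ _ _ fun y hy => ?_
    show germM F' _ y hy (res F' _ t₁) = germM F' _ y hy 0
    rw [germM_res, germM_zero]
    rw [Scheme.basicOpen_mul] at hy
    have hy1 : y ∈ (pullback f g).basicOpen (β (gen j)) := hy.1
    rw [Scheme.basicOpen_appLE] at hy1
    have hyU : y ∈ V ⊓ pullback.fst f g ⁻¹ᵁ U := ⟨hrV hy.2, hgG j hy1.2⟩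
    have h0 : germM F' V y (hrV hy.2) t = 0 := by
      have := congrArg (germM F' _ y hyU) ht
      rwa [germM_res, germM_zero] at this
    have := congrArg (germM F' _ y hy.2) ht₁
    rw [germM_res, germM_smul, germM_res, h0, smul_zero] at this
    exact this
  choose k hk using hkill
  let N := Finset.univ.sup k
  have hk' : ∀ j, β (gen j ^ N) • r ^ N • t₁ = 0 := fun j => by
    obtain ⟨a, ha⟩ := Nat.exists_eq_add_of_le (Finset.le_sup (f := k) (Finset.mem_univ j))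
    show ((pullback.fst f g).appLE Ω O inf_le_left (gen j ^ N)) • r ^ N • t₁ = 0
    rw [map_pow, smul_smul, ← mul_pow]
    change (β (gen j) * r) ^ N • t₁ = 0
    rw [show N = a + k j by rw [add_comm]; exact ha, pow_add, mul_smul, hk, smul_zero]
  obtain ⟨e, he, het⟩ := hkey Γ(S', W) (E (r ^ N • t₁)) fun j => ⟨N, by rw [← hE, hk', map_zero]⟩
  have h0 : β e • r ^ N • t₁ = 0 := E.injective (by rw [hE, het, map_zero])
  have hxe : x' ∈ (pullback f g).basicOpen (β e) := by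
    rw [Scheme.basicOpen_appLE]
    refine ⟨hxO, ?_⟩
    show pullback.fst f g x' ∈ X.basicOpen e
    rw [← hP]
    show P ∈ hΩ.fromSpec ⁻¹ᵁ X.basicOpen e
    rw [hΩ.fromSpec_preimage_basicOpen]
    exact he
  have h1 := congrArg (germM F' O x' hxO) h0
  rw [germM_smul, germM_smul, germM_zero] at h1
  have hur := isUnit_germ (U := O) hxr
  rw [(isUnit_germ hxe).smul_eq_zero, map_pow, (hur.pow N).smul_eq_zero] at h1
  have h2 := congrArg (germM F' _ x' hxr) ht₁
  rw [germM_res, germM_smul, germM_res, h1, map_pow, germ_resO] at h2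
  exact ((hur.pow n).smul_eq_zero).mp h2.symm

end Groth.Agent.E4O
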