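import Groth.Agent.E4O.JacobsonDim

/-!
Local dimension of closed subsets of Jacobson schemes with a dimension function vanishing at closed
points (EGA IV 10.6).
-/

set_option autoImplicit false
set_option linter.style.haveILetI false
universe u

open CategoryTheory AlgebraicGeometry TopologicalSpace
open Groth.Agent.Cyc90

namespace Groth.Agent.E4O

variable {X : Scheme.{u}} {δ : X → ℤ}

/-- Dimension is unchanged by the inclusion of a subspace. -/
theorem dim_image_val {α : Type*} [TopologicalSpace α] {Y : Set α} (C : Set ↥Y) :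
    topologicalKrullDim ↥(Subtype.val '' C) = topologicalKrullDim ↥C := by
  have he : Topology.IsEmbedding (fun c : C => (c.1.1 : α)) :=
    Topology.IsEmbedding.subtypeVal.comp Topology.IsEmbedding.subtypeVal
  have hr : Set.range (fun c : C => (c.1.1 : α)) = Subtype.val '' C := by
    ext a
    exact ⟨fun ⟨c, hc⟩ => ⟨c.1, c.2, hc⟩, fun ⟨c, hc, e⟩ => ⟨⟨c, hc⟩, e⟩⟩
  rw [← hr]
  exact (IsHomeomorph.topologicalKrullDim_eq _ he.toHomeomorph.isHomeomorph).symm

/-- A nonempty locally closed trace of a closure contains a closed point. -/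
theorem exists_closed_in_open [JacobsonSpace X] {U : Set X} (hU : IsOpen U) {η : X} (hη : η ∈ U) :
    ∃ c ∈ U, η ⤳ c ∧ IsClosed ({c} : Set X) := by
  obtain ⟨c, ⟨hcU, hc⟩, hcc⟩ := nonempty_inter_closedPoints (Z := U ∩ closure ({η} : Set X))
    ⟨η, hη, subset_closure rfl⟩ (hU.isLocallyClosed.inter isClosed_closure.isLocallyClosed)
  exact ⟨c, hcU, specializes_iff_mem_closure.2 hc, hcc⟩

/-- Among the generizations of a point in a set, one maximises the dimension function. -/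
theorem exists_max_delta [IsLocallyNoetherian X] (h : Cyc.IsDimFun X δ) (Y : Set X) (x : X) (hx : x ∈ Y) :
    ∃ η₀ ∈ Y, η₀ ⤳ x ∧ ∀ t ∈ Y, t ⤳ x → δ t ≤ δ η₀ := by
  obtain ⟨n, hn⟩ : ∃ n : ℕ, ∀ t : X, t ⤳ x → δ t - δ x ≤ n := by
    obtain ⟨n, hn⟩ := ENat.ne_top_iff_exists.mp (Ideal.height_ne_top
      (I := IsLocalRing.maximalIdeal (X.presheaf.stalk x)) (IsLocalRing.maximalIdeal.isMaximal _).ne_top)
    refine ⟨n, fun t ht => ?_⟩
    obtain ⟨s, -, hs⟩ := exists_series h ht
    have h1 : (s.length : WithBot ℕ∞) ≤ ringKrullDim (X.presheaf.stalk x) := Order.LTSeries.length_le_krullDim s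
    rw [← IsLocalRing.maximalIdeal_height_eq_ringKrullDim, ← hn] at h1
    have : s.length ≤ n := by exact_mod_cast h1
    omega
  let P : ℕ → Prop := fun k => ∃ t ∈ Y, t ⤳ x ∧ δ t - δ x = k
  classical
  have hex : P 0 := ⟨x, hx, specializes_rfl, by simp⟩
  obtain ⟨η₀, hY, hsp, he⟩ := Nat.findGreatest_spec (P := P) (n := n) (Nat.zero_le n) hex
  refine ⟨η₀, hY, hsp, fun t ht htx => ?_⟩
  have h0 := delta_le h htx
  have h1 : (δ t - δ x).toNat ≤ Nat.findGreatest P n := Nat.le_findGreatest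
    (by have := hn t htx; omega) ⟨t, ht, htx, by omega⟩
  omega

variable [IsLocallyNoetherian X] [JacobsonSpace X] (h : Cyc.IsDimFun X δ)
  (h0 : ∀ x : X, IsClosed ({x} : Set X) → δ x = 0)

include h h0 in
theorem delta_le_dim_inter {U : Set X} (hU : IsOpen U) {Y : Set X} (hY : IsClosed Y) {η : X} (hηU : η ∈ U)
    (hηY : η ∈ Y) : ((δ η).toNat : WithBot ℕ∞) ≤ topologicalKrullDim ↥(U ∩ Y) := by
  obtain ⟨c, hcU, hηc, hc⟩ := exists_closed_in_open hU hηU
  have := delta_sub_le_dim h (U ∩ Y) hηc fun t h1 h2 => ⟨h2.mem_open hU hcU, h1.mem_closed hY hηY⟩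
  rwa [h0 c hc, sub_zero] at this

include h h0 in
/-- Dimension of a dense open. -/
theorem dim_eq_of_dense_open (U : Set X) (hU : IsOpen U) (hd : Dense U) :
    topologicalKrullDim ↥U = topologicalKrullDim X := by
  refine le_antisymm (topologicalKrullDim_subspace_le X U) ?_
  have h1 : topologicalKrullDim X ≤ topologicalKrullDim ↥(Set.univ : Set X) :=
    le_of_eq (IsHomeomorph.topologicalKrullDim_eq _ (Homeomorph.Set.univ X).symm.isHomeomorph)
  refine h1.trans (dim_le_of_delta h Set.univ 0 _ (fun w _ => delta_nonneg h h0 w) fun p _ _ => ?_)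
  obtain ⟨η, hηp, hη⟩ := exists_component_generic_jac p
  have hmax : ∀ t : X, t ⤳ η → η ⤳ t := fun t ht => specializes_iff_mem_closure.2
    (hη.2 isIrreducible_singleton.closure ht.closure_subset (subset_closure rfl))
  have h2 := delta_le_dim_inter h h0 hU isClosed_univ (mem_of_dense_of_maximal hU hd hmax) (Set.mem_univ η)
  rw [Set.inter_univ] at h2
  refine le_trans ?_ h2
  have := delta_le h hηp
  exact_mod_cast (show (δ p - 0).toNat ≤ (δ η).toNat by omega)

include h h0 in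
/-- The local dimension of a closed subset and the dimensions attached to a point of it. -/
theorem exists_localDim_data (Y : Set X) (hY : IsClosed Y) (x : X) (hx : x ∈ Y) :
    ∃ N M : ℕ, topologicalKrullDim ↥(closure ({x} : Set X)) = (N : WithBot ℕ∞) ∧
      topologicalKrullDim ↥{t : X | t ∈ Y ∧ t ⤳ x} = (M : WithBot ℕ∞) ∧
      FlatMor.localDim ↥Y ⟨x, hx⟩ = ((N + M : ℕ) : WithBot ℕ∞) ∧
      (⨆ C ∈ {C : Set ↥Y | C ∈ irreducibleComponents ↥Y ∧ (⟨x, hx⟩ : ↥Y) ∈ C}, topologicalKrullDim ↥C) =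
        ((N + M : ℕ) : WithBot ℕ∞) ∧
      ∀ U : Set X, IsOpen U → x ∈ U →
        (∀ C ∈ irreducibleComponents ↥Y, (⟨x, hx⟩ : ↥Y) ∉ C → Disjoint (Subtype.val ⁻¹' U) C) →
        topologicalKrullDim ↥(U ∩ Y) = ((N + M : ℕ) : WithBot ℕ∞) := by
  obtain ⟨η₀, hη₀Y, hη₀, hmax⟩ := exists_max_delta h Y x hx
  have hxn := delta_nonneg h h0 x
  have hηx := delta_le h hη₀
  have hsum : (δ x).toNat + (δ η₀ - δ x).toNat = (δ η₀).toNat := by omega
  refine ⟨(δ x).toNat, (δ η₀ - δ x).toNat, topologicalKrullDim_closure h h0 x, ?_, ?_, ?_, ?_⟩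
  · refine le_antisymm (dim_le_of_delta h _ (δ x) _ (fun w hw => delta_le h hw.2) fun p hp ⟨w, hw, hpw⟩ => ?_)
      (delta_sub_le_dim h _ hη₀ fun t h1 h2 => ⟨h1.mem_closed hY hη₀Y, h2⟩)
    have := hmax p (closure_minimal (fun t ht => ht.1) hY hp) (hpw.trans hw.2)
    exact_mod_cast (show (δ p - δ x).toNat ≤ (δ η₀ - δ x).toNat by omega)
  · rw [hsum]
    refine le_antisymm ?_ (le_iInf fun U => ?_)
    · obtain ⟨V, hV, hxV, -⟩ := exists_isAffineOpen_mem_and_subset (X := X) (x := x) (U := ⊤) trivial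
      haveI : IsNoetherianRing Γ(X, V) := IsLocallyNoetherian.component_noetherian ⟨V, hV⟩
      let e := hV.fromSpec
      obtain ⟨𝒞, hfin, hcl, hirr, heq⟩ :=
        NoetherianSpace.exists_finite_set_isClosed_irreducible (hY.preimage e.continuous)
      let bad : Set (Spec Γ(X, V)) := ⋃₀ {C ∈ 𝒞 | hV.primeIdealOf ⟨x, hxV⟩ ∉ C}
      have hbad : IsClosed bad := by
        show IsClosed (⋃₀ _)
        rw [Set.sUnion_eq_biUnion]
        exact Set.Finite.isClosed_biUnion (hfin.subset (Set.sep_subset _ _)) fun C hC => hcl C hC.1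
      have hxU : x ∈ e '' badᶜ := ⟨hV.primeIdealOf ⟨x, hxV⟩,
        fun ⟨C, hC, hxC⟩ => hC.2 hxC, hV.fromSpec_primeIdealOf _⟩
      have hU : IsOpen (e '' badᶜ) := e.isOpenEmbedding.isOpenMap _ hbad.isOpen_compl
      refine (TopDim50.localDim_le (⟨Subtype.val ⁻¹' (e '' badᶜ), hU.preimage continuous_subtype_val⟩ : Opens ↥Y)
        hxU).trans ?_
      rw [← dim_image_val]
      refine dim_le_of_delta h _ 0 _ (fun w _ => delta_nonneg h h0 w) fun p hp ⟨w, hw, hpw⟩ => ?_
      obtain ⟨⟨w', hwY⟩, hwU, rfl⟩ := hw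
      have hpU : p ∈ e '' badᶜ := hpw.mem_open hU hwU
      have hpY : p ∈ Y := closure_minimal (by rintro _ ⟨a, -, rfl⟩; exact a.2) hY hp
      obtain ⟨q, hq, rfl⟩ := hpU
      obtain ⟨C, hC, hqC⟩ := (heq.le hpY : q ∈ ⋃₀ 𝒞)
      have hxC : hV.primeIdealOf ⟨x, hxV⟩ ∈ C := by
        by_contra hne
        exact hq ⟨C, ⟨hC, hne⟩, hqC⟩
      obtain ⟨ξ, hξ⟩ := QuasiSober.sober (hirr C hC) (hcl C hC)
      have h1 : e ξ ∈ Y := (heq.ge ⟨C, hC, hξ.mem⟩ : ξ ∈ e ⁻¹' Y)
      have h2 : e ξ ⤳ x := by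
        have := (hξ.specializes hxC).map e.continuous
        rwa [hV.fromSpec_primeIdealOf] at this
      have h3 := delta_le h ((hξ.specializes hqC).map e.continuous)
      have h4 := hmax _ h1 h2
      exact_mod_cast (show (δ (e q) - 0).toNat ≤ (δ η₀).toNat from Int.toNat_le_toNat (by linarith))
    · obtain ⟨O, hO, hOU⟩ := isOpen_induced_iff.1 U.1.isOpen
      have h1 : Subtype.val '' (U.1 : Set ↥Y) = O ∩ Y := by
        rw [← hOU, Subtype.image_preimage_coe, Set.inter_comm]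
      rw [← dim_image_val, h1]
      exact delta_le_dim_inter h h0 hO hY (hη₀.mem_open hO (hOU.ge U.2)) hη₀Y
  · rw [hsum]
    have hdim : ∀ η : ↥Y, topologicalKrullDim ↥(closure ({η} : Set ↥Y)) = ((δ η.1).toNat : WithBot ℕ∞) := fun η => by
      rw [← dim_image_val, ← hY.isClosedEmbedding_subtypeVal.closure_image_eq, Set.image_singleton,
        topologicalKrullDim_closure h h0]
    haveI : QuasiSober ↥Y := hY.isClosedEmbedding_subtypeVal.quasiSober
    refine le_antisymm (iSup₂_le fun C hC => ?_) ?_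
    · obtain ⟨η, hη⟩ := QuasiSober.sober hC.1.1 (isClosed_of_mem_irreducibleComponents C hC.1)
      rw [← hη.def, hdim]
      have := hmax η.1 η.2 ((hη.specializes hC.2).map continuous_subtype_val)
      exact_mod_cast Int.toNat_le_toNat this
    · obtain ⟨η, hη, hηC⟩ := exists_component_generic_of_closed hY ⟨η₀, hη₀Y⟩
      have hx' : (⟨η₀, hη₀Y⟩ : ↥Y) ⤳ ⟨x, hx⟩ := Topology.IsEmbedding.subtypeVal.isInducing.specializes_iff.1 hη₀
      refine le_iSup₂_of_le (closure {η}) ⟨hηC, (hη.trans hx').mem_closure⟩ ?_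
      rw [hdim]
      exact_mod_cast Int.toNat_le_toNat (delta_le h (hη.map continuous_subtype_val))
  · intro U hU hxU hcomp
    rw [hsum]
    refine le_antisymm (dim_le_of_delta h _ 0 _ (fun w _ => delta_nonneg h h0 w) fun p hp ⟨w, hw, hpw⟩ => ?_)
      (delta_le_dim_inter h h0 hU hY (hη₀.mem_open hU hxU) hη₀Y)
    have hpY : p ∈ Y := closure_minimal Set.inter_subset_right hY hp
    obtain ⟨η, hη, hηC⟩ := exists_component_generic_of_closed hY ⟨p, hpY⟩
    have hxC : (⟨x, hx⟩ : ↥Y) ∈ closure ({η} : Set ↥Y) := by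
      by_contra hne
      exact Set.disjoint_left.1 (hcomp _ hηC hne) (show (⟨p, hpY⟩ : ↥Y).1 ∈ U from hpw.mem_open hU hw.1) hη.mem_closure
    have h1 := hmax η.1 η.2 ((specializes_iff_mem_closure.2 hxC).map continuous_subtype_val)
    have h2 := delta_le h (hη.map continuous_subtype_val)
    exact_mod_cast (show (δ p - 0).toNat ≤ (δ η₀).toNat from Int.toNat_le_toNat (by linarith))

end Groth.Agent.E4O
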