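import Groth.Agent.E4O.FibreSets
import Groth.Agent.E4O.UnivOpenFT
import Groth.Agent.Ega11.PointDim
import Mathlib.AlgebraicGeometry.Morphisms.UniversallyOpen
import Mathlib.AlgebraicGeometry.IdealSheaf.Subscheme

/-!
Invariance of `fdeg` under base change, and closed subsets of fibres.
-/

universe u

open CategoryTheory AlgebraicGeometry Limits TopologicalSpace Topology
open scoped TensorProduct

namespace Groth.Agent.E4O

/-- A residue extension of a base change is generated by the original one. -/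
theorem trdeg_tensor_quotient_le {A B A' : Type u} [CommRing A] [CommRing B] [CommRing A']
    [Algebra A B] [Algebra A A'] (w : Ideal (B ⊗[A] A')) [w.IsPrime]
    (q : Ideal B) [q.IsPrime] (hq : w.comap Algebra.TensorProduct.includeLeftRingHom = q)
    (p' : Ideal A') [p'.IsPrime]
    (hp' : w.comap (Algebra.TensorProduct.includeRight : A' →ₐ[A] B ⊗[A] A').toRingHom = p') :
    letI : Algebra A' (B ⊗[A] A') :=
      (Algebra.TensorProduct.includeRight : A' →ₐ[A] B ⊗[A] A').toRingHom.toAlgebra
    haveI : w.LiesOver p' := ⟨hp'.symm⟩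
    Algebra.trdeg (A' ⧸ p') ((B ⊗[A] A') ⧸ w) ≤ Algebra.trdeg (A ⧸ q.under A) (B ⧸ q) := by
  let S := B ⊗[A] A'
  let ι' : A' →+* S := (Algebra.TensorProduct.includeRight : A' →ₐ[A] B ⊗[A] A').toRingHom
  let _ : Algebra A' S := ι'.toAlgebra
  have : w.LiesOver p' := ⟨hp'.symm⟩
  let V := A' ⧸ p'
  let D := S ⧸ w
  have hinjD : Function.Injective (algebraMap V D) := Ideal.quotientMap_injective' hp'.le
  have : FaithfulSMul V D := (faithfulSMul_iff_algebraMap_injective _ _).2 hinjD
  have hpA : q.under A = p'.under A := by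
    rw [Ideal.under_def, Ideal.under_def, ← hq, ← hp', Ideal.comap_comap, Ideal.comap_comap]
    exact congrArg (fun k => Ideal.comap k w) (RingHom.ext fun a =>
      ((Algebra.TensorProduct.includeRight : A' →ₐ[A] B ⊗[A] A').commutes a).symm)
  have : FaithfulSMul (A ⧸ q.under A) (B ⧸ q) := (faithfulSMul_iff_algebraMap_injective _ _).2
    Ideal.algebraMap_quotient_injective
  obtain ⟨κ, y, hy⟩ := exists_isTranscendenceBasis' (A ⧸ q.under A) (B ⧸ q)
  let φ : B ⧸ q →+* D := Ideal.quotientMap w Algebra.TensorProduct.includeLeftRingHom hq.ge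
  have hφ : Function.Injective φ := Ideal.quotientMap_injective' hq.le
  let jV : A ⧸ q.under A →+* V := Ideal.quotientMap p' (algebraMap A A') hpA.le
  have hsq : φ.comp (algebraMap (A ⧸ q.under A) (B ⧸ q)) = (algebraMap V D).comp jV := by
    refine Ideal.Quotient.ringHom_ext (RingHom.ext fun a => ?_)
    show Ideal.Quotient.mk w (algebraMap A B a ⊗ₜ[A] 1) = Ideal.Quotient.mk w (1 ⊗ₜ[A] algebraMap A A' a)
    rw [Algebra.algebraMap_eq_smul_one, TensorProduct.smul_tmul, ← Algebra.algebraMap_eq_smul_one]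
  let K : Subalgebra V D := Algebra.adjoin V (Set.range (φ ∘ y))
  have hKalg : ∀ e : B ⧸ q, IsAlgebraic K (φ e) := fun e => by
    have h0 := hy.isAlgebraic.isAlgebraic e
    let L := Algebra.adjoin (A ⧸ q.under A) (Set.range y)
    have hL : ∀ z : L, φ z.1 ∈ K := fun ⟨z, hz⟩ => by
      refine Algebra.adjoin_induction (p := fun z _ => φ z ∈ K) ?_ (fun a => ?_)
        (fun _ _ _ _ h1 h2 => by rw [map_add]; exact add_mem h1 h2)
        (fun _ _ _ _ h1 h2 => by rw [map_mul]; exact mul_mem h1 h2) hz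
      · rintro _ ⟨i, rfl⟩
        exact Algebra.subset_adjoin ⟨i, rfl⟩
      · rw [show φ (algebraMap _ (B ⧸ q) a) = algebraMap V D (jV a) from congr($hsq a)]
        exact K.algebraMap_mem _
    let ψL : L →+* K := (φ.comp L.val.toRingHom).codRestrict K hL
    refine h0.ringHom_of_comp_eq ψL φ ?_ rfl
    intro a b hab
    exact Subtype.ext (hφ (congrArg Subtype.val hab))
  have : IsDomain D := inferInstance
  have halg : Algebra.IsAlgebraic K D := by
    refine ⟨fun d => ?_⟩
    obtain ⟨d, rfl⟩ := Ideal.Quotient.mk_surjective d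
    induction d using TensorProduct.induction_on with
    | zero => rw [map_zero]; exact isAlgebraic_zero
    | tmul b v =>
      have h1 : Ideal.Quotient.mk w (b ⊗ₜ[A] v) =
          φ (Ideal.Quotient.mk q b) * algebraMap K D (algebraMap V K (Ideal.Quotient.mk p' v)) := by
        show _ = Ideal.Quotient.mk w (b ⊗ₜ[A] 1) * Ideal.Quotient.mk w (1 ⊗ₜ[A] v)
        rw [← map_mul, Algebra.TensorProduct.tmul_mul_tmul, mul_one, one_mul]
      rw [h1]
      exact (hKalg _).mul (isAlgebraic_algebraMap _)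
    | add a b ha hb => rw [map_add]; exact ha.add hb
  calc Algebra.trdeg V D ≤ Cardinal.mk ↥(Set.range (φ ∘ y)) :=
        Algebra.IsAlgebraic.trdeg_le_cardinalMk V _
    _ ≤ Cardinal.mk κ := Cardinal.mk_range_le
    _ = _ := hy.cardinalMk_eq_trdeg

variable {P X Y Y' : Scheme.{u}} {p : P ⟶ X} {q : P ⟶ Y'} {f : X ⟶ Y} {g : Y' ⟶ Y}

/-- `fdeg` does not increase under base change. -/
theorem fdeg_le_of_isPullback [LocallyOfFiniteType f] (hsq : IsPullback p q f g) (a : P) :
    fdeg q a ≤ fdeg f (p a) := by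
  have : LocallyOfFiniteType q := MorphismProperty.of_isPullback hsq inferInstance
  obtain ⟨C, ⟨b, hb⟩, -⟩ := exists_chart f (p a)
  have hga : g (q a) ∈ Set.range C.j := by
    refine ⟨PrimeSpectrum.comap (algebraMap C.A C.B) b, ?_⟩
    show C.ptY _ = _
    rw [← C.apply, hb, ← Scheme.Hom.comp_apply, hsq.w, Scheme.Hom.comp_apply]
  obtain ⟨_, ⟨W, hW, rfl⟩, haW, hWsub⟩ :=
    Y'.isBasis_affineOpens.exists_subset_of_mem_open (show q a ∈ g ⁻¹' Set.range C.j from hga)
      (C.j.isOpenEmbedding.isOpen_range.preimage g.continuous)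
  replace hW : IsAffineOpen W := hW
  have := hW.isOpenImmersion_fromSpec
  let v : Spec Γ(Y', W) ⟶ Spec (CommRingCat.of C.A) :=
    IsOpenImmersion.lift C.j (hW.fromSpec ≫ g) (by
      rintro _ ⟨t, rfl⟩
      exact hWsub (hW.range_fromSpec.le ⟨t, rfl⟩))
  have hv : v ≫ C.j = hW.fromSpec ≫ g := IsOpenImmersion.lift_fac _ _ _
  obtain ⟨φ, hφ⟩ := Spec.map_surjective v
  let _ : Algebra C.A Γ(Y', W) := φ.hom.toAlgebra
  have hj : hW.fromSpec ≫ g = Spec.map (CommRingCat.ofHom (algebraMap C.A Γ(Y', W))) ≫ C.j := by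
    rw [← hv, ← hφ]
    rfl
  obtain ⟨e, he, he1, he2, her⟩ := exists_tensor_chart f g C.e hW.fromSpec C.j C.comm hj
  let i := hsq.isoPullback
  have hi1 : pullback.fst f g (i.hom a) = p a := by
    rw [← Scheme.Hom.comp_apply, IsPullback.isoPullback_hom_fst]
  have hi2 : pullback.snd f g (i.hom a) = q a := by
    rw [← Scheme.Hom.comp_apply, IsPullback.isoPullback_hom_snd]
  obtain ⟨zc, hzc⟩ : i.hom a ∈ Set.range e := by
    rw [her]
    exact ⟨⟨b, hb.trans hi1.symm⟩, by rw [Set.mem_preimage, hi2, hW.range_fromSpec]; exact haW⟩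
  let S := C.B ⊗[C.A] Γ(Y', W)
  let ι' : Γ(Y', W) →+* S :=
    (Algebra.TensorProduct.includeRight : Γ(Y', W) →ₐ[C.A] C.B ⊗[C.A] Γ(Y', W)).toRingHom
  let _ : Algebra Γ(Y', W) S := ι'.toAlgebra
  have hft : Algebra.FiniteType Γ(Y', W) S := by
    let c : Γ(Y', W) ⊗[C.A] C.B →ₐ[Γ(Y', W)] S :=
      { toRingHom := (Algebra.TensorProduct.comm C.A Γ(Y', W) C.B).toRingEquiv.toRingHom
        commutes' := fun r => rfl }
    exact Algebra.FiniteType.of_surjective c (Algebra.TensorProduct.comm C.A Γ(Y', W) C.B).surjective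
  let C' : Chart q :=
    { A := Γ(Y', W), B := S, e := e ≫ i.inv, j := hW.fromSpec
      comm := by
        rw [Category.assoc, IsPullback.isoPullback_inv_snd, he2] }
  have ha' : C'.pt zc = a := by
    show (e ≫ i.inv) zc = a
    rw [Scheme.Hom.comp_apply, hzc, ← Scheme.Hom.comp_apply, Iso.hom_inv_id]
    rfl
  have hzb : PrimeSpectrum.comap Algebra.TensorProduct.includeLeftRingHom zc = b := by
    refine C.isOpenEmbedding_pt.injective ?_
    rw [hb, ← hi1, ← hzc, ← Scheme.Hom.comp_apply, he1]
    rfl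
  have zcp : (PrimeSpectrum.asIdeal (R := S) zc).IsPrime := (zc : PrimeSpectrum S).2
  have key := trdeg_tensor_quotient_le (A := C.A) (B := C.B) (A' := Γ(Y', W))
    (PrimeSpectrum.asIdeal (R := S) zc) b.asIdeal (congrArg PrimeSpectrum.asIdeal hzb)
    ((PrimeSpectrum.asIdeal (R := S) zc).comap ι') rfl
  rw [C.trdeg_eq_fdeg, hb] at key
  have h1 : (fdeg q (C'.pt zc) : Cardinal.{u}) ≤ (fdeg f (p a) : Cardinal.{u}) :=
    (C'.trdeg_eq_fdeg zc).symm.trans_le key
  rw [ha'] at h1
  exact_mod_cast h1

/-- The dimension of a closed subset of a fibre is bounded by the `fdeg` of its points. -/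
theorem dim_fibre_inter_closed_le (f : X ⟶ Y) [LocallyOfFiniteType f] (y : Y) {K : Set X}
    (hK : IsClosed K) {c : WithBot ℕ∞}
    (h : ∀ x ∈ K, f x = y → ((fdeg f x : ℕ) : WithBot ℕ∞) ≤ c) :
    topologicalKrullDim ↥(f ⁻¹' {y} ∩ K) ≤ c := by
  let K' : Set ↥(f.fiber y) := f.fiberι y ⁻¹' K
  have hK' : IsClosed K' := hK.preimage (f.fiberι y).continuous
  rw [Set.inter_comm, ← f.range_fiberι, ← dim_preimage_of_isEmbedding (isEmbedding_fiberι f y)]
  have : QuasiSober ↥K' := hK'.isClosedEmbedding_subtypeVal.quasiSober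
  rw [TopDim50.dim_eq_iSup_irreducibleComponents]
  refine iSup₂_le fun T hT => ?_
  obtain ⟨t, rfl, -⟩ := exists_eq_closure_of_mem_irreducibleComponents hT
  refine le_trans ?_ (h _ t.2 (apply_fiberι f y t.1))
  rw [← dim_closure_fiber f y t.1]
  have hsub : closure ({t} : Set ↥K') = Subtype.val ⁻¹' closure {t.1} := by
    rw [IsInducing.subtypeVal.closure_eq_preimage_closure_image, Set.image_singleton]
  rw [hsub, dim_preimage_of_isEmbedding IsEmbedding.subtypeVal]
  exact TopDim50.dim_mono Set.inter_subset_left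

/-- The map of fibres of a base change. -/
theorem exists_fibre_map_flat (hsq : IsPullback p q f g) (y' : Y') :
    ∃ m : q.fiber y' ⟶ f.fiber (g y'), Flat m ∧ IsOpenMap m ∧ Function.Surjective m ∧
      ∀ a, f.fiberι (g y') (m a) = p (q.fiberι y' a) := by
  let m : q.fiber y' ⟶ f.fiber (g y') := pullback.lift (q.fiberι y' ≫ p)
    (q.fiberToSpecResidueField y' ≫ Spec.map (g.residueFieldMap y')) (by
      show (pullback.fst _ _ ≫ p) ≫ f = (pullback.snd _ _ ≫ _) ≫ _
      rw [Category.assoc, Category.assoc, hsq.w, pullback.condition_assoc,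
        Scheme.Hom.SpecMap_residueFieldMap_fromSpecResidueField])
  have hm : IsPullback m (q.fiberToSpecResidueField y') (f.fiberToSpecResidueField (g y'))
      (Spec.map (g.residueFieldMap y')) := by
    refine IsPullback.of_right ?_ (pullback.lift_snd _ _ _) (IsPullback.of_hasPullback f _)
    erw [pullback.lift_fst, Scheme.Hom.SpecMap_residueFieldMap_fromSpecResidueField]
    exact (IsPullback.of_hasPullback q (Y'.fromSpecResidueField y')).paste_horiz hsq
  have hflat : Flat m := MorphismProperty.of_isPullback (P := @Flat) hm.flip inferInstance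
  have : UniversallyOpen m := MorphismProperty.of_isPullback hm.flip inferInstance
  have hsurj : Surjective (Spec.map (g.residueFieldMap y')) :=
    ⟨fun x => ⟨IsLocalRing.closedPoint _,
      Subsingleton.elim (α := PrimeSpectrum (Y.residueField (g y'))) _ x⟩⟩
  have : Surjective m := MorphismProperty.of_isPullback hm.flip hsurj
  exact ⟨m, hflat, m.isOpenMap, m.surjective, fun a => ((Scheme.Hom.comp_apply m _ a).symm.trans
    (congrArg (fun k : q.fiber y' ⟶ X => k a) (pullback.lift_fst _ _ _))).trans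
    (Scheme.Hom.comp_apply _ _ a)⟩

/-- A point of the base change over a given point, with the same `fdeg`. -/
theorem exists_fdeg_eq_of_isPullback [LocallyOfFiniteType f] (hsq : IsPullback p q f g) (x : X)
    (y' : Y') (h : f x = g y') : ∃ a : P, p a = x ∧ q a = y' ∧ fdeg q a = fdeg f x := by
  have : LocallyOfFiniteType q := MorphismProperty.of_isPullback hsq inferInstance
  obtain ⟨m, hflat, -, hms, hm⟩ := exists_fibre_map_flat hsq y'
  obtain ⟨z, rfl⟩ := exists_fiberι_eq f h
  let W : Set ↥(q.fiber y') := m ⁻¹' closure {z}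
  let r : W → ↥(closure ({z} : Set ↥(f.fiber (g y')))) := fun w => ⟨m w.1, w.2⟩
  have hrs : Function.Surjective r := fun t => by
    obtain ⟨w, hw⟩ := hms t.1
    exact ⟨⟨w, show m w ∈ closure {z} from hw.symm ▸ t.2⟩, Subtype.ext hw⟩
  have hrg : GeneralizingMap r := fun w t ht => by
    obtain ⟨w', hw', hw't⟩ := Flat.generalizingMap m (a := w.1) (b := t.1)
      ((subtype_specializes_iff _ _).1 ht)
    exact ⟨⟨w', show m w' ∈ closure {z} from hw't.symm ▸ t.2⟩,
      (subtype_specializes_iff _ _).2 hw', Subtype.ext hw't⟩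
  have : QuasiSober ↥(closure ({z} : Set ↥(f.fiber (g y')))) :=
    isClosed_closure.isClosedEmbedding_subtypeVal.quasiSober
  have hle := Ega11.PointDim.dim_le_of_lift hrs (Or.inr hrg)
  rw [dim_closure_fiber] at hle
  have hW : topologicalKrullDim ↥(q ⁻¹' {y'} ∩ q.fiberι y' '' W) = topologicalKrullDim ↥W := by
    rw [Set.inter_comm, ← q.range_fiberι, ← dim_preimage_of_isEmbedding (isEmbedding_fiberι q y'),
      Set.preimage_image_eq _ (isEmbedding_fiberι q y').injective]
  rw [← hW] at hle
  let K : Set P := closure (q.fiberι y' '' W)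
  have hKW : ∀ w, q.fiberι y' w ∈ K → w ∈ W := fun w hw => by
    have hWc : IsClosed W := isClosed_closure.preimage m.continuous
    have : w ∈ closure W := by
      rw [(isEmbedding_fiberι q y').isInducing.closure_eq_preimage_closure_image]
      exact hw
    rwa [hWc.closure_eq] at this
  by_contra hne
  push Not at hne
  have hlt : ∀ a ∈ K, q a = y' → fdeg q a < fdeg f (f.fiberι (g y') z) := by
    intro a ha hqa
    obtain ⟨w, rfl⟩ := exists_fiberι_eq q hqa
    have hzw : f.fiberι (g y') z ⤳ p (q.fiberι y' w) := by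
      rw [← hm w]
      exact (specializes_fiberι_iff f _ _ _).2 (specializes_iff_mem_closure.2 (hKW w ha))
    have hsame : f (f.fiberι (g y') z) = f (p (q.fiberι y' w)) := by
      rw [← hm w, apply_fiberι, apply_fiberι]
    have h1 := fdeg_le_of_isPullback hsq (q.fiberι y' w)
    rcases eq_or_ne (f.fiberι (g y') z) (p (q.fiberι y' w)) with heq | hne'
    · exact lt_of_le_of_ne (heq ▸ h1) (hne _ heq.symm hqa)
    · exact h1.trans_lt (fdeg_lt hzw hsame hne')
  cases hn : fdeg f (f.fiberι (g y') z) with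
  | zero =>
    obtain ⟨w, hw⟩ := hrs ⟨z, subset_closure rfl⟩
    have := hlt (q.fiberι y' w.1) (subset_closure ⟨w.1, w.2, rfl⟩) (apply_fiberι q y' w.1)
    omega
  | succ n =>
    have h2 : topologicalKrullDim ↥(q ⁻¹' {y'} ∩ q.fiberι y' '' W) ≤ (n : ℕ) := by
      refine le_trans (TopDim50.dim_mono (Set.inter_subset_inter_right _ subset_closure))
        (dim_fibre_inter_closed_le q y' isClosed_closure fun a ha hqa => ?_)
      have := hlt a ha hqa
      exact_mod_cast (by omega : fdeg q a ≤ n)
    rw [hn] at hle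
    have : n + 1 ≤ n := by exact_mod_cast hle.trans h2
    omega

/-- A point in the closure of a subset of a fibre has a generization in that fibre inside the
closure. -/
theorem exists_specializes_mem_closure_of_subset_fibre (f : X ⟶ Y) {y' : Y} {T : Set X}
    (hT : T ⊆ f ⁻¹' {y'}) {x : X} (hx : x ∈ closure T) :
    ∃ w : X, f w = y' ∧ w ⤳ x ∧ w ∈ closure T := by
  let Zc : Closeds X := ⟨closure T, isClosed_closure⟩
  let I := Scheme.IdealSheafData.vanishingIdeal Zc
  have hr : Set.range I.subschemeι = closure T := by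
    rw [Scheme.IdealSheafData.range_subschemeι, Scheme.IdealSheafData.coe_support_vanishingIdeal]
    rfl
  have hemb : IsEmbedding I.subschemeι := I.subschemeι.isClosedEmbedding.isEmbedding
  obtain ⟨x₀, rfl⟩ := hr.ge hx
  have hx₀ : x₀ ∈ closure ((I.subschemeι ≫ f) ⁻¹' {y'}) := by
    have h1 : x₀ ∈ closure (I.subschemeι ⁻¹' T) := by
      rw [hemb.isInducing.closure_eq_preimage_closure_image, Set.image_preimage_eq_inter_range,
        Set.inter_eq_left.2 (subset_closure.trans hr.ge)]
      exact hx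
    exact closure_mono (s := I.subschemeι ⁻¹' T) (fun t ht => hT ht) h1
  obtain ⟨w, hw, hsp⟩ := exists_specializes_of_mem_closure_preimage (I.subschemeι ≫ f) hx₀
  exact ⟨I.subschemeι w, hw, hsp.map I.subschemeι.continuous, hr.le ⟨w, rfl⟩⟩

/-- A valuation ring realizing a specialization. -/
theorem exists_valuationRing_hom {y y' : Y} (h : y' ⤳ y) :
    ∃ (V : Type u) (_ : CommRing V) (_ : IsDomain V) (_ : ValuationRing V)
      (w : Spec (CommRingCat.of V) ⟶ Y),
      w (⟨⊥, Ideal.isPrime_bot⟩ : PrimeSpectrum V) = y' ∧ w (IsLocalRing.closedPoint V) = y := by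
  let r : Y.presheaf.stalk y →+* Y.residueField y' :=
    (Y.residue y').hom.comp (Y.presheaf.stalkSpecializes h).hom
  obtain ⟨W, hW, hWloc⟩ := IsLocalRing.exists_factor_valuationRing r
  let φ : Y.presheaf.stalk y →+* W := r.codRestrict W.toSubring fun z => hW z
  let w : Spec (CommRingCat.of W) ⟶ Y := Spec.map (CommRingCat.ofHom φ) ≫ Y.fromSpecStalk y
  refine ⟨W, inferInstance, inferInstance, inferInstance, w, ?_, ?_⟩
  · let iW : W →+* Y.residueField y' := W.subtype
    have hcomp : (CommRingCat.ofHom φ) ≫ CommRingCat.ofHom iW =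
        Y.presheaf.stalkSpecializes h ≫ Y.residue y' := CommRingCat.hom_ext (RingHom.ext fun z => rfl)
    have h2 : Spec.map (CommRingCat.ofHom iW) ≫ w = Y.fromSpecResidueField y' := by
      rw [← Category.assoc, ← Spec.map_comp, hcomp, Spec.map_comp, Category.assoc,
        Scheme.SpecMap_stalkSpecializes_fromSpecStalk]
      rfl
    let c : Spec (CommRingCat.of (Y.residueField y')) := IsLocalRing.closedPoint (Y.residueField y')
    have h3 := congrArg (fun k : Spec (CommRingCat.of (Y.residueField y')) ⟶ Y => k c) h2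
    refine Eq.trans ?_ (h3.trans (Scheme.fromSpecResidueField_apply y' _))
    show w _ = w (PrimeSpectrum.comap iW (IsLocalRing.closedPoint (Y.residueField y')))
    refine congrArg w (PrimeSpectrum.ext ?_)
    show (⊥ : Ideal W) = (IsLocalRing.maximalIdeal (Y.residueField y')).comap iW
    rw [IsLocalRing.maximalIdeal_eq_bot, ← RingHom.ker_eq_comap_bot,
      (RingHom.injective_iff_ker_eq_bot iW).1 Subtype.val_injective]
  · show (Spec.map (CommRingCat.ofHom φ) ≫ Y.fromSpecStalk y) _ = y
    rw [Scheme.Hom.comp_apply]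
    refine Eq.trans ?_ (Y.fromSpecStalk_closedPoint (x := y))
    refine congrArg (Y.fromSpecStalk y) (PrimeSpectrum.ext ?_)
    exact ((IsLocalRing.local_hom_TFAE φ).out 0 4 rfl rfl).1 hWloc

end Groth.Agent.E4O
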