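import Groth.Agent.VarGal.GeomRed
import Groth.Agent.E4O.FibreComp
import Groth.Agent.E4O.OpenAt
import Groth.Prelude.Def_FDesc
import Mathlib.AlgebraicGeometry.Fiber

/-!
Geometric reducedness of fibres at a point is invariant under base change.
-/

set_option autoImplicit false
set_option linter.style.haveILetI false
universe u

open CategoryTheory CategoryTheory.Limits AlgebraicGeometry

namespace Groth.Agent.E4O

theorem isReduced_stalk_of_isOpenImmersion {A B : Scheme.{u}} (e : A ⟶ B) [IsOpenImmersion e] (a : A) :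
    _root_.IsReduced (A.presheaf.stalk a) ↔ _root_.IsReduced (B.presheaf.stalk (e a)) := by
  let i := (asIso (e.stalkMap a)).commRingCatIsoToRingEquiv
  constructor <;> intro h
  · exact isReduced_of_injective i.toRingHom i.injective
  · exact isReduced_of_injective i.symm.toRingHom i.symm.injective

theorem isGeomReducedAt_of_iso {k : Type u} [Field k] {A B : Scheme.{u}} {f : B ⟶ Spec (CommRingCat.of k)}
    {f' : A ⟶ Spec (CommRingCat.of k)} (e : A ⟶ B) [IsIso e] (he : e ≫ f = f') (a : A)
    (h : FBase.IsGeomReducedAt f (e a)) : FBase.IsGeomReducedAt f' a := by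
  intro K _ _ x' hx'
  let φ : FBase.bc f' K ⟶ FBase.bc f K := pullback.map _ _ _ _ e (𝟙 _) (𝟙 _) (by rw [Category.comp_id, he]) (by simp)
  have : IsIso φ := pullback.map_isIso _ _ _ _ e (𝟙 _) (𝟙 _) _ _
  have hφ : φ ≫ FBase.bcπ f K = FBase.bcπ f' K ≫ e := pullback.lift_fst _ _ _
  refine (isReduced_stalk_of_isOpenImmersion φ x').2 (h K (φ x') ?_)
  rw [← Scheme.Hom.comp_apply, hφ, Scheme.Hom.comp_apply]
  exact congrArg e hx'

theorem isGeomReducedAt_fibre_point {X Y : Scheme.{u}} (f : X ⟶ Y) {x : X} {y : Y} (z : ↥(f.fiber y))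
    (hz : f.fiberι y z = x) :
    FBase.IsGeomReducedAt (f.fiberToSpecResidueField y) z ↔
      FBase.IsGeomReducedAt (f.fiberToSpecResidueField (f x)) (f.asFiber x) := by
  obtain rfl : f x = y := hz ▸ apply_fiberι f y z
  rw [show z = f.asFiber x from (f.fiberι _).isEmbedding.injective (hz.trans (f.fiberι_asFiber x).symm)]

theorem isGeomReducedAt_fibre_iff_of_isPullback {X Y X' Y' : Scheme.{u}} {f : X ⟶ Y} {f' : X' ⟶ Y'}
    {p : X' ⟶ X} {h : Y' ⟶ Y} (hsq : IsPullback p f' f h) (w : X') :
    FBase.IsGeomReducedAt (f'.fiberToSpecResidueField (f' w)) (f'.asFiber w) ↔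
      FBase.IsGeomReducedAt (f.fiberToSpecResidueField (f (p w))) (f.asFiber (p w)) := by
  let y' := f' w
  let σ := Spec.map (h.residueFieldMap y')
  have hσ : σ ≫ Y.fromSpecResidueField (h y') = Y'.fromSpecResidueField y' ≫ h :=
    Scheme.Hom.SpecMap_residueFieldMap_fromSpecResidueField _ _
  let t := f.fiberToSpecResidueField (h y')
  let m : f'.fiber y' ⟶ f.fiber (h y') := pullback.lift (f'.fiberι y' ≫ p) (f'.fiberToSpecResidueField y' ≫ σ) (by
    rw [Category.assoc, hsq.w, ← Category.assoc, Scheme.Hom.fiber_fac, Category.assoc, Category.assoc, hσ])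
  have hm1 : m ≫ f.fiberι (h y') = f'.fiberι y' ≫ p := pullback.lift_fst _ _ _
  have hm2 : m ≫ t = f'.fiberToSpecResidueField y' ≫ σ := pullback.lift_snd _ _ _
  have H : IsPullback m (f'.fiberToSpecResidueField y') t σ := by
    refine IsPullback.of_right (h₁₂ := f.fiberι (h y')) (v₁₃ := f) (h₂₂ := Y.fromSpecResidueField (h y'))
      ?_ hm2 (IsPullback.of_hasPullback f (Y.fromSpecResidueField (h y')))
    rw [hm1, hσ]
    exact (IsPullback.of_hasPullback f' (Y'.fromSpecResidueField y')).paste_horiz hsq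
  letI : Algebra (Y.residueField (h y')) (Y'.residueField y') := (h.residueFieldMap y').hom.toAlgebra
  let e : f'.fiber y' ⟶ FBase.bc (k := Y.residueField (h y')) t (Y'.residueField y') := H.isoPullback.hom
  haveI : IsIso e := inferInstanceAs (IsIso H.isoPullback.hom)
  have he : e ≫ FBase.bcStr (k := Y.residueField (h y')) t (Y'.residueField y') =
      f'.fiberToSpecResidueField y' := H.isoPullback_hom_snd
  have hem : e ≫ FBase.bcπ (k := Y.residueField (h y')) t (Y'.residueField y') = m := H.isoPullback_hom_fst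
  have key : FBase.IsGeomReducedAt (f'.fiberToSpecResidueField y') (f'.asFiber w) ↔
      FBase.IsGeomReducedAt (k := Y'.residueField y') (FBase.bcStr (k := Y.residueField (h y')) t (Y'.residueField y'))
        (e (f'.asFiber w)) := by
    constructor
    · intro hh
      refine isGeomReducedAt_of_iso (k := Y'.residueField y') (f := f'.fiberToSpecResidueField y') (inv e)
        (by rw [← he, IsIso.inv_hom_id_assoc]) (e (f'.asFiber w)) ?_
      rwa [← Scheme.Hom.comp_apply, IsIso.hom_inv_id]
    · exact isGeomReducedAt_of_iso (k := Y'.residueField y') e he (f'.asFiber w)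
  rw [key, ← VarGal.isGeomReducedAt_iff_bcStr]
  refine isGeomReducedAt_fibre_point f (x := p w) _ ?_
  rw [← Scheme.Hom.comp_apply e, hem, ← Scheme.Hom.comp_apply, hm1, Scheme.Hom.comp_apply]
  exact congrArg p (f'.fiberι_asFiber w)

theorem isReduced_fibre_stalk_of_isGeomReducedAt {X Y : Scheme.{u}} (f : X ⟶ Y) {x : X}
    (h : FBase.IsGeomReducedAt (f.fiberToSpecResidueField (f x)) (f.asFiber x)) :
    _root_.IsReduced ((f.fiber (f x)).presheaf.stalk (f.asFiber x)) := by
  let K := IsLocalRing.ResidueField (Y.presheaf.stalk (f x))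
  let b := FBase.bcπ (k := K) (f.fiberToSpecResidueField (f x)) K
  haveI : IsIso (Spec.map (CommRingCat.ofHom (algebraMap K K))) := by
    rw [show algebraMap K K = RingHom.id _ from rfl, CommRingCat.ofHom_id, Spec.map_id]
    infer_instance
  haveI : IsIso b :=
    MorphismProperty.pullback_fst (P := MorphismProperty.isomorphisms Scheme) _ _ ‹IsIso _›
  have hx : b ((inv b) (f.asFiber x)) = f.asFiber x := by
    rw [← Scheme.Hom.comp_apply, IsIso.inv_hom_id]; rfl
  exact (isReduced_stalk_of_isOpenImmersion (inv b) (f.asFiber x)).2 (h K _ hx)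

end Groth.Agent.E4O
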