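import Groth.Prelude.Def_CAlg2
import Mathlib.RingTheory.Polynomial.IsIntegral
import Mathlib.RingTheory.MvPolynomial.Localization
import Mathlib.RingTheory.Polynomial.UniqueFactorization
import Mathlib.RingTheory.Polynomial.RationalRoot
import Mathlib.RingTheory.Localization.Integral
import Mathlib.RingTheory.Ideal.GoingUp
import Mathlib.RingTheory.LocalRing.ResidueField.Basic
import Mathlib.RingTheory.Localization.AtPrime.Basic
import Mathlib.Algebra.CharP.Lemmas
import Mathlib.Algebra.CharP.Algebra

/-!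
Polynomial extensions of geometrically unibranch local rings are geometrically unibranch.
-/

universe u

open MvPolynomial

namespace Groth.Agent.E4O

attribute [local instance] MvPolynomial.algebraMvPolynomial

/-- Transport of the residue condition of geometric unibranchness along an isomorphism. -/
theorem residue_transfer {R N C : Type u} [CommRing R] [CommRing N] [CommRing C] [IsLocalRing C]
    (eC : N ≃+* C) (m' : Ideal N) [hm' : m'.IsMaximal] (f : R →+* N)
    (h : ∀ c : C, ∃ (n : ℕ) (r : R),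
      c ^ (ringExpChar (IsLocalRing.ResidueField C)) ^ n - eC (f r) ∈ IsLocalRing.maximalIdeal C) :
    ∀ x : N ⧸ m', ∃ n : ℕ, x ^ (ringExpChar (N ⧸ m')) ^ n ∈ ((Ideal.Quotient.mk m').comp f).range := by
  intro x
  obtain ⟨y, rfl⟩ := Ideal.Quotient.mk_surjective x
  have hm : m'.map (eC : N →+* C) = IsLocalRing.maximalIdeal C :=
    IsLocalRing.eq_maximalIdeal (Ideal.map_isMaximal_of_equiv eC)
  let χ : N ⧸ m' ≃+* IsLocalRing.ResidueField C :=
    Ideal.quotientEquiv m' (IsLocalRing.maximalIdeal C) eC hm.symm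
  obtain ⟨n, r, hn⟩ := h (eC y)
  have hq : ringExpChar (N ⧸ m') = ringExpChar (IsLocalRing.ResidueField C) := by
    let _ : Field (N ⧸ m') := Ideal.Quotient.field m'
    have : ExpChar (N ⧸ m') (ringExpChar (IsLocalRing.ResidueField C)) :=
      expChar_of_injective_ringHom χ.symm.injective (f := χ.symm.toRingHom) _
    exact ringExpChar.eq _ _
  refine ⟨n, r, χ.injective ?_⟩
  rw [hq, map_pow]
  exact (Ideal.Quotient.eq.2 hn).symm

/-- A criterion for geometric unibranchness through a model of the normalization. -/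
theorem isGeomUnibranch_of_model {R E C : Type u} [CommRing R] [IsLocalRing R] [CommRing E]
    [IsDomain E] [CommRing C] [IsDomain C] [IsLocalRing C] [IsIntegrallyClosed C] (π : R →+* E)
    (hπ : Function.Surjective π) (hker : RingHom.ker π ≤ nilradical R) (φ : E →+* C)
    (hφ : Function.Injective φ) (hint : φ.IsIntegral)
    (hbir : ∀ c : C, ∃ a b : E, b ≠ 0 ∧ c * φ b = φ a)
    (hres : ∀ c : C, ∃ (n : ℕ) (e : E),
      c ^ (ringExpChar (IsLocalRing.ResidueField C)) ^ n - φ e ∈ IsLocalRing.maximalIdeal C) :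
    CAlg2.IsGeomUnibranch R := by
  have hkeq : RingHom.ker π = nilradical R :=
    le_antisymm hker fun x hx => ((mem_nilradical.1 hx).map π).eq_zero
  let e₀ : CAlg2.red R ≃+* E :=
    (Ideal.quotEquivOfEq hkeq.symm).trans (RingHom.quotientKerEquivOfSurjective hπ)
  have he₀ : ∀ r, e₀ (Ideal.Quotient.mk (nilradical R) r) = π r := fun r => rfl
  have hdom : IsDomain (CAlg2.red R) := MulEquiv.isDomain E e₀.toMulEquiv
  let L := FractionRing C
  let ψ : CAlg2.red R →+* C := φ.comp e₀.toRingHom
  let _ : Algebra (CAlg2.red R) C := ψ.toAlgebra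
  have hinj : Function.Injective (algebraMap (CAlg2.red R) C) := hφ.comp e₀.injective
  have : FaithfulSMul (CAlg2.red R) C := (faithfulSMul_iff_algebraMap_injective _ _).2 hinj
  have hintC : Algebra.IsIntegral (CAlg2.red R) C := ⟨fun c => by
    obtain ⟨p, hp, hp0⟩ := hint c
    refine ⟨p.map e₀.symm.toRingHom, hp.map _, ?_⟩
    rw [Polynomial.eval₂_map, RingHom.algebraMap_toAlgebra]
    have hcomp : ψ.comp e₀.symm.toRingHom = φ :=
      RingHom.ext fun x => congrArg φ (e₀.apply_symm_apply x)
    rw [hcomp]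
    exact hp0⟩
  have hfr : IsFractionRing (CAlg2.red R) L := by
    refine IsFractionRing.of_field _ _ fun z => ?_
    obtain ⟨c, d, hd, rfl⟩ := IsFractionRing.div_surjective (A := C) z
    obtain ⟨a, b, hb, hab⟩ := hbir c
    obtain ⟨a', b', hb', hab'⟩ := hbir d
    refine ⟨e₀.symm (a * b'), e₀.symm (b * a'), ?_⟩
    rw [IsScalarTower.algebraMap_apply (CAlg2.red R) C L, IsScalarTower.algebraMap_apply (CAlg2.red R) C L]
    have hψ : ∀ x, algebraMap (CAlg2.red R) C (e₀.symm x) = φ x := fun x => by
      show φ (e₀ (e₀.symm x)) = φ x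
      rw [RingEquiv.apply_symm_apply]
    rw [hψ, hψ, map_mul φ, map_mul φ, ← hab, ← hab', map_mul, map_mul, map_mul, map_mul]
    have hb0 : algebraMap C L (φ b) ≠ 0 := fun h =>
      hb (hφ (IsFractionRing.injective C L (by rw [h, map_zero, map_zero])))
    have hb0' : algebraMap C L (φ b') ≠ 0 := fun h =>
      hb' (hφ (IsFractionRing.injective C L (by rw [h, map_zero, map_zero])))
    have hd0 : algebraMap C L d ≠ 0 := IsFractionRing.to_map_ne_zero_of_mem_nonZeroDivisors hd
    rw [div_eq_div_iff hd0 (mul_ne_zero hb0 (mul_ne_zero hd0 hb0'))]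
    ring
  let θ : CAlg2.normRed R ≃ₐ[CAlg2.red R] integralClosure (CAlg2.red R) L :=
    (FractionRing.algEquiv (CAlg2.red R) L).mapIntegralClosure
  let ι : C →+* integralClosure (CAlg2.red R) L :=
    (algebraMap C L).codRestrict (integralClosure (CAlg2.red R) L) fun c =>
      (Algebra.IsIntegral.isIntegral (R := CAlg2.red R) c).map (IsScalarTower.toAlgHom (CAlg2.red R) C L)
  have hι : Function.Bijective ι := by
    refine ⟨fun a b h => IsFractionRing.injective C L (congrArg Subtype.val h), fun z => ?_⟩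
    obtain ⟨c, hc⟩ := IsIntegrallyClosed.isIntegral_iff.1 (z.2.tower_top : IsIntegral C z.1)
    exact ⟨c, Subtype.ext hc⟩
  let eC : CAlg2.normRed R ≃+* C := θ.toRingEquiv.trans (RingEquiv.ofBijective ι hι).symm
  have heC : ∀ r, eC (algebraMap (CAlg2.red R) (CAlg2.normRed R) r) = ψ r := fun r => by
    show (RingEquiv.ofBijective ι hι).symm (θ _) = ψ r
    rw [RingEquiv.symm_apply_eq, θ.commutes]
    exact Subtype.ext (IsScalarTower.algebraMap_apply (CAlg2.red R) C L r)
  have hloc : IsLocalRing (CAlg2.normRed R) := eC.symm.isLocalRing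
  refine ⟨⟨hdom, hloc⟩, fun m' hm' => ?_⟩
  exact residue_transfer eC m' ((algebraMap (CAlg2.red R) (CAlg2.normRed R)).comp
    (Ideal.Quotient.mk (nilradical R))) fun c => by
      obtain ⟨n, e, hn⟩ := hres c
      obtain ⟨r, rfl⟩ := hπ e
      exact ⟨n, r, (congrArg (fun t => c ^ _ - t) (heC (Ideal.Quotient.mk _ r))).symm ▸ hn⟩

/-- Polynomial rings over integrally closed domains are integrally closed. -/
theorem isIntegrallyClosed_mvPolynomial (D : Type u) [CommRing D] [IsDomain D] [IsIntegrallyClosed D]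
    (σ : Type u) : IsIntegrallyClosed (MvPolynomial σ D) := by
  let K := FractionRing D
  have : IsIntegrallyClosed (MvPolynomial σ K) := UniqueFactorizationMonoid.instIsIntegrallyClosed
  suffices IsIntegrallyClosedIn (MvPolynomial σ D) (MvPolynomial σ K) from
    .of_isIntegrallyClosed_of_isIntegrallyClosedIn _ (MvPolynomial σ K)
  refine isIntegrallyClosedIn_iff.mpr ⟨map_injective _ (IsFractionRing.injective D K), fun {p} hp => ?_⟩
  have h := MvPolynomial.isIntegral_iff_isIntegral_coeff.1 hp
  exact (MvPolynomial.mem_range_map_iff_coeffs_subset (f := algebraMap D K)).2 fun c hc => by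
    obtain ⟨m, -, rfl⟩ := MvPolynomial.mem_coeffs_iff.1 hc
    exact IsIntegrallyClosed.isIntegral_iff.1 (h m)

/-- If every element of a field `k'` has a `q^n`-th power in the image of `A`, then so has every
polynomial over `k'`. -/
theorem exists_pow_expChar_mem_range_map {A k : Type u} [CommRing A] [Field k] (ψ : A →+* k)
    (h : ∀ x : k, ∃ n : ℕ, x ^ (ringExpChar k) ^ n ∈ ψ.range) {σ : Type u} (g : MvPolynomial σ k) :
    ∃ n : ℕ, g ^ (ringExpChar k) ^ n ∈ (MvPolynomial.map (σ := σ) ψ).range := by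
  set q := ringExpChar k
  have : ExpChar (MvPolynomial σ k) q :=
    expChar_of_injective_ringHom (MvPolynomial.C_injective σ k) q
  induction g using MvPolynomial.induction_on with
  | C x =>
    obtain ⟨n, a, ha⟩ := h x
    exact ⟨n, C a, by rw [map_C, ha, map_pow]⟩
  | add f g hf hg =>
    obtain ⟨n, hn⟩ := hf
    obtain ⟨m, hm⟩ := hg
    refine ⟨n + m, ?_⟩
    rw [add_pow_expChar_pow]
    refine add_mem ?_ ?_
    · rw [pow_add, pow_mul]; exact pow_mem hn _
    · rw [add_comm n m, pow_add, pow_mul]; exact pow_mem hm _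
  | mul_X f i hf =>
    obtain ⟨n, hn⟩ := hf
    refine ⟨n, ?_⟩
    rw [mul_pow]
    exact mul_mem hn (pow_mem (show X i ∈ (MvPolynomial.map (σ := σ) ψ).range from ⟨X i, map_X _ _⟩) _)

set_option maxHeartbeats 800000 in
theorem isGeomUnibranch_mvPolynomial_aux {A₀ : Type u} [CommRing A₀] (p : Ideal A₀) [p.IsPrime]
    (A : Type u) [CommRing A] [IsLocalRing A] [Algebra A₀ A] [IsLocalization.AtPrime A p]
    {D D' : Type u} [CommRing D] [IsDomain D] [CommRing D'] [IsDomain D'] [IsLocalRing D']
    [IsIntegrallyClosed D'] [Algebra D D'] [Algebra.IsIntegral D D']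
    (hDD' : Function.Injective (algebraMap D D')) (mkA : A →+* D) (hmkA : Function.Surjective mkA)
    (hkerA : RingHom.ker mkA ≤ nilradical A)
    (hbirA : ∀ x : D', ∃ a d : D, d ≠ 0 ∧ x * algebraMap D D' d = algebraMap D D' a)
    (hres : ∀ (m' : Ideal D') [m'.IsMaximal] (x : D' ⧸ m'), ∃ n : ℕ, x ^ (ringExpChar (D' ⧸ m')) ^ n ∈
      ((Ideal.Quotient.mk m').comp ((algebraMap D D').comp mkA)).range)
    (σ : Type u) (P : Ideal (MvPolynomial σ A₀)) [P.IsPrime]
    (hP : P.comap C = p) (R : Type u) [CommRing R] [IsLocalRing R] [Algebra (MvPolynomial σ A₀) R]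
    [IsLocalization.AtPrime R P] : CAlg2.IsGeomUnibranch R := by
  let η : A₀ →+* D := mkA.comp (algebraMap A₀ A)
  let ψ : MvPolynomial σ A₀ →+* MvPolynomial σ D := MvPolynomial.map η
  let ψ₁ : MvPolynomial σ A₀ →+* MvPolynomial σ A := MvPolynomial.map (algebraMap A₀ A)
  have hψ : ψ = (MvPolynomial.map mkA).comp ψ₁ :=
    RingHom.ext fun g => (MvPolynomial.map_map _ _ g).symm
  let M₁ : Submonoid (MvPolynomial σ A₀) := p.primeCompl.map C
  have hloc₁ : IsLocalization M₁ (MvPolynomial σ A) := MvPolynomial.isLocalization p.primeCompl A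
  have hdisj : Disjoint (M₁ : Set (MvPolynomial σ A₀)) P := Set.disjoint_left.2 fun x hx hxP => by
    obtain ⟨a, ha, rfl⟩ := hx
    exact ha (hP.le hxP)
  let P₁ : Ideal (MvPolynomial σ A) := P.map ψ₁
  have hP₁ : P₁.IsPrime :=
    IsLocalization.isPrime_of_isPrime_disjoint M₁ (MvPolynomial σ A) P inferInstance hdisj
  have hP₁c : P₁.comap ψ₁ = P :=
    IsLocalization.under_map_of_isPrime_disjoint M₁ (MvPolynomial σ A) inferInstance hdisj
  let μ : MvPolynomial σ A →+* MvPolynomial σ D := MvPolynomial.map mkA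
  have hμ : Function.Surjective μ := MvPolynomial.map_surjective _ hmkA
  have hμker : RingHom.ker μ ≤ P₁ := by
    rw [MvPolynomial.ker_map, Ideal.map_le_iff_le_comap]
    exact fun a ha => nilradical_le_prime P₁ ((mem_nilradical.1 (hkerA ha)).map C)
  let Pb : Ideal (MvPolynomial σ D) := P₁.map μ
  have hPb : Pb.IsPrime := Ideal.map_isPrime_of_surjective hμ hμker
  have hPbc : Pb.comap μ = P₁ := by
    rw [Ideal.comap_map_of_surjective μ hμ, ← RingHom.ker_eq_comap_bot]
    exact sup_eq_left.2 hμker
  have hPψ : Pb.comap ψ = P := by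
    rw [hψ, ← Ideal.comap_comap, hPbc, hP₁c]
  -- the model of the reduction
  let E := Localization.AtPrime Pb
  have hunit : ∀ s : P.primeCompl, IsUnit (algebraMap (MvPolynomial σ D) E (ψ s)) := fun s =>
    IsLocalization.map_units (M := Pb.primeCompl) E ⟨ψ s, fun h => s.2 (hPψ.le h)⟩
  let π : R →+* E := IsLocalization.lift (M := P.primeCompl)
    (g := (algebraMap (MvPolynomial σ D) E).comp ψ) hunit
  have hscale : ∀ g : MvPolynomial σ D, ∃ (r : A₀) (_ : r ∉ p) (g₀ : MvPolynomial σ A₀),
      ψ g₀ = ψ (C r) * g := by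
    intro g
    obtain ⟨g₁, rfl⟩ := hμ g
    obtain ⟨g₀, ⟨_, r, hr, rfl⟩, rfl⟩ := IsLocalization.exists_mk'_eq M₁ g₁
    refine ⟨r, hr, g₀, ?_⟩
    rw [hψ, RingHom.comp_apply, RingHom.comp_apply, ← map_mul]
    exact congrArg μ (IsLocalization.mk'_spec' (MvPolynomial σ A) g₀ (⟨C r, r, hr, rfl⟩ : M₁)).symm
  have hCr : ∀ r : A₀, r ∉ p → (C r : MvPolynomial σ A₀) ∉ P := fun r hr h => hr (hP.le h)
  have hπs : Function.Surjective π := by
    intro x
    obtain ⟨g, ⟨s, hs⟩, rfl⟩ := IsLocalization.exists_mk'_eq Pb.primeCompl x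
    obtain ⟨r, hr, g₀, hg₀⟩ := hscale g
    obtain ⟨r', hr', s₀, hs₀⟩ := hscale s
    have hs₀P : s₀ ∉ P := fun h => by
      rw [← hPψ, Ideal.mem_comap, hs₀] at h
      exact (hPb.mem_or_mem h).elim (fun h' => hCr r' hr' (hPψ.le h')) hs
    refine ⟨IsLocalization.mk' R (g₀ * C r') ⟨C r * s₀, P.primeCompl.mul_mem (hCr r hr) hs₀P⟩, ?_⟩
    rw [IsLocalization.lift_mk'_spec, RingHom.comp_apply, RingHom.comp_apply,
      IsLocalization.mul_mk'_eq_mk'_of_mul, eq_comm, IsLocalization.mk'_eq_iff_eq_mul]
    simp only [map_mul, hg₀, hs₀]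
    ring
  have hker : RingHom.ker π ≤ nilradical R := by
    intro x hx
    obtain ⟨g, s, rfl⟩ := IsLocalization.exists_mk'_eq P.primeCompl x
    rw [RingHom.mem_ker, IsLocalization.lift_mk'_spec, mul_zero, RingHom.comp_apply] at hx
    have hx' : ψ g = 0 := IsLocalization.injective E Pb.primeCompl_le_nonZeroDivisors (by rw [hx, map_zero])
    have hcoeff : ∀ m, IsNilpotent (algebraMap (MvPolynomial σ A₀) R (monomial m (g.coeff m))) := by
      intro m
      have h1 : η (g.coeff m) = 0 := by
        have := congrArg (MvPolynomial.coeff m) hx'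
        rwa [MvPolynomial.coeff_map, MvPolynomial.coeff_zero] at this
      obtain ⟨n, hn⟩ := mem_nilradical.1 (hkerA h1)
      rw [← map_pow, IsLocalization.map_eq_zero_iff p.primeCompl] at hn
      obtain ⟨⟨t, ht⟩, htc⟩ := hn
      refine ⟨n + 1, ?_⟩
      rw [← map_pow, IsLocalization.map_eq_zero_iff P.primeCompl]
      refine ⟨⟨C t, hCr t ht⟩, ?_⟩
      show C t * monomial m (g.coeff m) ^ (n + 1) = 0
      rw [monomial_pow, C_mul_monomial, pow_succ, ← mul_assoc, htc, zero_mul, monomial_zero]
    rw [mem_nilradical, IsLocalization.mk'_eq_mul_mk'_one]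
    refine (Commute.all _ _).isNilpotent_mul_right ?_
    rw [MvPolynomial.as_sum g, map_sum]
    exact isNilpotent_sum fun m _ => hcoeff m
  have hIC := isIntegrallyClosed_mvPolynomial D' σ
  have hintP : Algebra.IsIntegral (MvPolynomial σ D) (MvPolynomial σ D') :=
    ⟨fun f => MvPolynomial.isIntegral_iff_isIntegral_coeff.2 fun m => Algebra.IsIntegral.isIntegral _⟩
  let M : Submonoid (MvPolynomial σ D') := Algebra.algebraMapSubmonoid (MvPolynomial σ D') Pb.primeCompl
  have hM : M ≤ nonZeroDivisors (MvPolynomial σ D') := by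
    rintro _ ⟨s, hs, rfl⟩
    refine mem_nonZeroDivisors_of_ne_zero fun h => hs ?_
    rw [(map_injective _ hDD') (h.trans (map_zero (algebraMap (MvPolynomial σ D) (MvPolynomial σ D'))).symm)]
    exact Pb.zero_mem
  let C' := Localization M
  have : IsDomain C' := IsLocalization.isDomain_localization hM
  have : IsIntegrallyClosed (Localization M) :=
    isIntegrallyClosed_of_isLocalization (R := MvPolynomial σ D') (Localization M) M hM
  let φ : E →+* C' := IsLocalization.map (M := Pb.primeCompl) (T := M) C'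
    (algebraMap (MvPolynomial σ D) (MvPolynomial σ D')) Pb.primeCompl.le_comap_map
  have hφint : φ.IsIntegral := isIntegral_localization (M := Pb.primeCompl) (S := MvPolynomial σ D')
  have : IsLocalization (Pb.primeCompl.map (algebraMap (MvPolynomial σ D) (MvPolynomial σ D'))) C' :=
    (inferInstance : IsLocalization M (Localization M))
  have hφa : ∀ x, φ (algebraMap (MvPolynomial σ D) E x) =
      algebraMap (MvPolynomial σ D') C' (algebraMap (MvPolynomial σ D) (MvPolynomial σ D') x) :=
    fun x => IsLocalization.map_eq _ x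
  have hφinj : Function.Injective φ :=
    (injective_iff_map_eq_zero φ).2 fun x hx => by
      obtain ⟨a, b, rfl⟩ := IsLocalization.exists_mk'_eq Pb.primeCompl x
      have h0 : φ (algebraMap (MvPolynomial σ D) E a) = 0 := by
        rw [← IsLocalization.mk'_spec E a b, map_mul, hx, zero_mul]
      rw [hφa] at h0
      have h1 : algebraMap (MvPolynomial σ D) (MvPolynomial σ D') a = 0 :=
        IsLocalization.injective C' hM (h0.trans (map_zero _).symm)
      rw [show a = 0 from map_injective _ hDD' (h1.trans (map_zero _).symm), IsLocalization.mk'_zero]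
  -- the residue field of `D'`
  let m' := IsLocalRing.maximalIdeal D'
  let κ := D' ⧸ m'
  let _ : Field κ := Ideal.Quotient.field m'
  let ρ : A →+* κ := (Ideal.Quotient.mk m').comp ((algebraMap D D').comp mkA)
  let q := ringExpChar κ
  have hroot : ∀ x : κ, ∃ n : ℕ, x ^ q ^ n ∈ ρ.range := hres m'
  have hdiff : ∀ h : MvPolynomial σ D', ∃ (n : ℕ) (g : MvPolynomial σ D),
      h ^ q ^ n - algebraMap (MvPolynomial σ D) (MvPolynomial σ D') g ∈ m'.map C := by
    intro h
    obtain ⟨n, g₁, hg₁⟩ := exists_pow_expChar_mem_range_map ρ hroot (MvPolynomial.map (Ideal.Quotient.mk m') h)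
    refine ⟨n, μ g₁, ?_⟩
    have hk : RingHom.ker (MvPolynomial.map (σ := σ) (Ideal.Quotient.mk m')) = m'.map C := by
      rw [MvPolynomial.ker_map, Ideal.mk_ker]
    rw [← hk, RingHom.mem_ker, map_sub, map_pow, sub_eq_zero]
    refine hg₁.symm.trans ?_
    rw [MvPolynomial.algebraMap_def, MvPolynomial.map_map, MvPolynomial.map_map]
    rfl
  have hQm : ∀ Q : Ideal (MvPolynomial σ D'), Q.IsPrime →
      Q.comap (algebraMap (MvPolynomial σ D) (MvPolynomial σ D')) = Pb → m'.map C ≤ Q := by
    intro Q hQ hQP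
    rw [Ideal.map_le_iff_le_comap]
    have hmax : ((Q.comap C).comap (algebraMap D D')).IsMaximal := by
      have h1 : (Q.comap C).comap (algebraMap D D') = Pb.comap C := by
        rw [← hQP, Ideal.comap_comap, Ideal.comap_comap]
        congr 1
        exact RingHom.ext fun d => (MvPolynomial.map_C _ d).symm
      have hmA : (Pb.comap C).comap mkA = IsLocalRing.maximalIdeal A := by
        rw [Ideal.comap_comap,
          show (C : D →+* MvPolynomial σ D).comp mkA = μ.comp C from
            RingHom.ext fun a => (MvPolynomial.map_C _ a).symm,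
          ← Ideal.comap_comap, hPbc]
        have h2 : (P₁.comap C).comap (algebraMap A₀ A) = p := by
          rw [← hP, ← hP₁c, Ideal.comap_comap, Ideal.comap_comap]
          congr 1
          exact RingHom.ext fun a => (MvPolynomial.map_C _ a).symm
        rw [← IsLocalization.map_under p.primeCompl A (P₁.comap C)]
        simp only [Ideal.under, h2]
        exact IsLocalization.AtPrime.map_eq_maximalIdeal p A
      rw [h1, ← Ideal.map_comap_of_surjective _ hmkA (Pb.comap C), hmA]
      exact Ideal.IsMaximal.map_of_surjective_of_ker_le hmkA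
        (hkerA.trans (nilradical_le_prime _))
    have : (Q.comap C).IsMaximal := Ideal.isMaximal_of_isIntegral_of_isMaximal_comap _ hmax
    exact (IsLocalRing.eq_maximalIdeal this).ge
  have huniq : ∀ Q Q' : Ideal (MvPolynomial σ D'), Q.IsPrime → Q'.IsPrime →
      Q.comap (algebraMap (MvPolynomial σ D) (MvPolynomial σ D')) = Pb →
      Q'.comap (algebraMap (MvPolynomial σ D) (MvPolynomial σ D')) = Pb → Q ≤ Q' := by
    intro Q Q' hQ hQ' hQP hQ'P h hh
    obtain ⟨n, g, hg⟩ := hdiff h
    have hpos : 0 < q ^ n := pow_pos (expChar_pos κ q) n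
    have h1 : algebraMap _ _ g ∈ Q := by
      have := Q.sub_mem (Q.pow_mem_of_mem hh _ hpos) (hQm Q hQ hQP hg)
      rwa [sub_sub_cancel] at this
    have h2 : algebraMap _ _ g ∈ Q' := hQ'P.symm.le (hQP.le h1)
    have h3 := Q'.add_mem (hQm Q' hQ' hQ'P hg) h2
    rw [sub_add_cancel] at h3
    exact hQ'.mem_of_pow_mem _ h3
  have hover : ∀ N : Ideal C', N.IsMaximal →
      (N.comap (algebraMap (MvPolynomial σ D') C')).comap
        (algebraMap (MvPolynomial σ D) (MvPolynomial σ D')) = Pb := by
    intro N hN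
    have h1 : (N.comap φ).IsMaximal := Ideal.isMaximal_comap_of_isIntegral_of_isMaximal' φ hφint N
    have h2 : (N.comap φ).comap (algebraMap (MvPolynomial σ D) E) = Pb := by
      rw [IsLocalRing.eq_maximalIdeal h1]
      exact IsLocalization.AtPrime.under_maximalIdeal E Pb
    rw [← h2, Ideal.comap_comap, Ideal.comap_comap]
    congr 1
    exact (IsLocalization.map_comp _).symm
  have hlocC : IsLocalRing C' := by
    refine IsLocalRing.of_unique_max_ideal ?_
    obtain ⟨N, hN⟩ := Ideal.exists_maximal C'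
    refine ⟨N, hN, fun N' hN' => ?_⟩
    have hcomap : N'.comap (algebraMap (MvPolynomial σ D') C') = N.comap (algebraMap _ C') :=
      le_antisymm (huniq _ _ inferInstance inferInstance (hover N' hN') (hover N hN))
        (huniq _ _ inferInstance inferInstance (hover N hN) (hover N' hN'))
    rw [← IsLocalization.map_under M C' N', ← IsLocalization.map_under M C' N]
    exact congrArg _ hcomap
  have hbirD : ∀ h : MvPolynomial σ D', ∃ (d : D) (_ : d ≠ 0) (g : MvPolynomial σ D),
      algebraMap _ (MvPolynomial σ D') g = h * algebraMap _ _ (C d : MvPolynomial σ D) := by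
    intro h
    induction h using MvPolynomial.induction_on with
    | C x =>
      obtain ⟨a, d, hd, hx⟩ := hbirA x
      refine ⟨d, hd, C a, ?_⟩
      rw [MvPolynomial.algebraMap_def, map_C, map_C, ← map_mul, hx]
    | add f g hf hg =>
      obtain ⟨d, hd, f', hf'⟩ := hf
      obtain ⟨e, he, g', hg'⟩ := hg
      refine ⟨d * e, mul_ne_zero hd he, f' * C e + g' * C d, ?_⟩
      simp only [map_add, map_mul, hf', hg']
      ring
    | mul_X f i hf =>
      obtain ⟨d, hd, f', hf'⟩ := hf
      refine ⟨d, hd, f' * X i, ?_⟩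
      rw [map_mul, hf', MvPolynomial.algebraMap_def, map_X]
      ring
  refine isGeomUnibranch_of_model π hπs hker φ hφinj hφint (fun c => ?_) fun c => ?_
  · obtain ⟨h, ⟨_, s, hs, rfl⟩, rfl⟩ := IsLocalization.exists_mk'_eq M c
    obtain ⟨d, hd, g, hg⟩ := hbirD h
    refine ⟨algebraMap _ E g, algebraMap _ E (s * C d), fun h0 => ?_, ?_⟩
    · have h0' := IsLocalization.injective E Pb.primeCompl_le_nonZeroDivisors
        (h0.trans (map_zero (algebraMap (MvPolynomial σ D) E)).symm)
      rcases mul_eq_zero.1 h0' with h | h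
      · exact hs (h ▸ Pb.zero_mem)
      · exact hd ((map_eq_zero_iff _ (MvPolynomial.C_injective σ D)).1 h)
    · rw [hφa, hφa, hg, map_mul, map_mul, map_mul, ← mul_assoc]
      congr 1
      exact IsLocalization.mk'_spec C' h (⟨algebraMap (MvPolynomial σ D) (MvPolynomial σ D') s, s, hs, rfl⟩ : M)
  · obtain ⟨h, ⟨_, s, hs, rfl⟩, rfl⟩ := IsLocalization.exists_mk'_eq M c
    obtain ⟨n, g, hg⟩ := hdiff h
    have hQ : ∀ t ∈ m'.map C, algebraMap (MvPolynomial σ D') C' t ∈ IsLocalRing.maximalIdeal C' :=
      fun t ht => hQm _ inferInstance (hover (IsLocalRing.maximalIdeal C') inferInstance) ht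
    have hexp : ExpChar (IsLocalRing.ResidueField C') q := by
      let f : κ →+* IsLocalRing.ResidueField C' := Ideal.Quotient.lift m'
        ((IsLocalRing.residue C').comp ((algebraMap (MvPolynomial σ D') C').comp C))
        fun t ht => (IsLocalRing.residue_eq_zero_iff _).2 (hQ _ (Ideal.mem_map_of_mem C ht))
      exact expChar_of_injective_ringHom (f := f) f.injective q
    rw [ringExpChar.eq (IsLocalRing.ResidueField C') q]
    refine ⟨n, IsLocalization.mk' E g ⟨s ^ q ^ n, Pb.primeCompl.pow_mem hs _⟩, ?_⟩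
    have hφm : φ (IsLocalization.mk' E g ⟨s ^ q ^ n, Pb.primeCompl.pow_mem hs _⟩) =
        IsLocalization.mk' C' (algebraMap (MvPolynomial σ D) (MvPolynomial σ D') g)
          (⟨algebraMap _ _ (s ^ q ^ n), s ^ q ^ n, Pb.primeCompl.pow_mem hs _, rfl⟩ : M) :=
      IsLocalization.map_mk' _ _ _
    rw [hφm, ← IsLocalization.mk'_pow]
    have hden : ((⟨algebraMap _ (MvPolynomial σ D') s, s, hs, rfl⟩ : M) ^ q ^ n : M) =
        ⟨algebraMap _ _ (s ^ q ^ n), s ^ q ^ n, Pb.primeCompl.pow_mem hs _, rfl⟩ :=
      Subtype.ext (by simp)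
    rw [hden, IsLocalization.mk'_eq_mul_mk'_one, IsLocalization.mk'_eq_mul_mk'_one
      (algebraMap (MvPolynomial σ D) (MvPolynomial σ D') g), ← sub_mul, ← map_sub]
    exact Ideal.mul_mem_right _ _ (hQ _ hg)


/-- If the local ring of `A₀` at `p` is geometrically unibranch, so is the local ring of
`A₀[σ]` at every prime over `p`. -/
theorem isGeomUnibranch_mvPolynomial {A₀ : Type u} [CommRing A₀] (p : Ideal A₀) [p.IsPrime]
    (A : Type u) [CommRing A] [IsLocalRing A] [Algebra A₀ A] [IsLocalization.AtPrime A p]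
    (hA : CAlg2.IsGeomUnibranch A) (σ : Type u) (P : Ideal (MvPolynomial σ A₀)) [P.IsPrime]
    (hP : P.comap C = p) (R : Type u) [CommRing R] [IsLocalRing R] [Algebra (MvPolynomial σ A₀) R]
    [IsLocalization.AtPrime R P] : CAlg2.IsGeomUnibranch R := by
  obtain ⟨⟨hdom, hloc⟩, hres⟩ := hA
  let D := CAlg2.red A
  let D' := CAlg2.normRed A
  -- the normalization
  have hDD' : Function.Injective (algebraMap D D') := fun a b h =>
    IsFractionRing.injective D (FractionRing D) (congrArg Subtype.val h)
  have : FaithfulSMul D D' := (faithfulSMul_iff_algebraMap_injective _ _).2 hDD'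
  have : Algebra.IsIntegral D D' := ⟨fun x => (isIntegral_algHom_iff (integralClosure D (FractionRing D)).val Subtype.val_injective).1 x.2⟩
  have : IsFractionRing D' (FractionRing D) :=
    integralClosure.isFractionRing_of_finite_extension (A := D) (FractionRing D) (FractionRing D)
  have : IsIntegrallyClosed D' := by
    rw [isIntegrallyClosed_iff (R := D') (K := FractionRing D)]
    intro x hx
    exact ⟨⟨x, isIntegral_trans (R := D) x hx⟩, rfl⟩
  exact isGeomUnibranch_mvPolynomial_aux p A hDD' (Ideal.Quotient.mk (nilradical A))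
    Ideal.Quotient.mk_surjective Ideal.mk_ker.le (fun x => by
      obtain ⟨a, d, hd, hx⟩ := IsFractionRing.div_surjective (A := D) x.1
      refine ⟨a, d, nonZeroDivisors.ne_zero hd, Subtype.ext ?_⟩
      rw [MulMemClass.coe_mul, ← hx]
      exact div_mul_cancel₀ _ (IsFractionRing.to_map_ne_zero_of_mem_nonZeroDivisors hd)) hres σ P hP R

end Groth.Agent.E4O
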