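import Groth.Agent.VarDim1.KrullAkizuki
import Mathlib.RingTheory.Valuation.LocalSubring
import Mathlib.RingTheory.Ideal.KrullsHeightTheorem
import Mathlib.RingTheory.DedekindDomain.PID
import Mathlib.RingTheory.AlgebraicIndependent.TranscendenceBasis
import Mathlib.RingTheory.AlgebraicIndependent.AlgebraicClosure
import Mathlib.RingTheory.MvPolynomial.Localization
import Mathlib.RingTheory.Localization.LocalizationLocalization
import Mathlib.RingTheory.Polynomial.Quotient
import Mathlib.RingTheory.MvPolynomial.Basic
import Mathlib.RingTheory.Polynomial.Basic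
import Mathlib.FieldTheory.IntermediateField.Adjoin.Basic

universe u

open IsLocalRing

namespace Groth.Agent.E4O

variable {R : Type u} [CommRing R] [IsDomain R] [IsNoetherianRing R] [IsLocalRing R]

/-- One blow-up chart: a one dimensional Noetherian local domain in `K` dominating `R`. -/
theorem exists_dimOne_dominating (hR : ¬ IsField R) (K : Type u) [Field K] [Algebra R K]
    [IsFractionRing R K] :
    ∃ (T : Type u) (_ : CommRing T) (_ : IsDomain T) (_ : IsNoetherianRing T) (_ : IsLocalRing T)
      (_ : Algebra R T) (_ : Algebra T K) (_ : IsScalarTower R T K) (_ : IsFractionRing T K),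
      Ring.KrullDimLE 1 T ∧ ¬ IsField T ∧
        (maximalIdeal T).comap (algebraMap R T) = maximalIdeal R := by
  classical
  obtain ⟨V, hV, hloc⟩ := IsLocalRing.exists_factor_valuationRing (algebraMap R K)
  obtain ⟨s, hs⟩ := (IsNoetherian.noetherian (maximalIdeal R) : (maximalIdeal R).FG)
  let s' : Finset R := s.erase 0
  have hs' : s'.Nonempty := by
    by_contra hcon
    apply hR
    rw [IsLocalRing.isField_iff_maximalIdeal_eq, ← hs, Ideal.submodule_span_eq, Ideal.span_eq_bot]
    intro x hx
    by_contra hx0
    exact hcon ⟨x, Finset.mem_erase.2 ⟨hx0, hx⟩⟩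
  obtain ⟨x₀, hx₀, hmax⟩ := Finset.exists_max_image s' (fun x => V.valuation (algebraMap R K x)) hs'
  have hx₀0 : algebraMap R K x₀ ≠ 0 := fun h => (Finset.mem_erase.1 hx₀).1
    (IsFractionRing.injective R K (by rw [h, map_zero]))
  have hx₀m : x₀ ∈ maximalIdeal R := hs ▸ Ideal.subset_span (Finset.mem_erase.1 hx₀).2
  let S : Subalgebra R K := Algebra.adjoin R ((fun x => algebraMap R K x / algebraMap R K x₀) '' ↑s)
  have hSfg : Algebra.FiniteType R S :=
    (Subalgebra.fg_iff_finiteType S).1 (Subalgebra.fg_def.2 ⟨_, s.finite_toSet.image _, rfl⟩)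
  have : IsNoetherianRing S := Algebra.FiniteType.isNoetherianRing R S
  have hSV : ∀ z ∈ S, z ∈ V := by
    intro z hz
    induction hz using Algebra.adjoin_induction with
    | mem z hz =>
      obtain ⟨x, hx, rfl⟩ := hz
      rw [← V.valuation_le_one_iff, map_div₀]
      by_cases hx0 : x = 0
      · simp [hx0]
      · exact div_le_one_of_le₀ (hmax x (Finset.mem_erase.2 ⟨hx0, hx⟩)) zero_le
    | algebraMap r => exact hV r
    | add a b _ _ ha hb => exact V.add_mem _ _ ha hb
    | mul a b _ _ ha hb => exact V.mul_mem _ _ ha hb
  have hmS : ∀ x ∈ maximalIdeal R, algebraMap R S x ∈ Ideal.span {algebraMap R S x₀} := by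
    intro x hx
    rw [← hs] at hx
    induction hx using Submodule.span_induction with
    | mem x hx =>
      refine Ideal.mem_span_singleton'.2 ⟨⟨_, Algebra.subset_adjoin ⟨x, hx, rfl⟩⟩, Subtype.ext ?_⟩
      exact div_mul_cancel₀ _ hx₀0
    | zero => simp
    | add a b _ _ ha hb => rw [map_add]; exact add_mem ha hb
    | smul a b _ hb => rw [smul_eq_mul, map_mul]; exact Ideal.mul_mem_left _ _ hb
  have hnu : ¬ IsUnit (algebraMap R S x₀) := by
    intro hu
    obtain ⟨y, hy⟩ := hu.exists_right_inv
    have hyK : algebraMap R K x₀ * (y : K) = 1 := congrArg Subtype.val hy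
    have hux : IsUnit ((algebraMap R K).codRestrict V.toSubring hV x₀) :=
      IsUnit.of_mul_eq_one ⟨y, hSV _ y.2⟩ (Subtype.ext hyK)
    exact hx₀m (isUnit_of_map_unit _ x₀ hux)
  obtain ⟨P, hP⟩ := (Ideal.span {algebraMap R S x₀}).nonempty_minimalPrimes
    (by simpa [Ideal.span_singleton_eq_top] using hnu)
  have hPp : P.IsPrime := hP.isPrime
  have hPle : maximalIdeal R ≤ P.comap (algebraMap R S) := fun x hx => hP.le (hmS x hx)
  have hPR : P.comap (algebraMap R S) = maximalIdeal R :=
    ((IsLocalRing.maximalIdeal.isMaximal R).eq_of_le (Ideal.comap_ne_top _ hPp.ne_top) hPle).symm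
  have hPh : P.height ≤ 1 := Ideal.height_le_one_of_isPrincipal_of_mem_minimalPrimes _ P hP
  have hSK : IsFractionRing S K := by
    refine IsFractionRing.of_field S K fun z => ?_
    obtain ⟨a, b, -, rfl⟩ := IsFractionRing.div_surjective R z
    exact ⟨algebraMap R S a, algebraMap R S b, rfl⟩
  have hle : P.primeCompl ≤ nonZeroDivisors S := fun x hx => mem_nonZeroDivisors_of_ne_zero
    fun h => hx (h ▸ P.zero_mem)
  let T := Localization.AtPrime P
  let _ : Algebra T K := IsLocalization.localizationAlgebraOfSubmonoidLe T K P.primeCompl (nonZeroDivisors S) hle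
  have : IsScalarTower S T K := IsLocalization.localization_isScalarTower_of_submonoid_le T K P.primeCompl (nonZeroDivisors S) hle
  have : IsFractionRing T K := IsFractionRing.isFractionRing_of_isDomain_of_isLocalization P.primeCompl T K
  have : IsScalarTower R T K := IsScalarTower.of_algebraMap_eq fun r => by
    rw [IsScalarTower.algebraMap_apply R S T, ← IsScalarTower.algebraMap_apply S T K,
      ← IsScalarTower.algebraMap_apply R S K]
  refine ⟨T, inferInstance, inferInstance, inferInstance, inferInstance, inferInstance, inferInstance,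
    inferInstance, inferInstance, ?_, ?_, ?_⟩
  · rw [Ring.krullDimLE_iff, IsLocalization.AtPrime.ringKrullDim_eq_height P T]
    exact_mod_cast hPh
  · intro hf
    have h0 : algebraMap S T (algebraMap R S x₀) = 0 := by
      by_contra h0
      obtain ⟨u, hu⟩ := hf.mul_inv_cancel h0
      exact (IsLocalization.AtPrime.isUnit_to_map_iff T P _).1 (IsUnit.of_mul_eq_one u hu)
        (hP.le (Ideal.mem_span_singleton_self _))
    refine hx₀0 ?_
    rw [IsScalarTower.algebraMap_apply R S K, IsScalarTower.algebraMap_apply S T K, h0, map_zero]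
  · rw [IsScalarTower.algebraMap_eq R S T, ← Ideal.comap_comap]
    exact (congrArg (Ideal.comap (algebraMap R S)) (IsLocalization.AtPrime.under_maximalIdeal T P)).trans hPR

set_option synthInstance.maxHeartbeats 200000 in
/-- finite extension step -/
theorem exists_dvr_dominating_of_dimOne {T : Type u} [CommRing T] [IsDomain T] [IsNoetherianRing T]
    [IsLocalRing T] [Ring.KrullDimLE 1 T] (hT : ¬ IsField T) (K : Type u) [Field K] [Algebra T K]
    [IsFractionRing T K] (L : Type u) [Field L] [Algebra K L] [Algebra T L] [IsScalarTower T K L]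
    [FiniteDimensional K L] :
    ∃ V : ValuationSubring L, IsDiscreteValuationRing V ∧ (∀ a : T, algebraMap T L a ∈ V) ∧
      ∀ a ∈ maximalIdeal T, V.valuation (algebraMap T L a) < 1 := by
  have hinj : FaithfulSMul T L := by
    rw [faithfulSMul_iff_algebraMap_injective, IsScalarTower.algebraMap_eq T K L]
    exact (algebraMap K L).injective.comp (IsFractionRing.injective T K)
  let C := integralClosure T L
  have : IsDedekindDomain C := Groth.Agent.VarDim1.isDedekindDomain_integralClosure (L := L) K
  have hCinj : Function.Injective (algebraMap T C) := fun a b h =>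
    FaithfulSMul.algebraMap_injective T L (congrArg Subtype.val h)
  obtain ⟨Q, hQ, hQT⟩ := Ideal.exists_ideal_over_maximal_of_isIntegral (S := C) (maximalIdeal T)
    (by rw [(RingHom.injective_iff_ker_eq_bot _).1 hCinj]; exact bot_le)
  have hQ0 : Q ≠ ⊥ := by
    rintro rfl
    refine hT ((IsLocalRing.isField_iff_maximalIdeal_eq).2 ?_)
    rw [← hQT, ← RingHom.ker_eq_comap_bot, (RingHom.injective_iff_ker_eq_bot _).1 hCinj]
  have : Algebra.IsAlgebraic T L := by
    have := IsLocalization.isAlgebraic K (nonZeroDivisors T)
    exact Algebra.IsAlgebraic.trans T K L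
  have : IsFractionRing C L := integralClosure.isFractionRing_of_algebraic (A := T)
    fun x hx => (FaithfulSMul.algebraMap_eq_zero_iff T L).1 hx
  let D := Localization.AtPrime Q
  have : IsDiscreteValuationRing D :=
    IsLocalization.AtPrime.isDiscreteValuationRing_of_dedekind_domain C hQ0 D
  have hle : Q.primeCompl ≤ nonZeroDivisors C := fun x hx => mem_nonZeroDivisors_of_ne_zero
    fun h => hx (h ▸ Q.zero_mem)
  let _ : Algebra D L := IsLocalization.localizationAlgebraOfSubmonoidLe D L Q.primeCompl (nonZeroDivisors C) hle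
  have : IsScalarTower C D L := IsLocalization.localization_isScalarTower_of_submonoid_le D L Q.primeCompl (nonZeroDivisors C) hle
  have : IsFractionRing D L := IsFractionRing.isFractionRing_of_isDomain_of_isLocalization Q.primeCompl D L
  let V : ValuationSubring L :=
    { (algebraMap D L).range with
      mem_or_inv_mem' := fun x => by
        rcases ValuationRing.isInteger_or_isInteger D x with h | h
        · exact Or.inl h
        · exact Or.inr h }
  let e : D ≃+* V := RingEquiv.ofBijective (algebraMap D L).rangeRestrict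
    ⟨fun a b h => IsFractionRing.injective D L (congrArg Subtype.val h),
      RingHom.rangeRestrict_surjective _⟩
  have hV : IsDiscreteValuationRing V :=
    IsDiscreteValuationRing.RingEquivClass.isDiscreteValuationRing e
  have hmem : ∀ a : T, algebraMap T L a = algebraMap D L (algebraMap C D (algebraMap T C a)) := by
    intro a
    rw [← IsScalarTower.algebraMap_apply C D L]
    rfl
  refine ⟨V, hV, fun a => ⟨_, (hmem a).symm⟩, fun a ha => ?_⟩
  have hnu : ¬ IsUnit (algebraMap C D (algebraMap T C a)) := by
    rw [IsLocalization.AtPrime.isUnit_to_map_iff D Q]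
    intro h
    exact h (show a ∈ Q.comap (algebraMap T C) by rw [hQT]; exact ha)
  rw [hmem a]
  have hnu' : ¬ IsUnit (e (algebraMap C D (algebraMap T C a))) := fun h =>
    hnu (by simpa using h.map e.symm)
  exact ((V.valuation_lt_one_iff (e (algebraMap C D (algebraMap T C a)))).1
    ((IsLocalRing.mem_maximalIdeal _).2 hnu') :)

attribute [local instance] MvPolynomial.algebraMvPolynomial in
/-- EGA II 7.1.7: a discrete valuation ring dominating a Noetherian local domain in a finitely
generated field extension of its fraction field. -/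
theorem exists_dvr_dominating (hR : ¬ IsField R) (K : Type u) [Field K] [Algebra R K]
    [IsFractionRing R K] (L : Type u) [Field L] [Algebra K L] [Algebra R L] [IsScalarTower R K L]
    (hfg : (⊤ : IntermediateField K L).FG) :
    ∃ V : ValuationSubring L, IsDiscreteValuationRing V ∧ (∀ a : R, algebraMap R L a ∈ V) ∧
      ∀ a ∈ maximalIdeal R, V.valuation (algebraMap R L a) < 1 := by
  obtain ⟨s, hs⟩ := hfg
  have : Algebra.IsAlgebraic (IntermediateField.adjoin K (s : Set L)) L := by
    rw [hs]
    exact ⟨fun x => isAlgebraic_algebraMap (⟨x, trivial⟩ : (⊤ : IntermediateField K L))⟩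
  have : Algebra.IsAlgebraic (Algebra.adjoin K (s : Set L)) L :=
    IntermediateField.isAlgebraic_adjoin_iff_top.1 this
  obtain ⟨t, hts, ht⟩ := exists_isTranscendenceBasis_subset (R := K) (s : Set L)
  have : Finite t := Set.Finite.to_subtype (s.finite_toSet.subset hts)
  have hK : FaithfulSMul R K := inferInstance
  have hinj : FaithfulSMul R L := by
    rw [faithfulSMul_iff_algebraMap_injective, IsScalarTower.algebraMap_eq R K L]
    exact (algebraMap K L).injective.comp (IsFractionRing.injective R K)
  have hind : AlgebraicIndependent R ((↑) : t → L) := by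
    have h := ht.1.restrictScalars (R := R) (IsFractionRing.injective R K)
    exact h
  let A := MvPolynomial t R
  let P : Ideal A := (maximalIdeal R).map MvPolynomial.C
  have hP : P.IsPrime := by
    have e : (A ⧸ P) ≃ₐ[R] MvPolynomial t (R ⧸ maximalIdeal R) :=
      (MvPolynomial.quotientEquivQuotientMvPolynomial (maximalIdeal R)).symm
    have : IsDomain (A ⧸ P) := e.toRingEquiv.toMulEquiv.isDomain
    exact (Ideal.Quotient.isDomain_iff_prime P).1 this
  let F := IntermediateField.adjoin K (Set.range ((↑) : t → L))
  have : IsScalarTower R F L := IsScalarTower.of_algebraMap_eq fun r => by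
    rw [IsScalarTower.algebraMap_apply R K F, ← IsScalarTower.algebraMap_apply K F L,
      ← IsScalarTower.algebraMap_apply R K L]
  let φ : A →ₐ[R] F := MvPolynomial.aeval fun i => (⟨i.1, IntermediateField.subset_adjoin _ _ ⟨i, rfl⟩⟩ : F)
  have hφv : ∀ a : A, (φ a : L) = MvPolynomial.aeval ((↑) : t → L) a := fun a => by
    exact MvPolynomial.comp_aeval_apply _ (IsScalarTower.toAlgHom R F L) a
  have hφinj : Function.Injective φ := fun a b h => hind (by rw [← hφv, ← hφv, h])
  have hle : P.primeCompl ≤ nonZeroDivisors A := fun x hx => mem_nonZeroDivisors_of_ne_zero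
    fun h => hx (h ▸ P.zero_mem)
  let _ : Algebra A F := φ.toRingHom.toAlgebra
  have : FaithfulSMul A F := (faithfulSMul_iff_algebraMap_injective _ _).2 hφinj
  have : IsScalarTower R A F := IsScalarTower.of_algebraMap_eq fun r => (φ.commutes r).symm
  have : IsFractionRing A F := by
    refine IsFractionRing.of_field A F fun z => ?_
    obtain ⟨p, q, hpq⟩ := (IntermediateField.mem_adjoin_range_iff K _ _).1 z.2
    obtain ⟨⟨b, hb⟩, hp⟩ := IsLocalization.surj ((nonZeroDivisors R).map (MvPolynomial.C (σ := t)))
      (S := MvPolynomial t K) p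
    obtain ⟨⟨b', hb'⟩, hq⟩ := IsLocalization.surj ((nonZeroDivisors R).map (MvPolynomial.C (σ := t)))
      (S := MvPolynomial t K) q
    refine ⟨b * hb'.1, hb.1 * b', Subtype.ext ?_⟩
    have key : ∀ a : A, MvPolynomial.aeval ((↑) : t → L) (algebraMap A (MvPolynomial t K) a) = (φ a : L) := by
      intro a
      rw [hφv, MvPolynomial.algebraMap_def, MvPolynomial.aeval_map_algebraMap]
    have hp' := congrArg (MvPolynomial.aeval ((↑) : t → L)) hp
    have hq' := congrArg (MvPolynomial.aeval ((↑) : t → L)) hq
    rw [map_mul, key, key] at hp' hq'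
    have hne : ∀ c ∈ (nonZeroDivisors R).map (MvPolynomial.C (σ := t)), (φ c : L) ≠ 0 := by
      rintro _ ⟨r, hr, rfl⟩
      rw [hφv, MvPolynomial.aeval_C]
      exact fun h => nonZeroDivisors.ne_zero hr ((FaithfulSMul.algebraMap_eq_zero_iff R L).1 h)
    show (z : L) = (φ (b * hb'.1) : L) / (φ (hb.1 * b') : L)
    rw [map_mul, map_mul, MulMemClass.coe_mul, MulMemClass.coe_mul, ← hp', ← hq', hpq]
    have h1 := hne _ hb.2
    have h2 := hne _ hb'.2
    field_simp
  let B := Localization.AtPrime P
  let _ : Algebra B F := IsLocalization.localizationAlgebraOfSubmonoidLe B F P.primeCompl (nonZeroDivisors A) hle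
  have : IsScalarTower A B F := IsLocalization.localization_isScalarTower_of_submonoid_le B F P.primeCompl (nonZeroDivisors A) hle
  have : IsFractionRing B F := IsFractionRing.isFractionRing_of_isDomain_of_isLocalization P.primeCompl B F
  have hB : ¬ IsField B := by
    intro hf
    refine hR ((IsLocalRing.isField_iff_maximalIdeal_eq).2 (eq_bot_iff.2 fun r hr => ?_))
    by_contra hr0
    have hmem : MvPolynomial.C r ∈ P := Ideal.mem_map_of_mem _ hr
    have h0 : algebraMap A B (MvPolynomial.C r) ≠ 0 := fun h => hr0 <| by
      have := IsLocalization.injective B hle (h.trans (map_zero _).symm)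
      simpa [Ideal.mem_bot] using (MvPolynomial.C_eq_zero).1 this
    obtain ⟨u, hu⟩ := hf.mul_inv_cancel h0
    exact (IsLocalization.AtPrime.isUnit_to_map_iff B P _).1 (IsUnit.of_mul_eq_one u hu) hmem
  have : Algebra.IsAlgebraic F L := ht.isAlgebraic_field
  have : FiniteDimensional F L := by
    have htop : IntermediateField.adjoin F (s : Set L) = ⊤ := by
      rw [eq_top_iff]
      intro x _
      have h1 : IntermediateField.adjoin K (s : Set L) ≤
          (IntermediateField.adjoin F (s : Set L)).restrictScalars K :=
        IntermediateField.adjoin_le_iff.2 (IntermediateField.subset_adjoin F _)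
      rw [hs] at h1
      exact h1 (show x ∈ (⊤ : IntermediateField K L) from trivial)
    have := IntermediateField.finiteDimensional_adjoin (K := F) (S := (s : Set L))
      fun x _ => (Algebra.IsAlgebraic.isAlgebraic x).isIntegral
    exact LinearEquiv.finiteDimensional ((IntermediateField.equivOfEq htop).toLinearEquiv.trans
      IntermediateField.topEquiv.toLinearEquiv)
  obtain ⟨T, _, _, _, _, _, _, _, _, hdim, hT, hcomap⟩ := exists_dimOne_dominating hB F
  let _ : Algebra T L := ((algebraMap F L).comp (algebraMap T F)).toAlgebra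
  have : IsScalarTower T F L := IsScalarTower.of_algebraMap_eq fun _ => rfl
  obtain ⟨V, hV, hVT, hVm⟩ := exists_dvr_dominating_of_dimOne hT F L
  have key : ∀ r : R, algebraMap R L r =
      algebraMap T L (algebraMap B T (algebraMap A B (MvPolynomial.C r))) := by
    intro r
    rw [IsScalarTower.algebraMap_apply T F L, ← IsScalarTower.algebraMap_apply B T F,
      ← IsScalarTower.algebraMap_apply A B F, ← MvPolynomial.algebraMap_eq,
      ← IsScalarTower.algebraMap_apply R A F, ← IsScalarTower.algebraMap_apply R F L]
  refine ⟨V, hV, fun r => key r ▸ hVT _, fun r hr => key r ▸ hVm _ ?_⟩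
  have : algebraMap A B (MvPolynomial.C r) ∈ maximalIdeal B :=
    (IsLocalization.AtPrime.to_map_mem_maximal_iff B P _).2 (Ideal.mem_map_of_mem _ hr)
  rwa [← hcomap] at this

end Groth.Agent.E4O
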