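import Groth.Agent.E4O.Chevalley
import Groth.Agent.E4O.OpenDim
import Groth.Agent.E4O.FibreComp
import Groth.Agent.E4O.UnivOpenFT
import Groth.Agent.E4O.StalkChart

/-!
EGA IV 14.4.4 (b ⇒ a): Chevalley's criterion of universal openness.
-/

universe u

open CategoryTheory AlgebraicGeometry Limits
open scoped TensorProduct

namespace Groth.Agent.E4O

open MvPolynomial in
/-- EGA IV 14.4.4, ring form. -/
theorem exists_le_map_eq_of_geomUnibranch {A B : Type u} [CommRing A] [IsNoetherianRing A]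
    [CommRing B] [Algebra A B] [Algebra.FiniteType A B] (q₀ q : Ideal B) [q₀.IsPrime] [q.IsPrime]
    (hle : q₀ ≤ q) (Ap : Type u) [CommRing Ap] [IsLocalRing Ap] [Algebra A Ap]
    [IsLocalization.AtPrime Ap (q.under A)] (hAp : CAlg2.IsGeomUnibranch Ap)
    (hmin : ∀ p' : Ideal A, p'.IsPrime → p' ≤ q.under A → q₀.under A ≤ p')
    (hmax : ∀ q' : Ideal B, q'.IsPrime → q' ≤ q → q'.under A = q.under A → q' = q)
    (hdeg : Algebra.trdeg (A ⧸ q.under A) (B ⧸ q) ≤ Algebra.trdeg (A ⧸ q₀.under A) (B ⧸ q₀))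
    (σ : Type u) (Q : Ideal (MvPolynomial σ B)) [Q.IsPrime] (hQ : Q.comap C = q)
    (P₁ : Ideal (MvPolynomial σ A)) [P₁.IsPrime]
    (hP₁ : P₁ ≤ Q.comap (MvPolynomial.map (algebraMap A B))) :
    ∃ Q₁ : Ideal (MvPolynomial σ B), Q₁.IsPrime ∧ Q₁ ≤ Q ∧
      Q₁.comap (MvPolynomial.map (algebraMap A B)) = P₁ := by
  let p₀ := q₀.under A
  let mA : A →+* A ⧸ p₀ := Ideal.Quotient.mk p₀
  let mB : B →+* B ⧸ q₀ := Ideal.Quotient.mk q₀
  have hsq : mB.comp (algebraMap A B) = (algebraMap (A ⧸ p₀) (B ⧸ q₀)).comp mA := rfl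
  have hqb : (q.map mB).IsPrime :=
    Ideal.map_isPrime_of_surjective Ideal.Quotient.mk_surjective (Ideal.mk_ker.le.trans hle)
  have hqbc : (q.map mB).comap mB = q := by
    rw [Ideal.comap_map_of_surjective mB Ideal.Quotient.mk_surjective, ← RingHom.ker_eq_comap_bot,
      Ideal.mk_ker]
    exact sup_eq_left.2 hle
  have hpb : ((q.map mB).under (A ⧸ p₀)).comap mA = q.under A := by
    rw [Ideal.under_def, Ideal.comap_comap, ← hsq, ← Ideal.comap_comap, hqbc]
  let Ap' := Localization.AtPrime ((q.map mB).under (A ⧸ p₀))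
  let π : Ap →+* Ap' := IsLocalization.map (M := (q.under A).primeCompl)
    (T := ((q.map mB).under (A ⧸ p₀)).primeCompl) Ap' mA fun a ha h => ha (hpb.le h)
  have hπ : Function.Surjective π := by
    intro x
    obtain ⟨a, ⟨s, hs⟩, rfl⟩ :=
      IsLocalization.exists_mk'_eq ((q.map mB).under (A ⧸ p₀)).primeCompl x
    obtain ⟨a, rfl⟩ := Ideal.Quotient.mk_surjective a
    obtain ⟨s, rfl⟩ := Ideal.Quotient.mk_surjective s
    refine ⟨IsLocalization.mk' Ap a (⟨s, fun h => hs (hpb.ge h)⟩ : (q.under A).primeCompl), ?_⟩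
    exact IsLocalization.map_mk' _ _ _
  have hker : RingHom.ker π ≤ nilradical Ap := by
    intro x hx
    obtain ⟨a, s, rfl⟩ := IsLocalization.exists_mk'_eq (q.under A).primeCompl x
    rw [RingHom.mem_ker, IsLocalization.map_mk', IsLocalization.mk'_eq_zero_iff] at hx
    obtain ⟨⟨t, ht⟩, hta⟩ := hx
    have ha : a ∈ p₀ := by
      rcases mul_eq_zero.1 hta with h | h
      · exact absurd (by rw [show t = 0 from h]; exact Ideal.zero_mem _) ht
      · exact Ideal.Quotient.eq_zero_iff_mem.1 h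
    rw [IsLocalization.mk'_eq_mul_mk'_one]
    refine Ideal.mul_mem_right _ _ ?_
    rw [nilradical_eq_sInf, Ideal.mem_sInf]
    intro P hP
    have hdisj : Disjoint ((q.under A).primeCompl : Set A) (P.comap (algebraMap A Ap)) :=
      ((IsLocalization.isPrime_iff_isPrime_disjoint (q.under A).primeCompl Ap P).1 hP).2
    exact hmin (P.comap (algebraMap A Ap)) (hP.comap _)
      (fun y hy => by_contra fun hy' => Set.disjoint_left.1 hdisj hy' hy) ha
  -- the prime upstairs and the prime downstairs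
  let μB : MvPolynomial σ B →+* MvPolynomial σ (B ⧸ q₀) := MvPolynomial.map mB
  let μA : MvPolynomial σ A →+* MvPolynomial σ (A ⧸ p₀) := MvPolynomial.map mA
  have hμB : Function.Surjective μB := MvPolynomial.map_surjective _ Ideal.Quotient.mk_surjective
  have hμA : Function.Surjective μA := MvPolynomial.map_surjective _ Ideal.Quotient.mk_surjective
  have hkB : RingHom.ker μB ≤ Q := by
    rw [MvPolynomial.ker_map, Ideal.mk_ker, Ideal.map_le_iff_le_comap, hQ]
    exact hle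
  have hkA : RingHom.ker μA ≤ P₁ := by
    rw [MvPolynomial.ker_map, Ideal.mk_ker, Ideal.map_le_iff_le_comap]
    refine hmin _ inferInstance fun a ha => ?_
    have h := hP₁ ha
    rw [Ideal.mem_comap, MvPolynomial.map_C] at h
    exact hQ.le h
  have hQb : (Q.map μB).IsPrime := Ideal.map_isPrime_of_surjective hμB hkB
  have hPb : (P₁.map μA).IsPrime := Ideal.map_isPrime_of_surjective hμA hkA
  have hQbc : (Q.map μB).comap μB = Q := by
    rw [Ideal.comap_map_of_surjective μB hμB, ← RingHom.ker_eq_comap_bot]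
    exact sup_eq_left.2 hkB
  have hPbc : (P₁.map μA).comap μA = P₁ := by
    rw [Ideal.comap_map_of_surjective μA hμA, ← RingHom.ker_eq_comap_bot]
    exact sup_eq_left.2 hkA
  have hcomm : μB.comp (MvPolynomial.map (algebraMap A B)) =
      (MvPolynomial.map (algebraMap (A ⧸ p₀) (B ⧸ q₀))).comp μA := by
    refine RingHom.ext fun g => ?_
    simp only [RingHom.comp_apply, μA, μB, MvPolynomial.map_map, hsq]
  have hQbC : (Q.map μB).comap C = q.map mB := by
    refine Ideal.comap_injective_of_surjective mB Ideal.Quotient.mk_surjective ?_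
    rw [hqbc, Ideal.comap_comap, show (C : B ⧸ q₀ →+* MvPolynomial σ (B ⧸ q₀)).comp mB = μB.comp C from
      RingHom.ext fun b => (MvPolynomial.map_C _ b).symm, ← Ideal.comap_comap, hQbc, hQ]
  have : Algebra.FiniteType A (B ⧸ q₀) :=
    Algebra.FiniteType.of_surjective (Ideal.Quotient.mkₐ A q₀) Ideal.Quotient.mk_surjective
  have : Algebra.FiniteType (A ⧸ p₀) (B ⧸ q₀) := .of_restrictScalars_finiteType A _ _
  obtain ⟨Q₁, hQ₁, hQ₁Q, hQ₁P⟩ := exists_le_comap_map_eq_of_domain (A := A ⧸ p₀) (B := B ⧸ q₀)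
    Ideal.algebraMap_quotient_injective (q.map mB) Ap' (isGeomUnibranch_of_surjective π hπ hker hAp)
    (fun q' hq' hq'le hu => by
      have h1 : q'.comap mB = q := hmax _ (hq'.comap _) (fun b hb => hqbc.le (hq'le hb)) (by
        rw [Ideal.under_def, Ideal.comap_comap, hsq, ← Ideal.comap_comap]
        exact (congrArg (Ideal.comap mA) hu).trans hpb)
      rw [← h1, Ideal.map_comap_of_surjective mB Ideal.Quotient.mk_surjective])
    (by
      refine le_trans (le_of_eq ?_) hdeg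
      let eR : (A ⧸ p₀) ⧸ (q.map mB).under (A ⧸ p₀) ≃+* A ⧸ q.under A :=
        (Ideal.quotEquivOfEq (by
          rw [← hpb, Ideal.map_comap_of_surjective mA Ideal.Quotient.mk_surjective] :
          (q.map mB).under (A ⧸ p₀) = (q.under A).map mA)).trans
          (DoubleQuot.quotQuotEquivQuotOfLE (fun a ha => hle ha))
      refine trdeg_eq_of_ringEquiv eR (DoubleQuot.quotQuotEquivQuotOfLE hle) ?_
      refine Ideal.Quotient.ringHom_ext (Ideal.Quotient.ringHom_ext (RingHom.ext fun a => ?_))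
      rfl)
    σ (Q.map μB) hQbC (P₁.map μA) (by
      rw [Ideal.map_le_iff_le_comap, Ideal.comap_comap, ← hcomm, ← Ideal.comap_comap, hQbc]
      exact hP₁)
  refine ⟨Q₁.comap μB, hQ₁.comap _, fun g hg => hQbc.le (hQ₁Q hg), ?_⟩
  rw [Ideal.comap_comap, hcomm, ← Ideal.comap_comap, hQ₁P, hPbc]

open MvPolynomial in
/-- EGA IV 14.4.4: lifting of generizations after a finite type base change. -/
theorem exists_le_tensor_of_geomUnibranch {A B A' : Type u} [CommRing A] [IsNoetherianRing A]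
    [CommRing B] [Algebra A B] [Algebra.FiniteType A B] [CommRing A'] [Algebra A A']
    [Algebra.FiniteType A A'] (q₀ q : Ideal B) [q₀.IsPrime] [q.IsPrime]
    (hle : q₀ ≤ q) (Ap : Type u) [CommRing Ap] [IsLocalRing Ap] [Algebra A Ap]
    [IsLocalization.AtPrime Ap (q.under A)] (hAp : CAlg2.IsGeomUnibranch Ap)
    (hmin : ∀ p' : Ideal A, p'.IsPrime → p' ≤ q.under A → q₀.under A ≤ p')
    (hmax : ∀ q' : Ideal B, q'.IsPrime → q' ≤ q → q'.under A = q.under A → q' = q)
    (hdeg : Algebra.trdeg (A ⧸ q.under A) (B ⧸ q) ≤ Algebra.trdeg (A ⧸ q₀.under A) (B ⧸ q₀))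
    (z : Ideal (B ⊗[A] A')) [z.IsPrime]
    (hz : z.comap Algebra.TensorProduct.includeLeftRingHom = q) (w' : Ideal A') [w'.IsPrime]
    (hw : w' ≤ z.comap (Algebra.TensorProduct.includeRight : A' →ₐ[A] B ⊗[A] A').toRingHom) :
    ∃ z' : Ideal (B ⊗[A] A'), z'.IsPrime ∧ z' ≤ z ∧
      z'.comap (Algebra.TensorProduct.includeRight : A' →ₐ[A] B ⊗[A] A').toRingHom = w' := by
  obtain ⟨σ, _, π, hπ⟩ := Algebra.FiniteType.iff_quotient_mvPolynomial'.1 ‹Algebra.FiniteType A A'›
  let ψ : MvPolynomial σ B →ₐ[B] B ⊗[A] A' := MvPolynomial.aeval fun i => 1 ⊗ₜ[A] π (X i)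
  have hψC : ψ.toRingHom.comp C = Algebra.TensorProduct.includeLeftRingHom :=
    RingHom.ext fun b => MvPolynomial.aeval_C _ b
  have hψπ : ψ.toRingHom.comp (MvPolynomial.map (algebraMap A B)) =
      (Algebra.TensorProduct.includeRight : A' →ₐ[A] B ⊗[A] A').toRingHom.comp π.toRingHom := by
    refine MvPolynomial.ringHom_ext (fun a => ?_) fun i => ?_
    · simp [ψ]
    · simp [ψ]
  obtain ⟨Q₁, hQ₁, hQ₁Q, hQ₁P⟩ := exists_le_map_eq_of_geomUnibranch q₀ q hle Ap hAp hmin hmax hdeg σ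
    (z.comap ψ.toRingHom) (by rw [Ideal.comap_comap, hψC, hz]) (w'.comap π.toRingHom) (by
      rw [Ideal.comap_comap, hψπ, ← Ideal.comap_comap]
      exact Ideal.comap_mono hw)
  let mQ : MvPolynomial σ B →+* MvPolynomial σ B ⧸ Q₁ := Ideal.Quotient.mk Q₁
  let g : MvPolynomial σ A →+* MvPolynomial σ B ⧸ Q₁ := mQ.comp (MvPolynomial.map (algebraMap A B))
  have hg : RingHom.ker π.toRingHom ≤ RingHom.ker g := fun a ha => by
    have : a ∈ Q₁.comap (MvPolynomial.map (algebraMap A B)) := by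
      rw [hQ₁P, Ideal.mem_comap, RingHom.mem_ker.1 ha]
      exact Ideal.zero_mem _
    exact Ideal.Quotient.eq_zero_iff_mem.2 this
  let θ₂ : A' →+* MvPolynomial σ B ⧸ Q₁ := π.toRingHom.liftOfSurjective hπ ⟨g, hg⟩
  have hθ₂ : ∀ a, θ₂ (π a) = g a := fun a => RingHom.liftOfRightInverse_comp_apply _ _ _ _ a
  let θ₁ : B →ₐ[A] MvPolynomial σ B ⧸ Q₁ :=
    ((Ideal.Quotient.mkₐ B Q₁).comp (Algebra.ofId B _)).restrictScalars A
  have hθA : ∀ a, θ₂ (algebraMap A A' a) = algebraMap A (MvPolynomial σ B ⧸ Q₁) a := fun a => by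
    rw [← π.commutes a, hθ₂]
    show mQ (MvPolynomial.map (algebraMap A B) (C a)) = _
    rw [MvPolynomial.map_C]
    rfl
  let θ₂' : A' →ₐ[A] MvPolynomial σ B ⧸ Q₁ := ⟨θ₂, hθA⟩
  let θ := Algebra.TensorProduct.lift θ₁ θ₂' fun _ _ => Commute.all _ _
  have hθψ : θ.toRingHom.comp ψ.toRingHom = mQ := by
    refine MvPolynomial.ringHom_ext (fun b => ?_) fun i => ?_
    · show θ (ψ (C b)) = _
      rw [MvPolynomial.aeval_C]
      show θ (b ⊗ₜ[A] 1) = _
      rw [Algebra.TensorProduct.lift_tmul, map_one, mul_one]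
      rfl
    · show θ (ψ (X i)) = _
      rw [MvPolynomial.aeval_X, Algebra.TensorProduct.lift_tmul, map_one, one_mul]
      show θ₂ (π (X i)) = _
      rw [hθ₂]
      exact congrArg mQ (MvPolynomial.map_X _ i)
  have hψs : ∀ x : B ⊗[A] A', ∃ y, ψ y = x := by
    intro x
    induction x using TensorProduct.induction_on with
    | zero => exact ⟨0, map_zero _⟩
    | tmul b a =>
      obtain ⟨a, rfl⟩ := hπ a
      refine ⟨C b * MvPolynomial.map (algebraMap A B) a, ?_⟩
      rw [map_mul, MvPolynomial.aeval_C,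
        show ψ (MvPolynomial.map (algebraMap A B) a) = 1 ⊗ₜ[A] π a from congr($hψπ a)]
      show b ⊗ₜ[A] 1 * 1 ⊗ₜ[A] π a = _
      rw [Algebra.TensorProduct.tmul_mul_tmul, mul_one, one_mul]
    | add x y hx hy =>
      obtain ⟨u, rfl⟩ := hx
      obtain ⟨v, rfl⟩ := hy
      exact ⟨u + v, map_add _ _ _⟩
  refine ⟨RingHom.ker θ.toRingHom, RingHom.ker_isPrime _, fun x hx => ?_, ?_⟩
  · obtain ⟨y, rfl⟩ := hψs x
    have : mQ y = 0 := (congr($hθψ y)).symm.trans hx
    exact hQ₁Q (Ideal.Quotient.eq_zero_iff_mem.1 this)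
  · refine Ideal.comap_injective_of_surjective π.toRingHom hπ ?_
    rw [← hQ₁P, Ideal.comap_comap, ← hψπ, ← Ideal.comap_comap, RingHom.comap_ker, hθψ, Ideal.mk_ker]

variable {X Y : Scheme.{u}}

/-- EGA IV 14.4.4 (b ⇒ a): a maximal point of a fibre over a geometrically unibranch point which has
a generization over the generic point of the base with at least the same dimension in its fibre is a
point of universal openness. -/
theorem isUnivOpenAt_of_geomUnibranch [IsLocallyNoetherian Y] (f : X ⟶ Y) [LocallyOfFiniteType f]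
    {x ξ : X} (hmax : IsFibreMax f x) (hξ : ξ ⤳ x) (hcomp : ∀ y' : Y, y' ⤳ f x → f ξ ⤳ y')
    (hdeg : fdeg f x ≤ fdeg f ξ) (hy : CAlg2.IsGeomUnibranch (Y.presheaf.stalk (f x))) :
    EGA43.IsUnivOpenAt f x := by
  have : LocallyOfFinitePresentation f := locallyOfFinitePresentation_of_isLocallyNoetherian f
  refine isUnivOpenAt_of_forall_finiteType fun W _ w _ z hz => ?_
  rw [isOpenAt_iff_forall_exists_specializes]
  intro w' hw'
  obtain ⟨C, ⟨q, rfl⟩, hC⟩ := exists_chart f x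
  have := hC ‹_›
  obtain ⟨q₀, rfl⟩ := hξ.mem_open C.isOpenEmbedding_pt.isOpen_range ⟨q, rfl⟩
  have hwz : w (pullback.snd f w z) = C.ptY (PrimeSpectrum.comap (algebraMap C.A C.B) q) := by
    rw [← C.apply q, ← hz]
    simp only [← Scheme.Hom.comp_apply, pullback.condition]
  obtain ⟨_, ⟨Wa, hWa, rfl⟩, hzW, hWsub⟩ :=
    W.isBasis_affineOpens.exists_subset_of_mem_open
      (show pullback.snd f w z ∈ w ⁻¹' Set.range C.j from ⟨_, hwz.symm⟩)
      (C.j.isOpenEmbedding.isOpen_range.preimage w.continuous)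
  replace hWa : IsAffineOpen Wa := hWa
  have := hWa.isOpenImmersion_fromSpec
  let v : Spec Γ(W, Wa) ⟶ Spec (CommRingCat.of C.A) :=
    IsOpenImmersion.lift C.j (hWa.fromSpec ≫ w) (by
      rintro _ ⟨t, rfl⟩
      exact hWsub (hWa.range_fromSpec.le ⟨t, rfl⟩))
  have hv : v ≫ C.j = hWa.fromSpec ≫ w := IsOpenImmersion.lift_fac _ _ _
  obtain ⟨φ, hφ⟩ := Spec.map_surjective v
  let _ : Algebra C.A Γ(W, Wa) := φ.hom.toAlgebra
  have hftW : Algebra.FiniteType C.A Γ(W, Wa) := by
    have hft : LocallyOfFiniteType v := by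
      have : LocallyOfFiniteType (v ≫ C.j) := by rw [hv]; infer_instance
      exact locallyOfFiniteType_of_comp v C.j
    rw [← hφ, HasRingHomProperty.Spec_iff (P := @LocallyOfFiniteType)] at hft
    exact hft
  have hj : hWa.fromSpec ≫ w = Spec.map (CommRingCat.ofHom (algebraMap C.A Γ(W, Wa))) ≫ C.j := by
    rw [← hv, ← hφ]
    rfl
  obtain ⟨e, he, he1, he2, her⟩ := exists_tensor_chart f w C.e hWa.fromSpec C.j C.comm hj
  obtain ⟨zc, rfl⟩ : z ∈ Set.range e := by
    rw [her]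
    exact ⟨⟨q, hz.symm⟩, by rw [Set.mem_preimage, hWa.range_fromSpec]; exact hzW⟩
  have hsnd : ∀ t, pullback.snd f w (e t) = hWa.fromSpec (PrimeSpectrum.comap
      (Algebra.TensorProduct.includeRight : Γ(W, Wa) →ₐ[C.A] C.B ⊗[C.A] Γ(W, Wa)).toRingHom t) :=
    fun t => ((Scheme.Hom.comp_apply e (pullback.snd f w) t).symm.trans
      (congrArg (fun k : _ ⟶ W => k t) he2))
  have hfst : pullback.fst f w (e zc) =
      C.pt (PrimeSpectrum.comap Algebra.TensorProduct.includeLeftRingHom zc) :=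
    (Scheme.Hom.comp_apply e (pullback.fst f w) zc).symm.trans
      (congrArg (fun k : _ ⟶ X => k zc) he1)
  rw [hfst] at hz
  have hzq := congrArg PrimeSpectrum.asIdeal (C.isOpenEmbedding_pt.injective hz)
  rw [hsnd] at hw'
  obtain ⟨wc, rfl⟩ := hw'.mem_open hWa.fromSpec.isOpenEmbedding.isOpen_range ⟨_, rfl⟩
  let p := PrimeSpectrum.comap (algebraMap C.A C.B) q
  obtain ⟨a, ha⟩ : ∃ _ : Algebra C.A (Y.presheaf.stalk (C.ptY p)),
      IsLocalization.AtPrime (Y.presheaf.stalk (C.ptY p)) (q.asIdeal.under C.A) :=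
    exists_isLocalization_stalk C.j p
  rw [C.apply q] at hy hcomp
  have hmin : ∀ p' : Ideal C.A, p'.IsPrime → p' ≤ q.asIdeal.under C.A →
      q₀.asIdeal.under C.A ≤ p' := fun p' hp' hle => by
    have := hcomp (C.ptY ⟨p', hp'⟩) ((C.specializesY_iff _ _).2 hle)
    rw [C.apply] at this
    exact (C.specializesY_iff _ _).1 this
  have hmax' : ∀ q' : Ideal C.B, q'.IsPrime → q' ≤ q.asIdeal →
      q'.under C.A = q.asIdeal.under C.A → q' = q.asIdeal := fun q' hq' hle hu => by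
    have := hmax (C.pt ⟨q', hq'⟩) ((C.specializes_iff _ _).2 hle)
      (by rw [C.apply, C.apply]; exact congrArg C.ptY (PrimeSpectrum.ext hu))
    exact congrArg PrimeSpectrum.asIdeal (C.isOpenEmbedding_pt.injective this)
  obtain ⟨z', hz', hz'z, hz'w⟩ := exists_le_tensor_of_geomUnibranch (A' := Γ(W, Wa))
    q₀.asIdeal q.asIdeal ((C.specializes_iff _ _).1 hξ)
    (Y.presheaf.stalk (C.ptY p)) hy hmin hmax'
    (by rw [C.trdeg_eq_fdeg, C.trdeg_eq_fdeg]; exact_mod_cast hdeg) zc.asIdeal hzq wc.asIdeal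
    ((PrimeSpectrum.le_iff_specializes _ _).2
      (hWa.fromSpec.isOpenEmbedding.isInducing.specializes_iff.1 hw'))
  refine ⟨e ⟨z', hz'⟩, ?_, ((PrimeSpectrum.le_iff_specializes ⟨z', hz'⟩ zc).1 hz'z).map e.continuous⟩
  rw [hsnd]
  exact congrArg hWa.fromSpec (PrimeSpectrum.ext hz'w)

end Groth.Agent.E4O
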