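import Groth.Agent.E4O.ChartDim
import Groth.Agent.E4O.ChevalleyOpen

/-!
Equidimensionality, openness and dimensions of local rings (EGA IV 13.3, 14.2.2, 14.4.4).
-/

universe u

open CategoryTheory AlgebraicGeometry

namespace Groth.Agent.E4O

theorem height_lt_top {B : Type u} [CommRing B] [IsNoetherianRing B] (q : PrimeSpectrum B) :
    ∃ n : ℕ, q.asIdeal.height = (n : ℕ∞) :=
  ⟨_, (ENat.natCast_toNat (Ideal.height_ne_top q.2.ne_top)).symm⟩

theorem relHeight_lt_top {B : Type u} [CommRing B] [IsNoetherianRing B] (m q : PrimeSpectrum B) :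
    ∃ n : ℕ, relHeight m q = (n : ℕ∞) := by
  obtain ⟨n, hn⟩ := height_lt_top q
  have hne : relHeight m q ≠ ⊤ := fun h => by
    have := relHeight_le_height m q
    rw [h, hn, top_le_iff] at this
    exact ENat.natCast_ne_top n this
  exact ⟨_, (ENat.natCast_toNat hne).symm⟩

theorem relHeight_trans {B : Type u} [CommRing B] {m r q : PrimeSpectrum B} (h₁ : m ≤ r) (h₂ : r ≤ q) :
    relHeight m r + relHeight r q ≤ relHeight m q := by
  rw [relHeight_eq h₁, relHeight_eq h₂, relHeight_eq (h₁.trans h₂)]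
  conv_lhs => rw [Order.height_eq_iSup_last_eq, Order.height_eq_iSup_last_eq]
  refine ENat.biSup_add_biSup_le'
    (p := fun l : LTSeries _ => RelSeries.last l = (⟨r, h₁⟩ : Set.Ici m))
    (q := fun l : LTSeries _ => RelSeries.last l = (⟨q, h₂⟩ : Set.Ici r))
    ⟨RelSeries.singleton _ _, rfl⟩ ⟨RelSeries.singleton _ _, rfl⟩ fun l₁ hl₁ l₂ hl₂ => ?_
  let l₂' := l₂.map (fun x => (⟨x.1, h₁.trans x.2⟩ : Set.Ici m)) (fun _ _ h => h)
  have hlast : l₂'.last = (⟨q, h₁.trans h₂⟩ : Set.Ici m) := by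
    show (l₂.map _ _).last = _
    rw [LTSeries.last_map, hl₂]
  by_cases hh : l₂'.head = (⟨r, h₁⟩ : Set.Ici m)
  · refine le_trans (le_of_eq ?_)
      (Order.length_le_height (p := l₁.smash l₂' (hl₁.trans hh.symm)) (le_of_eq ?_))
    · show (l₁.length : ℕ∞) + l₂.length = ((l₁.length + l₂.length : ℕ) : ℕ∞)
      push_cast; rfl
    · rw [RelSeries.last_smash, hlast]
  · have hlt : l₁.last < l₂'.head := hl₁ ▸ lt_of_le_of_ne (show r ≤ l₂.head.1 from l₂.head.2) (Ne.symm hh)
    refine le_trans ?_ (Order.length_le_height (p := l₁.append l₂' hlt) (le_of_eq ?_))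
    · show (l₁.length : ℕ∞) + l₂.length ≤ ((l₁.length + l₂.length + 1 : ℕ) : ℕ∞)
      exact_mod_cast Nat.le_succ _
    · rw [RelSeries.last_append, hlast]

variable {X Y : Scheme.{u}}

/-- EGA IV 14.2.2: openness at the generic points of the fibre and equidimensional local ring of the
source give equidimensionality. -/
theorem isEquidimAt_of_isOpenAt_of_isEquidim [IsLocallyNoetherian Y] (f : X ⟶ Y)
    [LocallyOfFiniteType f] (x : X) (hX : EGA4.IsEquidim (X.presheaf.stalk x))
    (hopen : ∀ z : X, z ⤳ x → f z = f x → IsFibreMax f z → EGA43.IsOpenAt f z) :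
    EGA43.IsEquidimAt f x := by
  obtain ⟨z₀, hz₀x, hfz₀, hz₀max, hd₀, -⟩ := exists_isFibreMax_specializes f x
  obtain ⟨C, ⟨q, rfl⟩, hC⟩ := exists_chart f x
  have := hC ‹_›
  have : IsNoetherianRing C.B := Algebra.FiniteType.isNoetherianRing C.A _
  obtain ⟨r, rfl⟩ := hz₀x.mem_open C.isOpenEmbedding_pt.isOpen_range ⟨q, rfl⟩
  refine isEquidimAt_of_forall_generic f _ (fdeg f (C.pt r)) hd₀.le fun ξ hξx hξmax => ?_
  obtain ⟨m, rfl⟩ := hξx.mem_open C.isOpenEmbedding_pt.isOpen_range ⟨q, rfl⟩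
  have hmq : m ≤ q := (C.specializes_iff _ _).1 hξx
  have hrq : r ≤ q := (C.specializes_iff _ _).1 hz₀x
  have hru : PrimeSpectrum.comap (algebraMap C.A C.B) r = PrimeSpectrum.comap (algebraMap C.A C.B) q :=
    C.isOpenEmbedding_ptY.injective (by rw [← C.apply, ← C.apply]; exact hfz₀)
  have hm : relHeight m q = q.asIdeal.height :=
    (C.isEquidim_stalk_iff q).1 hX m ((C.isMin_iff m).2 hξmax) hmq
  have h1 := C.relHeight_add_fdeg_le m q hmq
  have h2 := C.fdeg_le_relHeight_add r q hrq hru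
  have h3 := relHeight_add_le_height hrq
  have h4 : (r.asIdeal.under C.A).height ≤ r.asIdeal.height :=
    C.height_le_of_isOpenAt r (hopen _ hz₀x hfz₀ hz₀max)
  rw [show r.asIdeal.under C.A = q.asIdeal.under C.A from congrArg PrimeSpectrum.asIdeal hru] at h4
  have h5 := relHeight_le_height (PrimeSpectrum.comap (algebraMap C.A C.B) m)
    (PrimeSpectrum.comap (algebraMap C.A C.B) q)
  change _ ≤ (q.asIdeal.under C.A).height at h5
  have h6 := relHeight_add_le_height (B := C.A) (m := PrimeSpectrum.comap (algebraMap C.A C.B) m)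
    (q := PrimeSpectrum.comap (algebraMap C.A C.B) q) (Ideal.comap_mono hmq)
  change _ ≤ (q.asIdeal.under C.A).height at h6
  have h7 : fdeg f (C.pt m) ≤ fdeg f (C.pt r) := by
    have := (fdeg_le_fibreDimAt_of_specializes (f := f) hξx).trans hd₀.le
    exact_mod_cast this
  obtain ⟨d, hd⟩ := height_lt_top (⟨q.asIdeal.under C.A, inferInstance⟩ : PrimeSpectrum C.A)
  change (q.asIdeal.under C.A).height = _ at hd
  obtain ⟨n, hn⟩ := height_lt_top q
  obtain ⟨a, ha⟩ := relHeight_lt_top (PrimeSpectrum.comap (algebraMap C.A C.B) m)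
    (PrimeSpectrum.comap (algebraMap C.A C.B) q)
  obtain ⟨b, hb⟩ := relHeight_lt_top r q
  obtain ⟨c, hc⟩ := height_lt_top r
  obtain ⟨p₀h, hp₀⟩ := height_lt_top (PrimeSpectrum.comap (algebraMap C.A C.B) m)
  rw [hm, hn, ha] at h1
  rw [hb] at h2
  rw [hb, hc, hn] at h3
  rw [hd, hc] at h4
  rw [hd, ha] at h5
  rw [hd, ha, hp₀] at h6
  norm_cast at h1 h2 h3 h4 h5 h6
  have h0 : p₀h = 0 := by omega
  refine ⟨by omega, closure_mem_irreducibleComponents fun w hw => ?_⟩
  rw [C.apply] at hw ⊢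
  obtain ⟨t, rfl⟩ := hw.mem_open C.isOpenEmbedding_ptY.isOpen_range ⟨_, rfl⟩
  have hle := (C.specializesY_iff _ _).1 hw
  refine congrArg C.ptY (le_antisymm hle ?_)
  rw [h0] at hp₀
  exact ((PrimeSpectrum.isMin_iff).2 (Ideal.height_eq_zero_iff.1 (by exact_mod_cast hp₀))) hle

/-- Generizations lift over a geometrically unibranch point. -/
theorem exists_le_under_eq_of_geomUnibranch {A B : Type u} [CommRing A] [IsNoetherianRing A]
    [CommRing B] [Algebra A B] [Algebra.FiniteType A B] (q₀ q : Ideal B) [q₀.IsPrime] [q.IsPrime]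
    (hle : q₀ ≤ q) (Ap : Type u) [CommRing Ap] [IsLocalRing Ap] [Algebra A Ap]
    [IsLocalization.AtPrime Ap (q.under A)] (hAp : CAlg2.IsGeomUnibranch Ap)
    (hmin : ∀ p' : Ideal A, p'.IsPrime → p' ≤ q.under A → q₀.under A ≤ p')
    (hmax : ∀ q' : Ideal B, q'.IsPrime → q' ≤ q → q'.under A = q.under A → q' = q)
    (hdeg : Algebra.trdeg (A ⧸ q.under A) (B ⧸ q) ≤ Algebra.trdeg (A ⧸ q₀.under A) (B ⧸ q₀))
    (p' : Ideal A) [p'.IsPrime] (hp' : p' ≤ q.under A) :
    ∃ q' : Ideal B, q'.IsPrime ∧ q' ≤ q ∧ q'.under A = p' := by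
  let cA : MvPolynomial PEmpty.{u + 1} A →+* A := MvPolynomial.constantCoeff
  let cB : MvPolynomial PEmpty.{u + 1} B →+* B := MvPolynomial.constantCoeff
  have hc : cB.comp (MvPolynomial.map (algebraMap A B)) = (algebraMap A B).comp cA :=
    MvPolynomial.ringHom_ext (fun a => by simp [cA, cB]) fun i => i.elim
  obtain ⟨Q₁, hQ₁, hQ₁Q, hQ₁P⟩ := exists_le_map_eq_of_geomUnibranch q₀ q hle Ap hAp hmin hmax hdeg
    PEmpty.{u + 1} (q.comap cB) (by
      rw [Ideal.comap_comap, show cB.comp MvPolynomial.C = RingHom.id B from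
        RingHom.ext fun b => MvPolynomial.constantCoeff_C _ b, Ideal.comap_id])
    (p'.comap cA) (by
      rw [Ideal.comap_comap, hc, ← Ideal.comap_comap]
      exact Ideal.comap_mono hp')
  refine ⟨Q₁.comap MvPolynomial.C, hQ₁.comap _, ?_, ?_⟩
  · refine (Ideal.comap_mono hQ₁Q).trans (le_of_eq ?_)
    rw [Ideal.comap_comap, show cB.comp MvPolynomial.C = RingHom.id B from
      RingHom.ext fun b => MvPolynomial.constantCoeff_C _ b, Ideal.comap_id]
  · rw [Ideal.under_def, Ideal.comap_comap, show (MvPolynomial.C : B →+* MvPolynomial PEmpty.{u + 1} B).comp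
      (algebraMap A B) = (MvPolynomial.map (algebraMap A B)).comp MvPolynomial.C from
      RingHom.ext fun a => (MvPolynomial.map_C _ a).symm, ← Ideal.comap_comap, hQ₁P, Ideal.comap_comap,
      show cA.comp MvPolynomial.C = RingHom.id A from
      RingHom.ext fun b => MvPolynomial.constantCoeff_C _ b, Ideal.comap_id]

/-- Semicontinuity inside the closure of a point. -/
theorem fdeg_le_of_isMax_in_closure {f : X ⟶ Y} [LocallyOfFiniteType f]
    (C : Chart f) (m r : PrimeSpectrum C.B) (h : m ≤ r)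
    (hmax : ∀ r' : PrimeSpectrum C.B, m ≤ r' → r' ≤ r →
      PrimeSpectrum.comap (algebraMap C.A C.B) r' = PrimeSpectrum.comap (algebraMap C.A C.B) r → r' = r) :
    fdeg f (C.pt m) ≤ fdeg f (C.pt r) := by
  let B' := C.B ⧸ m.asIdeal
  have : Algebra.FiniteType C.A B' :=
    Algebra.FiniteType.of_surjective (Ideal.Quotient.mkₐ C.A m.asIdeal) Ideal.Quotient.mk_surjective
  let g : Spec (CommRingCat.of B') ⟶ Y := Spec.map (CommRingCat.ofHom (algebraMap C.A B')) ≫ C.j
  have : LocallyOfFiniteType g := by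
    have : LocallyOfFiniteType (Spec.map (CommRingCat.ofHom (algebraMap C.A B'))) := by
      rw [HasRingHomProperty.Spec_iff (P := @LocallyOfFiniteType)]
      exact RingHom.finiteType_algebraMap.2 ‹_›
    infer_instance
  let C' : Chart g := { A := C.A, B := B', e := 𝟙 _, j := C.j, comm := Category.id_comp _ }
  have htr : ∀ (w : PrimeSpectrum C.B) (hw : m ≤ w),
      ∃ w' : PrimeSpectrum B', PrimeSpectrum.comap (Ideal.Quotient.mk m.asIdeal) w' = w ∧
        fdeg g (C'.pt w') = fdeg f (C.pt w) := by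
    intro w hw
    have hker : RingHom.ker (Ideal.Quotient.mk m.asIdeal) ≤ w.asIdeal := Ideal.mk_ker.le.trans hw
    let w' : PrimeSpectrum B' := ⟨w.asIdeal.map (Ideal.Quotient.mk m.asIdeal),
      Ideal.map_isPrime_of_surjective Ideal.Quotient.mk_surjective hker⟩
    have hcw : w'.asIdeal.comap (Ideal.Quotient.mk m.asIdeal) = w.asIdeal := by
      rw [Ideal.comap_map_of_surjective _ Ideal.Quotient.mk_surjective, ← RingHom.ker_eq_comap_bot]
      exact sup_eq_left.2 hker
    refine ⟨w', PrimeSpectrum.ext hcw, ?_⟩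
    have hu : w'.asIdeal.under C.A = w.asIdeal.under C.A := by
      rw [Ideal.under_def, Ideal.under_def, ← hcw, Ideal.comap_comap]
      rfl
    have h3 : Algebra.trdeg (C.A ⧸ w'.asIdeal.under C.A) (B' ⧸ w'.asIdeal) =
        Algebra.trdeg (C.A ⧸ w.asIdeal.under C.A) (C.B ⧸ w.asIdeal) := by
      have : Nontrivial (C.A ⧸ w'.asIdeal.under C.A) :=
        Ideal.Quotient.nontrivial_iff.2 (w'.2.comap _).ne_top
      refine trdeg_eq_of_ringEquiv (Ideal.quotEquivOfEq hu) (DoubleQuot.quotQuotEquivQuotOfLE hw) ?_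
      exact Ideal.Quotient.ringHom_ext (RingHom.ext fun a => rfl)
    have h4 : (fdeg g (C'.pt w') : Cardinal.{u}) = (fdeg f (C.pt w) : Cardinal.{u}) :=
      (C'.trdeg_eq_fdeg w').symm.trans (h3.trans (C.trdeg_eq_fdeg w))
    exact_mod_cast h4
  obtain ⟨m', hm', hdm⟩ := htr m le_rfl
  obtain ⟨r', hr', hdr⟩ := htr r h
  rw [← hdm, ← hdr]
  have hle' : m' ≤ r' := by
    intro x hx
    obtain ⟨x, rfl⟩ := Ideal.Quotient.mk_surjective x
    exact hr'.ge (h (hm'.le hx))
  have hmax' : IsFibreMax g (C'.pt r') := by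
    refine (C'.isFibreMax_iff r').2 fun w hwr hu => ?_
    have hmw : m ≤ PrimeSpectrum.comap (Ideal.Quotient.mk m.asIdeal) w := fun x hx => by
      show Ideal.Quotient.mk m.asIdeal x ∈ w.asIdeal
      rw [Ideal.Quotient.eq_zero_iff_mem.2 hx]
      exact Ideal.zero_mem _
    have hle2 : PrimeSpectrum.comap (Ideal.Quotient.mk m.asIdeal) w ≤ r :=
      le_of_le_of_eq (Ideal.comap_mono hwr :
        PrimeSpectrum.comap (Ideal.Quotient.mk m.asIdeal) w ≤
          PrimeSpectrum.comap (Ideal.Quotient.mk m.asIdeal) r') hr'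
    have heq := hmax _ hmw hle2 (by
      rw [← hr', ← PrimeSpectrum.comap_comp_apply, ← PrimeSpectrum.comap_comp_apply]
      exact hu)
    exact PrimeSpectrum.comap_injective_of_surjective _ Ideal.Quotient.mk_surjective
      (heq.trans hr'.symm)
  have key := fdeg_le_fibreDimAt_of_specializes (f := g) ((C'.specializes_iff m' r').2 hle')
  rw [fibreDimAt_eq_fdeg hmax'] at key
  exact_mod_cast key


/-- EGA IV 14.4.4: equidimensionality over a geometrically unibranch point gives universal openness at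
the maximal points of the fibre. -/
theorem isUnivOpenAt_of_isEquidimAt [IsLocallyNoetherian Y] (f : X ⟶ Y) [LocallyOfFiniteType f]
    {x z : X} (hy : CAlg2.IsGeomUnibranch (Y.presheaf.stalk (f x))) (h : EGA43.IsEquidimAt f x)
    (hzx : z ⤳ x) (hfz : f z = f x) (hzmax : IsFibreMax f z) : EGA43.IsUnivOpenAt f z := by
  obtain ⟨e, -, hfib, hgen⟩ := exists_of_isEquidimAt f h
  obtain ⟨η, hηy, hmin⟩ := exists_generic_of_isUnibranch hy.1
  obtain ⟨C, ⟨r, rfl⟩, hC⟩ := exists_chart f z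
  obtain ⟨m, hm, hmr⟩ := Ideal.exists_minimalPrimes_le (I := ⊥) (J := r.asIdeal) bot_le
  let m' : PrimeSpectrum C.B := ⟨m, Ideal.minimalPrimes_isPrime hm⟩
  have hξz : C.pt m' ⤳ C.pt r := (C.specializes_iff _ _).2 hmr
  obtain ⟨hd, hcomp⟩ :=
    hgen _ (hξz.trans hzx) ((C.isMin_iff m').1 (PrimeSpectrum.isMin_iff.2 hm))
  have hfη : f (C.pt m') = η := (eq_of_specializes_of_component hcomp
    (hmin _ ((hξz.trans hzx).map f.continuous))).symm
  refine isUnivOpenAt_of_geomUnibranch f hzmax hξz (fun y' hy' => hfη.symm ▸ hmin y' (hfz ▸ hy')) ?_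
    (hfz.symm ▸ hy)
  rw [hd, hfib _ hzx hfz hzmax]

/-- EGA IV 14.4.4: equidimensionality over a geometrically unibranch point gives an equidimensional
local ring. -/
theorem isEquidim_stalk_of_isEquidimAt [IsLocallyNoetherian Y] (f : X ⟶ Y) [LocallyOfFiniteType f]
    {x : X} (hy : CAlg2.IsGeomUnibranch (Y.presheaf.stalk (f x))) (h : EGA43.IsEquidimAt f x) :
    EGA4.IsEquidim (X.presheaf.stalk x) := by
  obtain ⟨e, hd, hfib, hgen⟩ := exists_of_isEquidimAt f h
  obtain ⟨η, hηy, hmin⟩ := exists_generic_of_isUnibranch hy.1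
  obtain ⟨C, ⟨q, rfl⟩, hC⟩ := exists_chart f x
  have := hC ‹_›
  have : IsNoetherianRing C.B := Algebra.FiniteType.isNoetherianRing C.A _
  rw [C.apply] at hy hmin hηy
  obtain ⟨p₀, rfl⟩ := hηy.mem_open C.isOpenEmbedding_ptY.isOpen_range ⟨_, rfl⟩
  obtain ⟨ap, hap⟩ : ∃ _ : Algebra C.A (Y.presheaf.stalk (C.ptY (PrimeSpectrum.comap (algebraMap C.A C.B) q))),
      IsLocalization.AtPrime (Y.presheaf.stalk (C.ptY (PrimeSpectrum.comap (algebraMap C.A C.B) q)))
        (PrimeSpectrum.comap (algebraMap C.A C.B) q).asIdeal :=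
    exists_isLocalization_stalk C.j (PrimeSpectrum.comap (algebraMap C.A C.B) q)
  obtain ⟨d, hd'⟩ := height_lt_top (PrimeSpectrum.comap (algebraMap C.A C.B) q)
  suffices key : ∀ m : PrimeSpectrum C.B, IsMin m → m ≤ q →
      relHeight m q + fdeg f (C.pt q) = (d : ℕ∞) + e by
    rw [C.isEquidim_stalk_iff]
    intro m hm hmq
    obtain ⟨m₁, h1, h2, h3⟩ := exists_minimal_relHeight_eq q
    have h4 := (key m hm hmq).trans (key m₁ h2 h1).symm
    rw [← h3]
    exact (ENat.addLECancellable_of_ne_top (ENat.natCast_ne_top _)).inj_left.1 h4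
  intro m hm hmq
  obtain ⟨hdm, hcomp⟩ := hgen _ ((C.specializes_iff _ _).2 hmq) ((C.isMin_iff m).1 hm)
  rw [C.apply] at hcomp
  have hpm : PrimeSpectrum.comap (algebraMap C.A C.B) m = p₀ := by
    have h1 := hmin (C.ptY (PrimeSpectrum.comap (algebraMap C.A C.B) m))
      ((C.specializesY_iff _ _).2 (Ideal.comap_mono hmq))
    exact (C.isOpenEmbedding_ptY.injective (eq_of_specializes_of_component hcomp h1)).symm
  refine le_antisymm ?_ ?_
  · refine (C.relHeight_add_fdeg_le m q hmq).trans ?_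
    rw [hdm]
    gcongr
    exact (relHeight_le_height _ _).trans hd'.le
  -- a maximal point of the fibre in the closure of `m`
  let I : Ideal C.B := m.asIdeal ⊔ (q.asIdeal.under C.A).map (algebraMap C.A C.B)
  obtain ⟨r, hr, hrq⟩ := Ideal.exists_minimalPrimes_le (I := I) (J := q.asIdeal)
    (sup_le hmq Ideal.map_comap_le)
  let r' : PrimeSpectrum C.B := ⟨r, hr.1.1⟩
  have hmr : m ≤ r' := le_sup_left.trans hr.1.2
  have hru : PrimeSpectrum.comap (algebraMap C.A C.B) r' = PrimeSpectrum.comap (algebraMap C.A C.B) q :=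
    PrimeSpectrum.ext (le_antisymm (Ideal.comap_mono hrq)
      (Ideal.map_le_iff_le_comap.1 (le_sup_right.trans hr.1.2)))
  have hrmax : ∀ w : PrimeSpectrum C.B, m ≤ w → w ≤ r' →
      PrimeSpectrum.comap (algebraMap C.A C.B) w = PrimeSpectrum.comap (algebraMap C.A C.B) r' →
      w = r' := fun w h1 h2 h3 => le_antisymm h2
        (hr.2 ⟨w.2, sup_le h1 (Ideal.map_le_iff_le_comap.2
          (congrArg PrimeSpectrum.asIdeal (h3.trans hru)).ge)⟩ h2)
  have h1 : fdeg f (C.pt m) ≤ fdeg f (C.pt r') := fdeg_le_of_isMax_in_closure C m r' hmr hrmax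
  have h2 : fdeg f (C.pt r') ≤ e := by
    have h := fdeg_le_fibreDimAt (f := f) ((C.specializes_iff r' q).2 hrq) (by rw [C.apply, C.apply, hru])
    rw [hd] at h
    exact_mod_cast h
  have h3 := C.fdeg_le_relHeight_add r' q hrq hru
  -- lifting inside the closure of `m`
  have : Algebra.FiniteType C.A (C.B ⧸ m.asIdeal) :=
    Algebra.FiniteType.of_surjective (Ideal.Quotient.mkₐ C.A m.asIdeal) Ideal.Quotient.mk_surjective
  have : IsNoetherianRing (C.B ⧸ m.asIdeal) := Algebra.FiniteType.isNoetherianRing C.A _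
  have hker : RingHom.ker (Ideal.Quotient.mk m.asIdeal) ≤ r'.asIdeal := Ideal.mk_ker.le.trans hmr
  have hrb : (r.map (Ideal.Quotient.mk m.asIdeal)).IsPrime :=
    have : r.IsPrime := hr.1.1
    Ideal.map_isPrime_of_surjective Ideal.Quotient.mk_surjective hker
  have hrbc : (r.map (Ideal.Quotient.mk m.asIdeal)).comap (Ideal.Quotient.mk m.asIdeal) = r := by
    rw [Ideal.comap_map_of_surjective _ Ideal.Quotient.mk_surjective, ← RingHom.ker_eq_comap_bot]
    exact sup_eq_left.2 hker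
  have hu : (r.map (Ideal.Quotient.mk m.asIdeal)).under C.A = q.asIdeal.under C.A := by
    rw [Ideal.under_def, show algebraMap C.A (C.B ⧸ m.asIdeal) =
      (Ideal.Quotient.mk m.asIdeal).comp (algebraMap C.A C.B) from rfl, ← Ideal.comap_comap, hrbc]
    exact congrArg PrimeSpectrum.asIdeal hru
  have : IsLocalization.AtPrime
      (Y.presheaf.stalk (C.ptY (PrimeSpectrum.comap (algebraMap C.A C.B) q)))
      ((r.map (Ideal.Quotient.mk m.asIdeal)).under C.A) := by
    simp only [hu]; exact hap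
  have hb : (⊥ : Ideal (C.B ⧸ m.asIdeal)).under C.A = p₀.asIdeal := by
    rw [Ideal.under_def, show algebraMap C.A (C.B ⧸ m.asIdeal) =
      (Ideal.Quotient.mk m.asIdeal).comp (algebraMap C.A C.B) from rfl, ← Ideal.comap_comap,
      ← RingHom.ker_eq_comap_bot, Ideal.mk_ker]
    exact congrArg PrimeSpectrum.asIdeal hpm
  have hdeg : Algebra.trdeg (C.A ⧸ (r.map (Ideal.Quotient.mk m.asIdeal)).under C.A)
        ((C.B ⧸ m.asIdeal) ⧸ r.map (Ideal.Quotient.mk m.asIdeal)) ≤
      Algebra.trdeg (C.A ⧸ (⊥ : Ideal (C.B ⧸ m.asIdeal)).under C.A)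
        ((C.B ⧸ m.asIdeal) ⧸ (⊥ : Ideal (C.B ⧸ m.asIdeal))) := by
    have e1 : Algebra.trdeg (C.A ⧸ (r.map (Ideal.Quotient.mk m.asIdeal)).under C.A)
        ((C.B ⧸ m.asIdeal) ⧸ r.map (Ideal.Quotient.mk m.asIdeal)) = (fdeg f (C.pt r') : Cardinal.{u}) := by
      have : Nontrivial (C.A ⧸ (r.map (Ideal.Quotient.mk m.asIdeal)).under C.A) :=
        Ideal.Quotient.nontrivial_iff.2 (hrb.comap _).ne_top
      have : Nontrivial (C.A ⧸ r'.asIdeal.under C.A) :=
        Ideal.Quotient.nontrivial_iff.2 (r'.2.comap _).ne_top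
      refine (trdeg_eq_of_ringEquiv (R' := C.A ⧸ r'.asIdeal.under C.A) (S' := C.B ⧸ r'.asIdeal)
        (Ideal.quotEquivOfEq (hu.trans (congrArg PrimeSpectrum.asIdeal hru).symm))
        (DoubleQuot.quotQuotEquivQuotOfLE hmr) ?_).trans (C.trdeg_eq_fdeg r')
      exact Ideal.Quotient.ringHom_ext (RingHom.ext fun a => rfl)
    have e2 : Algebra.trdeg (C.A ⧸ (⊥ : Ideal (C.B ⧸ m.asIdeal)).under C.A)
        ((C.B ⧸ m.asIdeal) ⧸ (⊥ : Ideal (C.B ⧸ m.asIdeal))) = (fdeg f (C.pt m) : Cardinal.{u}) := by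
      have : Nontrivial (C.A ⧸ (⊥ : Ideal (C.B ⧸ m.asIdeal)).under C.A) :=
        Ideal.Quotient.nontrivial_iff.2 (hb ▸ p₀.2.ne_top)
      refine (trdeg_eq_of_ringEquiv (R' := C.A ⧸ m.asIdeal.under C.A) (S' := C.B ⧸ m.asIdeal)
        (Ideal.quotEquivOfEq (hb.trans (congrArg PrimeSpectrum.asIdeal hpm).symm))
        (RingEquiv.quotientBot (C.B ⧸ m.asIdeal)) ?_).trans (C.trdeg_eq_fdeg m)
      exact Ideal.Quotient.ringHom_ext (RingHom.ext fun a => rfl)
    rw [e1, e2, hdm]
    exact_mod_cast h2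
  have hd0 : (⊥ : Ideal (C.B ⧸ m.asIdeal)).IsPrime := Ideal.isPrime_bot
  have hlift := height_under_le_height_of_lifts (A := C.A) (r.map (Ideal.Quotient.mk m.asIdeal))
    fun p' hp' hp'le => exists_le_under_eq_of_geomUnibranch ⊥ _ bot_le
      (Y.presheaf.stalk (C.ptY (PrimeSpectrum.comap (algebraMap C.A C.B) q))) hy
      (fun p'' hp'' hle => by
        rw [hb]
        exact (C.specializesY_iff p₀ ⟨p'', hp''⟩).1 (hmin _
          ((C.specializesY_iff ⟨p'', hp''⟩ _).2 (hle.trans hu.le))))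
      (fun w hw hwr hwu => by
        have hmw : m ≤ (⟨w.comap (Ideal.Quotient.mk m.asIdeal), hw.comap _⟩ : PrimeSpectrum C.B) :=
          fun x hx => by
            show Ideal.Quotient.mk m.asIdeal x ∈ w
            rw [Ideal.Quotient.eq_zero_iff_mem.2 hx]
            exact Ideal.zero_mem _
        have := congrArg PrimeSpectrum.asIdeal
          (hrmax _ hmw ((Ideal.comap_mono hwr).trans hrbc.le) (PrimeSpectrum.ext (by
            show (w.comap (Ideal.Quotient.mk m.asIdeal)).comap (algebraMap C.A C.B) = _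
            rw [Ideal.comap_comap]
            exact (hwu.trans hu).trans (congrArg PrimeSpectrum.asIdeal hru).symm)))
        change w.comap (Ideal.Quotient.mk m.asIdeal) = r at this
        rw [← this, Ideal.map_comap_of_surjective _ Ideal.Quotient.mk_surjective])
      hdeg p' hp'le
  rw [height_map_quotient hmr] at hlift
  rw [hu] at hlift
  calc (d : ℕ∞) + e ≤ relHeight m r' + (relHeight r' q + fdeg f (C.pt q)) := by
        refine add_le_add (hd'.ge.trans hlift) (le_trans ?_ h3)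
        rw [← hdm]
        exact_mod_cast h1
    _ ≤ relHeight m q + fdeg f (C.pt q) := by
        rw [← add_assoc]
        gcongr
        exact relHeight_trans hmr hrq

end Groth.Agent.E4O
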