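import Groth.Agent.E4O.LocalDim
import Groth.Agent.E4O.FibreSets

/-!
Dimensions of local rings along a chart, and the pointwise form of equidimensionality.
-/

universe u

open CategoryTheory AlgebraicGeometry TopologicalSpace Topology

namespace Groth.Agent.E4O

variable {X Y : Scheme.{u}} {f : X ⟶ Y}

theorem Chart.ringKrullDim_stalk (C : Chart f) (q : PrimeSpectrum C.B) :
    ringKrullDim (X.presheaf.stalk (C.pt q)) = q.asIdeal.height := by
  obtain ⟨a, ha⟩ : ∃ _ : Algebra C.B (X.presheaf.stalk (C.pt q)),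
      IsLocalization.AtPrime (X.presheaf.stalk (C.pt q)) q.asIdeal :=
    exists_isLocalization_stalk C.e q
  exact IsLocalization.AtPrime.ringKrullDim_eq_height q.asIdeal (X.presheaf.stalk (C.pt q))

theorem Chart.ringKrullDim_stalkY (C : Chart f) (p : PrimeSpectrum C.A) :
    ringKrullDim (Y.presheaf.stalk (C.ptY p)) = p.asIdeal.height := by
  obtain ⟨a, ha⟩ : ∃ _ : Algebra C.A (Y.presheaf.stalk (C.ptY p)),
      IsLocalization.AtPrime (Y.presheaf.stalk (C.ptY p)) p.asIdeal :=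
    exists_isLocalization_stalk C.j p
  exact IsLocalization.AtPrime.ringKrullDim_eq_height p.asIdeal (Y.presheaf.stalk (C.ptY p))

theorem Chart.isEquidim_stalk_iff (C : Chart f) (q : PrimeSpectrum C.B) :
    EGA4.IsEquidim (X.presheaf.stalk (C.pt q)) ↔
      ∀ m : PrimeSpectrum C.B, IsMin m → m ≤ q → relHeight m q = q.asIdeal.height := by
  obtain ⟨a, ha⟩ : ∃ _ : Algebra C.B (X.presheaf.stalk (C.pt q)),
      IsLocalization.AtPrime (X.presheaf.stalk (C.pt q)) q.asIdeal :=
    exists_isLocalization_stalk C.e q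
  exact isEquidim_localization_iff q (X.presheaf.stalk (C.pt q))

theorem natCast_enat_le {a b : ℕ∞} {c d : ℕ}
    (h : (a : Cardinal.{u}) + (c : Cardinal.{u}) ≤ (b : Cardinal.{u}) + (d : Cardinal.{u})) :
    a + c ≤ b + d := by
  rw [← Cardinal.ofENat_nat c, ← Cardinal.ofENat_nat d, ← Cardinal.ofENat_add, ← Cardinal.ofENat_add] at h
  exact Cardinal.ofENat_le_ofENat.1 h

/-- The dimension inequality in a chart. -/
theorem Chart.relHeight_add_fdeg_le [LocallyOfFiniteType f] (C : Chart f) [IsNoetherianRing C.A]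
    (m q : PrimeSpectrum C.B) (h : m ≤ q) :
    relHeight m q + fdeg f (C.pt q) ≤
      relHeight (PrimeSpectrum.comap (algebraMap C.A C.B) m)
        (PrimeSpectrum.comap (algebraMap C.A C.B) q) + fdeg f (C.pt m) := by
  refine natCast_enat_le.{u} ?_
  rw [← C.trdeg_eq_fdeg, ← C.trdeg_eq_fdeg]
  exact relHeight_add_trdeg_le (A := C.A) m q h

/-- The dimension formula inside a fibre. -/
theorem Chart.fdeg_le_relHeight_add [LocallyOfFiniteType f] (C : Chart f)
    (m q : PrimeSpectrum C.B) (h : m ≤ q)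
    (hf : PrimeSpectrum.comap (algebraMap C.A C.B) m = PrimeSpectrum.comap (algebraMap C.A C.B) q) :
    (fdeg f (C.pt m) : ℕ∞) ≤ relHeight m q + fdeg f (C.pt q) := by
  have hu : m.asIdeal.under C.A = q.asIdeal.under C.A := congrArg PrimeSpectrum.asIdeal hf
  have : m.asIdeal.LiesOver (q.asIdeal.under C.A) := ⟨hu.symm⟩
  have h1 := trdeg_le_relHeight_add_of_under_eq (q.asIdeal.under C.A) m q h
  rw [← trdeg_congr_under m.asIdeal (q.asIdeal.under C.A) hu, C.trdeg_eq_fdeg, C.trdeg_eq_fdeg] at h1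
  have h2 := natCast_enat_le.{u} (a := 0) (c := fdeg f (C.pt m)) (b := relHeight m q)
    (d := fdeg f (C.pt q)) (by simpa using h1)
  simpa using h2

/-- Openness at a point forces the dimension of the local ring to be at least that of the base. -/
theorem Chart.height_le_of_isOpenAt [IsLocallyNoetherian Y] [LocallyOfFiniteType f] (C : Chart f)
    [IsNoetherianRing C.A] (q : PrimeSpectrum C.B) (h : EGA43.IsOpenAt f (C.pt q)) :
    (q.asIdeal.under C.A).height ≤ q.asIdeal.height := by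
  have : IsNoetherianRing C.B := Algebra.FiniteType.isNoetherianRing C.A _
  have : LocallyOfFinitePresentation f := locallyOfFinitePresentation_of_isLocallyNoetherian f
  refine height_under_le_height_of_lifts q.asIdeal fun p' hp' hle => ?_
  obtain ⟨x', hx', hsp⟩ := isOpenAt_iff_forall_exists_specializes.1 h (C.ptY ⟨p', hp'⟩)
    (by rw [C.apply]; exact (C.specializesY_iff _ _).2 hle)
  obtain ⟨q', rfl⟩ := hsp.mem_open C.isOpenEmbedding_pt.isOpen_range ⟨q, rfl⟩
  rw [C.apply] at hx'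
  exact ⟨q'.asIdeal, q'.2, (C.specializes_iff _ _).1 hsp,
    congrArg PrimeSpectrum.asIdeal (C.isOpenEmbedding_ptY.injective hx')⟩

theorem Chart.isFibreMax_iff (C : Chart f) (q : PrimeSpectrum C.B) :
    IsFibreMax f (C.pt q) ↔ ∀ q' : PrimeSpectrum C.B, q' ≤ q →
      PrimeSpectrum.comap (algebraMap C.A C.B) q' = PrimeSpectrum.comap (algebraMap C.A C.B) q →
      q' = q := by
  constructor
  · intro h q' hle hu
    exact C.isOpenEmbedding_pt.injective
      (h (C.pt q') ((C.specializes_iff _ _).2 hle) (by rw [C.apply, C.apply, hu]))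
  · intro h x' hx' hfx'
    obtain ⟨q', rfl⟩ := hx'.mem_open C.isOpenEmbedding_pt.isOpen_range ⟨q, rfl⟩
    rw [C.apply, C.apply] at hfx'
    rw [h q' ((C.specializes_iff _ _).1 hx') (C.isOpenEmbedding_ptY.injective hfx')]

/-- At a maximal point of a fibre the local ring is no bigger than that of the base. -/
theorem Chart.height_le_of_isFibreMax (C : Chart f) [IsNoetherianRing C.A] (q : PrimeSpectrum C.B)
    (h : IsFibreMax f (C.pt q)) : q.asIdeal.height ≤ (q.asIdeal.under C.A).height := by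
  have : IsNoetherianRing C.B := Algebra.FiniteType.isNoetherianRing C.A _
  let I := (q.asIdeal.under C.A).map (algebraMap C.A C.B)
  have hI : RingHom.ker (Ideal.Quotient.mk I) ≤ q.asIdeal :=
    Ideal.mk_ker.le.trans Ideal.map_comap_le
  have hp : (q.asIdeal.map (Ideal.Quotient.mk I)).IsPrime :=
    Ideal.map_isPrime_of_surjective Ideal.Quotient.mk_surjective hI
  have h0 : (q.asIdeal.map (Ideal.Quotient.mk I)).height = 0 := by
    rw [Ideal.height_eq_zero_iff]
    refine ⟨⟨hp, bot_le⟩, fun P hP hPle => ?_⟩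
    have hPp : P.IsPrime := hP.1
    let q' : PrimeSpectrum C.B := ⟨P.comap (Ideal.Quotient.mk I), hPp.comap _⟩
    have hq'le : q' ≤ q := by
      refine (Ideal.comap_mono hPle).trans ?_
      rw [Ideal.comap_map_of_surjective _ Ideal.Quotient.mk_surjective, ← RingHom.ker_eq_comap_bot]
      exact sup_le le_rfl hI
    have hIq' : I ≤ q'.asIdeal := fun x hx => by
      show Ideal.Quotient.mk I x ∈ P
      rw [Ideal.Quotient.eq_zero_iff_mem.2 hx]
      exact P.zero_mem
    have hu : PrimeSpectrum.comap (algebraMap C.A C.B) q' = PrimeSpectrum.comap (algebraMap C.A C.B) q :=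
      PrimeSpectrum.ext (le_antisymm (Ideal.comap_mono hq'le) (Ideal.map_le_iff_le_comap.1 hIq'))
    have heq : P.comap (Ideal.Quotient.mk I) = q.asIdeal :=
      congrArg PrimeSpectrum.asIdeal ((C.isFibreMax_iff q).1 h q' hq'le hu)
    rw [← heq, Ideal.map_comap_of_surjective _ Ideal.Quotient.mk_surjective]
  have := Ideal.height_le_height_add_of_liesOver (q.asIdeal.under C.A) q.asIdeal
  rwa [h0, add_zero] at this

theorem Chart.isMin_iff (C : Chart f) (m : PrimeSpectrum C.B) :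
    IsMin m ↔ ∀ w : X, w ⤳ C.pt m → w = C.pt m := by
  constructor
  · intro h w hw
    obtain ⟨t, rfl⟩ := hw.mem_open C.isOpenEmbedding_pt.isOpen_range ⟨m, rfl⟩
    have htm := (C.specializes_iff _ _).1 hw
    rw [show t = m from le_antisymm htm (h htm)]
  · intro h t ht
    exact (C.isOpenEmbedding_pt.injective (h _ ((C.specializes_iff _ _).2 ht))).ge

/-- The pointwise criterion for equidimensionality. -/
theorem isEquidimAt_of_forall_generic [IsLocallyNoetherian Y] (f : X ⟶ Y) [LocallyOfFiniteType f]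
    (x : X) (e : ℕ) (hle : FlatMor.fibreDimAt f x ≤ (e : ℕ))
    (h : ∀ ξ : X, ξ ⤳ x → (∀ w, w ⤳ ξ → w = ξ) →
      fdeg f ξ = e ∧ closure {f ξ} ∈ irreducibleComponents (Y : Type u)) :
    EGA43.IsEquidimAt f x := by
  obtain ⟨U₁, hxU₁, hU₁⟩ := exists_open_forall_fibreDimAt_le f x
  obtain ⟨C, ⟨q, hq⟩, hC⟩ := exists_chart f x
  have := hC ‹_›
  have : IsNoetherianRing C.B := Algebra.FiniteType.isNoetherianRing C.A _
  let bad : Set (PrimeSpectrum C.B) := {m | IsMin m ∧ ¬ C.pt m ⤳ x}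
  have hbad : bad.Finite :=
    ((minimalPrimes.finite_of_isNoetherianRing C.B).preimage
      (fun a _ b _ h => PrimeSpectrum.ext h)).subset fun m hm => PrimeSpectrum.isMin_iff.1 hm.1
  let U : X.Opens := ⟨(U₁ : Set X) ∩ (Set.range C.pt ∩ (⋃ m ∈ bad, closure {C.pt m})ᶜ),
    U₁.isOpen.inter (C.isOpenEmbedding_pt.isOpen_range.inter
      (hbad.isClosed_biUnion fun _ _ => isClosed_closure).isOpen_compl)⟩
  have hxU : x ∈ U := by
    refine ⟨hxU₁, ⟨q, hq⟩, fun hmem => ?_⟩
    obtain ⟨m, hm, hxm⟩ := Set.mem_iUnion₂.1 hmem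
    exact hm.2 (specializes_iff_mem_closure.2 hxm)
  have hgen : ∀ w ∈ U, ∃ ξ : X, ξ ⤳ w ∧ ξ ⤳ x ∧ ∀ w', w' ⤳ ξ → w' = ξ := by
    rintro _ ⟨-, ⟨r, rfl⟩, hnot⟩
    obtain ⟨m, hm, hmr⟩ := Ideal.exists_minimalPrimes_le (I := ⊥) (J := r.asIdeal) bot_le
    let m' : PrimeSpectrum C.B := ⟨m, Ideal.minimalPrimes_isPrime hm⟩
    have hmin : IsMin m' := PrimeSpectrum.isMin_iff.2 hm
    have hspec : C.pt m' ⤳ C.pt r := (C.specializes_iff _ _).2 hmr
    refine ⟨C.pt m', hspec, ?_, (C.isMin_iff m').1 hmin⟩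
    by_contra hc
    exact hnot (Set.mem_iUnion₂.2 ⟨m', ⟨hmin, hc⟩, specializes_iff_mem_closure.1 hspec⟩)
  have : QuasiSober ↥U := U.isOpen.isOpenEmbedding_subtypeVal.quasiSober
  refine ⟨e, U, hxU, fun Z hZ => ?_, fun x' Z hZ => ?_⟩
  · obtain ⟨w, rfl, hw⟩ := exists_eq_closure_of_mem_irreducibleComponents hZ
    obtain ⟨ξ, hξw, hξx, hξmax⟩ := hgen w.1 w.2
    obtain rfl : ξ = w.1 := congrArg Subtype.val
      (hw ⟨ξ, hξw.mem_open U.isOpen w.2⟩ ((subtype_specializes_iff _ _).2 hξw))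
    refine ⟨closure {f w.1}, (h _ hξx hξmax).2,
      specializes_iff_mem_closure.1 (hξx.map f.continuous), ?_⟩
    exact closure_image_closure_singleton (U.ι ≫ f) w
  · obtain ⟨z, -, hzmax, hd⟩ := exists_of_mem_irreducibleComponents_fiber _ hZ
    rw [hd, fdeg_comp_openImmersion]
    let w := (U.ι ≫ f).fiberι _ z
    have hmax : IsFibreMax f (U.ι w) := fun a ha hfa => by
      have haU : a ∈ U := ha.mem_open U.isOpen w.2
      have := hzmax ⟨a, haU⟩ ((subtype_specializes_iff (⟨a, haU⟩ : U) w).2 ha) hfa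
      exact congrArg Subtype.val this
    obtain ⟨ξ, hξw, hξx, hξmax⟩ := hgen (U.ι w) w.2
    have h1 := fdeg_le_fibreDimAt_of_specializes (f := f) hξw
    have h2 := (hU₁ (U.ι w) w.2.1).trans hle
    rw [fibreDimAt_eq_fdeg hmax, (h ξ hξx hξmax).1] at h1
    rw [fibreDimAt_eq_fdeg hmax] at h2
    have h1' : e ≤ fdeg f (U.ι w) := by exact_mod_cast h1
    have h2' : fdeg f (U.ι w) ≤ e := by exact_mod_cast h2
    rw [le_antisymm h2' h1']

/-- What equidimensionality at a point says about the points generizing it. -/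
theorem exists_of_isEquidimAt (f : X ⟶ Y) [LocallyOfFiniteType f] {x : X}
    (h : EGA43.IsEquidimAt f x) :
    ∃ e : ℕ, FlatMor.fibreDimAt f x = (e : ℕ) ∧
      (∀ z, z ⤳ x → f z = f x → IsFibreMax f z → fdeg f z = e) ∧
      ∀ ξ : X, ξ ⤳ x → (∀ w, w ⤳ ξ → w = ξ) →
        fdeg f ξ = e ∧ closure {f ξ} ∈ irreducibleComponents (Y : Type u) := by
  obtain ⟨e, U, hxU, hcomp, hdim⟩ := h
  have hmax : ∀ z, z ⤳ x → IsFibreMax f z → fdeg f z = e := by
    intro z hzx hzmax
    have hzU : z ∈ U := hzx.mem_open U.isOpen hxU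
    let z' : ↥U := ⟨z, hzU⟩
    have hmax' : IsFibreMax (U.ι ≫ f) z' := fun a ha hfa => by
      refine Subtype.ext (hzmax a.1 ((subtype_specializes_iff a z').1 ha) hfa)
    obtain ⟨Z, hZ, hd⟩ := exists_component_of_isFibreMax (U.ι ≫ f)
      (rfl : (U.ι ≫ f) z' = (U.ι ≫ f) z') hmax'
    have h1 := hdim z' Z hZ
    rw [hd, fdeg_comp_openImmersion] at h1
    exact_mod_cast h1
  obtain ⟨z₀, hz₀, hfz₀, hz₀max, hd₀, -⟩ := exists_isFibreMax_specializes f x
  refine ⟨e, by rw [hd₀, hmax z₀ hz₀ hz₀max], fun z h1 _ h2 => hmax z h1 h2,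
    fun ξ hξx hξmax => ⟨hmax ξ hξx fun a ha _ => hξmax a ha, ?_⟩⟩
  have hξU : ξ ∈ U := hξx.mem_open U.isOpen hxU
  let ξ' : ↥U := ⟨ξ, hξU⟩
  have : QuasiSober ↥U := U.isOpen.isOpenEmbedding_subtypeVal.quasiSober
  have hc : closure {ξ'} ∈ irreducibleComponents (↥U : Type u) :=
    closure_mem_irreducibleComponents fun a ha =>
      Subtype.ext (hξmax a.1 ((subtype_specializes_iff a ξ').1 ha))
  obtain ⟨W, hW, -, hWeq⟩ := hcomp _ hc
  have hWeq' : closure {f ξ} = W := (closure_image_closure_singleton (U.ι ≫ f) ξ').symm.trans hWeq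
  rw [hWeq']
  exact hW

end Groth.Agent.E4O
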