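import Groth.Agent.E4O.Subscheme
import Groth.Agent.E4O.ChartDim

/-!
Local dimensions of subspaces (closed subschemes, fibres) read in a chart as heights in subsets of
the prime spectrum.
-/

universe u

open CategoryTheory AlgebraicGeometry TopologicalSpace Topology

namespace Groth.Agent.E4O

variable {X Y Z : Scheme.{u}} {f : X ⟶ Y}

/-- The dimension of the local ring of a topologically embedded scheme is monotone. -/
theorem ringKrullDim_stalk_le_of_isEmbedding (i : Z ⟶ X) (hi : IsEmbedding i) (z : Z) :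
    ringKrullDim (Z.presheaf.stalk z) ≤ ringKrullDim (X.presheaf.stalk (i z)) := by
  rw [ringKrullDim_stalk_eq_coheight, ringKrullDim_stalk_eq_coheight]
  refine WithBot.coe_le_coe.2 (Order.coheight_le_coheight_apply_of_strictMono (fun a => i a)
    (fun a b hab => lt_iff_le_not_ge.2
      ⟨Scheme.le_iff_specializes.2 ((Scheme.le_iff_specializes.1 hab.le).map i.continuous),
      fun h => hab.not_ge (Scheme.le_iff_specializes.2
        (hi.isInducing.specializes_iff.1 (Scheme.le_iff_specializes.1 h)))⟩) z)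

/-- The local dimension of an embedded scheme as a height in a subset of the spectrum of a chart. -/
theorem ringKrullDim_stalk_eq_height_subtype {R : Type u} [CommRing R]
    (j : PrimeSpectrum R → X) (hj : IsOpenEmbedding j) (i : Z ⟶ X) (hi : IsEmbedding i) (z : Z)
    (q : PrimeSpectrum R) (hq : j q = i z) (S : Set (PrimeSpectrum R))
    (hS : ∀ r ≤ q, r ∈ S ↔ j r ∈ Set.range i) (hqS : q ∈ S) :
    ringKrullDim (Z.presheaf.stalk z) = Order.height (⟨q, hqS⟩ : S) := by
  have hsp : ∀ {a b : PrimeSpectrum R}, j a ⤳ j b ↔ a ≤ b := fun {a b} =>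
    hj.isInducing.specializes_iff.trans (PrimeSpectrum.le_iff_specializes a b).symm
  let Sq : Set (PrimeSpectrum R) := {r | r ∈ S ∧ r ≤ q}
  have hex : ∀ r : Sq, ∃ w : Z, i w = j r.1 := fun r => (hS r.1 r.2.2).1 r.2.1
  choose g hg using hex
  let φ : (↥Sq)ᵒᵈ → Z := fun r => g (OrderDual.ofDual r)
  have hφ : StrictMono φ := fun a b hab => by
    have hlt : (OrderDual.ofDual b).1 < (OrderDual.ofDual a).1 := hab
    refine lt_iff_le_not_ge.2 ⟨Scheme.le_iff_specializes.2 ?_, fun h => ?_⟩
    · rw [← hi.isInducing.specializes_iff, hg, hg, hsp]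
      exact hlt.le
    · have h1 := (Scheme.le_iff_specializes.1 h).map i.continuous
      rw [hg, hg, hsp] at h1
      exact hlt.not_ge h1
  have hqq : q ∈ Sq := ⟨hqS, le_rfl⟩
  have hφq : φ (OrderDual.toDual ⟨q, hqq⟩) = z := hi.injective ((hg ⟨q, hqq⟩).trans hq)
  have h1 : Order.coheight (φ (OrderDual.toDual ⟨q, hqq⟩)) =
      Order.coheight (OrderDual.toDual (⟨q, hqq⟩ : Sq)) := by
    refine (Order.coheight_eq_of_strictMono φ hφ (fun a b hb => ?_) _).symm
    have hb1 : i b ⤳ j (OrderDual.ofDual a).1 := by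
      rw [← hg]
      exact (Scheme.le_iff_specializes.1 hb.le).map i.continuous
    obtain ⟨r, hr⟩ := hb1.mem_open hj.isOpen_range ⟨_, rfl⟩
    rw [← hr, hsp] at hb1
    have hrq : r ≤ q := hb1.trans (OrderDual.ofDual a).2.2
    have hrS : r ∈ Sq := ⟨(hS r hrq).2 ⟨b, hr.symm⟩, hrq⟩
    refine ⟨OrderDual.toDual ⟨r, hrS⟩, lt_of_le_of_ne hb1 fun h => hb.not_ge ?_, ?_⟩
    · rw [Scheme.le_iff_specializes, ← hi.isInducing.specializes_iff, ← hr,
        show φ a = g (OrderDual.ofDual a) from rfl, hg, hsp]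
      exact (congrArg Subtype.val (congrArg OrderDual.ofDual h)).le
    · exact hi.injective ((hg ⟨r, hrS⟩).trans hr)
  rw [ringKrullDim_stalk_eq_coheight, ← hφq, h1, Order.coheight_toDual]
  congr 1
  exact Order.height_eq_of_strictMono (fun r : Sq => (⟨r.1, r.2.1⟩ : S)) (fun _ _ h => h)
    (fun a b hb => ⟨⟨b.1, b.2, le_trans hb.le a.2.2⟩, hb, rfl⟩) ⟨q, hqq⟩

/-- The height of a prime in a quotient ring as a height in the zero locus. -/
theorem height_map_quotient' {B : Type u} [CommRing B] (I : Ideal B) (q : PrimeSpectrum B)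
    (h : I ≤ q.asIdeal) :
    (q.asIdeal.map (Ideal.Quotient.mk I)).height =
      Order.height (⟨q, h⟩ : {r : PrimeSpectrum B | I ≤ r.asIdeal}) := by
  let e : PrimeSpectrum (B ⧸ I) ≃o {r : PrimeSpectrum B | I ≤ r.asIdeal} :=
    I.primeSpectrumQuotientOrderIsoZeroLocus.trans
      ⟨⟨fun x => ⟨x.1, x.2⟩, fun x => ⟨x.1, x.2⟩, fun _ => rfl, fun _ => rfl⟩, .rfl⟩
  have hker : RingHom.ker (Ideal.Quotient.mk I) ≤ q.asIdeal := Ideal.mk_ker.le.trans h
  let qb : PrimeSpectrum (B ⧸ I) :=
    ⟨q.asIdeal.map (Ideal.Quotient.mk I),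
      Ideal.map_isPrime_of_surjective Ideal.Quotient.mk_surjective hker⟩
  have he : e qb = ⟨q, h⟩ := by
    refine Subtype.ext (PrimeSpectrum.ext ?_)
    show (q.asIdeal.map (Ideal.Quotient.mk I)).comap (Ideal.Quotient.mk I) = _
    rw [Ideal.comap_map_of_surjective _ Ideal.Quotient.mk_surjective, ← RingHom.ker_eq_comap_bot]
    exact sup_eq_left.2 hker
  rw [← he, Order.height_orderIso]
  exact PrimeSpectrum.height_eq_orderHeight qb

/-- Heights in a subset grow with the subset. -/
theorem height_mono_subset {α : Type*} [Preorder α] {S T : Set α} (h : S ⊆ T) (q : α) (hS : q ∈ S) :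
    Order.height (⟨q, hS⟩ : S) ≤ Order.height (⟨q, h hS⟩ : T) :=
  Order.height_le_height_apply_of_strictMono (Set.inclusion h) (fun _ _ hlt => hlt) _

/-- The trace of the chart on a fibre. -/
theorem Chart.fibre_mem_iff (C : Chart f) (p : PrimeSpectrum C.A) (r : PrimeSpectrum C.B) :
    PrimeSpectrum.comap (algebraMap C.A C.B) r = p ↔ C.pt r ∈ Set.range (f.fiberι (C.ptY p)) := by
  rw [Scheme.Hom.range_fiberι, Set.mem_preimage, Set.mem_singleton_iff, C.apply]
  exact C.isOpenEmbedding_ptY.injective.eq_iff.symm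

/-- In a fibre, dimension plus residual degree is bounded by the fibre dimension. -/
theorem Chart.height_fibre_add_fdeg_le [LocallyOfFiniteType f] (C : Chart f) (q : PrimeSpectrum C.B)
    (S : Set (PrimeSpectrum C.B))
    (hS : ∀ r ∈ S, PrimeSpectrum.comap (algebraMap C.A C.B) r = PrimeSpectrum.comap (algebraMap C.A C.B) q)
    (hqS : q ∈ S) {D : ℕ}
    (hD : ∀ r ∈ S, r ≤ q → fdeg f (C.pt r) ≤ D) :
    Order.height (⟨q, hqS⟩ : S) + (fdeg f (C.pt q) : ℕ∞) ≤ (D : ℕ∞) := by
  have key : ∀ l : LTSeries S, l.last = ⟨q, hqS⟩ → l.length + fdeg f (C.pt q) ≤ D := by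
    intro l hl
    have h1 : ∀ i : Fin (l.length + 1),
        fdeg f (C.pt (l i).1) + (i : ℕ) ≤ fdeg f (C.pt l.head.1) := by
      intro i
      induction i using Fin.induction with
      | zero => exact le_of_eq (add_zero _)
      | succ i ih =>
        have hlt : (l i.castSucc).1 < (l i.succ).1 := l.step i
        have h2 := fdeg_lt (f := f) (x := C.pt (l i.succ).1) (z := C.pt (l i.castSucc).1)
          ((C.specializes_iff _ _).2 hlt.le)
          (by rw [C.apply, C.apply, hS _ (l i.castSucc).2, hS _ (l i.succ).2])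
          fun h => hlt.ne (C.isOpenEmbedding_pt.injective h)
        simp only [Fin.val_succ, Fin.val_castSucc] at ih ⊢
        omega
    have h3 := h1 (Fin.last _)
    have h4 : l (Fin.last _) = ⟨q, hqS⟩ := hl
    rw [h4] at h3
    have hle : l.head.1 ≤ q := by
      have h5 : l.head ≤ l.last := l.head_le_last
      rw [hl] at h5
      exact h5
    have h6 := hD _ l.head.2 hle
    simp only [Fin.val_last] at h3
    omega
  obtain ⟨D', rfl⟩ : ∃ D', D = D' + fdeg f (C.pt q) :=
    ⟨D - fdeg f (C.pt q), (Nat.sub_add_cancel (hD q hqS le_rfl)).symm⟩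
  rw [Nat.cast_add]
  refine add_le_add (Order.height_le fun l hl => ?_) le_rfl
  have := key l hl
  exact_mod_cast (by omega : l.length ≤ D')

end Groth.Agent.E4O
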