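import Mathlib

/-!
Points of a noetherian scheme that are open in their closure have finite closure (Artin–Tate).
-/

universe u

open AlgebraicGeometry TopologicalSpace

namespace Groth.Agent.E4O

/-- In a noetherian domain, if a nonzero element lies in all nonzero primes, then there are finitely
many primes and every nonzero prime is maximal. -/
theorem finite_primes_and_isMaximal_of_forall_mem {R : Type u} [CommRing R] [IsDomain R]
    [IsNoetherianRing R] (f : R) (hf : f ≠ 0) (h : ∀ p : Ideal R, p.IsPrime → p ≠ ⊥ → f ∈ p) :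
    Finite (PrimeSpectrum R) ∧ ∀ p : Ideal R, p.IsPrime → p ≠ ⊥ → ∀ q : Ideal R, q.IsPrime → p ≤ q → p = q := by
  classical
  have hS : (Ideal.span {f}).minimalPrimes.Finite := Ideal.finite_minimalPrimes_of_isNoetherianRing R _
  have key : ∀ m : Ideal R, m.IsPrime → m ≠ ⊥ → m ∈ (Ideal.span {f}).minimalPrimes := by
    intro m hm hm0
    by_contra hnot
    have hsub : ¬ ((m : Set R) ⊆ ⋃ p ∈ (↑hS.toFinset : Set (Ideal R)), (p : Set R)) := by
      rw [Ideal.subset_union_prime ⊥ ⊥ (fun p hp _ _ => (hS.mem_toFinset.1 hp).1.1)]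
      rintro ⟨p, hp, hmp⟩
      rw [hS.mem_toFinset] at hp
      exact hnot (le_antisymm hmp (hp.2 ⟨hm, by simpa [Ideal.span_le] using h m hm hm0⟩ hmp) ▸ hp)
    obtain ⟨g, hgm, hg⟩ := Set.not_subset.1 hsub
    simp only [Set.mem_iUnion, SetLike.mem_coe, Finset.mem_coe, Set.Finite.mem_toFinset, not_exists] at hg
    obtain ⟨p₀, hp₀, -⟩ := Ideal.exists_minimalPrimes_le
      (show Ideal.span {f} ≤ m by simpa [Ideal.span_le] using h m hm hm0)
    have hg0 : g ≠ 0 := fun e => hg p₀ hp₀ (e ▸ zero_mem p₀)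
    obtain ⟨p, hp, -⟩ := Ideal.exists_minimalPrimes_le
      (show Ideal.span {g} ≤ m by simpa [Ideal.span_le] using hgm)
    have := hp.1.1
    have hgp : g ∈ p := hp.1.2 (Ideal.mem_span_singleton_self g)
    have hp0 : p ≠ ⊥ := fun e => hg0 (by rwa [e, Ideal.mem_bot] at hgp)
    obtain ⟨p', hp', hp'p⟩ := Ideal.exists_minimalPrimes_le
      (show Ideal.span {f} ≤ p by simpa [Ideal.span_le] using h p this hp0)
    have : (Ideal.span {g}).IsPrincipal := ⟨⟨g, rfl⟩⟩
    have hht := Ideal.height_le_one_of_isPrincipal_of_mem_minimalPrimes (Ideal.span {g}) p hp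
    have := hp'.1.1
    rcases eq_or_lt_of_le hp'p with he | hlt
    · exact hg p' hp' (he ▸ hgp)
    · have h1 : p'.height < p.height := Ideal.height_strict_mono_of_isPrime hlt
      have h2 : p'.height = 0 := by
        have := lt_of_lt_of_le h1 hht
        simpa [ENat.lt_one_iff_eq_zero] using this
      rw [Ideal.height_eq_zero_iff, IsDomain.minimalPrimes_eq_singleton_bot] at h2
      rw [Set.mem_singleton_iff] at h2
      have hfp' : f ∈ p' := hp'.1.2 (Ideal.mem_span_singleton_self f)
      rw [h2, Ideal.mem_bot] at hfp'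
      exact hf hfp'
  refine ⟨?_, fun p hp hp0 q hq hpq => ?_⟩
  · have hfin : (insert ⊥ (Ideal.span {f}).minimalPrimes).Finite := hS.insert ⊥
    have := hfin.to_subtype
    refine Finite.of_injective (fun x : PrimeSpectrum R =>
      (⟨x.asIdeal, ?_⟩ : ↥(insert ⊥ (Ideal.span {f}).minimalPrimes))) ?_
    · rcases eq_or_ne x.asIdeal ⊥ with h0 | h0
      · exact Or.inl h0
      · exact Or.inr (key _ x.2 h0)
    · exact fun x y hxy => PrimeSpectrum.ext (congrArg Subtype.val hxy)
  · have hq0 : q ≠ ⊥ := fun e => hp0 (le_bot_iff.1 (e ▸ hpq))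
    exact le_antisymm hpq ((key q hq hq0).2 (key p hp hp0).1 hpq)

/-- Affine version: a prime that is open in its closure. -/
theorem finite_closure_of_isOpen_affine {R : Type u} [CommRing R] [IsNoetherianRing R]
    (x : PrimeSpectrum R) (U : Set (PrimeSpectrum R)) (hU : IsOpen U) (hxU : x ∈ U)
    (h : ∀ y ∈ U, x ⤳ y → y = x) :
    (closure {x}).Finite ∧ ∀ y z, x ⤳ y → y ≠ x → y ⤳ z → z = y := by
  obtain ⟨_, ⟨f, rfl⟩, hxf, hfU⟩ :=
    PrimeSpectrum.isTopologicalBasis_basic_opens.exists_subset_of_mem_open hxU hU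
  let I := x.asIdeal
  have hmem : ∀ q : Ideal (R ⧸ I), q.IsPrime → q ≠ ⊥ → Ideal.Quotient.mk I f ∈ q := by
    intro q hq hq0
    by_contra hfq
    have hle : I ≤ q.comap (Ideal.Quotient.mk I) := by
      intro a ha
      simp [Ideal.Quotient.eq_zero_iff_mem.2 ha]
    have := h ⟨q.comap (Ideal.Quotient.mk I), inferInstance⟩ (hfU (by simpa using hfq))
      ((PrimeSpectrum.le_iff_specializes _ _).1 hle)
    have e : q.comap (Ideal.Quotient.mk I) = I := congrArg PrimeSpectrum.asIdeal this
    apply hq0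
    rw [← Ideal.map_comap_of_surjective _ Ideal.Quotient.mk_surjective q, e, Ideal.map_quotient_self]
  obtain ⟨hfin, hmax⟩ := finite_primes_and_isMaximal_of_forall_mem (Ideal.Quotient.mk I f)
    (fun e => hxf (Ideal.Quotient.eq_zero_iff_mem.1 e)) hmem
  constructor
  · refine ((Set.finite_range (PrimeSpectrum.comap (Ideal.Quotient.mk I))).subset ?_)
    intro y hy
    rw [range_comap_of_surjective _ _ Ideal.Quotient.mk_surjective, Ideal.mk_ker]
    exact (PrimeSpectrum.le_iff_specializes x y).2 (specializes_iff_mem_closure.2 hy)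
  · intro y z hxy hyx hyz
    rw [← PrimeSpectrum.le_iff_specializes] at hxy hyz
    have hy' := Ideal.map_isPrime_of_surjective (f := Ideal.Quotient.mk I) Ideal.Quotient.mk_surjective
      (I := y.asIdeal) (by rwa [Ideal.mk_ker])
    have hz' := Ideal.map_isPrime_of_surjective (f := Ideal.Quotient.mk I) Ideal.Quotient.mk_surjective
      (I := z.asIdeal) (by rw [Ideal.mk_ker]; exact hxy.trans hyz)
    have hc : ∀ w : PrimeSpectrum R, x ≤ w →
        (w.asIdeal.map (Ideal.Quotient.mk I)).comap (Ideal.Quotient.mk I) = w.asIdeal := fun w hw => by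
      rw [Ideal.comap_map_of_surjective _ Ideal.Quotient.mk_surjective, ← RingHom.ker_eq_comap_bot,
        Ideal.mk_ker]
      exact sup_eq_left.2 hw
    have hne : y.asIdeal.map (Ideal.Quotient.mk I) ≠ ⊥ := by
      intro e
      apply hyx
      apply PrimeSpectrum.ext
      rw [← hc y hxy, e, ← RingHom.ker_eq_comap_bot, Ideal.mk_ker]
    have := hmax _ hy' hne _ hz' (Ideal.map_mono hyz)
    apply PrimeSpectrum.ext
    rw [← hc y hxy, ← hc z (hxy.trans hyz), this]

/-- A point of a noetherian scheme that is open in its closure has a finite closure, all of whose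
other points are closed. -/
theorem finite_closure_of_isOpen {X : Scheme.{u}} [IsNoetherian X] (x : X) (U : Set X) (hU : IsOpen U)
    (hxU : x ∈ U) (h : ∀ y ∈ U, x ⤳ y → y = x) :
    (closure {x}).Finite ∧ ∀ y, x ⤳ y → y ≠ x → IsClosed ({y} : Set X) := by
  have key : ∀ V : X.Opens, IsAffineOpen V → x ∈ V →
      ((closure {x}) ∩ (V : Set X)).Finite ∧
        ∀ y z, y ∈ V → z ∈ V → x ⤳ y → y ≠ x → y ⤳ z → z = y := by
    intro V hV hxV
    have : IsNoetherianRing Γ(X, V) := IsLocallyNoetherian.component_noetherian ⟨V, hV⟩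
    let e := hV.fromSpec
    have he : Topology.IsOpenEmbedding e := e.isOpenEmbedding
    obtain ⟨x', hx'⟩ : x ∈ Set.range e := by rw [hV.range_fromSpec]; exact hxV
    obtain ⟨hfin, hmax⟩ := finite_closure_of_isOpen_affine (R := Γ(X, V)) x' (e ⁻¹' U)
      (hU.preimage he.continuous) (by simpa [Set.mem_preimage, hx'] using hxU) (fun y hy hxy =>
        he.injective (by rw [hx']; exact h _ hy (hx' ▸ hxy.map he.continuous)))
    constructor
    · refine (hfin.image e).subset ?_
      rintro y ⟨hy, hyV⟩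
      obtain ⟨y', rfl⟩ : y ∈ Set.range e := by rw [hV.range_fromSpec]; exact hyV
      refine ⟨y', ?_, rfl⟩
      rw [← specializes_iff_mem_closure] at hy
      rw [← hx'] at hy
      exact specializes_iff_mem_closure.1 (he.isInducing.specializes_iff.1 hy)
    · intro y z hy hz hxy hyx hyz
      obtain ⟨y', rfl⟩ : y ∈ Set.range e := by rw [hV.range_fromSpec]; exact hy
      obtain ⟨z', rfl⟩ : z ∈ Set.range e := by rw [hV.range_fromSpec]; exact hz
      rw [← hx'] at hxy
      exact congrArg e (hmax y' z' (he.isInducing.specializes_iff.1 hxy) (fun e' => hyx (by rw [e', hx']))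
        (he.isInducing.specializes_iff.1 hyz))
  constructor
  · classical
    obtain ⟨s, hs⟩ := isCompact_univ.elim_finite_subcover
      (fun V : X.affineOpens => ((V : X.Opens) : Set X)) (fun V => (V : X.Opens).isOpen)
      (fun y _ => by
        obtain ⟨V, hV, hyV, -⟩ := exists_isAffineOpen_mem_and_subset (U := (⊤ : X.Opens)) (x := y) trivial
        exact Set.mem_iUnion.2 ⟨⟨V, hV⟩, hyV⟩)
    refine (((s.filter fun V : X.affineOpens => x ∈ (V : X.Opens)).finite_toSet).biUnion
      fun (V : X.affineOpens) hV => (key (V : X.Opens) V.2 (Finset.mem_filter.1 hV).2).1).subset fun y hy => ?_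
    obtain ⟨V, hVs, hyV⟩ := Set.mem_iUnion₂.1 (hs (Set.mem_univ y))
    refine Set.mem_iUnion₂.2 ⟨V, Finset.mem_filter.2 ⟨hVs, ?_⟩, hy, hyV⟩
    exact (specializes_iff_mem_closure.2 hy).mem_open (V : X.Opens).isOpen hyV
  · intro y hxy hyx
    refine isClosed_of_closure_subset fun z hz => ?_
    rw [← specializes_iff_mem_closure] at hz
    obtain ⟨V, hV, hzV, -⟩ := exists_isAffineOpen_mem_and_subset (U := (⊤ : X.Opens)) (x := z) trivial
    have hyV : y ∈ V := hz.mem_open V.isOpen hzV
    exact (key V hV (hxy.mem_open V.isOpen hyV)).2 y z hyV hzV hxy hyx hz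

end Groth.Agent.E4O
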