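import Groth.Agent.Hens22.Idempotents
import Mathlib.RingTheory.Artinian.Module
import Mathlib.RingTheory.Spectrum.Prime.Noetherian

/-!
A domain finite over a henselian local ring is local.
-/

universe u

namespace Groth.Agent.E4O

/-- A domain finite over a henselian local ring is local. -/
theorem isLocalRing_of_finite_henselian {A B : Type u} [CommRing A] [IsLocalRing A]
    [HenselianRing A (IsLocalRing.maximalIdeal A)] [CommRing B] [IsDomain B] [Algebra A B]
    [Module.Finite A B] : IsLocalRing B := by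
  set m := IsLocalRing.maximalIdeal A
  have hle : ∀ M : Ideal B, M.IsMaximal → m.map (algebraMap A B) ≤ M := fun M hM => by
    rw [Ideal.map_le_iff_le_comap]
    exact (IsLocalRing.eq_maximalIdeal (Ideal.isMaximal_comap_of_isIntegral_of_isMaximal M)).ge
  let J := m.map (algebraMap A B)
  let _ : Field (A ⧸ m) := Ideal.Quotient.field m
  have : Module.Finite (A ⧸ m) (B ⧸ J) := Module.Finite.of_restrictScalars_finite A (A ⧸ m) (B ⧸ J)
  have : IsArtinianRing (B ⧸ J) := IsArtinianRing.of_finite (A ⧸ m) (B ⧸ J)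
  obtain ⟨M, hM⟩ := Ideal.exists_maximal B
  refine IsLocalRing.of_unique_max_ideal ⟨M, hM, fun N hN => ?_⟩
  by_contra hne
  have pt : ∀ K : Ideal B, K.IsMaximal →
      ∃ K' : PrimeSpectrum (B ⧸ J), K'.asIdeal.comap (Ideal.Quotient.mk J) = K := fun K hK => by
    have hker : RingHom.ker (Ideal.Quotient.mk J) ≤ K := Ideal.mk_ker.le.trans (hle K hK)
    refine ⟨⟨K.map (Ideal.Quotient.mk J),
      Ideal.map_isPrime_of_surjective Ideal.Quotient.mk_surjective hker⟩, ?_⟩
    rw [Ideal.comap_map_of_surjective _ Ideal.Quotient.mk_surjective, ← RingHom.ker_eq_comap_bot]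
    exact sup_eq_left.2 hker
  obtain ⟨M', hM'⟩ := pt M hM
  obtain ⟨N', hN'⟩ := pt N hN
  obtain ⟨eb, heb, hset⟩ := PrimeSpectrum.isClopen_iff.1 (isClopen_discrete ({M'} : Set _))
  obtain ⟨e, rfl⟩ := Ideal.Quotient.mk_surjective eb
  have hee : e * e - e ∈ m.map (algebraMap A B) := by
    rw [← Ideal.Quotient.eq_zero_iff_mem, map_sub, map_mul, heb.eq, sub_self]
  obtain ⟨ε, hε, hεe⟩ := Hens22.exists_idempotent_lift m (B := B) hee
  have hεe' : Ideal.Quotient.mk J ε = Ideal.Quotient.mk J e := (Ideal.Quotient.eq).2 hεe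
  rcases IsIdempotentElem.iff_eq_zero_or_one.1 hε with h0 | h1
  · have hmem : M' ∈ (PrimeSpectrum.basicOpen (Ideal.Quotient.mk J e) : Set _) :=
      hset ▸ Set.mem_singleton _
    rw [← hεe', h0, map_zero] at hmem
    exact hmem M'.asIdeal.zero_mem
  · have hmem : N' ∈ (PrimeSpectrum.basicOpen (Ideal.Quotient.mk J e) : Set _) := by
      rw [← hεe', h1, map_one]
      exact fun h => N'.2.ne_top ((Ideal.eq_top_iff_one _).2 h)
    rw [← hset, Set.mem_singleton_iff] at hmem
    exact hne (hN'.symm.trans ((congrArg (fun P => P.asIdeal.comap (Ideal.Quotient.mk J)) hmem).trans hM'))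

end Groth.Agent.E4O
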