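import Groth.Agent.E4O.Chevalley
import Mathlib.RingTheory.Ideal.KrullsHeightTheorem

/-!
Quasi-sections through a closed point of a fibre (EGA IV 14.5.3), ring form.
-/

universe u

open MvPolynomial

namespace Groth.Agent.E4O

/-- A prime comparable to no other prime of its fibre is quasi-finite. -/
theorem quasiFiniteAt_of_forall_comparable {R S : Type u} [CommRing R] [CommRing S] [Algebra R S]
    [Algebra.FiniteType R S] (q : Ideal S) [q.IsPrime]
    (huniq : ∀ r : Ideal S, r.IsPrime → r.under R = q.under R → (q ≤ r ∨ r ≤ q) → r = q) :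
    Algebra.QuasiFiniteAt R q := by
  refine Algebra.QuasiFiniteAt.of_isOpen_singleton_fiber ⟨q, inferInstance⟩ ?_
  let p' := PrimeSpectrum.comap (algebraMap R S) ⟨q, inferInstance⟩
  let o := PrimeSpectrum.preimageOrderIsoFiber R S p'
  let e := PrimeSpectrum.preimageHomeomorphFiber R S p'
  have : IsNoetherianRing (p'.asIdeal.Fiber S) :=
    Algebra.FiniteType.isNoetherianRing p'.asIdeal.ResidueField _
  have : IsJacobsonRing (p'.asIdeal.Fiber S) :=
    isJacobsonRing_of_finiteType (A := p'.asIdeal.ResidueField)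
  rw [← e.isOpen_image, Set.image_singleton]
  refine ((PrimeSpectrum.isOpen_singleton_tfae_of_isNoetherian_of_isJacobsonRing _).out 0 2 rfl rfl).2
    ⟨?_, ?_⟩
  · rw [PrimeSpectrum.isClosed_singleton_iff_isMaximal, ← PrimeSpectrum.isMax_iff]
    intro r hr
    obtain ⟨⟨r, hr'⟩, rfl⟩ := o.surjective r
    have hle : q ≤ r.asIdeal :=
      (o.le_iff_le (x := ⟨⟨q, inferInstance⟩, rfl⟩) (y := ⟨r, hr'⟩)).1 hr
    refine (o.le_iff_le (x := ⟨r, hr'⟩) (y := ⟨⟨q, inferInstance⟩, rfl⟩)).2 ?_
    exact (huniq r.asIdeal r.2 (congrArg PrimeSpectrum.asIdeal hr') (Or.inl hle)).le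
  · intro a r hra ha
    obtain rfl := Set.mem_singleton_iff.1 ha
    have hr := (PrimeSpectrum.le_iff_specializes _ _).2 hra
    show r = _
    refine le_antisymm hr ?_
    obtain ⟨⟨r, hr'⟩, rfl⟩ := o.surjective r
    have hle : r.asIdeal ≤ q :=
      (o.le_iff_le (x := ⟨r, hr'⟩) (y := ⟨⟨q, inferInstance⟩, rfl⟩)).1 hr
    refine (o.le_iff_le (x := ⟨⟨q, inferInstance⟩, rfl⟩) (y := ⟨r, hr'⟩)).2 ?_
    exact (huniq r.asIdeal r.2 (congrArg PrimeSpectrum.asIdeal hr') (Or.inr hle)).ge

/-- A domain quasi-finite at a prime over `A[t]` is algebraic over the subalgebra generated by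
`t`. -/
theorem isAlgebraic_adjoin_of_quasiFiniteAt {A B : Type u} [CommRing A] [CommRing B] [IsDomain B]
    [Algebra A B] [Algebra.FiniteType A B] {ι : Type u} (t : ι → B)
    [Algebra (MvPolynomial ι A) B] (halgt : algebraMap (MvPolynomial ι A) B = (aeval t).toRingHom)
    (q : Ideal B) [q.IsPrime] [Algebra.QuasiFiniteAt (MvPolynomial ι A) q] :
    Algebra.IsAlgebraic (Algebra.adjoin A (Set.range t)) B := by
  have : IsScalarTower A (MvPolynomial ι A) B := IsScalarTower.of_algebraMap_eq fun a => by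
    rw [halgt]; exact ((aeval t).commutes a).symm
  have : Algebra.FiniteType (MvPolynomial ι A) B := .of_restrictScalars_finiteType A _ _
  obtain ⟨S', hS', r₀, hr₀q, hbij⟩ :=
    Algebra.QuasiFiniteAt.exists_fg_and_exists_notMem_and_awayMap_bijective
      (R := MvPolynomial ι A) q
  have : Module.Finite (MvPolynomial ι A) S' := ⟨(Submodule.fg_top _).mpr hS'⟩
  have hint : ∀ y ∈ S', IsIntegral (Algebra.adjoin A (Set.range t)) y := fun y hy => by
    have h1 : IsIntegral (MvPolynomial ι A) y :=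
      (Algebra.IsIntegral.isIntegral (R := MvPolynomial ι A) (⟨y, hy⟩ : S')).map S'.val
    refine h1.map_of_comp_eq ((aeval t).toRingHom.codRestrict _ fun z => ?_) (RingHom.id B) ?_
    · rw [Algebra.adjoin_range_eq_range_aeval]
      exact ⟨z, rfl⟩
    · rw [halgt]; rfl
  refine ⟨fun β => ?_⟩
  obtain ⟨z, hz⟩ := hbij.2 (algebraMap B _ β)
  obtain ⟨n, ⟨y, hy⟩, hzy⟩ := IsLocalization.Away.surj r₀ z
  have hr0 : r₀.1 ≠ 0 := fun h => hr₀q (by show r₀.1 ∈ q; rw [h]; exact q.zero_mem)
  have key : algebraMap B (Localization.Away (S'.val.toRingHom r₀)) (β * r₀.1 ^ n) =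
      algebraMap B _ y := by
    have := congrArg (Localization.awayMap S'.val.toRingHom r₀) hzy
    rw [map_mul, map_pow, hz] at this
    simp only [Localization.awayMap, IsLocalization.Away.map, IsLocalization.map_eq] at this
    rw [map_mul, map_pow]
    exact this
  have key' : β * r₀.1 ^ n = y :=
    IsLocalization.injective (M := Submonoid.powers (S'.val.toRingHom r₀)) _
      (powers_le_nonZeroDivisors_of_noZeroDivisors hr0) key
  refine IsAlgebraic.of_mul (y := r₀.1 ^ n)
    (mem_nonZeroDivisors_of_ne_zero (pow_ne_zero n hr0)) ((hint _ r₀.2).pow n).isAlgebraic ?_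
  rw [mul_comm, key']
  exact (hint y hy).isAlgebraic

/-- In a domain, a closed point of a fibre over a geometrically unibranch point, cut out in the fibre
by no more equations than the generic transcendence degree, generizes to a prime over `⊥` containing
these equations. -/
theorem exists_le_forall_mem_of_domain {A B : Type u} [CommRing A] [IsDomain A]
    [IsNoetherianRing A] [CommRing B] [IsDomain B] [Algebra A B] [Algebra.FiniteType A B]
    (hinj : Function.Injective (algebraMap A B)) (q : Ideal B) [q.IsPrime]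
    (Ap : Type u) [CommRing Ap] [IsLocalRing Ap] [Algebra A Ap]
    [IsLocalization.AtPrime Ap (q.under A)] (hAp : CAlg2.IsGeomUnibranch Ap)
    {ι : Type u} [Finite ι] (t : ι → B) (ht : ∀ i, t i ∈ q)
    (huniq : ∀ r : Ideal B, r.IsPrime → r.under A = q.under A → (∀ i, t i ∈ r) →
      (q ≤ r ∨ r ≤ q) → r = q)
    (hcard : Cardinal.mk ι ≤ Algebra.trdeg A B) :
    ∃ q₁ : Ideal B, q₁.IsPrime ∧ q₁ ≤ q ∧ q₁.under A = ⊥ ∧ ∀ i, t i ∈ q₁ := by
  have : FaithfulSMul A B := (faithfulSMul_iff_algebraMap_injective A B).2 hinj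
  let T : MvPolynomial ι A →ₐ[A] B := MvPolynomial.aeval t
  algebraize [T.toRingHom]
  have : IsScalarTower A (MvPolynomial ι A) B :=
    IsScalarTower.of_algebraMap_eq fun a => (T.commutes a).symm
  have : Algebra.FiniteType (MvPolynomial ι A) B := .of_restrictScalars_finiteType A _ _
  let P : Ideal (MvPolynomial ι A) := q.comap T.toRingHom
  have hPA : P.comap C = q.under A := by
    rw [Ideal.comap_comap, Ideal.under_def]
    congr 1
    exact T.comp_algebraMap
  have hqf : Algebra.QuasiFiniteAt (MvPolynomial ι A) q := by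
    refine quasiFiniteAt_of_forall_comparable q fun r hr hrP h => huniq r hr ?_ (fun i => ?_) h
    · rw [Ideal.under_def, ← T.comp_algebraMap, ← Ideal.comap_comap]
      exact (congrArg (Ideal.comap C) hrP).trans hPA
    · have : X i ∈ r.under (MvPolynomial ι A) := by
        rw [hrP]
        show T (X i) ∈ q
        rw [MvPolynomial.aeval_X]
        exact ht i
      have h' : T (X i) ∈ r := this
      rwa [MvPolynomial.aeval_X] at h'
  have halg : Algebra.IsAlgebraic (Algebra.adjoin A (Set.range t)) B :=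
    isAlgebraic_adjoin_of_quasiFiniteAt t rfl q
  have hTinj : Function.Injective T :=
    (Algebra.IsAlgebraic.isTranscendenceBasis_of_le_trdeg_of_finite A t hcard).1
  let P₁ : Ideal (MvPolynomial ι A) := RingHom.ker (MvPolynomial.constantCoeff (σ := ι) (R := A))
  have hP₁ : P₁.IsPrime := RingHom.ker_isPrime _
  have hP₁le : P₁ ≤ P := by
    intro g hg
    have h : (Ideal.Quotient.mk q).comp T.toRingHom =
        ((Ideal.Quotient.mk q).comp (algebraMap A B)).comp MvPolynomial.constantCoeff := by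
      refine MvPolynomial.ringHom_ext (fun a => ?_) fun i => ?_
      · simp [T]
      · simp [T, Ideal.Quotient.eq_zero_iff_mem.2 (ht i)]
    show T g ∈ q
    refine Ideal.Quotient.eq_zero_iff_mem.1 ((congr($h g) : Ideal.Quotient.mk q (T g) = _).trans ?_)
    rw [RingHom.comp_apply, RingHom.mem_ker.1 hg, map_zero]
  have hP : P.IsPrime := inferInstance
  let AP := Localization.AtPrime P
  have hAP : CAlg2.IsGeomUnibranch AP :=
    isGeomUnibranch_mvPolynomial (q.under A) Ap hAp ι P hPA AP
  have hker : RingHom.ker (algebraMap (MvPolynomial ι A) B) ≤ nilradical (MvPolynomial ι A) :=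
    fun z hz => by
      have hz' : z = 0 := hTinj ((RingHom.mem_ker.1 hz).trans (map_zero T).symm)
      rw [hz']; exact Submodule.zero_mem _
  obtain ⟨q₁, hq₁, hq₁q, hq₁P⟩ := exists_le_comap_eq_of_quasiFiniteAt_of_isUnibranch hker q P rfl AP
    hAP.1 P₁ hP₁le
  refine ⟨q₁, hq₁, hq₁q, ?_, fun i => ?_⟩
  · rw [Ideal.under_def, ← T.comp_algebraMap, ← Ideal.comap_comap]
    refine (congrArg (Ideal.comap C) hq₁P).trans ?_
    rw [RingHom.comap_ker, show MvPolynomial.constantCoeff.comp (C : A →+* MvPolynomial ι A) =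
      RingHom.id A from RingHom.ext fun a => MvPolynomial.constantCoeff_C _ a]
    exact (RingHom.injective_iff_ker_eq_bot _).1 Function.injective_id
  · have : X i ∈ q₁.comap T.toRingHom := hq₁P.ge (MvPolynomial.constantCoeff_X A i)
    have h' : T (X i) ∈ q₁ := this
    rwa [MvPolynomial.aeval_X] at h'

/-- Elements cutting out a closed point in its fibre, as many as its height there. -/
theorem exists_cut_fibre {A B : Type u} [CommRing A] [CommRing B] [Algebra A B]
    [Algebra.FiniteType A B] (p : Ideal A) [p.IsPrime] (q : Ideal B) [q.IsPrime] [q.LiesOver p]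
    (hclosed : ∀ r : Ideal B, r.IsPrime → r.under A = p → q ≤ r → r = q) (n : ℕ)
    (hn : ∀ l : LTSeries {r : PrimeSpectrum B // PrimeSpectrum.comap (algebraMap A B) r = ⟨p, ‹_›⟩},
      l.last.1.asIdeal = q → l.length ≤ n) :
    ∃ (ι : Type u) (_ : Finite ι) (t : ι → B), Cardinal.mk ι ≤ n ∧ (∀ i, t i ∈ q) ∧
      ∀ r : Ideal B, r.IsPrime → r.under A = p → (∀ i, t i ∈ r) → (q ≤ r ∨ r ≤ q) → r = q := by
  let p' : PrimeSpectrum A := ⟨p, ‹_›⟩
  let qs : PrimeSpectrum B := ⟨q, ‹_›⟩
  have hqp : PrimeSpectrum.comap (algebraMap A B) qs = p' :=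
    PrimeSpectrum.ext (Ideal.LiesOver.over (P := q) (p := p)).symm
  let o := PrimeSpectrum.preimageOrderIsoFiber A B p'
  let Q := o ⟨qs, hqp⟩
  have : IsNoetherianRing (p.Fiber B) := Algebra.FiniteType.isNoetherianRing p.ResidueField _
  have hQn : Q.asIdeal.height ≤ n := by
    rw [PrimeSpectrum.height_eq_orderHeight]
    refine Order.height_le fun l hl => ?_
    have := hn (l.map o.symm o.symm.strictMono) (by
      show (o.symm l.last).1.asIdeal = q
      rw [hl]
      exact congrArg (fun x => x.1.asIdeal) (o.symm_apply_apply ⟨qs, hqp⟩))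
    exact_mod_cast this
  obtain ⟨s, hs, hcard⟩ := Ideal.exists_finset_card_eq_height_of_isNoetherianRing Q.asIdeal
  choose r hr b hb using fun g : s => Ideal.Fiber.exists_smul_eq_one_tmul p g.1
  have hmem : ∀ (w : PrimeSpectrum B) (hw : PrimeSpectrum.comap (algebraMap A B) w = p') (g : s),
      b g ∈ w.asIdeal ↔ g.1 ∈ (o ⟨w, hw⟩).asIdeal := by
    intro w hw g
    have h1 : (o ⟨w, hw⟩).asIdeal.comap Algebra.TensorProduct.includeRight.toRingHom = w.asIdeal :=
      congr($(o.symm_apply_apply ⟨w, hw⟩).1.asIdeal)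
    rw [← h1]
    show (1 : p.ResidueField) ⊗ₜ[A] b g ∈ (o ⟨w, hw⟩).asIdeal ↔ _
    rw [← hb g]
    refine ⟨fun h => ?_, fun h => Submodule.smul_of_tower_mem _ _ h⟩
    rw [Algebra.smul_def] at h
    refine ((o ⟨w, hw⟩).2.mem_or_mem h).resolve_left fun hc => ?_
    rw [IsScalarTower.algebraMap_apply A p.ResidueField (p.Fiber B)] at hc
    refine (o ⟨w, hw⟩).2.ne_top (Ideal.eq_top_of_isUnit_mem _ hc (IsUnit.map _ ?_))
    exact Ne.isUnit fun h0 => hr g (Ideal.algebraMap_residueField_eq_zero.1 h0)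
  refine ⟨↥s, inferInstance, b, ?_, fun g => ?_, ?_⟩
  · rw [Cardinal.mk_coe_finset]
    have : (s.card : ℕ∞) ≤ n := hcard.trans_le hQn
    exact_mod_cast this
  · exact (hmem qs hqp g).2 (hs.1.2 (Ideal.subset_span g.2))
  · intro w hw hwp hwt h
    rcases h with h | h
    · exact hclosed w hw hwp h
    · have hw' : PrimeSpectrum.comap (algebraMap A B) ⟨w, hw⟩ = p' := PrimeSpectrum.ext hwp
      have hle : o ⟨⟨w, hw⟩, hw'⟩ ≤ Q := o.le_iff_le.2 h
      have hge : Q.asIdeal ≤ (o ⟨⟨w, hw⟩, hw'⟩).asIdeal :=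
        hs.2 ⟨(o ⟨⟨w, hw⟩, hw'⟩).2, Ideal.span_le.2 fun g hg =>
          (hmem ⟨w, hw⟩ hw' ⟨g, hg⟩).1 (hwt _)⟩ hle
      have heq : o ⟨⟨w, hw⟩, hw'⟩ = Q := le_antisymm hle hge
      exact congrArg (fun x => x.1.asIdeal) (o.injective heq)

end Groth.Agent.E4O
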