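import Groth.Agent.CAlgH2.CompleteN2
import Groth.Agent.E4O.FiniteClosure
import Groth.Agent.E4O.QuasiSection
import Groth.Agent.E4O.LocalFinite
import Mathlib.RingTheory.DedekindDomain.IntegralClosure
import Mathlib.RingTheory.Henselian

/-!
Lifting a closed point of the special fibre to a point with values in a finite extension of a
complete discrete valuation ring.
-/

set_option autoImplicit false
noncomputable section
universe u

open IsLocalRing

namespace Groth.Agent.E4O

/-- A domain of finite type over a henselian local ring, quasi-finite at a prime over the closed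
point, is finite. -/
theorem finite_of_quasiFiniteAt_henselian {A C : Type u} [CommRing A] [IsLocalRing A]
    [HenselianRing A (maximalIdeal A)] [CommRing C] [IsDomain C] [Algebra A C]
    [Algebra.FiniteType A C] (q : Ideal C) [q.IsPrime] (hq : q.under A = maximalIdeal A)
    [Algebra.QuasiFiniteAt A q] : Module.Finite A C := by
  obtain ⟨S', hS', r, hr, hbij⟩ :=
    Algebra.QuasiFiniteAt.exists_fg_and_exists_notMem_and_awayMap_bijective (R := A) q
  have : Module.Finite A S' := ⟨(Submodule.fg_top _).mpr hS'⟩
  have : IsLocalRing S' := isLocalRing_of_finite_henselian (A := A) (B := S')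
  let qS : Ideal S' := q.comap S'.val.toRingHom
  have : (qS.under A).IsMaximal := by
    have : qS.under A = maximalIdeal A := by rw [← hq]; rfl
    rw [this]; infer_instance
  have : qS.IsMaximal := Ideal.isMaximal_of_isIntegral_of_isMaximal_comap qS this
  have hmax : qS = maximalIdeal S' := IsLocalRing.eq_maximalIdeal this
  have hu : IsUnit r := by
    by_contra h
    exact hr (show r ∈ qS from hmax ▸ (mem_maximalIdeal r).2 h)
  have hur : IsUnit (r : C) := hu.map S'.val.toRingHom
  suffices Function.Surjective S'.val by exact Module.Finite.of_surjective S'.val.toLinearMap this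
  intro β
  obtain ⟨z, hz⟩ := hbij.2 (algebraMap C _ β)
  obtain ⟨n, y, hzy⟩ := IsLocalization.Away.surj r z
  have key : algebraMap C (Localization.Away (S'.val.toRingHom r)) (β * (r : C) ^ n) =
      algebraMap C _ (y : C) := by
    have := congrArg (Localization.awayMap S'.val.toRingHom r) hzy
    rw [map_mul, map_pow, hz] at this
    simp only [Localization.awayMap, IsLocalization.Away.map, IsLocalization.map_eq] at this
    rw [map_mul, map_pow]
    exact this
  have key' : β * (r : C) ^ n = y :=
    IsLocalization.injective (M := Submonoid.powers (S'.val.toRingHom r)) _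
      (powers_le_nonZeroDivisors_of_noZeroDivisors hur.ne_zero) key
  refine ⟨y * (hu.unit⁻¹ : S'ˣ) ^ n, ?_⟩
  have h1 : (r : C) * ((hu.unit⁻¹ : S'ˣ) : S') = 1 := by
    exact_mod_cast congrArg Subtype.val hu.mul_val_inv
  simp only [map_mul, map_pow, Subalgebra.coe_val, ← key']
  rw [mul_assoc, ← mul_pow, h1, one_pow, mul_one]

/-- A closed point of the special fibre generizing to the generic fibre is the image of the closed
point of a finite extension of the discrete valuation ring. -/
theorem exists_dvr_lift (A : Type u) [CommRing A] [IsDomain A] [IsDiscreteValuationRing A]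
    [IsAdicComplete (maximalIdeal A) A] (C : Type u) [CommRing C] [Algebra A C] [Algebra.FiniteType A C]
    (q : Ideal C) [q.IsMaximal] (hq : q.under A = maximalIdeal A)
    (p : Ideal C) [p.IsPrime] (hpq : p ≤ q) (hp : p.under A = ⊥) :
    ∃ (B : CommRingCat.{u}) (_ : IsDomain B) (_ : IsDiscreteValuationRing B) (φ : A →+* B)
      (_ : IsLocalHom φ) (θ : C →+* B),
      φ.Finite ∧ θ.comp (algebraMap A C) = φ ∧ (maximalIdeal B).comap θ = q := by
  classical
  obtain ⟨ϖ, hϖ⟩ := IsDiscreteValuationRing.exists_irreducible A
  have : IsNoetherianRing C := Algebra.FiniteType.isNoetherianRing A C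
  let S : Set (Ideal C) := {P | P.IsPrime ∧ P ≤ q ∧ algebraMap A C ϖ ∉ P}
  have hpS : p ∈ S := ⟨inferInstance, hpq, fun h => by
    have : ϖ ∈ p.under A := h
    rw [hp, Ideal.mem_bot] at this
    exact hϖ.ne_zero this⟩
  obtain ⟨P, ⟨hP, hPq, hPϖ⟩, hPmax⟩ := set_has_maximal_iff_noetherian.2 inferInstance S ⟨p, hpS⟩
  -- nothing strictly between `P` and `q`
  have hbetween : ∀ r : Ideal C, r.IsPrime → P ≤ r → r ≤ q → r = P ∨ r = q := by
    intro r hr hPr hrq
    let R := C ⧸ P
    let qR : Ideal R := q.map (Ideal.Quotient.mk P)
    have hqR : qR.IsPrime := Ideal.map_isPrime_of_surjective Ideal.Quotient.mk_surjective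
      (by rwa [Ideal.mk_ker])
    let Rq := Localization.AtPrime qR
    let γ : C →+* Rq := (algebraMap R Rq).comp (Ideal.Quotient.mk P)
    have hγ : ∀ s : Ideal Rq, s.IsPrime → P ≤ s.comap γ ∧ s.comap γ ≤ q := fun s hs => by
      constructor
      · intro c hc
        show γ c ∈ s
        simp [γ, Ideal.Quotient.eq_zero_iff_mem.2 hc]
      · intro c hc
        have h1 : Ideal.Quotient.mk P c ∈ qR := by
          by_contra h
          exact hs.ne_top (Ideal.eq_top_of_isUnit_mem _ hc
            (IsLocalization.map_units Rq (⟨_, h⟩ : qR.primeCompl)))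
        rw [Ideal.mem_map_iff_of_surjective _ Ideal.Quotient.mk_surjective] at h1
        obtain ⟨c', hc', e⟩ := h1
        have : c' - c ∈ q := hPq ((Ideal.Quotient.eq).1 e)
        simpa using q.sub_mem hc' this
    have hall : ∀ s : Ideal Rq, s.IsPrime → s ≠ ⊥ → γ (algebraMap A C ϖ) ∈ s := by
      intro s hs hs0
      by_contra h
      have hmem : s.comap γ ∈ S := ⟨inferInstance, (hγ s hs).2, h⟩
      refine hPmax _ hmem (lt_of_le_of_ne (hγ s hs).1 fun e => hs0 ?_)
      have h2 : s.comap (algebraMap R Rq) = ⊥ := by
        rw [← Ideal.map_comap_of_surjective (Ideal.Quotient.mk P) Ideal.Quotient.mk_surjective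
          (s.comap (algebraMap R Rq)), Ideal.comap_comap, ← e, Ideal.map_quotient_self]
      rw [← IsLocalization.map_under qR.primeCompl Rq s, Ideal.under_def, h2, Ideal.map_bot]
    have hinjR : Function.Injective (algebraMap R Rq) :=
      IsLocalization.injective Rq qR.primeCompl_le_nonZeroDivisors
    obtain ⟨-, hmax⟩ := finite_primes_and_isMaximal_of_forall_mem (γ (algebraMap A C ϖ))
      (fun h => hPϖ (Ideal.Quotient.eq_zero_iff_mem.1 (hinjR (h.trans (map_zero _).symm)))) hall
    let rR : Ideal R := r.map (Ideal.Quotient.mk P)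
    have hrR : rR.IsPrime := Ideal.map_isPrime_of_surjective Ideal.Quotient.mk_surjective
      (by rwa [Ideal.mk_ker])
    have hrc : rR.comap (Ideal.Quotient.mk P) = r := by
      rw [Ideal.comap_map_of_surjective _ Ideal.Quotient.mk_surjective, ← RingHom.ker_eq_comap_bot,
        Ideal.mk_ker]
      exact sup_eq_left.2 hPr
    have hdisj : Disjoint (qR.primeCompl : Set R) (rR : Set R) :=
      Set.disjoint_left.2 fun a ha hb => ha (Ideal.map_mono hrq hb)
    have hs := IsLocalization.isPrime_of_isPrime_disjoint qR.primeCompl Rq rR hrR hdisj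
    have hsc := IsLocalization.under_map_of_isPrime_disjoint qR.primeCompl Rq hrR hdisj
    by_cases h0 : rR.map (algebraMap R Rq) = ⊥
    · left
      rw [h0, Ideal.under_def, ← RingHom.ker_eq_comap_bot, (RingHom.injective_iff_ker_eq_bot _).1 hinjR] at hsc
      rw [← hrc, ← hsc, ← RingHom.ker_eq_comap_bot, Ideal.mk_ker]
    · right
      have h1 := hmax _ hs h0 (maximalIdeal Rq) inferInstance (IsLocalRing.le_maximalIdeal hs.ne_top)
      rw [h1, IsLocalization.AtPrime.under_maximalIdeal Rq qR] at hsc
      rw [← hrc, ← hsc, Ideal.comap_map_of_surjective _ Ideal.Quotient.mk_surjective,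
        ← RingHom.ker_eq_comap_bot, Ideal.mk_ker]
      exact sup_eq_left.2 hPq
  -- the quotient is finite over `A`
  let D := C ⧸ P
  let qD : Ideal D := q.map (Ideal.Quotient.mk P)
  have hqD : qD.IsPrime := Ideal.map_isPrime_of_surjective Ideal.Quotient.mk_surjective
    (by rwa [Ideal.mk_ker])
  have hqc : qD.comap (Ideal.Quotient.mk P) = q := by
    rw [Ideal.comap_map_of_surjective _ Ideal.Quotient.mk_surjective, ← RingHom.ker_eq_comap_bot,
      Ideal.mk_ker]
    exact sup_eq_left.2 hPq
  have hqA : qD.under A = maximalIdeal A := by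
    rw [← hq, Ideal.under_def, Ideal.under_def, ← hqc, Ideal.comap_comap]
    rfl
  have : Algebra.QuasiFiniteAt A qD := by
    refine quasiFiniteAt_of_forall_comparable qD fun r hr hrA hcmp => ?_
    have hrc : P ≤ r.comap (Ideal.Quotient.mk P) := fun c hc => by
      show Ideal.Quotient.mk P c ∈ r
      rw [Ideal.Quotient.eq_zero_iff_mem.2 hc]; exact r.zero_mem
    have hle : r ≤ qD := by
      rcases hcmp with h | h
      · have hm : qD.IsMaximal := by
          refine Or.resolve_right (Ideal.map_eq_top_or_isMaximal_of_surjective _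
            Ideal.Quotient.mk_surjective ‹q.IsMaximal›).symm hqD.ne_top
        exact (hm.eq_of_le hr.ne_top h).ge
      · exact h
    rcases hbetween _ (Ideal.IsPrime.comap _) hrc (hqc ▸ Ideal.comap_mono hle) with h | h
    · refine absurd ?_ hPϖ
      rw [← h]
      have : ϖ ∈ r.under A := by rw [hrA, hqA]; exact (mem_maximalIdeal _).2 hϖ.not_isUnit
      exact this
    · rw [← Ideal.map_comap_of_surjective _ Ideal.Quotient.mk_surjective r, h]
  have hfin : Module.Finite A D := finite_of_quasiFiniteAt_henselian qD hqA
  have hAD : Function.Injective (algebraMap A D) := by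
    rw [injective_iff_map_eq_zero]
    intro a ha
    by_contra h0
    obtain ⟨n, u, rfl⟩ := IsDiscreteValuationRing.eq_unit_mul_pow_irreducible h0 hϖ
    rw [map_mul, map_pow] at ha
    exact hPϖ (Ideal.Quotient.eq_zero_iff_mem.1 (pow_eq_zero_iff'.1
      ((mul_eq_zero.1 ha).resolve_left (u.isUnit.map (algebraMap A D)).ne_zero)).1)
  have : FaithfulSMul A D := (faithfulSMul_iff_algebraMap_injective A D).2 hAD
  let L := FractionRing D
  let _ : Algebra (FractionRing A) L := FractionRing.liftAlgebra A L
  have hfd : FiniteDimensional (FractionRing A) L := inferInstance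
  let B' := integralClosure A L
  have hBfin : Module.Finite A B' := Groth.Agent.CAlgH2.isN2_of_isAdicComplete A L hfd
  have : IsLocalRing B' := isLocalRing_of_finite_henselian (A := A) (B := B')
  have : IsNoetherianRing B' := IsNoetherianRing.of_finite A B'
  have : IsIntegrallyClosed B' :=
    integralClosure.isIntegrallyClosedOfFiniteExtension (FractionRing A)
  have hinjB : Function.Injective (algebraMap A B') := by
    intro a b h
    have h' := congrArg Subtype.val h
    change algebraMap A L a = algebraMap A L b at h'
    rw [IsScalarTower.algebraMap_apply A D L, IsScalarTower.algebraMap_apply A D L] at h'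
    exact hAD (IsFractionRing.injective D L h')
  have hloc : IsLocalHom (algebraMap A B') :=
    RingHom.IsIntegral.isLocalHom (algebraMap_isIntegral_iff.2 inferInstance) hinjB
  have hnf : ¬ IsField B' := fun h => IsDiscreteValuationRing.not_isField A
    (isField_of_isIntegral_of_isField hinjB h)
  have : Ring.DimensionLEOne B' := ⟨fun {Q} hQ0 hQ => by
    have h1 : Q.under A ≠ ⊥ := Ideal.comap_ne_bot_of_algebraic_mem (Submodule.exists_mem_ne_zero_of_ne_bot hQ0).choose_spec.2
      (Submodule.exists_mem_ne_zero_of_ne_bot hQ0).choose_spec.1 (Algebra.IsAlgebraic.isAlgebraic _)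
    have : (Q.under A).IsMaximal := (inferInstance : (Q.under A).IsPrime).isMaximal h1
    exact Ideal.isMaximal_of_isIntegral_of_isMaximal_comap Q this⟩
  have : IsDedekindDomain B' := { }
  have hdvr : IsDiscreteValuationRing B' :=
    ((IsDiscreteValuationRing.TFAE B' hnf).out 0 2 rfl rfl).2 inferInstance
  let ι : D →ₐ[A] B' := AlgHom.codRestrict (IsScalarTower.toAlgHom A D L) _ fun d =>
    (Algebra.IsIntegral.isIntegral (R := A) d).map (IsScalarTower.toAlgHom A D L)
  refine ⟨CommRingCat.of B', inferInstance, hdvr, algebraMap A B', hloc,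
    ι.toRingHom.comp (Ideal.Quotient.mk P), RingHom.finite_algebraMap.2 hBfin, ?_, ?_⟩
  · ext a
    exact congrArg Subtype.val (ι.commutes a)
  · rw [← Ideal.comap_comap]
    refine (congrArg (Ideal.comap (Ideal.Quotient.mk P)) ?_).trans hqc
    have : IsLocalRing D := isLocalRing_of_finite_henselian (A := A) (B := D)
    have h1 : (((maximalIdeal B').comap ι.toRingHom).under A).IsMaximal := by
      have e : ((maximalIdeal B').comap ι.toRingHom).under A = maximalIdeal A := by
        rw [Ideal.under_def, Ideal.comap_comap,
          show ι.toRingHom.comp (algebraMap A D) = algebraMap A B' from ι.comp_algebraMap]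
        exact maximalIdeal_comap (algebraMap A B')
      rw [e]; infer_instance
    have h2 : (qD.under A).IsMaximal := by rw [hqA]; infer_instance
    exact (IsLocalRing.eq_maximalIdeal (Ideal.isMaximal_of_isIntegral_of_isMaximal_comap _ h1)).trans
      (IsLocalRing.eq_maximalIdeal (Ideal.isMaximal_of_isIntegral_of_isMaximal_comap qD h2)).symm

end Groth.Agent.E4O
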