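import Groth.Agent.E4O.ZeroLocusCut
import Mathlib.AlgebraicGeometry.Morphisms.QuasiFinite
import Mathlib.AlgebraicGeometry.Morphisms.Immersion

/-!
Quasi-sections of equidimensional morphisms (EGA IV 14.5).
-/

universe u

open CategoryTheory AlgebraicGeometry TopologicalSpace Topology

namespace Groth.Agent.E4O

variable {X Y : Scheme.{u}} {f : X ⟶ Y}

/-- Equidimensionality restricts to open subschemes. -/
theorem isEquidimAt_comp_openImmersion [IsLocallyNoetherian Y] {U : Scheme.{u}} (i : U ⟶ X)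
    [IsOpenImmersion i] (f : X ⟶ Y) [LocallyOfFiniteType f] (w : U)
    (h : EGA43.IsEquidimAt f (i w)) :
    EGA43.IsEquidimAt (i ≫ f) w ∧ FlatMor.fibreDimAt (i ≫ f) w = FlatMor.fibreDimAt f (i w) := by
  have hi := i.isOpenEmbedding
  have hd : FlatMor.fibreDimAt (i ≫ f) w = FlatMor.fibreDimAt f (i w) := by
    obtain ⟨z, hz, hfz, hzd, -, -⟩ := exists_fibreDimAt_eq (i ≫ f) w
    obtain ⟨z', hz', hfz', hzd', -, -⟩ := exists_fibreDimAt_eq f (i w)
    refine le_antisymm ?_ ?_
    · rw [hzd, fdeg_comp_openImmersion]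
      exact fdeg_le_fibreDimAt (hz.map i.continuous) hfz
    · obtain ⟨v, rfl⟩ := hz'.mem_open hi.isOpen_range ⟨w, rfl⟩
      rw [hzd', ← fdeg_comp_openImmersion]
      exact fdeg_le_fibreDimAt (hi.isInducing.specializes_iff.1 hz') hfz'
  obtain ⟨e, he, -, hgen⟩ := exists_of_isEquidimAt f h
  refine ⟨isEquidimAt_of_forall_generic (i ≫ f) w e (hd.trans he).le fun ξ hξ hmax => ?_, hd⟩
  rw [fdeg_comp_openImmersion]
  refine hgen (i ξ) (hξ.map i.continuous) fun a ha => ?_
  obtain ⟨b, rfl⟩ := ha.mem_open hi.isOpen_range ⟨ξ, rfl⟩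
  rw [hmax b (hi.isInducing.specializes_iff.1 ha)]

variable (f) in
/-- A point closed in its fibre has degree zero. -/
theorem fdeg_eq_zero_of_closed_in_fibre [LocallyOfFiniteType f] {x : X}
    (h : ∀ x', f x' = f x → x ⤳ x' → x' = x) : fdeg f x = 0 := by
  have h1 := dim_fibreClosure (f := f) x
  have hs : closure {x} ∩ f ⁻¹' {f x} = {x} := Set.eq_singleton_iff_unique_mem.2
    ⟨⟨subset_closure rfl, rfl⟩, fun t ht => h t ht.2 (specializes_iff_mem_closure.2 ht.1)⟩
  rw [hs] at h1
  have h2 : topologicalKrullDim ↥({x} : Set X) ≤ 0 := by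
    have : Subsingleton ↥({x} : Set X) := ⟨fun a b => Subtype.ext (a.2.trans b.2.symm)⟩
    have : Subsingleton (IrreducibleCloseds ↥({x} : Set X)) := ⟨fun a b => IrreducibleCloseds.ext
      ((a.isIrreducible.1.eq_univ).trans (b.isIrreducible.1.eq_univ).symm)⟩
    exact Order.krullDim_nonpos_iff_forall_isMax.2 fun a b _ => (Subsingleton.elim b a).le
  rw [h1] at h2
  exact_mod_cast Nat.le_zero.1 (by exact_mod_cast h2)

/-- A maximal point of a fibre gives a minimal prime of the extended ideal. -/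
theorem Chart.mem_minimalPrimes_of_isFibreMax (C : Chart f) (q : PrimeSpectrum C.B)
    (h : IsFibreMax f (C.pt q)) :
    q.asIdeal ∈ ((q.asIdeal.under C.A).map (algebraMap C.A C.B)).minimalPrimes := by
  refine ⟨⟨q.2, Ideal.map_comap_le⟩, fun P hP hPle => ?_⟩
  have heq := (C.isFibreMax_iff q).1 h ⟨P, hP.1⟩ hPle
    (PrimeSpectrum.ext (le_antisymm (Ideal.comap_mono hPle) (Ideal.map_le_iff_le_comap.1 hP.2)))
  exact (congrArg PrimeSpectrum.asIdeal heq).ge

/-- In a chart, an element vanishing at a point and at no maximal point of its fibre. -/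
theorem Chart.exists_cut_element [IsLocallyNoetherian Y] [LocallyOfFiniteType f] (C : Chart f)
    [IsNoetherianRing C.A] (q : PrimeSpectrum C.B) (h : ¬ IsFibreMax f (C.pt q)) :
    ∃ b ∈ q.asIdeal, ∀ r : PrimeSpectrum C.B, f (C.pt r) = f (C.pt q) → IsFibreMax f (C.pt r) →
      b ∉ r.asIdeal := by
  have : IsNoetherianRing C.B := Algebra.FiniteType.isNoetherianRing C.A _
  let I := (q.asIdeal.under C.A).map (algebraMap C.A C.B)
  let M : Set (Ideal C.B) := {m | m ∈ I.minimalPrimes ∧ ¬ q.asIdeal ≤ m}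
  have hM : M.Finite := (I.finite_minimalPrimes_of_isNoetherianRing).subset fun m hm => hm.1
  have hnot : ¬ ((q.asIdeal : Set C.B) ⊆ ⋃ m ∈ M, (m : Set C.B)) := fun hsub => by
    obtain ⟨m, hm, hle⟩ :=
      (Ideal.subset_union_prime_finite hM (f := id) ⊥ ⊥ fun m hm _ _ => hm.1.1.1).1 hsub
    exact hm.2 hle
  obtain ⟨b, hbq, hb⟩ := Set.not_subset.1 hnot
  refine ⟨b, hbq, fun r hr hmax hbr => hb (Set.mem_iUnion₂.2 ⟨r.asIdeal, ⟨?_, fun hle => ?_⟩, hbr⟩)⟩
  · rw [C.apply, C.apply] at hr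
    have hu : r.asIdeal.under C.A = q.asIdeal.under C.A :=
      congrArg PrimeSpectrum.asIdeal (C.isOpenEmbedding_ptY.injective hr)
    show r.asIdeal ∈ ((q.asIdeal.under C.A).map (algebraMap C.A C.B)).minimalPrimes
    rw [← hu]
    exact C.mem_minimalPrimes_of_isFibreMax r hmax
  · by_cases hqr : r = q
    · exact h (hqr ▸ hmax)
    · exact hqr ((C.isFibreMax_iff r).1 hmax q hle
        (C.isOpenEmbedding_ptY.injective (by rw [← C.apply, ← C.apply]; exact hr.symm))).symm

/-- EGA IV 14.5.3: through a point closed in its fibre where `f` is equidimensional passes an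
affine integral quasi-finite quasi-section. -/
theorem exists_quasiSection_of_isEquidimAt [IrreducibleSpace Y] [IsLocallyNoetherian Y] (e : ℕ) :
    ∀ {X : Scheme.{u}} (f : X ⟶ Y) [LocallyOfFiniteType f] (x : X), EGA43.IsEquidimAt f x →
      FlatMor.fibreDimAt f x = (e : ℕ) → (∀ x', f x' = f x → x ⤳ x' → x' = x) →
      ∃ (B : CommRingCat.{u}) (_ : IsDomain B) (i : Spec B ⟶ X), IsImmersion i ∧ x ∈ Set.range i ∧
        LocallyQuasiFinite (i ≫ f) ∧ QuasiCompact (i ≫ f) ∧ IsDominant (i ≫ f) := by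
  induction e with
  | zero =>
    intro X f _ x hf he _
    obtain ⟨U, hxU, hU⟩ := exists_open_forall_fibreDimAt_le f x
    obtain ⟨C, ⟨q, rfl⟩, hCU, hC⟩ := exists_chart_le f x U hxU
    have := hC ‹_›
    have : IsNoetherianRing C.B := Algebra.FiniteType.isNoetherianRing C.A _
    obtain ⟨e', -, -, hgen⟩ := exists_of_isEquidimAt f hf
    obtain ⟨m, hm, hmq⟩ := Ideal.exists_minimalPrimes_le (I := ⊥) (J := q.asIdeal) bot_le
    have : m.IsPrime := hm.1.1
    let π : CommRingCat.of C.B ⟶ CommRingCat.of (C.B ⧸ m) :=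
      CommRingCat.ofHom (Ideal.Quotient.mk m)
    have : IsClosedImmersion (Spec.map π) :=
      IsClosedImmersion.spec_of_surjective π Ideal.Quotient.mk_surjective
    let i := Spec.map π ≫ C.e
    let qm : PrimeSpectrum C.B := ⟨m, inferInstance⟩
    have hfmax : ∀ r : PrimeSpectrum C.B, IsFibreMax f (C.pt r) := by
      intro r z hz hfz
      by_contra hne
      have h1 := fdeg_lt hz hfz hne
      have h2 := (fdeg_le_fibreDimAt (f := f) hz hfz).trans (hU _ (hCU ⟨r, rfl⟩))
      rw [he] at h2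
      have h3 : fdeg f z ≤ 0 := by exact_mod_cast h2
      omega
    have : LocallyQuasiFinite (i ≫ f) := by
      refine .of_finite_preimage_singleton _ fun y => ?_
      refine Set.Finite.of_finite_image ?_ i.isEmbedding.injective.injOn
      by_cases hy : ∃ r, f (C.pt r) = y
      · obtain ⟨r₀, rfl⟩ := hy
        let I := (r₀.asIdeal.under C.A).map (algebraMap C.A C.B)
        refine Set.Finite.subset ((I.finite_minimalPrimes_of_isNoetherianRing.preimage
          (fun a _ b _ h => PrimeSpectrum.ext h : Set.InjOn PrimeSpectrum.asIdeal _)).image C.pt) ?_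
        rintro _ ⟨t, ht, rfl⟩
        let r : PrimeSpectrum C.B := Spec.map π t
        refine ⟨r, ?_, rfl⟩
        have hr : f (C.pt r) = f (C.pt r₀) := ht
        rw [C.apply, C.apply] at hr
        show r.asIdeal ∈ ((r₀.asIdeal.under C.A).map (algebraMap C.A C.B)).minimalPrimes
        rw [show r₀.asIdeal.under C.A = r.asIdeal.under C.A from
          (congrArg PrimeSpectrum.asIdeal (C.isOpenEmbedding_ptY.injective hr)).symm]
        exact C.mem_minimalPrimes_of_isFibreMax r (hfmax r)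
      · refine Set.Finite.subset Set.finite_empty ?_
        rintro _ ⟨t, ht, rfl⟩
        exact hy ⟨Spec.map π t, ht⟩
    refine ⟨CommRingCat.of (C.B ⧸ m), inferInstanceAs (IsDomain (C.B ⧸ m)), i, inferInstance,
      ⟨(⟨q.asIdeal.map (Ideal.Quotient.mk m), ?_⟩ : PrimeSpectrum (C.B ⧸ m)), ?_⟩, inferInstance,
      inferInstance, ⟨?_⟩⟩
    · exact Ideal.map_isPrime_of_surjective Ideal.Quotient.mk_surjective (by rwa [Ideal.mk_ker])
    · show C.pt (PrimeSpectrum.comap (Ideal.Quotient.mk m) _) = C.pt q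
      refine congrArg C.pt (PrimeSpectrum.ext ?_)
      show (q.asIdeal.map (Ideal.Quotient.mk m)).comap (Ideal.Quotient.mk m) = q.asIdeal
      rw [Ideal.comap_map_of_surjective _ Ideal.Quotient.mk_surjective, ← RingHom.ker_eq_comap_bot,
        Ideal.mk_ker, sup_eq_left.2 hmq]
    · have hmin : IsMin qm := PrimeSpectrum.isMin_iff.2 hm
      have hη := (hgen (C.pt qm) ((C.specializes_iff _ _).2 hmq) ((C.isMin_iff qm).1 hmin)).2
      have huniv : closure {f (C.pt qm)} = Set.univ := by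
        have := hη.2 (IrreducibleSpace.isIrreducible_univ Y) (Set.subset_univ _)
        exact Set.univ_subset_iff.1 this
      let η : Spec (CommRingCat.of (C.B ⧸ m)) := (⟨⊥, Ideal.isPrime_bot⟩ : PrimeSpectrum (C.B ⧸ m))
      refine dense_iff_closure_eq.2 (Set.univ_subset_iff.1 (huniv.ge.trans (closure_mono
        (Set.singleton_subset_iff.2 ⟨η, ?_⟩))))
      show f (C.pt (PrimeSpectrum.comap (Ideal.Quotient.mk m) _)) = f (C.pt qm)
      refine congrArg (fun s => f (C.pt s)) (PrimeSpectrum.ext ?_)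
      exact (RingHom.ker_eq_comap_bot _).symm.trans Ideal.mk_ker
  | succ e ih =>
    intro X f _ x hf he hcl
    obtain ⟨C, ⟨q, rfl⟩, hC⟩ := exists_chart f x
    have := hC ‹_›
    have hnmax : ¬ IsFibreMax f (C.pt q) := fun h => by
      have h1 := fibreDimAt_eq_fdeg (f := f) h
      rw [he, fdeg_eq_zero_of_closed_in_fibre f hcl] at h1
      have : e + 1 = 0 := by exact_mod_cast h1
      omega
    obtain ⟨b, hbq, hb⟩ := C.exists_cut_element q hnmax
    obtain ⟨hfU, hdU⟩ := isEquidimAt_comp_openImmersion C.e f q hf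
    let g : Γ(Spec (CommRingCat.of C.B), ⊤) := (Scheme.ΓSpecIso (CommRingCat.of C.B)).inv b
    have hg : ∀ r : PrimeSpectrum C.B,
        r ∈ (Spec (CommRingCat.of C.B)).zeroLocus ({g} : Set Γ(Spec (CommRingCat.of C.B), ⊤)) ↔
          b ∈ r.asIdeal := fun r => by
      refine (Scheme.mem_zeroLocus_iff (X := Spec (CommRingCat.of C.B)) _ _).trans ?_
      simp only [Set.mem_singleton_iff, forall_eq]
      have hbo : (Spec (CommRingCat.of C.B)).basicOpen g = PrimeSpectrum.basicOpen b :=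
        basicOpen_eq_of_affine (R := CommRingCat.of C.B) b
      rw [hbo]
      exact not_not
    let J : Ideal C.B := Ideal.span {b}
    let π : CommRingCat.of C.B ⟶ CommRingCat.of (C.B ⧸ J) :=
      CommRingCat.ofHom (Ideal.Quotient.mk J)
    have : IsClosedImmersion (Spec.map π) :=
      IsClosedImmersion.spec_of_surjective π Ideal.Quotient.mk_surjective
    have hrange : Set.range (Spec.map π) =
        (Spec (CommRingCat.of C.B)).zeroLocus ({g} : Set Γ(Spec (CommRingCat.of C.B), ⊤)) := by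
      refine (range_comap_of_surjective _ _ Ideal.Quotient.mk_surjective).trans ?_
      ext r
      refine Iff.trans ?_ (hg r).symm
      rw [Ideal.mk_ker, PrimeSpectrum.mem_zeroLocus]
      exact Ideal.span_singleton_le_iff_mem _
    obtain ⟨w, hw⟩ : q ∈ Set.range (Spec.map π) := by rw [hrange]; exact (hg q).2 hbq
    obtain ⟨hcut, hgen⟩ := cut_of_isEquidimAt (C.e ≫ f) g (x := q) (e := e + 1) hfU
      (hdU.trans he) fun z _ hfz hzmax hzK => hb z hfz (fun a ha hfa => by
        obtain ⟨a', rfl⟩ := ha.mem_open C.isOpenEmbedding_pt.isOpen_range ⟨z, rfl⟩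
        exact congrArg C.pt (hzmax a' (C.isOpenEmbedding_pt.isInducing.specializes_iff.1 ha) hfa))
        ((hg z).1 hzK)
    let j := Spec.map π ≫ C.e
    have hj : ∀ v, fdeg (j ≫ f) v = fdeg (C.e ≫ f) (Spec.map π v) := fun v => by
      rw [← fdeg_comp_closedImmersion, Category.assoc]
    obtain ⟨z, hz, hfz, hzd, -, -⟩ := exists_fibreDimAt_eq (j ≫ f) w
    have hz1 : fdeg (j ≫ f) z + 1 ≤ e + 1 := by
      rw [hj]
      exact hcut _ (hrange.le ⟨z, rfl⟩) (hw ▸ hz.map (Spec.map π).continuous) (hw ▸ hfz)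
    have hle : FlatMor.fibreDimAt (j ≫ f) w ≤ (e : ℕ) := by
      rw [hzd]
      exact_mod_cast (by omega : fdeg (j ≫ f) z ≤ e)
    have heq : EGA43.IsEquidimAt (j ≫ f) w := by
      refine isEquidimAt_of_forall_generic (j ≫ f) w e hle fun ξ hξ hmax => ?_
      obtain ⟨-, h3, h4⟩ := hgen (Spec.map π ξ) (hrange.le ⟨ξ, rfl⟩)
        (hw ▸ hξ.map (Spec.map π).continuous) fun a ha haK => by
          obtain ⟨a', rfl⟩ := hrange.ge haK
          rw [hmax a' ((Spec.map π).isClosedEmbedding.isInducing.specializes_iff.1 ha)]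
      exact ⟨by rw [hj]; omega, h4⟩
    have hd' : FlatMor.fibreDimAt (j ≫ f) w = (e : ℕ) := by
      obtain ⟨e', he', -, hgen'⟩ := exists_of_isEquidimAt (j ≫ f) heq
      obtain ⟨ξ, hξK, hξx, hξmax⟩ := exists_max_zeroLocus (C.e ≫ f) g (hrange.le ⟨w, rfl⟩)
      obtain ⟨ξ', rfl⟩ := hrange.ge hξx
      have h3 := (hgen _ (hrange.le ⟨ξ', rfl⟩) (hw ▸ hξK) hξmax).2.1
      have h5 := fdeg_le_fibreDimAt_of_specializes (f := j ≫ f) (ξ := ξ') (x := w)
        ((Spec.map π).isClosedEmbedding.isInducing.specializes_iff.1 hξK)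
      rw [hj] at h5
      refine le_antisymm hle (le_trans (le_of_eq ?_) h5)
      norm_cast
      omega
    have hjw : j w = C.pt q := congrArg C.e hw
    obtain ⟨B, hB, i, hi, ⟨t, ht⟩, h1, h2, h3⟩ := ih (j ≫ f) w heq hd' fun w' hfw' hw' => by
      have := hcl (j w') (hjw ▸ hfw') (hjw ▸ hw'.map j.continuous)
      exact j.isEmbedding.injective (this.trans hjw.symm)
    refine ⟨B, hB, i ≫ j, inferInstance, ⟨t, ?_⟩, ?_⟩
    · rw [Scheme.Hom.comp_apply, ht, hjw]
    · rw [Category.assoc]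
      exact ⟨h1, h2, h3⟩

end Groth.Agent.E4O
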