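import Groth.Agent.E4O.SepFibres
import Groth.Agent.FlatMor68.FlatSections
import Groth.Agent.QC70.FiniteType
import Groth.Prelude.Def_FlatMod2

/-!
EGA IV 11.9: universally separating families on schemes, fibrewise.
-/

set_option autoImplicit false
set_option backward.isDefEq.respectTransparency.types false

noncomputable section

universe u

open CategoryTheory Limits AlgebraicGeometry TopologicalSpace Opposite TensorProduct
open Groth.Agent.QC70

namespace Groth.Agent.E4O.Sep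

variable {X S S' : Scheme.{u}} (p : X ⟶ S) (g : S' ⟶ S)

/-- Sections on an affine piece of a fibre product. -/
theorem exists_pullback_algEquiv {U : X.Opens} (hU : IsAffineOpen U) {V : S'.Opens} (hV : IsAffineOpen V)
    {T : S.Opens} (hT : IsAffineOpen T) (eU : U ≤ p ⁻¹ᵁ T) (eV : V ≤ g ⁻¹ᵁ T) :
    letI := (p.appLE T U eU).hom.toAlgebra
    letI := (g.appLE T V eV).hom.toAlgebra
    ∃ hW : IsAffineOpen (pullback.fst p g ⁻¹ᵁ U ⊓ pullback.snd p g ⁻¹ᵁ V),
      letI := ((pullback.fst p g).appLE U (pullback.fst p g ⁻¹ᵁ U ⊓ pullback.snd p g ⁻¹ᵁ V) inf_le_left).hom.toAlgebra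
      Nonempty (Γ(X, U) ⊗[Γ(S, T)] Γ(S', V) ≃ₐ[Γ(X, U)]
        Γ(pullback p g, pullback.fst p g ⁻¹ᵁ U ⊓ pullback.snd p g ⁻¹ᵁ V)) := by
  let W := pullback.fst p g ⁻¹ᵁ U ⊓ pullback.snd p g ⁻¹ᵁ V
  have : IsAffine (U : X.Opens).toScheme := hU
  have : IsAffine (V : S'.Opens).toScheme := hV
  have : IsAffine (T : S.Opens).toScheme := hT
  have hW : IsAffineOpen W :=
    .of_isIso (Scheme.Hom.isPullback_resLE (IsPullback.of_hasPullback p g) eV eU (UY := W) rfl).isoPullback.hom
  refine ⟨hW, ?_⟩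
  have hiso := isIso_pushoutSection_of_isAffineOpen (IsPullback.of_hasPullback p g) eV eU (UY := W) rfl hT hV hU
  have hpush := (isIso_pushoutSection_iff ..).1 hiso
  let a' := (pullback.fst p g).appLE U W inf_le_left
  let b' := (pullback.snd p g).appLE V W inf_le_right
  algebraize [(p.appLE T U eU).hom, (g.appLE T V eV).hom, a'.hom, b'.hom, a'.hom.comp (p.appLE T U eU).hom]
  have : IsScalarTower Γ(S, T) Γ(S', V) Γ(pullback p g, W) := .of_algebraMap_eq fun x => congr($(hpush.1.1).hom x)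
  have h' : Algebra.IsPushout Γ(S, T) Γ(X, U) Γ(S', V) Γ(pullback p g, W) :=
    CommRingCat.isPushout_iff_isPushout.mp hpush
  exact ⟨Algebra.IsPushout.equiv _ _ _ _⟩

variable {p g} {F : X.Modules} [F.IsQuasicoherent] {ι : Type u} {G : ι → X.Modules} [∀ i, (G i).IsQuasicoherent]
  (u : ∀ i, F ⟶ G i)

/-- A separating pulled back family on a fibre product, in terms of modules. -/
theorem sepBC_of_isSep_pullback_fst
    (h : IsSep ((Scheme.Modules.pullback (pullback.fst p g)).obj F)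
      (fun i => (Scheme.Modules.pullback (pullback.fst p g)).obj (G i))
      (fun i => (Scheme.Modules.pullback (pullback.fst p g)).map (u i)))
    {U : X.Opens} (hU : IsAffineOpen U) {V : S'.Opens} (hV : IsAffineOpen V) {T : S.Opens} (hT : IsAffineOpen T)
    (eU : U ≤ p ⁻¹ᵁ T) (eV : V ≤ g ⁻¹ᵁ T) :
    letI := (p.appLE T U eU).hom.toAlgebra
    letI := (g.appLE T V eV).hom.toAlgebra
    SepBC (Γ(X, U) ⊗[Γ(S, T)] Γ(S', V)) fun i => appL (u i) U := by
  letI := (p.appLE T U eU).hom.toAlgebra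
  letI := (g.appLE T V eV).hom.toAlgebra
  obtain ⟨hW, ⟨e⟩⟩ := exists_pullback_algEquiv p g hU hV hT eU eV
  letI := ((pullback.fst p g).appLE U (pullback.fst p g ⁻¹ᵁ U ⊓ pullback.snd p g ⁻¹ᵁ V) inf_le_left).hom.toAlgebra
  exact sepMod_baseChange_of_algEquiv e.symm _ (sepMod_of_isSep_pullback _ u h hU hW inf_le_left)

theorem appLE_SpecMap_fromSpec {T : S.Opens} (hT : IsAffineOpen T) {K : CommRingCat.{u}} (a : Γ(S, T) ⟶ K)
    (e : ⊤ ≤ (Spec.map a ≫ hT.fromSpec) ⁻¹ᵁ T) :
    (Spec.map a ≫ hT.fromSpec).appLE T ⊤ e ≫ (Scheme.ΓSpecIso K).hom = a := by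
  rw [Scheme.Hom.comp_appLE, hT.fromSpec_app_self, Category.assoc, Category.assoc, Scheme.Hom.map_appLE_assoc]
  show (Scheme.ΓSpecIso Γ(S, T)).inv ≫ (Spec.map a).appLE ⊤ ((Spec.map a) ⁻¹ᵁ ⊤) _ ≫ (Scheme.ΓSpecIso K).hom = a
  rw [Scheme.Hom.appLE_eq_app]
  show (Scheme.ΓSpecIso Γ(S, T)).inv ≫ (Spec.map a).appTop ≫ (Scheme.ΓSpecIso K).hom = a
  rw [Scheme.ΓSpecIso_naturality, Iso.inv_hom_id_assoc]

theorem appLE_congr_hom {X Y : Scheme.{u}} {f f' : X ⟶ Y} (hf : f = f') {T : Y.Opens} {V : X.Opens}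
    (e : V ≤ f ⁻¹ᵁ T) (e' : V ≤ f' ⁻¹ᵁ T) : f.appLE T V e = f'.appLE T V e' := by
  subst hf
  rfl

/-- Separation on all fibres, in terms of modules. -/
theorem sepBC_residueField {U : X.Opens} (hU : IsAffineOpen U) {T : S.Opens} (hT : IsAffineOpen T)
    (eU : U ≤ p ⁻¹ᵁ T)
    (h : ∀ s : S, IsSep ((Scheme.Modules.pullback (pullback.fst p (S.fromSpecResidueField s))).obj F)
      (fun i => (Scheme.Modules.pullback (pullback.fst p (S.fromSpecResidueField s))).obj (G i))
      (fun i => (Scheme.Modules.pullback (pullback.fst p (S.fromSpecResidueField s))).map (u i)))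
    (P : Ideal Γ(S, T)) [P.IsPrime] :
    letI := (p.appLE T U eU).hom.toAlgebra
    SepBC (Γ(X, U) ⊗[Γ(S, T)] P.ResidueField) fun i => appL (u i) U := by
  letI := (p.appLE T U eU).hom.toAlgebra
  let a : Γ(S, T) ⟶ CommRingCat.of P.ResidueField := CommRingCat.ofHom (algebraMap _ _)
  let g' : Spec (CommRingCat.of P.ResidueField) ⟶ S := Spec.map a ≫ hT.fromSpec
  have hg' : ∀ x, g' x ∈ T := fun x => hT.range_fromSpec.subset ⟨_, rfl⟩
  let s := g' (IsLocalRing.closedPoint P.ResidueField)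
  let g := S.fromSpecResidueField s
  let ψ := S.descResidueField (Scheme.stalkClosedPointTo g')
  have hfac : Spec.map ψ ≫ g = g' :=
    Scheme.descResidueField_stalkClosedPointTo_fromSpecResidueField P.ResidueField S g'
  have eV : ⊤ ≤ g ⁻¹ᵁ T := fun x _ => by
    show g x ∈ T
    rw [Scheme.fromSpecResidueField_apply]
    exact hg' _
  have h1 := sepBC_of_isSep_pullback_fst u (h s) hU (isAffineOpen_top _) hT eU eV
  letI : Algebra Γ(S, T) Γ(Spec (S.residueField s), ⊤) := (g.appLE T ⊤ eV).hom.toAlgebra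
  letI : Field Γ(Spec (S.residueField s), ⊤) :=
    (MulEquiv.isField (Field.toIsField (S.residueField s))
      (Scheme.ΓSpecIso (S.residueField s)).commRingCatIsoToRingEquiv.toMulEquiv).toField
  let φ : Γ(Spec (S.residueField s), ⊤) ⟶ CommRingCat.of P.ResidueField :=
    (Spec.map ψ).appTop ≫ (Scheme.ΓSpecIso _).hom
  letI : Algebra Γ(Spec (S.residueField s), ⊤) P.ResidueField := φ.hom.toAlgebra
  haveI : IsScalarTower Γ(S, T) Γ(Spec (S.residueField s), ⊤) P.ResidueField :=
    IsScalarTower.of_algebraMap_eq fun r => by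
      have e' : ⊤ ≤ (Spec.map a ≫ hT.fromSpec) ⁻¹ᵁ T := fun x _ => hg' x
      have h2 := appLE_SpecMap_fromSpec hT a e'
      have h3 : g.appLE T ⊤ eV ≫ φ = a := by
        rw [← h2]
        show g.appLE T ⊤ eV ≫ (Spec.map ψ).appLE ⊤ ⊤ le_rfl ≫ _ = _
        rw [← Category.assoc, Scheme.Hom.appLE_comp_appLE]
        congr 1
        exact appLE_congr_hom hfac _ _
      exact congr($(h3.symm).hom r)
  exact sepBC_of_field_hom (K := Γ(Spec (S.residueField s), ⊤)) (fun i => appL (u i) U) h1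

/-- Families into flat modules separating on the fibres are separating after any base change. -/
theorem isSep_pullback_of_fibres [IsLocallyNoetherian X] [F.IsFiniteType]
    (hG : ∀ i, FlatMod.IsFlatOver p (G i))
    (h : ∀ s : S, IsSep ((Scheme.Modules.pullback (pullback.fst p (S.fromSpecResidueField s))).obj F)
      (fun i => (Scheme.Modules.pullback (pullback.fst p (S.fromSpecResidueField s))).obj (G i))
      (fun i => (Scheme.Modules.pullback (pullback.fst p (S.fromSpecResidueField s))).map (u i))) :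
    IsSep ((Scheme.Modules.pullback (pullback.fst p g)).obj F)
      (fun i => (Scheme.Modules.pullback (pullback.fst p g)).obj (G i))
      (fun i => (Scheme.Modules.pullback (pullback.fst p g)).map (u i)) := by
  refine isSep_of_basis fun V₀ x hx => ?_
  obtain ⟨T, hT, hxT, -⟩ := exists_isAffineOpen_mem_and_subset (U := (⊤ : S.Opens))
    (x := p (pullback.fst p g x)) trivial
  obtain ⟨U, hU, hxU, eU⟩ := exists_isAffineOpen_mem_and_subset (U := p ⁻¹ᵁ T)
    (x := pullback.fst p g x) hxT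
  have hxT' : g (pullback.snd p g x) ∈ T := by
    rw [← Scheme.Hom.comp_apply, ← pullback.condition, Scheme.Hom.comp_apply]
    exact hxT
  obtain ⟨V, hV, hxV, eV⟩ := exists_isAffineOpen_mem_and_subset (U := g ⁻¹ᵁ T)
    (x := pullback.snd p g x) hxT'
  letI := (p.appLE T U eU).hom.toAlgebra
  letI := (g.appLE T V eV).hom.toAlgebra
  obtain ⟨hW, ⟨e⟩⟩ := exists_pullback_algEquiv p g hU hV hT eU eV
  obtain ⟨b, hb, hxb⟩ := hW.exists_basicOpen_le (V := V₀) ⟨x, hx⟩ ⟨hxU, hxV⟩
  refine ⟨(pullback p g).basicOpen b, hb, hxb, sepOn_pullback_basicOpen _ u hU hW inf_le_left b ?_⟩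
  letI := ((pullback.fst p g).appLE U (pullback.fst p g ⁻¹ᵁ U ⊓ pullback.snd p g ⁻¹ᵁ V) inf_le_left).hom.toAlgebra
  refine sepMod_baseChange_of_algEquiv e _ ?_
  haveI : IsNoetherianRing Γ(X, U) := IsLocallyNoetherian.component_noetherian ⟨U, hU⟩
  haveI : Module.Finite Γ(X, U) Γ(F, U) := finite_sections_of_isFiniteType F hU
  letI : ∀ i, Module Γ(S, T) Γ(G i, U) := fun i => Module.compHom _ (p.appLE T U eU).hom
  haveI : ∀ i, IsScalarTower Γ(S, T) Γ(X, U) Γ(G i, U) := fun i =>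
    IsScalarTower.of_algebraMap_smul fun r s => rfl
  haveI : ∀ i, Module.Flat Γ(S, T) Γ(G i, U) := fun i =>
    FlatMor68.FlatSections.flat_sections p eU hU hT (isLocAt_of_isQuasicoherent (G i) hU) fun x _ => hG i x
  exact sepBC_of_fibres (fun i => appL (u i) U) (fun P _ => sepBC_residueField u hU hT eU h P) Γ(S', V)

end Groth.Agent.E4O.Sep
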