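import Groth.Agent.E4O.DimField
import Groth.Agent.EGA4Alg4.IntegralDim
import Mathlib.RingTheory.ZariskisMainTheorem
import Mathlib.RingTheory.Spectrum.Prime.Jacobson
import Mathlib.RingTheory.LocalRing.ResidueField.Fiber
import Mathlib.RingTheory.Valuation.ValuationRing
import Mathlib.RingTheory.MvPolynomial.Localization
import Mathlib.Topology.KrullDimension

/-!
Transcendence degrees of residue extensions in algebras of finite type, and the ring-level
statements behind semicontinuity of fibre dimensions.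
-/

universe u

open TopologicalSpace Topology

namespace Groth.Agent.E4O

/-- A domain whose generators are algebraic over a subalgebra generated by `s` elements has
transcendence degree at most `s`. -/
theorem trdeg_le_of_isAlgebraic_generators {D E : Type u} [CommRing D] [CommRing E] [IsDomain E]
    [Algebra D E] {s : ℕ} (b : Fin s → E) (G : Set E) (hG : Algebra.adjoin D G = ⊤)
    (h : ∀ β ∈ G, IsAlgebraic (Algebra.adjoin D (Set.range b)) β) :
    Algebra.trdeg D E ≤ s := by
  classical
  let C : Subalgebra D E := Algebra.adjoin D (Set.range b)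
  let T : Subalgebra C E := Subalgebra.algebraicClosure C E
  have hT : ∀ x : E, x ∈ T := by
    intro x
    have : Algebra.adjoin D G ≤ T.restrictScalars D := Algebra.adjoin_le h
    rw [hG] at this
    exact this (Algebra.mem_top (x := x))
  have : Algebra.IsAlgebraic C E := ⟨fun x => hT x⟩
  refine (Algebra.IsAlgebraic.trdeg_le_cardinalMk (R := D) (s := Set.range b)).trans ?_
  exact (Cardinal.mk_range_le_lift (f := b)).trans' (by simp) |>.trans (by simp)

theorem toNat_le_of_le {c : Cardinal.{u}} {n : ℕ} (h : c ≤ n) : Cardinal.toNat c ≤ n := by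
  simpa using Cardinal.toNat_le_toNat h Cardinal.natCast_lt_aleph0

/-- Residue extensions of a finite type algebra have finite transcendence degree. -/
theorem trdeg_quotient_lt_aleph0 (A B : Type u) [CommRing A] [CommRing B] [Algebra A B]
    [Algebra.FiniteType A B] (p : Ideal A) [p.IsPrime] (q : Ideal B) [q.IsPrime] [q.LiesOver p] :
    Algebra.trdeg (A ⧸ p) (B ⧸ q) < Cardinal.aleph0 := by
  have : Algebra.FiniteType A (B ⧸ q) :=
    Algebra.FiniteType.of_surjective (Ideal.Quotient.mkₐ A q) Ideal.Quotient.mk_surjective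
  have : Algebra.FiniteType (A ⧸ p) (B ⧸ q) := .of_restrictScalars_finiteType A _ _
  exact trdeg_lt_aleph0_of_finiteType

theorem trdeg_eq_of_square {D K E F : Type u} [CommRing D] [IsDomain D] [Field K] [CommRing E]
    [IsDomain E] [CommRing F] [IsDomain F] [Algebra D K] [IsFractionRing D K] [Algebra D E]
    [Algebra K F] (φ : E →+* F) (hφ : Function.Injective φ)
    (hDE : Function.Injective (algebraMap D E))
    (hcomm : ∀ d, φ (algebraMap D E d) = algebraMap K F (algebraMap D K d))
    (hgen : ∀ x : F, ∃ e e' : E, e ≠ 0 ∧ φ e * x = φ e') :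
    Algebra.trdeg K F = Algebra.trdeg D E := by
  let _ : Algebra E F := φ.toAlgebra
  let _ : Algebra D F := ((algebraMap K F).comp (algebraMap D K)).toAlgebra
  have h1 : IsScalarTower D K F := IsScalarTower.of_algebraMap_eq fun x => rfl
  have h2 : IsScalarTower D E F := IsScalarTower.of_algebraMap_eq fun x => (hcomm x).symm
  have : FaithfulSMul D E := (faithfulSMul_iff_algebraMap_injective _ _).2 hDE
  have : FaithfulSMul E F := (faithfulSMul_iff_algebraMap_injective _ _).2 hφ
  have : FaithfulSMul K F :=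
    (faithfulSMul_iff_algebraMap_injective _ _).2 (algebraMap K F).injective
  have : FaithfulSMul D K :=
    (faithfulSMul_iff_algebraMap_injective _ _).2 (IsFractionRing.injective D K)
  have : Algebra.IsAlgebraic D K := IsLocalization.isAlgebraic K (nonZeroDivisors D)
  have : Algebra.IsAlgebraic E F := by
    refine ⟨fun x => ?_⟩
    obtain ⟨e, e', he, hx⟩ := hgen x
    refine ⟨Polynomial.C e * Polynomial.X - Polynomial.C e', ?_, ?_⟩
    · intro h
      have := congrArg (fun t => Polynomial.coeff t 1) h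
      simp [he] at this
    · simp only [map_sub, map_mul, Polynomial.aeval_C, Polynomial.aeval_X]
      exact sub_eq_zero.2 hx
  have e1 := trdeg_add_eq D E (A := F)
  have e2 := trdeg_add_eq D K (A := F)
  rw [trdeg_eq_zero (R := E) (A := F), add_zero] at e1
  rw [trdeg_eq_zero (R := D) (A := K), zero_add] at e2
  exact e2.trans e1.symm

open TensorProduct in
/-- The residue transcendence degree computed in the fibre. -/
theorem trdeg_fiber_quotient {R S : Type u} [CommRing R] [CommRing S] [Algebra R S] (p : Ideal R)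
    [p.IsPrime] (Q : Ideal (p.Fiber S)) [Q.IsPrime] (q : Ideal S) [q.IsPrime] [q.LiesOver p]
    (hq : q = Q.comap Algebra.TensorProduct.includeRight.toRingHom) :
    Algebra.trdeg p.ResidueField (p.Fiber S ⧸ Q) = Algebra.trdeg (R ⧸ p) (S ⧸ q) := by
  let φ : S ⧸ q →+* p.Fiber S ⧸ Q :=
    Ideal.quotientMap Q Algebra.TensorProduct.includeRight.toRingHom hq.le
  have hφ : Function.Injective φ := by
    apply Ideal.quotientMap_injective'
    exact hq.ge
  refine trdeg_eq_of_square (D := R ⧸ p) (K := p.ResidueField) φ hφ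
    ((injective_iff_map_eq_zero _).2 fun d hd => ?_) (fun d => ?_) fun x => ?_
  · obtain ⟨r, rfl⟩ := Ideal.Quotient.mk_surjective d
    exact Ideal.Quotient.eq_zero_iff_mem.2 ((Ideal.LiesOver.over (P := q) (p := p)).symm.le
      (show algebraMap R S r ∈ q from Ideal.Quotient.eq_zero_iff_mem.1 hd))
  · obtain ⟨r, rfl⟩ := Ideal.Quotient.mk_surjective d
    change Ideal.Quotient.mk Q (Algebra.TensorProduct.includeRight (algebraMap R S r)) =
      Ideal.Quotient.mk Q (algebraMap p.ResidueField (p.Fiber S) (algebraMap R p.ResidueField r))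
    rw [AlgHom.commutes, ← IsScalarTower.algebraMap_apply]
  · obtain ⟨y, rfl⟩ := Ideal.Quotient.mk_surjective x
    obtain ⟨r, hr, s, hrs⟩ := Ideal.Fiber.exists_smul_eq_one_tmul p y
    refine ⟨Ideal.Quotient.mk q (algebraMap R S r), Ideal.Quotient.mk q s, fun h => hr
      ((Ideal.LiesOver.over (P := q) (p := p)).symm.le
      (show algebraMap R S r ∈ q from Ideal.Quotient.eq_zero_iff_mem.1 h)), ?_⟩
    change Ideal.Quotient.mk Q (Algebra.TensorProduct.includeRight (algebraMap R S r)) *
        Ideal.Quotient.mk Q y = Ideal.Quotient.mk Q (Algebra.TensorProduct.includeRight s)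
    rw [AlgHom.commutes, ← map_mul, ← Algebra.smul_def, hrs]
    rfl

/-- An open neighbourhood of `Q` meets the closure of `Q` in a set of dimension the transcendence
degree of the residue field. -/
theorem dim_open_inter_closure (k : Type u) [Field k] (S : Type u) [CommRing S] [Algebra k S]
    [Algebra.FiniteType k S] (Q : PrimeSpectrum S) (W : Set (PrimeSpectrum S)) (hW : IsOpen W)
    (hQ : Q ∈ W) :
    topologicalKrullDim ↥(W ∩ closure {Q}) =
      (Cardinal.toNat (Algebra.trdeg k (S ⧸ Q.asIdeal)) : ℕ) := by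
  let T := S ⧸ Q.asIdeal
  have hft : Algebra.FiniteType k T :=
    Algebra.FiniteType.of_surjective (Ideal.Quotient.mkₐ k Q.asIdeal) Ideal.Quotient.mk_surjective
  let c : PrimeSpectrum T → PrimeSpectrum S := PrimeSpectrum.comap (Ideal.Quotient.mk Q.asIdeal)
  have hc : IsClosedEmbedding c :=
    PrimeSpectrum.isClosedEmbedding_comap_of_surjective _ _ Ideal.Quotient.mk_surjective
  have hrange : Set.range c = closure {Q} := by
    rw [range_comap_of_surjective _ _ Ideal.Quotient.mk_surjective, Ideal.mk_ker,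
      PrimeSpectrum.closure_singleton]
  have hQ' : (⊥ : Ideal T).IsPrime := Ideal.isPrime_bot
  have hbot : c ⟨⊥, hQ'⟩ = Q := PrimeSpectrum.ext (Ideal.mk_ker (I := Q.asIdeal))
  have hsober : QuasiSober (PrimeSpectrum T) := inferInstance
  let W' : Set (PrimeSpectrum T) := c ⁻¹' W
  have hW' : IsOpen W' := hW.preimage hc.continuous
  have e : topologicalKrullDim ↥(W ∩ closure {Q}) = topologicalKrullDim ↥W' := by
    refine (IsHomeomorph.topologicalKrullDim_eq (f := fun x : W' => (⟨c x.1, x.2, hrange ▸ ⟨x.1, rfl⟩⟩ :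
      ↥(W ∩ closure {Q}))) ?_).symm
    refine isHomeomorph_iff_isEmbedding_surjective.2 ⟨?_, ?_⟩
    · exact IsEmbedding.of_comp (by fun_prop) continuous_subtype_val
        (hc.isEmbedding.comp (IsEmbedding.subtypeVal (p := fun x => x ∈ W')))
    · rintro ⟨y, hyW, hy⟩
      rw [← hrange] at hy
      obtain ⟨x, rfl⟩ := hy
      exact ⟨⟨x, hyW⟩, rfl⟩
  rw [e, ← ringKrullDim_eq_trdeg k T]
  refine le_antisymm ?_ ?_
  · rw [← PrimeSpectrum.topologicalKrullDim_eq_ringKrullDim]
    exact topologicalKrullDim_subspace_le _ _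
  · have : IsJacobsonRing T := isJacobsonRing_of_finiteType (A := k)
    have hne : W'.Nonempty := ⟨⟨⊥, hQ'⟩, show c _ ∈ W by rw [hbot]; exact hQ⟩
    obtain ⟨m, hmW, hm⟩ := nonempty_inter_closedPoints hne hW'.isLocallyClosed
    have hmax : m.asIdeal.IsMaximal :=
      (PrimeSpectrum.isClosed_singleton_iff_isMaximal _).1 (mem_closedPoints_iff.1 hm)
    rw [ringKrullDim_eq_trdeg k T]
    have h1 := IsLocalization.AtPrime.ringKrullDim_eq_height m.asIdeal (Localization.AtPrime m.asIdeal)
    rw [height_maximal_eq k T, ← PrimeSpectrum.topologicalKrullDim_eq_ringKrullDim] at h1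
    refine le_trans h1.ge ?_
    let d := PrimeSpectrum.comap (algebraMap T (Localization.AtPrime m.asIdeal))
    have hd : ∀ x, d x ∈ W' := fun x => by
      refine ((PrimeSpectrum.le_iff_specializes (d x) m).1 ?_).mem_open hW' hmW
      intro t ht
      by_contra htm
      exact x.2.ne_top (Ideal.eq_top_of_isUnit_mem _ ht
        (IsLocalization.map_units (M := m.asIdeal.primeCompl) _ ⟨t, htm⟩))
    exact IsInducing.topologicalKrullDim_le (f := fun x => (⟨d x, hd x⟩ : W'))
      ((PrimeSpectrum.localization_comap_isEmbedding (Localization.AtPrime m.asIdeal)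
        m.asIdeal.primeCompl).isInducing.codRestrict hd)

theorem exists_C_mul_mem_range_map {R : Type u} [CommRing R] (p : Ideal R) [p.IsPrime] {s : ℕ}
    (h : MvPolynomial (Fin s) p.ResidueField) :
    ∃ r ∉ p, MvPolynomial.C (algebraMap R p.ResidueField r) * h ∈
      Set.range (MvPolynomial.map (algebraMap R p.ResidueField)) := by
  induction h using MvPolynomial.induction_on with
  | C x =>
    obtain ⟨a, b, hb, rfl⟩ := IsFractionRing.div_surjective (A := R ⧸ p) x
    obtain ⟨a, rfl⟩ := Ideal.Quotient.mk_surjective a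
    obtain ⟨b, rfl⟩ := Ideal.Quotient.mk_surjective b
    have hb0 : algebraMap (R ⧸ p) p.ResidueField (Ideal.Quotient.mk p b) ≠ 0 :=
      IsFractionRing.to_map_ne_zero_of_mem_nonZeroDivisors hb
    refine ⟨b, fun h => hb0 (by rw [Ideal.Quotient.eq_zero_iff_mem.2 h, map_zero]), MvPolynomial.C a, ?_⟩
    rw [MvPolynomial.map_C, ← map_mul]
    congr 1
    exact (mul_div_cancel₀ _ hb0).symm
  | add f g hf hg =>
    obtain ⟨r, hr, f', hf'⟩ := hf
    obtain ⟨r', hr', g', hg'⟩ := hg
    refine ⟨r * r', p.primeCompl.mul_mem hr hr', MvPolynomial.C r' * f' + MvPolynomial.C r * g', ?_⟩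
    simp only [map_add, map_mul, MvPolynomial.map_C, hf', hg']
    ring
  | mul_X f i hf =>
    obtain ⟨r, hr, f', hf'⟩ := hf
    exact ⟨r, hr, f' * MvPolynomial.X i, by rw [map_mul, MvPolynomial.map_X, hf', mul_assoc]⟩

/-- A criterion for bounding the residue transcendence degree by a number of elements. -/
theorem trdeg_quotient_le_of_integral {A B : Type u} [CommRing A] [CommRing B] [Algebra A B]
    {s : ℕ} (b : Fin s → B) (G : Set B) (hG : Algebra.adjoin A G = ⊤) (q : Ideal B) [q.IsPrime]
    (p : Ideal A) [p.IsPrime] [q.LiesOver p]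
    (h : ∀ β ∈ G, ∃ c ∉ q, IsIntegral (Algebra.adjoin A (Set.range b)) c ∧
      IsIntegral (Algebra.adjoin A (Set.range b)) (c * β)) :
    Algebra.trdeg (A ⧸ p) (B ⧸ q) ≤ s := by
  let D := A ⧸ p
  let π : B →ₐ[A] B ⧸ q := Ideal.Quotient.mkₐ A q
  let C : Subalgebra A B := Algebra.adjoin A (Set.range b)
  let Cb : Subalgebra D (B ⧸ q) := Algebra.adjoin D (Set.range (π ∘ b))
  have hC : C ≤ (Cb.restrictScalars A).comap π :=
    Algebra.adjoin_le (Set.range_subset_iff.2 fun i => Algebra.subset_adjoin ⟨i, rfl⟩)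
  let ψ : C →+* Cb := ((π.comp C.val).toRingHom).codRestrict Cb fun x => hC x.2
  have hψ : ∀ c : B, IsIntegral C c → IsIntegral Cb (π c) := fun c hc =>
    hc.map_of_comp_eq ψ π.toRingHom rfl
  refine trdeg_le_of_isAlgebraic_generators (π ∘ b) (π '' G) ?_ ?_
  · apply top_le_iff.1
    intro x _
    obtain ⟨x, rfl⟩ := Ideal.Quotient.mk_surjective x
    have : Algebra.adjoin A G ≤ ((Algebra.adjoin D (π '' G)).restrictScalars A).comap π :=
      Algebra.adjoin_le fun y hy => Algebra.subset_adjoin ⟨y, hy, rfl⟩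
    rw [hG] at this
    exact this (Algebra.mem_top (x := x))
  · rintro _ ⟨β, hβ, rfl⟩
    obtain ⟨c, hcq, hc, hcβ⟩ := h β hβ
    have hc0 : π c ≠ 0 := fun h0 => hcq (Ideal.Quotient.eq_zero_iff_mem.1 h0)
    have h1 := (hψ _ hc).isAlgebraic
    have h2 := (hψ _ hcβ).isAlgebraic
    rw [map_mul] at h2
    exact IsAlgebraic.of_mul (mem_nonZeroDivisors_of_ne_zero hc0) h1 h2

/-- Upper semicontinuity of the fibre dimension, ring version. -/
theorem exists_notMem_forall_trdeg_le {A B : Type u} [CommRing A] [CommRing B] [Algebra A B]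
    [Algebra.FiniteType A B] (p : Ideal A) [p.IsPrime] (q : Ideal B) [q.IsPrime] [q.LiesOver p]
    {d : ℕ} (hd : ringKrullDim (p.Fiber B) ≤ d) :
    ∃ g ∉ q, ∀ (q₁ : Ideal B) [q₁.IsPrime], g ∉ q₁ →
      Algebra.trdeg (A ⧸ q₁.under A) (B ⧸ q₁) ≤ d := by
  classical
  let K := p.ResidueField
  let S := p.Fiber B
  let e := PrimeSpectrum.preimageHomeomorphFiber A B ⟨p, inferInstance⟩
  have hqp : PrimeSpectrum.comap (algebraMap A B) ⟨q, inferInstance⟩ = ⟨p, inferInstance⟩ :=
    PrimeSpectrum.ext (Ideal.LiesOver.over (P := q) (p := p)).symm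
  have hnt : Nontrivial S := by
    by_contra hn
    have : Subsingleton S := not_nontrivial_iff_subsingleton.1 hn
    exact (IsEmpty.false (e ⟨⟨q, inferInstance⟩, hqp⟩))
  obtain ⟨s, g, hg, hfin⟩ := exists_finite_inj_algHom_of_fg K S
  have hsd : s ≤ d := by
    algebraize [g.toRingHom]
    have : Module.Finite (MvPolynomial (Fin s) K) S := hfin
    have : Algebra.IsIntegral (MvPolynomial (Fin s) K) S := Algebra.IsIntegral.of_finite _ _
    have h1 := Groth.Agent.EGA4Alg4.ringKrullDim_eq_of_integral (A := MvPolynomial (Fin s) K)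
      (B := S) hg
    rw [h1, MvPolynomial.ringKrullDim_of_isNoetherianRing, ringKrullDim_eq_zero_of_field,
      zero_add] at hd
    simpa using hd
  choose r hr b hrb using fun i => Ideal.Fiber.exists_smul_eq_one_tmul p (g (MvPolynomial.X i))
  let g' : MvPolynomial (Fin s) K →ₐ[K] S :=
    MvPolynomial.aeval fun i => (Algebra.TensorProduct.includeRight (b i) : S)
  let σ : MvPolynomial (Fin s) K →ₐ[K] MvPolynomial (Fin s) K :=
    MvPolynomial.aeval fun i => (algebraMap A K (r i))⁻¹ • MvPolynomial.X i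
  have hr0 : ∀ i, algebraMap A K (r i) ≠ 0 := fun i h => hr i
    (Ideal.algebraMap_residueField_eq_zero.1 h)
  have hgσ : g = g'.comp σ := by
    refine MvPolynomial.algHom_ext fun i => ?_
    simp only [AlgHom.comp_apply, σ, MvPolynomial.aeval_X, map_smul, g']
    rw [eq_inv_smul_iff₀ (hr0 i), algebraMap_smul, hrb i]
    rfl
  have hfin' : g'.toRingHom.Finite := by
    refine RingHom.Finite.of_comp_finite (f := σ.toRingHom) ?_
    rw [hgσ] at hfin
    exact hfin
  let T : MvPolynomial (Fin s) A →ₐ[A] B := MvPolynomial.aeval b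
  algebraize [T.toRingHom, g'.toRingHom]
  have htower : IsScalarTower A (MvPolynomial (Fin s) A) B :=
    IsScalarTower.of_algebraMap_eq fun x => (T.commutes x).symm
  have hTft : Algebra.FiniteType (MvPolynomial (Fin s) A) B :=
    .of_restrictScalars_finiteType A _ _
  have hcomm : g'.toRingHom.comp (MvPolynomial.map (algebraMap A K)) =
      (Algebra.TensorProduct.includeRight : B →ₐ[A] S).toRingHom.comp T.toRingHom := by
    refine MvPolynomial.ringHom_ext (fun a => ?_) fun i => ?_
    · change g' (MvPolynomial.map (algebraMap A K) (MvPolynomial.C a)) =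
        Algebra.TensorProduct.includeRight (T (MvPolynomial.C a))
      rw [MvPolynomial.map_C, MvPolynomial.aeval_C, MvPolynomial.aeval_C,
        AlgHom.commutes, ← IsScalarTower.algebraMap_apply]
    · change g' (MvPolynomial.map (algebraMap A K) (MvPolynomial.X i)) =
        Algebra.TensorProduct.includeRight (T (MvPolynomial.X i))
      rw [MvPolynomial.map_X, MvPolynomial.aeval_X, MvPolynomial.aeval_X]
  -- `q` is isolated in its fibre over the polynomial ring
  let P : Ideal (MvPolynomial (Fin s) A) := q.under _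
  have hinc : ∀ q₁ q₂ : PrimeSpectrum B, q₁ ≤ q₂ → q₁.asIdeal.under _ = P →
      q₂.asIdeal.under _ = P → q₁ = q₂ := by
    intro q₁ q₂ hle h₁ h₂
    have hmem : ∀ x : PrimeSpectrum B, x.asIdeal.under (MvPolynomial (Fin s) A) = P →
        x ∈ PrimeSpectrum.comap (algebraMap A B) ⁻¹' {⟨p, inferInstance⟩} := fun x hx => by
      refine PrimeSpectrum.ext (?_ : x.asIdeal.under A = p)
      rw [← Ideal.under_under (B := MvPolynomial (Fin s) A) x.asIdeal, hx, Ideal.under_under]
      exact (Ideal.LiesOver.over (P := q) (p := p)).symm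
    let o := PrimeSpectrum.preimageOrderIsoFiber A B ⟨p, inferInstance⟩
    let Q₁ := o ⟨q₁, hmem q₁ h₁⟩
    let Q₂ := o ⟨q₂, hmem q₂ h₂⟩
    have hcontr : ∀ x (hx : x.asIdeal.under (MvPolynomial (Fin s) A) = P),
        ((o ⟨x, hmem x hx⟩).asIdeal.under (MvPolynomial (Fin s) K)).comap
          (MvPolynomial.map (algebraMap A K)) = P := fun x hx => by
      rw [Ideal.under_def, Ideal.comap_comap, RingHom.algebraMap_toAlgebra, hcomm,
        ← Ideal.comap_comap]
      have : (o ⟨x, hmem x hx⟩).asIdeal.comap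
          (Algebra.TensorProduct.includeRight : B →ₐ[A] S).toRingHom = x.asIdeal :=
        congr($(o.symm_apply_apply ⟨x, hmem x hx⟩).1.asIdeal)
      rw [this]
      exact hx
    have hQ : Q₁ ≤ Q₂ := o.le_iff_le.2 hle
    have hunder : Q₁.asIdeal.under (MvPolynomial (Fin s) K) = Q₂.asIdeal.under _ := by
      refine le_antisymm (Ideal.comap_mono hQ) fun h hh => ?_
      obtain ⟨a, ha, h0, hh0⟩ := exists_C_mul_mem_range_map p h
      have h0P : h0 ∈ P := by
        rw [← hcontr q₂ h₂, Ideal.mem_comap, hh0]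
        exact Ideal.mul_mem_left _ _ hh
      rw [← hcontr q₁ h₁, Ideal.mem_comap, hh0] at h0P
      refine (Ideal.unit_mul_mem_iff_mem _ (RingHom.isUnit_map MvPolynomial.C ?_)).1 h0P
      exact isUnit_iff_ne_zero.2 fun h => ha (Ideal.algebraMap_residueField_eq_zero.1 h)
    have : Q₁.asIdeal = Q₂.asIdeal :=
      Algebra.QuasiFinite.eq_of_le_of_under_eq (R := MvPolynomial (Fin s) K) _ _ hQ hunder
    exact congrArg Subtype.val (o.injective (PrimeSpectrum.ext this))
  let o' := PrimeSpectrum.preimageOrderIsoFiber (MvPolynomial (Fin s) A) B ⟨P, inferInstance⟩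
  have hdim0 : Ring.KrullDimLE 0 (P.Fiber B) := Ring.KrullDimLE.mk₀ fun I hI => by
    obtain ⟨M, hM, hIM⟩ := Ideal.exists_le_maximal I hI.ne_top
    have hle : (⟨I, hI⟩ : PrimeSpectrum (P.Fiber B)) ≤ ⟨M, hM.isPrime⟩ := hIM
    have := hinc _ _ (o'.symm.le_iff_le.2 hle) (congrArg PrimeSpectrum.asIdeal (o'.symm _).2)
      (congrArg PrimeSpectrum.asIdeal (o'.symm _).2)
    have h' := o'.symm.injective (Subtype.ext this)
    rw [show I = M from congrArg PrimeSpectrum.asIdeal h']
    exact hM
  have : IsNoetherianRing (P.Fiber B) :=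
    Algebra.FiniteType.isNoetherianRing P.ResidueField _
  have : IsArtinianRing (P.Fiber B) := isArtinianRing_iff_isNoetherianRing_krullDimLE_zero.2 ⟨‹_›, hdim0⟩
  have : DiscreteTopology (PrimeSpectrum (P.Fiber B)) := inferInstance
  have hqf : Algebra.QuasiFiniteAt (MvPolynomial (Fin s) A) q := by
    refine Algebra.QuasiFiniteAt.of_isOpen_singleton_fiber ⟨q, inferInstance⟩ ?_
    have hdisc : DiscreteTopology (PrimeSpectrum.comap (algebraMap (MvPolynomial (Fin s) A) B) ⁻¹'
        {PrimeSpectrum.comap (algebraMap (MvPolynomial (Fin s) A) B) ⟨q, inferInstance⟩} : Set _) :=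
      (PrimeSpectrum.preimageHomeomorphFiber (MvPolynomial (Fin s) A) B
        ⟨P, inferInstance⟩).symm.discreteTopology
    exact @isOpen_discrete _ _ hdisc _
  obtain ⟨S', hS', r₀, hr₀q, hbij⟩ :=
    Algebra.QuasiFiniteAt.exists_fg_and_exists_notMem_and_awayMap_bijective
      (R := MvPolynomial (Fin s) A) q
  obtain ⟨G, hG⟩ := Algebra.FiniteType.out (R := A) (A := B)
  refine ⟨r₀.1, hr₀q, fun q₁ _ hq₁ => ?_⟩
  have : Module.Finite (MvPolynomial (Fin s) A) S' := ⟨(Submodule.fg_top _).mpr hS'⟩
  refine le_trans (trdeg_quotient_le_of_integral b (G : Set B) hG q₁ (q₁.under A) fun β _ => ?_)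
    (by exact_mod_cast hsd)
  have hint : ∀ x ∈ S', IsIntegral (Algebra.adjoin A (Set.range b)) x := fun x hx => by
    have h1 : IsIntegral (MvPolynomial (Fin s) A) x :=
      (Algebra.IsIntegral.isIntegral (R := MvPolynomial (Fin s) A) (⟨x, hx⟩ : S')).map S'.val
    refine h1.map_of_comp_eq (T.toRingHom.codRestrict _ fun y => ?_) (RingHom.id B) rfl
    rw [Algebra.adjoin_range_eq_range_aeval]
    exact ⟨y, rfl⟩
  obtain ⟨z, hz⟩ := hbij.2 (algebraMap B _ β)
  obtain ⟨n, ⟨x, hx⟩, hzx⟩ := IsLocalization.Away.surj r₀ z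
  have key : algebraMap B (Localization.Away (S'.val.toRingHom r₀)) (β * r₀.1 ^ n) =
      algebraMap B _ x := by
    have := congrArg (Localization.awayMap S'.val.toRingHom r₀) hzx
    rw [map_mul, map_pow, hz] at this
    simp only [Localization.awayMap, IsLocalization.Away.map, IsLocalization.map_eq] at this
    rw [map_mul, map_pow]
    exact this
  obtain ⟨⟨_, m, rfl⟩, hm⟩ := IsLocalization.exists_of_eq (M := Submonoid.powers (S'.val.toRingHom r₀)) key
  refine ⟨r₀.1 ^ (m + n), fun h => hq₁ (Ideal.IsPrime.mem_of_pow_mem ‹_› _ h),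
    (hint _ r₀.2).pow _, ?_⟩
  have : r₀.1 ^ (m + n) * β = r₀.1 ^ m * x := by
    rw [pow_add, mul_assoc, mul_comm (r₀.1 ^ n)]
    exact hm
  rw [this]
  exact hint _ (S'.mul_mem (S'.pow_mem r₀.2 m) hx)

open MvPolynomial in
attribute [local instance] MvPolynomial.algebraMvPolynomial in
/-- Generic bound: over a nonempty open of the base, residue transcendence degrees are at most the
generic one. -/
theorem exists_ne_zero_forall_trdeg_le {A B : Type u} [CommRing A] [IsDomain A] [CommRing B]
    [IsDomain B] [Algebra A B] [FaithfulSMul A B] [Algebra.FiniteType A B] {d : ℕ}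
    (hd : Algebra.trdeg A B ≤ d) :
    ∃ a : A, a ≠ 0 ∧ ∀ (q : Ideal B) [q.IsPrime], algebraMap A B a ∉ q →
      Algebra.trdeg (A ⧸ q.under A) (B ⧸ q) ≤ d := by
  classical
  let K := FractionRing A
  let L := FractionRing B
  let _ : Algebra K L := FractionRing.liftAlgebra A L
  obtain ⟨G, hG⟩ := Algebra.FiniteType.out (R := A) (A := B)
  let S : Subalgebra K L := Algebra.adjoin K (algebraMap B L '' (G : Set B))
  have hSft : Algebra.FiniteType K S :=
    (Subalgebra.fg_iff_finiteType S).1 (Subalgebra.fg_def.2 ⟨_, G.finite_toSet.image _, rfl⟩)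
  obtain ⟨s, g, hg, hfin⟩ := exists_finite_inj_algHom_of_fg K S
  have hAL : Algebra.trdeg A L = Algebra.trdeg A B := by
    have : Algebra.IsAlgebraic B L := IsLocalization.isAlgebraic L (nonZeroDivisors B)
    rw [← trdeg_add_eq A B (A := L), trdeg_eq_zero (R := B) (A := L), add_zero]
  have hsd : s ≤ d := by
    have h1 : (s : Cardinal.{u}) ≤ Algebra.trdeg K L := by
      have := trdeg_le_of_injective (S.val.comp g) (Subtype.val_injective.comp hg)
      simpa [MvPolynomial.trdeg_of_isDomain] using this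
    have : Algebra.IsAlgebraic A K := IsLocalization.isAlgebraic K (nonZeroDivisors A)
    have h2 := trdeg_add_eq A K (A := L)
    rw [trdeg_eq_zero (R := A) (A := K), zero_add, hAL] at h2
    rw [h2] at h1
    exact_mod_cast h1.trans hd
  have hscal : ∀ x ∈ S, ∃ r : A, r ≠ 0 ∧ ∃ c : B, algebraMap A L r * x = algebraMap B L c := by
    intro x hx
    induction hx using Algebra.adjoin_induction with
    | mem x hx =>
      obtain ⟨c, -, rfl⟩ := hx
      exact ⟨1, one_ne_zero, c, by simp⟩
    | algebraMap k =>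
      obtain ⟨a, r, hr, rfl⟩ := IsFractionRing.div_surjective (A := A) k
      refine ⟨r, nonZeroDivisors.ne_zero hr, algebraMap A B a, ?_⟩
      rw [IsScalarTower.algebraMap_apply A K L r, ← map_mul,
        mul_div_cancel₀ _ (IsFractionRing.to_map_ne_zero_of_mem_nonZeroDivisors hr),
        ← IsScalarTower.algebraMap_apply A B L, ← IsScalarTower.algebraMap_apply A K L]
    | add x y _ _ hx hy =>
      obtain ⟨r, hr, c, hc⟩ := hx
      obtain ⟨r', hr', c', hc'⟩ := hy
      refine ⟨r * r', mul_ne_zero hr hr', algebraMap A B r' * c + algebraMap A B r * c', ?_⟩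
      simp only [map_add, map_mul, ← hc, ← hc', ← IsScalarTower.algebraMap_apply]
      ring
    | mul x y _ _ hx hy =>
      obtain ⟨r, hr, c, hc⟩ := hx
      obtain ⟨r', hr', c', hc'⟩ := hy
      refine ⟨r * r', mul_ne_zero hr hr', c * c', ?_⟩
      simp only [map_mul, ← hc, ← hc']
      ring
  choose r hr b hrb using fun i => hscal _ (g (X i)).2
  let g' : MvPolynomial (Fin s) K →ₐ[K] L := aeval fun i => algebraMap B L (b i)
  let σ : MvPolynomial (Fin s) K →ₐ[K] MvPolynomial (Fin s) K :=
    aeval fun i => (algebraMap A K (r i))⁻¹ • X i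
  have hgσ : S.val.comp g = g'.comp σ := by
    refine MvPolynomial.algHom_ext fun i => ?_
    simp only [AlgHom.comp_apply, σ, aeval_X, map_smul, g']
    rw [eq_inv_smul_iff₀ (fun h => hr i (IsFractionRing.injective A K (by rw [h, map_zero]))),
      algebraMap_smul, Algebra.smul_def]
    exact hrb i
  let T : MvPolynomial (Fin s) A →ₐ[A] B := aeval b
  let _ : Algebra (MvPolynomial (Fin s) A) B := T.toRingHom.toAlgebra
  let _ : Algebra (MvPolynomial (Fin s) K) L := g'.toRingHom.toAlgebra
  have htw' : IsScalarTower (MvPolynomial (Fin s) A) (MvPolynomial (Fin s) K) L := by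
    refine IsScalarTower.of_algebraMap_eq' (MvPolynomial.ringHom_ext (fun a => ?_) fun i => ?_)
    · change algebraMap B L (T (C a)) = g' (MvPolynomial.map (algebraMap A K) (C a))
      rw [map_C, aeval_C, aeval_C, ← IsScalarTower.algebraMap_apply,
        ← IsScalarTower.algebraMap_apply]
    · change algebraMap B L (T (X i)) = g' (MvPolynomial.map (algebraMap A K) (X i))
      rw [map_X, aeval_X, aeval_X]
  have hinteg : ∀ β ∈ G, ∃ a : A, a ≠ 0 ∧
      IsIntegral (Algebra.adjoin A (Set.range b)) (algebraMap A B a * β) := by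
    intro β hβ
    obtain ⟨f, hfm, hf⟩ := hfin.to_isIntegral ⟨algebraMap B L β, Algebra.subset_adjoin ⟨β, hβ, rfl⟩⟩
    have hβK : IsIntegral (MvPolynomial (Fin s) K) (algebraMap B L β) := by
      refine ⟨f.map σ.toRingHom, hfm.map _, ?_⟩
      have := congrArg S.val hf
      rw [map_zero, ← AlgHom.coe_toRingHom, Polynomial.hom_eval₂] at this
      rw [RingHom.algebraMap_toAlgebra, Polynomial.eval₂_map, ← this]
      congr 1
      exact (congrArg AlgHom.toRingHom hgσ).symm
    obtain ⟨⟨_, a, ha, rfl⟩, hm⟩ := hβK.exists_multiple_integral_of_isLocalization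
      ((nonZeroDivisors A).map (C : A →+* MvPolynomial (Fin s) A)) _
    refine ⟨a, nonZeroDivisors.ne_zero ha, ?_⟩
    rw [Submonoid.smul_def, Algebra.smul_def, IsScalarTower.algebraMap_apply _ B L, ← map_mul,
      isIntegral_algebraMap_iff (IsFractionRing.injective B L), RingHom.algebraMap_toAlgebra] at hm
    have := IsIntegral.map_of_comp_eq (T := Algebra.adjoin A (Set.range b)) (U := B) (T.toRingHom.codRestrict (Algebra.adjoin A (Set.range b)) fun y => by
      rw [Algebra.adjoin_range_eq_range_aeval]; exact ⟨y, rfl⟩) (RingHom.id B) rfl hm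
    simpa [T] using this
  choose! a ha haint using hinteg
  refine ⟨∏ β ∈ G, a β, Finset.prod_ne_zero_iff.2 ha, fun q _ hq => ?_⟩
  refine le_trans (trdeg_quotient_le_of_integral b (G : Set B) hG q (q.under A) fun β hβ => ?_)
    (by exact_mod_cast hsd)
  have hc : ∀ x : A, IsIntegral (Algebra.adjoin A (Set.range b)) (algebraMap A B x) := fun x => by
    rw [IsScalarTower.algebraMap_apply A (Algebra.adjoin A (Set.range b)) B]
    exact isIntegral_algebraMap
  refine ⟨_, hq, hc _, ?_⟩
  rw [← Finset.prod_erase_mul G a hβ, map_mul, mul_assoc]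
  exact (hc _).mul (haint β hβ)

/-- Over a valuation ring the residue transcendence degree is at most the generic one. -/
theorem trdeg_quotient_le_of_valuationRing {A B : Type u} [CommRing A] [IsDomain A]
    [ValuationRing A] [CommRing B] [IsDomain B] [Algebra A B] [FaithfulSMul A B]
    (p : Ideal A) [p.IsPrime] (q : Ideal B) [q.IsPrime] [q.LiesOver p] :
    Algebra.trdeg (A ⧸ p) (B ⧸ q) ≤ Algebra.trdeg A B := by
  classical
  refine ciSup_le' fun ⟨t, ht⟩ => ?_
  choose x hx using fun i : t => Ideal.Quotient.mk_surjective i.1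
  refine AlgebraicIndependent.cardinalMk_le_trdeg (x := x) (algebraicIndependent_iff.2 fun P hP => ?_)
  by_contra hP0
  have hdiv : ∀ T : Finset (t →₀ ℕ), T.Nonempty →
      ∃ m ∈ T, ∀ n ∈ T, P.coeff m ∣ P.coeff n := by
    intro T hT
    induction hT using Finset.Nonempty.cons_induction with
    | singleton m => exact ⟨m, by simp, by simp⟩
    | cons m T hm hT ih =>
      obtain ⟨m₀, hm₀, h₀⟩ := ih
      rcases ValuationRing.dvd_total (P.coeff m₀) (P.coeff m) with h | h
      · exact ⟨m₀, by simp [hm₀], fun n hn => by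
          rcases Finset.mem_cons.1 hn with rfl | hn
          exacts [h, h₀ n hn]⟩
      · exact ⟨m, by simp, fun n hn => by
          rcases Finset.mem_cons.1 hn with rfl | hn
          exacts [dvd_rfl, h.trans (h₀ n hn)]⟩
  obtain ⟨m, hm, hdvd⟩ := hdiv P.support (MvPolynomial.support_nonempty.2 hP0)
  have hcdvd : MvPolynomial.C (P.coeff m) ∣ P := by
    rw [MvPolynomial.C_dvd_iff_dvd_coeff]
    intro n
    by_cases hn : n ∈ P.support
    · exact hdvd n hn
    · rw [MvPolynomial.notMem_support_iff.1 hn]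
      exact dvd_zero _
  obtain ⟨P', hP'⟩ := hcdvd
  have hc0 : P.coeff m ≠ 0 := MvPolynomial.mem_support_iff.1 hm
  have hP'0 : MvPolynomial.aeval x P' = 0 := by
    rw [hP', map_mul, MvPolynomial.aeval_C, mul_eq_zero] at hP
    exact hP.resolve_left fun h => hc0 (FaithfulSMul.algebraMap_injective A B (by rw [h, map_zero]))
  have h1 : P'.coeff m = 1 := by
    have := congrArg (MvPolynomial.coeff m) hP'
    rw [MvPolynomial.coeff_C_mul] at this
    exact mul_left_cancel₀ hc0 (by rw [mul_one]; exact this.symm)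
  have h2 : MvPolynomial.map (Ideal.Quotient.mk p) P' = 0 := by
    refine ht.eq_zero_of_aeval_eq_zero _ ?_
    rw [← Ideal.Quotient.algebraMap_eq, MvPolynomial.aeval_map_algebraMap]
    have h3 := congrArg (Ideal.Quotient.mkₐ A q) hP'0
    rw [map_zero, ← AlgHom.comp_apply, MvPolynomial.comp_aeval] at h3
    have e : (fun i => (Ideal.Quotient.mkₐ A q) (x i)) = fun i : t => (i.1 : B ⧸ q) := funext hx
    rw [e] at h3
    exact h3
  have := congrArg (MvPolynomial.coeff m) h2
  rw [MvPolynomial.coeff_map, h1, map_one, MvPolynomial.coeff_zero] at this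
  exact one_ne_zero this

end Groth.Agent.E4O
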