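import Groth.Agent.E4O.SectionCompGen
import Groth.Agent.E4O.SectionModel
import Groth.Agent.SpPts86.LocConstr

/-!
EGA IV 9.7.12: the section components of a finitely presented morphism are locally constructible.
-/

set_option autoImplicit false
set_option linter.style.haveILetI false
universe u

open CategoryTheory CategoryTheory.Limits AlgebraicGeometry TopologicalSpace Topology

namespace Groth.Agent.E4O

theorem isConstructible_of_isOpen {α : Type*} [TopologicalSpace α] [NoetherianSpace α] {U : Set α}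
    (hU : IsOpen U) : IsConstructible U :=
  IsRetrocompact.isConstructible hU fun _ _ _ => NoetherianSpace.isCompact _

theorem isConstructible_of_isClosed {α : Type*} [TopologicalSpace α] [NoetherianSpace α] {C : Set α}
    (hC : IsClosed C) : IsConstructible C := by
  simpa using (isConstructible_of_isOpen hC.isOpen_compl).compl

theorem isConstructible_sectionComponents {X Y : Scheme.{u}} [IsLocallyNoetherian Y] [CompactSpace Y]
    (f : X ⟶ Y) [LocallyOfFiniteType f] [QuasiCompact f] (s : Y ⟶ X) (hs : s ≫ f = 𝟙 Y) :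
    IsConstructible (MoreMor.sectionComponents f s) := by
  have : IsNoetherian Y := {}
  have : IsLocallyNoetherian X := LocallyOfFiniteType.isLocallyNoetherian f
  have : CompactSpace X := QuasiCompact.compactSpace_of_compactSpace f
  have : IsNoetherian X := {}
  suffices ∀ C : Closeds Y, IsConstructible (MoreMor.sectionComponents f s ∩ f ⁻¹' (C : Set Y)) by
    simpa using this ⊤
  intro C
  induction C using (wellFounded_lt (α := Closeds Y)).induction with
  | _ C IH =>
  rcases (C : Set Y).eq_empty_or_nonempty with hC | hC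
  · simp [hC]
  by_cases hirr : IsPreirreducible (C : Set Y)
  · obtain ⟨y, hy⟩ := (⟨hC, hirr⟩ : IsIrreducible (C : Set Y)) |> fun h => QuasiSober.sober h C.isClosed
    obtain ⟨U, hyU, Z₀, Z₁, hZ⟩ := exists_sectionComponents_pieces f s hs y
    have hcl : closure {y} = (C : Set Y) := hy
    let C' : Closeds Y := ⟨(C : Set Y) \ U, C.isClosed.sdiff U.2⟩
    have hlt : C' < C := by
      refine lt_of_le_of_ne (show (C' : Set Y) ⊆ C from Set.sdiff_subset) fun h => ?_
      have hyC : y ∈ (C : Set Y) := hcl.le (subset_closure rfl)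
      rw [← h] at hyC
      exact hyC.2 hyU
    have e : MoreMor.sectionComponents f s ∩ f ⁻¹' (C : Set Y) =
        ((Z₀ : Set X) ∩ (f ⁻¹' (U : Set Y) ∩ f ⁻¹' (C : Set Y))) ∪
          (MoreMor.sectionComponents f s ∩ f ⁻¹' (C' : Set Y)) := by
      ext x
      by_cases hx : f x ∈ U
      · constructor
        · rintro ⟨h, hC⟩
          exact Or.inl ⟨(hZ x ⟨hx, hcl.ge hC⟩).1.mp h, hx, hC⟩
        · rintro (⟨h, -, hC⟩ | ⟨-, -, h⟩)
          · exact ⟨(hZ x ⟨hx, hcl.ge hC⟩).1.mpr h, hC⟩
          · exact absurd hx h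
      · constructor
        · rintro ⟨h, hC⟩
          exact Or.inr ⟨h, hC, hx⟩
        · rintro (⟨-, h, -⟩ | ⟨h, hC, -⟩)
          · exact absurd h hx
          · exact ⟨h, hC⟩
    rw [e]
    exact ((isConstructible_of_isClosed Z₀.isClosed).inter
      ((isConstructible_of_isOpen (U.2.preimage f.continuous)).inter
        (isConstructible_of_isClosed (C.isClosed.preimage f.continuous)))).union (IH C' hlt)
  · rw [isPreirreducible_iff_isClosed_union_isClosed] at hirr
    push Not at hirr
    obtain ⟨A, B, hA, hB, hsub, hnA, hnB⟩ := hirr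
    have hAlt : C ⊓ ⟨A, hA⟩ < C := lt_of_le_of_ne inf_le_left fun h => hnA (SetLike.coe_subset_coe.mpr (inf_eq_left.mp h))
    have hBlt : C ⊓ ⟨B, hB⟩ < C := lt_of_le_of_ne inf_le_left fun h => hnB (SetLike.coe_subset_coe.mpr (inf_eq_left.mp h))
    have e : (C : Set Y) = ((C : Set Y) ∩ A) ∪ ((C : Set Y) ∩ B) := by
      rw [← Set.inter_union_distrib_left, Set.inter_eq_left.mpr hsub]
    rw [e, Set.preimage_union, Set.inter_union_distrib_left]
    exact (IH _ hAlt).union (IH _ hBlt)

theorem isLocallyConstructible_sectionComponents {X Y : Scheme.{u}} (f : X ⟶ Y)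
    [LocallyOfFinitePresentation f] [QuasiCompact f] [QuasiSeparated f] (s : Y ⟶ X) (hs : s ≫ f = 𝟙 Y) :
    IsLocallyConstructible (MoreMor.sectionComponents f s) := by
  refine IsLocallyConstructible.of_isOpenCover (U := fun W : Y.affineOpens => f ⁻¹ᵁ W.1)
    (IsOpenCover.mk (top_le_iff.mp fun x _ => by
      obtain ⟨_, ⟨W, hW, rfl⟩, hx, -⟩ :=
        Y.isBasis_affineOpens.exists_subset_of_mem_open (Set.mem_univ (f x)) isOpen_univ
      exact Opens.mem_iSup.mpr ⟨⟨W, hW⟩, hx⟩)) fun W => ?_
  have : IsAffine W.1 := W.2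
  have hp := isPullback_morphismRestrict f W.1
  let sW : W.1.toScheme ⟶ (f ⁻¹ᵁ W.1).toScheme :=
    hp.flip.lift (W.1.ι ≫ s) (𝟙 _) (by rw [Category.assoc, hs, Category.comp_id, Category.id_comp])
  have hsW : sW ≫ f ∣_ W.1 = 𝟙 _ := hp.flip.lift_snd _ _ _
  have hsWg : sW ≫ (f ⁻¹ᵁ W.1).ι = W.1.ι ≫ s := hp.flip.lift_fst _ _ _
  obtain ⟨Y', _, _, π, X', f', _, _, _, s', hs', eX, hX, hsX, -⟩ := exists_sectionModel (f ∣_ W.1) sW hsW
  have h1 := GeomCount24.sectionComponents_baseChange f s hs _ _ _ hp.flip sW hsW hsWg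
  have h2 := GeomCount24.sectionComponents_baseChange f' s' hs' (f ∣_ W.1) eX π hX sW hsW hsX
  show IsLocallyConstructible ((f ⁻¹ᵁ W.1).ι ⁻¹' MoreMor.sectionComponents f s)
  rw [← h1, h2]
  exact SpPts86.isLocallyConstructible_preimage eX
    (isConstructible_sectionComponents f' s' hs').isLocallyConstructible

end Groth.Agent.E4O
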