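import Groth.Agent.E4O.FibreDimRing
import Groth.Agent.E4O.UnivOpenFT
import Groth.Agent.E4O.FibreSets
import Mathlib.RingTheory.Valuation.LocalSubring
import Mathlib.RingTheory.TensorProduct.MvPolynomial

/-!
EGA IV 14.3 (a ⇒ b'): universal openness at a point gives, over every generization of the image, a
generization at least as large in its fibre.
-/

universe u

open CategoryTheory AlgebraicGeometry Limits
open scoped TensorProduct

namespace Groth.Agent.E4O

/-- A prime of `B ⊗ V` over `q` and over the maximal ideal with residue transcendence degree at least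
that of `q`, and the consequences of a generization of it in the generic fibre. -/
theorem exists_trdeg_ge_of_valuationRing {A B V : Type u} [CommRing A] [CommRing B] [CommRing V]
    [IsDomain V] [ValuationRing V] [Algebra A B] [Algebra A V] [Algebra.FiniteType A B]
    (q : Ideal B) [q.IsPrime]
    (hVp : (IsLocalRing.maximalIdeal V).comap (algebraMap A V) = q.under A)
    (h : ∀ Q : Ideal (B ⊗[A] V), Q.IsPrime →
      Q.comap Algebra.TensorProduct.includeLeftRingHom = q →
      Q.comap (Algebra.TensorProduct.includeRight : V →ₐ[A] B ⊗[A] V).toRingHom =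
        IsLocalRing.maximalIdeal V →
      ∃ w : Ideal (B ⊗[A] V), w.IsPrime ∧ w ≤ Q ∧
        w.comap (Algebra.TensorProduct.includeRight : V →ₐ[A] B ⊗[A] V).toRingHom = ⊥) :
    ∃ q' : Ideal B, q'.IsPrime ∧ q' ≤ q ∧ q'.under A = RingHom.ker (algebraMap A V) ∧
      Algebra.trdeg (A ⧸ q.under A) (B ⧸ q) ≤ Algebra.trdeg (A ⧸ q'.under A) (B ⧸ q') := by
  classical
  let mV := IsLocalRing.maximalIdeal V
  let p := q.under A
  -- a transcendence basis at `q`
  have : FaithfulSMul (A ⧸ p) (B ⧸ q) := (faithfulSMul_iff_algebraMap_injective _ _).2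
    Ideal.algebraMap_quotient_injective
  obtain ⟨ι, x, hx⟩ := exists_isTranscendenceBasis' (A ⧸ p) (B ⧸ q)
  choose t ht using fun i => Ideal.Quotient.mk_surjective (x i)
  let T : MvPolynomial ι A →ₐ[A] B := MvPolynomial.aeval t
  let ψ : MvPolynomial ι A →+* MvPolynomial ι V := MvPolynomial.map (algebraMap A V)
  let P' : Ideal (MvPolynomial ι V) := mV.map MvPolynomial.C
  have hP'eq : P' = RingHom.ker (MvPolynomial.map (σ := ι) (Ideal.Quotient.mk mV)) := by
    rw [MvPolynomial.ker_map, Ideal.mk_ker]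
  have hP' : P'.IsPrime := hP'eq ▸ RingHom.ker_isPrime _
  have hVp' : mV.comap (algebraMap A V) = p := hVp
  let jA : A ⧸ p →+* V ⧸ mV := Ideal.quotientMap mV (algebraMap A V) hVp'.ge
  have hjA : Function.Injective jA := Ideal.quotientMap_injective' hVp'.le
  have hPP : P'.comap ψ = q.comap T.toRingHom := by
    ext g
    rw [Ideal.mem_comap, Ideal.mem_comap, hP'eq, RingHom.mem_ker]
    have h1 : MvPolynomial.map (Ideal.Quotient.mk mV) (ψ g) =
        MvPolynomial.map jA (MvPolynomial.map (Ideal.Quotient.mk p) g) := by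
      simp only [ψ, MvPolynomial.map_map]
      congr 1
    have h2 : Ideal.Quotient.mk q (T g) =
        MvPolynomial.aeval x (MvPolynomial.map (Ideal.Quotient.mk p) g) := by
      have h3 : (Ideal.Quotient.mk q).comp T.toRingHom =
          (MvPolynomial.aeval (R := A ⧸ p) x).toRingHom.comp (MvPolynomial.map (Ideal.Quotient.mk p)) := by
        refine MvPolynomial.ringHom_ext (fun a => ?_) fun i => ?_
        · simp [T]
        · simp [T, ht]
      exact congr($h3 g)
    rw [h1, map_eq_zero_iff _ (MvPolynomial.map_injective _ hjA)]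
    show _ ↔ T g ∈ q
    rw [← Ideal.Quotient.eq_zero_iff_mem, h2, map_eq_zero_iff _ hx.1]
  algebraize [T.toRingHom, ψ]
  obtain ⟨qq, hqq1, hqq2⟩ := Scheme.Pullback.exists_preimage_pullback
    (f := Spec.map (CommRingCat.ofHom (algebraMap (MvPolynomial ι A) B)))
    (g := Spec.map (CommRingCat.ofHom (algebraMap (MvPolynomial ι A) (MvPolynomial ι V))))
    (⟨q, inferInstance⟩ : PrimeSpectrum B) (⟨P', hP'⟩ : PrimeSpectrum (MvPolynomial ι V))
    (PrimeSpectrum.ext hPP.symm)
  let Q'' : PrimeSpectrum (B ⊗[MvPolynomial ι A] MvPolynomial ι V) :=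
    (pullbackSpecIso (MvPolynomial ι A) B (MvPolynomial ι V)).hom qq
  have hQ''1 : PrimeSpectrum.comap Algebra.TensorProduct.includeLeftRingHom Q'' =
      (⟨q, inferInstance⟩ : PrimeSpectrum B) := by
    rw [← hqq1, ← pullbackSpecIso_hom_fst (MvPolynomial ι A) B (MvPolynomial ι V)]
    rfl
  have hQ''2 : PrimeSpectrum.comap (Algebra.TensorProduct.includeRight :
      MvPolynomial ι V →ₐ[MvPolynomial ι A] B ⊗[MvPolynomial ι A] MvPolynomial ι V).toRingHom Q'' =
      (⟨P', hP'⟩ : PrimeSpectrum (MvPolynomial ι V)) := by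
    rw [← hqq2, ← pullbackSpecIso_hom_snd (MvPolynomial ι A) B (MvPolynomial ι V)]
    rfl
  have : IsScalarTower A (MvPolynomial ι A) B :=
    IsScalarTower.of_algebraMap_eq fun a => (T.commutes a).symm
  have : IsScalarTower A (MvPolynomial ι A) (MvPolynomial ι V) :=
    IsScalarTower.of_algebraMap_eq fun a => by
      rw [RingHom.algebraMap_toAlgebra]
      exact (MvPolynomial.map_C _ a).symm
  let rC : V →ₐ[A] MvPolynomial ι V :=
    { toRingHom := MvPolynomial.C, commutes' := fun a => rfl }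
  let Φ : B ⊗[A] V →ₐ[A] B ⊗[MvPolynomial ι A] MvPolynomial ι V :=
    Algebra.TensorProduct.lift
      ((Algebra.TensorProduct.includeLeft (S := MvPolynomial ι A)).restrictScalars A)
      (((Algebra.TensorProduct.includeRight : MvPolynomial ι V →ₐ[MvPolynomial ι A] _).restrictScalars A).comp rC)
      fun _ _ => Commute.all _ _
  let Q : Ideal (B ⊗[A] V) := Q''.asIdeal.comap Φ.toRingHom
  have hQl : Q.comap Algebra.TensorProduct.includeLeftRingHom = q := by
    rw [Ideal.comap_comap]
    refine Eq.trans ?_ (congrArg PrimeSpectrum.asIdeal hQ''1)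
    rw [PrimeSpectrum.comap_asIdeal]
    congr 1
    refine RingHom.ext fun b => ?_
    show Φ (b ⊗ₜ[A] 1) = b ⊗ₜ[MvPolynomial ι A] 1
    rw [Algebra.TensorProduct.lift_tmul, map_one, mul_one]
    rfl
  have hQr : Q.comap (Algebra.TensorProduct.includeRight : V →ₐ[A] B ⊗[A] V).toRingHom = mV := by
    rw [Ideal.comap_comap]
    have h1 : Φ.toRingHom.comp (Algebra.TensorProduct.includeRight : V →ₐ[A] B ⊗[A] V).toRingHom =
        (Algebra.TensorProduct.includeRight : MvPolynomial ι V →ₐ[MvPolynomial ι A]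
          B ⊗[MvPolynomial ι A] MvPolynomial ι V).toRingHom.comp MvPolynomial.C := by
      refine RingHom.ext fun a => ?_
      show Φ (1 ⊗ₜ[A] a) = _
      rw [Algebra.TensorProduct.lift_tmul, map_one, one_mul]
      rfl
    rw [h1, ← Ideal.comap_comap]
    refine (congrArg (Ideal.comap MvPolynomial.C) (congrArg PrimeSpectrum.asIdeal hQ''2)).trans ?_
    show P'.comap MvPolynomial.C = mV
    rw [hP'eq, RingHom.comap_ker, show (MvPolynomial.map (Ideal.Quotient.mk mV)).comp
        (MvPolynomial.C : V →+* MvPolynomial ι V) = MvPolynomial.C.comp (Ideal.Quotient.mk mV) from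
        RingHom.ext fun a => MvPolynomial.map_C _ a,
      ← RingHom.comap_ker, (RingHom.injective_iff_ker_eq_bot _).1 (MvPolynomial.C_injective ι (V ⧸ mV)),
      ← RingHom.ker_eq_comap_bot, Ideal.mk_ker]
  have hQp : Q.IsPrime := Ideal.IsPrime.comap _
  -- `t` stays independent at `Q`
  let S := B ⊗[A] V
  let ι' : V →+* S := (Algebra.TensorProduct.includeRight : V →ₐ[A] B ⊗[A] V).toRingHom
  let _ : Algebra V S := ι'.toAlgebra
  let tQ : ι → S ⧸ Q := fun i => Ideal.Quotient.mk Q (t i ⊗ₜ[A] 1)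
  have : Q.LiesOver mV := ⟨hQr.symm⟩
  have hindep : AlgebraicIndependent (V ⧸ mV) tQ := by
    rw [algebraicIndependent_iff]
    intro g hg
    obtain ⟨g₀, rfl⟩ := MvPolynomial.map_surjective _ Ideal.Quotient.mk_surjective g
    rw [← RingHom.mem_ker, ← hP'eq]
    have h1 : ((Ideal.Quotient.mk Q''.asIdeal).comp (Algebra.TensorProduct.includeRight :
        MvPolynomial ι V →ₐ[MvPolynomial ι A] B ⊗[MvPolynomial ι A] MvPolynomial ι V).toRingHom) =
        ((Ideal.quotientMap Q''.asIdeal Φ.toRingHom le_rfl).comp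
          (MvPolynomial.aeval (R := V ⧸ mV) tQ).toRingHom).comp
            (MvPolynomial.map (Ideal.Quotient.mk mV)) := by
      refine MvPolynomial.ringHom_ext (fun a => ?_) fun i => ?_
      · show Ideal.Quotient.mk _ (1 ⊗ₜ[MvPolynomial ι A] MvPolynomial.C a) =
          Ideal.quotientMap Q''.asIdeal Φ.toRingHom (le_refl Q) (MvPolynomial.aeval tQ (MvPolynomial.map _ (MvPolynomial.C a)))
        rw [MvPolynomial.map_C, MvPolynomial.aeval_C]
        show _ = Ideal.quotientMap Q''.asIdeal Φ.toRingHom (le_refl Q) (Ideal.Quotient.mk Q (1 ⊗ₜ[A] a))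
        rw [Ideal.quotientMap_mk]
        congr 1
        show _ = Φ (1 ⊗ₜ[A] a)
        rw [Algebra.TensorProduct.lift_tmul, map_one, one_mul]
        rfl
      · show Ideal.Quotient.mk _ (1 ⊗ₜ[MvPolynomial ι A] MvPolynomial.X i) =
          Ideal.quotientMap Q''.asIdeal Φ.toRingHom (le_refl Q) (MvPolynomial.aeval tQ (MvPolynomial.map _ (MvPolynomial.X i)))
        rw [MvPolynomial.map_X, MvPolynomial.aeval_X, Ideal.quotientMap_mk]
        congr 1
        show _ = Φ (t i ⊗ₜ[A] 1)
        rw [Algebra.TensorProduct.lift_tmul, map_one, mul_one]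
        show (1 : B) ⊗ₜ[MvPolynomial ι A] MvPolynomial.X i = t i ⊗ₜ[MvPolynomial ι A] (1 : MvPolynomial ι V)
        have e1 : algebraMap (MvPolynomial ι A) B (MvPolynomial.X i) = t i := MvPolynomial.aeval_X t i
        have e2 : algebraMap (MvPolynomial ι A) (MvPolynomial ι V) (MvPolynomial.X i) = MvPolynomial.X i :=
          MvPolynomial.map_X _ i
        rw [← e1, Algebra.algebraMap_eq_smul_one, TensorProduct.smul_tmul,
          ← Algebra.algebraMap_eq_smul_one, e2]
    have h2 := congr($h1 g₀)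
    simp only [RingHom.comp_apply] at h2
    rw [show (MvPolynomial.aeval (R := V ⧸ mV) tQ).toRingHom (MvPolynomial.map (Ideal.Quotient.mk mV) g₀) =
      MvPolynomial.aeval tQ (MvPolynomial.map (Ideal.Quotient.mk mV) g₀) from rfl, hg, map_zero,
      Ideal.Quotient.eq_zero_iff_mem] at h2
    exact (congrArg PrimeSpectrum.asIdeal hQ''2).le h2
  -- a generization in the generic fibre
  obtain ⟨w, hw, hwQ, hwV⟩ := h Q hQp hQl hQr
  let q' : Ideal B := w.comap Algebra.TensorProduct.includeLeftRingHom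
  have hq'A : q'.under A = RingHom.ker (algebraMap A V) := by
    rw [Ideal.under_def, Ideal.comap_comap,
      show (Algebra.TensorProduct.includeLeftRingHom : B →+* B ⊗[A] V).comp (algebraMap A B) =
        ι'.comp (algebraMap A V) from RingHom.ext fun a =>
          ((Algebra.TensorProduct.includeRight : V →ₐ[A] B ⊗[A] V).commutes a).symm,
      ← Ideal.comap_comap, hwV, RingHom.ker_eq_comap_bot]
  refine ⟨q', hw.comap _, (Ideal.comap_mono hwQ).trans hQl.le, hq'A, ?_⟩
  let D := S ⧸ w
  have hinjD : Function.Injective (algebraMap V D) := by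
    rw [injective_iff_map_eq_zero]
    intro v hv
    have hv' : ι' v ∈ w := Ideal.Quotient.eq_zero_iff_mem.1 hv
    have hv2 : v ∈ w.comap ι' := hv'
    rw [hwV] at hv2
    exact hv2
  have hfs : FaithfulSMul V D := (faithfulSMul_iff_algebraMap_injective _ _).2 hinjD
  let Qb : Ideal D := Q.map (Ideal.Quotient.mk w)
  have hker : RingHom.ker (Ideal.Quotient.mk w) ≤ Q := Ideal.mk_ker.le.trans hwQ
  have hQb : Qb.IsPrime := Ideal.map_isPrime_of_surjective Ideal.Quotient.mk_surjective hker
  have hQbc : Qb.comap (Ideal.Quotient.mk w) = Q := by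
    rw [Ideal.comap_map_of_surjective _ Ideal.Quotient.mk_surjective, ← RingHom.ker_eq_comap_bot]
    exact sup_eq_left.2 hker
  have : Qb.LiesOver mV := ⟨by
    rw [Ideal.under_def, show algebraMap V D = (Ideal.Quotient.mk w).comp ι' from rfl,
      ← Ideal.comap_comap, hQbc]
    exact hQr.symm⟩
  have hlow : Cardinal.mk ι ≤ Algebra.trdeg (V ⧸ mV) (D ⧸ Qb) := by
    have hcm : (algebraMap (V ⧸ mV) (D ⧸ Qb)).comp (RingEquiv.refl (V ⧸ mV)).toRingHom =
        (DoubleQuot.quotQuotEquivQuotOfLE hwQ).symm.toRingHom.comp (algebraMap (V ⧸ mV) (S ⧸ Q)) := by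
      refine Ideal.Quotient.ringHom_ext (RingHom.ext fun a => ?_)
      rfl
    exact hindep.cardinalMk_le_trdeg.trans (trdeg_le_of_ringEquiv (RingEquiv.refl _)
      (DoubleQuot.quotQuotEquivQuotOfLE hwQ).symm hcm)
  have hmid := trdeg_quotient_le_of_valuationRing (A := V) (B := D) mV Qb
  -- the generic residue extension is generated by `B`
  have : FaithfulSMul (A ⧸ q'.under A) (B ⧸ q') := (faithfulSMul_iff_algebraMap_injective _ _).2
    Ideal.algebraMap_quotient_injective
  obtain ⟨κ, y, hy⟩ := exists_isTranscendenceBasis' (A ⧸ q'.under A) (B ⧸ q')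
  let φ : B ⧸ q' →+* D := Ideal.quotientMap w Algebra.TensorProduct.includeLeftRingHom le_rfl
  have hφ : Function.Injective φ := Ideal.quotientMap_injective
  let jV : A ⧸ q'.under A →+* V := Ideal.Quotient.lift _ (algebraMap A V) fun a ha => hq'A.le ha
  have hjV : Function.Injective jV := RingHom.lift_injective_of_ker_le_ideal _ _ hq'A.ge
  have hsq : φ.comp (algebraMap (A ⧸ q'.under A) (B ⧸ q')) = (algebraMap V D).comp jV := by
    refine Ideal.Quotient.ringHom_ext (RingHom.ext fun a => ?_)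
    show Ideal.Quotient.mk w (algebraMap A B a ⊗ₜ[A] 1) = Ideal.Quotient.mk w (1 ⊗ₜ[A] algebraMap A V a)
    rw [Algebra.algebraMap_eq_smul_one, TensorProduct.smul_tmul, ← Algebra.algebraMap_eq_smul_one]
  let K : Subalgebra V D := Algebra.adjoin V (Set.range (φ ∘ y))
  have hKalg : ∀ e : B ⧸ q', IsAlgebraic K (φ e) := fun e => by
    have h0 := hy.isAlgebraic.isAlgebraic e
    let L := Algebra.adjoin (A ⧸ q'.under A) (Set.range y)
    have hL : ∀ z : L, φ z.1 ∈ K := fun ⟨z, hz⟩ => by
      refine Algebra.adjoin_induction (p := fun z _ => φ z ∈ K) ?_ (fun a => ?_)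
        (fun _ _ _ _ h1 h2 => by rw [map_add]; exact add_mem h1 h2)
        (fun _ _ _ _ h1 h2 => by rw [map_mul]; exact mul_mem h1 h2) hz
      · rintro _ ⟨i, rfl⟩
        exact Algebra.subset_adjoin ⟨i, rfl⟩
      · rw [show φ (algebraMap _ (B ⧸ q') a) = algebraMap V D (jV a) from congr($hsq a)]
        exact K.algebraMap_mem _
    let ψL : L →+* K := (φ.comp L.val.toRingHom).codRestrict K hL
    refine h0.ringHom_of_comp_eq ψL φ ?_ rfl
    intro a b hab
    exact Subtype.ext (hφ (congrArg Subtype.val hab))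
  have : IsDomain D := inferInstance
  have halg : Algebra.IsAlgebraic K D := by
    refine ⟨fun d => ?_⟩
    obtain ⟨d, rfl⟩ := Ideal.Quotient.mk_surjective d
    induction d using TensorProduct.induction_on with
    | zero => rw [map_zero]; exact isAlgebraic_zero
    | tmul b v =>
      have h1 : Ideal.Quotient.mk w (b ⊗ₜ[A] v) =
          φ (Ideal.Quotient.mk q' b) * algebraMap K D (algebraMap V K v) := by
        show _ = Ideal.Quotient.mk w (b ⊗ₜ[A] 1) * Ideal.Quotient.mk w (1 ⊗ₜ[A] v)
        rw [← map_mul, Algebra.TensorProduct.tmul_mul_tmul, mul_one, one_mul]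
      rw [h1]
      exact (hKalg _).mul (isAlgebraic_algebraMap _)
    | add a b ha hb => rw [map_add]; exact ha.add hb
  calc Algebra.trdeg (A ⧸ p) (B ⧸ q) = Cardinal.mk ι := hx.cardinalMk_eq_trdeg.symm
    _ ≤ Algebra.trdeg V D := hlow.trans hmid
    _ ≤ Cardinal.mk ↥(Set.range (φ ∘ y)) := Algebra.IsAlgebraic.trdeg_le_cardinalMk V _
    _ ≤ Cardinal.mk κ := Cardinal.mk_range_le
    _ = _ := hy.cardinalMk_eq_trdeg

variable {X Y : Scheme.{u}}

/-- EGA IV 14.3 (a ⇒ b'). -/
theorem exists_fdeg_ge_of_isUnivOpenAt (f : X ⟶ Y) [LocallyOfFiniteType f] {x : X}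
    (h : EGA43.IsUnivOpenAt f x) {y' : Y} (hy' : y' ⤳ f x) :
    ∃ ξ : X, f ξ = y' ∧ ξ ⤳ x ∧ fdeg f x ≤ fdeg f ξ := by
  obtain ⟨C, ⟨q, rfl⟩, -⟩ := exists_chart f x
  rw [C.apply] at hy'
  obtain ⟨p', rfl⟩ := hy'.mem_open C.isOpenEmbedding_ptY.isOpen_range ⟨_, rfl⟩
  have hpq : p'.asIdeal ≤ q.asIdeal.under C.A := (C.specializesY_iff _ _).1 hy'
  let Ap := Localization.AtPrime (q.asIdeal.under C.A)
  let r : Ap →+* p'.asIdeal.ResidueField := IsLocalization.lift (M := (q.asIdeal.under C.A).primeCompl)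
    (g := algebraMap C.A p'.asIdeal.ResidueField) fun s => by
      refine Ne.isUnit fun h0 => s.2 (hpq (Ideal.algebraMap_residueField_eq_zero.1 h0))
  obtain ⟨W, hW, hWloc⟩ := IsLocalRing.exists_factor_valuationRing r
  let V := W
  let av : C.A →+* V := (r.codRestrict W.toSubring fun z => hW z).comp (algebraMap C.A Ap)
  have hker : RingHom.ker av = p'.asIdeal := by
    ext a
    rw [RingHom.mem_ker, ← Ideal.algebraMap_residueField_eq_zero]
    refine ⟨fun h0 => ?_, fun h0 => Subtype.ext ?_⟩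
    · have := congrArg Subtype.val h0
      exact (IsLocalization.lift_eq _ a).symm.trans this
    · exact (IsLocalization.lift_eq _ a).trans h0
  let _ : Algebra C.A V := av.toAlgebra
  have hVp : (IsLocalRing.maximalIdeal V).comap (algebraMap C.A V) = q.asIdeal.under C.A := by
    rw [RingHom.algebraMap_toAlgebra, ← Ideal.comap_comap,
      show (IsLocalRing.maximalIdeal V).comap (r.codRestrict W.toSubring fun z => hW z) =
        IsLocalRing.maximalIdeal Ap from
      ((IsLocalRing.local_hom_TFAE _).out 0 4 rfl rfl).1 hWloc]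
    exact IsLocalization.AtPrime.under_maximalIdeal Ap _
  let w : Spec (CommRingCat.of V) ⟶ Y := Spec.map (CommRingCat.ofHom (algebraMap C.A V)) ≫ C.j
  obtain ⟨e, he, he1, he2, her⟩ := exists_tensor_chart f w C.e (𝟙 _) C.j C.comm (Category.id_comp w)
  obtain ⟨q', hq', hq'q, hq'p, hle⟩ := exists_trdeg_ge_of_valuationRing (A := C.A) (B := C.B) (V := V)
    q.asIdeal hVp fun Q hQ hQl hQr => by
      let zc : PrimeSpectrum (C.B ⊗[C.A] V) := ⟨Q, hQ⟩
      have hfst : pullback.fst f w (e zc) = C.pt q := by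
        refine ((Scheme.Hom.comp_apply e (pullback.fst f w) zc).symm.trans
          (congrArg (fun k : _ ⟶ X => k zc) he1)).trans ?_
        exact congrArg C.pt (PrimeSpectrum.ext hQl)
      have hsnd : ∀ t, pullback.snd f w (e t) = PrimeSpectrum.comap
          (Algebra.TensorProduct.includeRight : V →ₐ[C.A] C.B ⊗[C.A] V).toRingHom t := fun t =>
        (Scheme.Hom.comp_apply e (pullback.snd f w) t).symm.trans
          (congrArg (fun k : _ ⟶ Spec (CommRingCat.of V) => k t) he2)
      have hopen := h _ w (e zc) hfst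
      let η : PrimeSpectrum V := ⟨⊥, Ideal.isPrime_bot⟩
      have hcl : e zc ∈ closure (pullback.snd f w ⁻¹' {η}) := by
        rw [mem_closure_iff]
        intro O hO hzO
        obtain ⟨U, hU, hUo, hmU⟩ := mem_nhds_iff.1 (hopen _ (hO.mem_nhds hzO))
        obtain ⟨a, haO, ha⟩ := hU ((show (η : PrimeSpectrum V) ⤳ (pullback.snd f w (e zc)) from
          (PrimeSpectrum.le_iff_specializes η _).1 bot_le).mem_open hUo hmU)
        exact ⟨a, haO, ha⟩
      obtain ⟨z', hz', hsp⟩ := exists_specializes_of_mem_closure_preimage _ hcl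
      obtain ⟨zc', rfl⟩ := hsp.mem_open e.isOpenEmbedding.isOpen_range ⟨zc, rfl⟩
      rw [hsnd] at hz'
      exact ⟨PrimeSpectrum.asIdeal zc', (zc' : PrimeSpectrum _).2,
        (PrimeSpectrum.le_iff_specializes zc' zc).2 (e.isOpenEmbedding.isInducing.specializes_iff.1 hsp),
        congrArg PrimeSpectrum.asIdeal hz'⟩
  refine ⟨C.pt ⟨q', hq'⟩, ?_, (C.specializes_iff _ _).2 hq'q, ?_⟩
  · rw [C.apply]
    exact congrArg C.ptY (PrimeSpectrum.ext (hq'p.trans hker))
  · have h1 := C.trdeg_eq_fdeg ⟨q', hq'⟩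
    rw [C.trdeg_eq_fdeg, h1] at hle
    exact_mod_cast hle

end Groth.Agent.E4O
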