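import Groth.Agent.E4O.SectionCompIrred

/-!
Universal openness along a geometrically irreducible section component needs only a lower bound on the
fibre dimension along generisations of the base point; irreducibility in a stable form descends.
-/

set_option autoImplicit false
set_option linter.style.haveILetI false
universe u

open CategoryTheory CategoryTheory.Limits AlgebraicGeometry TopologicalSpace Topology

namespace Groth.Agent.E4O

variable {X Y : Scheme.{u}}

/-- The section component at `y` stays irreducible after every base change. -/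
def StableIrredAt (f : X ⟶ Y) (g : Y ⟶ X) (y : Y) : Prop :=
  ∀ (X' Y' : Scheme.{u}) (f' : X' ⟶ Y') (p : X' ⟶ X) (h : Y' ⟶ Y), IsPullback p f' f h →
    ∀ (g' : Y' ⟶ X'), g' ≫ f' = 𝟙 Y' → g' ≫ p = h ≫ g → ∀ y' : Y', h y' = y →
      IsIrreducible (connectedComponentIn (f' ⁻¹' {y'}) (g' y'))

theorem GeomIrredComp.stableIrredAt {f : X ⟶ Y} {g : Y ⟶ X} (hg : g ≫ f = 𝟙 Y) {y : Y}
    (h : GeomIrredComp f g y) : StableIrredAt f g y := by
  intro X' Y' f' p j hsq g' hg' hgp y' hy'
  subst hy'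
  exact h.isIrreducible_baseChange hg hsq hg' hgp

theorem StableIrredAt.isIrreducible {f : X ⟶ Y} {g : Y ⟶ X} (hg : g ≫ f = 𝟙 Y) {y : Y}
    (h : StableIrredAt f g y) : IsIrreducible (connectedComponentIn (f ⁻¹' {y}) (g y)) :=
  h X Y f (𝟙 X) (𝟙 Y) IsPullback.of_id_fst g hg (by simp) y rfl

theorem StableIrredAt.baseChange {f : X ⟶ Y} {g : Y ⟶ X} {y : Y} (h : StableIrredAt f g y) {X' Y' : Scheme.{u}}
    {f' : X' ⟶ Y'} {p : X' ⟶ X} {j : Y' ⟶ Y} (hsq : IsPullback p f' f j) {g' : Y' ⟶ X'}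
    (hgp : g' ≫ p = j ≫ g) {y' : Y'} (hy' : j y' = y) : StableIrredAt f' g' y' := by
  intro X'' Y'' f'' q k hsq' g'' hg'' hgq y'' hy''
  refine h X'' Y'' f'' (q ≫ p) (k ≫ j) (hsq'.paste_horiz hsq) g'' hg'' ?_ y'' ?_
  · rw [← Category.assoc, hgq, Category.assoc, hgp, Category.assoc]
  · rw [Scheme.Hom.comp_apply, hy'', hy']

/-- Descent: if the component upstairs is stably irreducible, so is the one downstairs. -/
theorem StableIrredAt.descend {f : X ⟶ Y} {g : Y ⟶ X} {y : Y} (h : StableIrredAt f g y) {X₀ Y₀ : Scheme.{u}}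
    {f₀ : X₀ ⟶ Y₀} {p : X ⟶ X₀} {π : Y ⟶ Y₀} (hsq : IsPullback p f f₀ π) {g₀ : Y₀ ⟶ X₀}
    (hg : g ≫ f = 𝟙 Y) (hgp : g ≫ p = π ≫ g₀) : StableIrredAt f₀ g₀ (π y) := by
  intro X' Y' f' q j hsq' g' hg' hgq y' hy'
  obtain ⟨ζ, hζ1, hζ2⟩ := exists_of_isPullback (IsPullback.of_hasPullback π j) y y' hy'.symm
  let a := pullback.fst π j
  let b := pullback.snd π j
  let F := pullback.snd f a
  let G : pullback π j ⟶ pullback f a := pullback.lift (a ≫ g) (𝟙 _) (by
    rw [Category.assoc, hg, Category.comp_id, Category.id_comp])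
  have hG : G ≫ F = 𝟙 _ := pullback.lift_snd _ _ _
  have hGp : G ≫ pullback.fst f a = a ≫ g := pullback.lift_fst _ _ _
  have htot : IsPullback (pullback.fst f a ≫ p) F f₀ (a ≫ π) := (IsPullback.of_hasPullback f a).paste_horiz hsq
  let r : pullback f a ⟶ X' := hsq'.lift (pullback.fst f a ≫ p) (F ≫ b) (by
    rw [htot.w, show a ≫ π = b ≫ j from pullback.condition, Category.assoc])
  have hr : IsPullback r F f' b := by
    refine IsPullback.of_right ?_ (hsq'.lift_snd _ _ _) hsq'
    rw [show r ≫ q = pullback.fst f a ≫ p from hsq'.lift_fst _ _ _, ← show a ≫ π = b ≫ j from pullback.condition]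
    exact htot
  have hGr : G ≫ r = b ≫ g' := by
    apply hsq'.hom_ext
    · rw [Category.assoc, hsq'.lift_fst, ← Category.assoc, hGp, Category.assoc, hgp, ← Category.assoc,
        show a ≫ π = b ≫ j from pullback.condition, Category.assoc, Category.assoc, hgq]
    · rw [Category.assoc, hsq'.lift_snd, ← Category.assoc, hG, Category.id_comp, Category.assoc, hg',
        Category.comp_id]
  have hirr := h _ _ F (pullback.fst f a) a (IsPullback.of_hasPullback f a) G hG hGp ζ hζ1
  have e : connectedComponentIn (f' ⁻¹' {y'}) (g' y') = r '' connectedComponentIn (F ⁻¹' {ζ}) (G ζ) := by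
    have hpre := fun c hc => GeomCount24.preimage_connectedComponent_fibre f' g' hg' F r b hr G hG hGr ζ c hc
    rw [show b ζ = y' from hζ2] at hpre
    refine Set.Subset.antisymm (fun c hc => ?_) ?_
    · obtain ⟨v, rfl, hv⟩ := exists_of_isPullback hr c ζ (by
        rw [show f' c = y' from connectedComponentIn_subset (f' ⁻¹' {y'}) _ hc]; exact hζ2.symm)
      exact ⟨v, (hpre v hv).mpr hc, rfl⟩
    · rintro _ ⟨v, hv, rfl⟩
      exact (hpre v (connectedComponentIn_subset (F ⁻¹' {ζ}) _ hv)).mp hv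
  rw [e]
  exact hirr.image _ r.continuous.continuousOn

theorem exists_generisation_mem_component (f : X ⟶ Y) [LocallyOfFiniteType f] (g : Y ⟶ X)
    (hg : g ≫ f = 𝟙 Y) {y : Y} {x : X} (hx : x ∈ connectedComponentIn (f ⁻¹' {y}) (g y))
    (hirr : IsIrreducible (connectedComponentIn (f ⁻¹' {y}) (g y)))
    {y' : Y} (hy' : y' ⤳ y) (hdim : FlatMor.fibreDimAt f (g y) ≤ FlatMor.fibreDimAt f (g y')) :
    ∃ w, w ⤳ x ∧ f w = y' ∧ w ∈ connectedComponentIn (f ⁻¹' {y'}) (g y') := by
  obtain ⟨w, hw, hfw, -, hdw, -⟩ := exists_isFibreMax_specializes f (g y')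
  rw [section_apply f g hg] at hfw
  obtain ⟨z, hwz, hzy, hfz, hle⟩ := exists_fdeg_ge_between f (hw.trans (hy'.map g.continuous))
  rw [section_apply f g hg] at hfz
  obtain ⟨ξ, hξ, hC⟩ := exists_generic_component f hirr
  have hzC := mem_connectedComponentIn_of_specializes f (mem_connectedComponentIn (section_apply f g hg y)) hzy hfz
  rw [hC] at hzC hx
  have hξz : ξ ⤳ z := specializes_iff_mem_closure.mpr hzC.1
  rw [← dim_component_eq_fibreDimAt f g hg hirr, hC, dim_closure_inter_fibre f hξ, hdw, Nat.cast_le] at hdim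
  have e : ξ = z := by
    by_contra hne
    exact absurd (fdeg_lt hξz (hξ.trans hfz.symm) hne) (not_lt.mpr (hdim.trans hle))
  subst e
  exact ⟨w, hwz.trans (specializes_iff_mem_closure.mpr hx.1), hfw,
    mem_connectedComponentIn_of_specializes f (mem_connectedComponentIn (section_apply f g hg y')) hw hfw⟩

theorem isOpenAt_of_fibreDimAt_ge (f : X ⟶ Y) [LocallyOfFinitePresentation f] (g : Y ⟶ X)
    (hg : g ≫ f = 𝟙 Y) {y : Y} {x : X} (hx : x ∈ connectedComponentIn (f ⁻¹' {y}) (g y))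
    (hirr : IsIrreducible (connectedComponentIn (f ⁻¹' {y}) (g y)))
    (hd : ∀ z, z ⤳ y → FlatMor.fibreDimAt f (g y) ≤ FlatMor.fibreDimAt f (g z)) :
    EGA43.IsOpenAt f x := by
  have hxy : f x = y := connectedComponentIn_subset (f ⁻¹' {y}) (g y) hx
  rw [isOpenAt_iff_forall_exists_specializes]
  intro y' hy'
  rw [hxy] at hy'
  obtain ⟨w, hw, hfw, -⟩ := exists_generisation_mem_component f g hg hx hirr hy' (hd y' hy')
  exact ⟨w, hfw, hw⟩

theorem isUnivOpenAt_of_fibreDimAt_ge (f : X ⟶ Y) [LocallyOfFinitePresentation f] (g : Y ⟶ X)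
    (hg : g ≫ f = 𝟙 Y) {y : Y} {x : X} (hx : x ∈ connectedComponentIn (f ⁻¹' {y}) (g y))
    (hirr : StableIrredAt f g y)
    (hd : ∀ z, z ⤳ y → FlatMor.fibreDimAt f (g y) ≤ FlatMor.fibreDimAt f (g z)) :
    EGA43.IsUnivOpenAt f x := by
  intro Y' h x' hx'
  let f' := pullback.snd f h
  let p := pullback.fst f h
  have hsq : IsPullback p f' f h := IsPullback.of_hasPullback f h
  let g' : Y' ⟶ pullback f h := pullback.lift (h ≫ g) (𝟙 _) (by
    rw [Category.assoc, hg, Category.comp_id, Category.id_comp])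
  have hg' : g' ≫ f' = 𝟙 _ := pullback.lift_snd _ _ _
  have hgp : g' ≫ p = h ≫ g := pullback.lift_fst _ _ _
  have hxy : f x = y := connectedComponentIn_subset (f ⁻¹' {y}) (g y) hx
  have hy' : h (f' x') = y := by
    rw [← Scheme.Hom.comp_apply, ← hsq.w, Scheme.Hom.comp_apply, hx', hxy]
  have hgpt : ∀ z, p (g' z) = g (h z) := fun z => by
    rw [← Scheme.Hom.comp_apply, hgp, Scheme.Hom.comp_apply]
  refine isOpenAt_of_fibreDimAt_ge f' g' hg' (y := f' x') ?_
    (hirr _ _ f' p h hsq g' hg' hgp _ hy') (fun z hz => ?_)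
  · rw [GeomCount24.preimage_connectedComponent_fibre f g hg f' p h hsq g' hg' hgp _ _ rfl, hy',
      show p x' = x from hx']
    exact hx
  · rw [FibDim94.fibreDimAt_eq_of_isPullback hsq, FibDim94.fibreDimAt_eq_of_isPullback hsq, hgpt, hgpt, hy']
    refine hd _ ?_
    rw [← hy']; exact hz.map h.continuous

end Groth.Agent.E4O
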