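import Groth.Agent.E4O.OpenDim
import Mathlib.RingTheory.Valuation.ValuationRing

/-!
Residue transcendence degrees over the spectrum of a valuation ring.
-/

universe u

open AlgebraicGeometry CategoryTheory TopologicalSpace Topology

namespace Groth.Agent.E4O

theorem trdeg_under_le_of_valuationRing {A B : Type u} [CommRing A] [CommRing B] [Algebra A B]
    [Algebra.FiniteType A B] (p₀ : Ideal A) [p₀.IsPrime] [ValuationRing (A ⧸ p₀)] (q₀ q : Ideal B)
    [q₀.IsPrime] [q.IsPrime] [q₀.LiesOver p₀] (hle : q₀ ≤ q) :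
    Cardinal.toNat (Algebra.trdeg (A ⧸ q.under A) (B ⧸ q)) ≤
      Cardinal.toNat (Algebra.trdeg (A ⧸ p₀) (B ⧸ q₀)) := by
  let R := A ⧸ p₀
  let S := B ⧸ q₀
  have hfs : FaithfulSMul R S := (faithfulSMul_iff_algebraMap_injective _ _).2
    ((injective_iff_map_eq_zero _).2 fun d hd => by
      obtain ⟨r, rfl⟩ := Ideal.Quotient.mk_surjective d
      exact Ideal.Quotient.eq_zero_iff_mem.2 ((Ideal.LiesOver.over (P := q₀) (p := p₀)).symm.le
        (show algebraMap A B r ∈ q₀ from Ideal.Quotient.eq_zero_iff_mem.1 hd)))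
  have hpu : p₀ ≤ q.under A := by
    rw [Ideal.LiesOver.over (P := q₀) (p := p₀)]
    exact Ideal.comap_mono hle
  let Q := q.map (Ideal.Quotient.mk q₀)
  have hQ : Q.IsPrime :=
    Ideal.map_isPrime_of_surjective Ideal.Quotient.mk_surjective (by rw [Ideal.mk_ker]; exact hle)
  have hu : Q.under R = (q.under A).map (Ideal.Quotient.mk p₀) := by
    refine Ideal.comap_injective_of_surjective (Ideal.Quotient.mk p₀) Ideal.Quotient.mk_surjective ?_
    rw [Ideal.comap_map_of_surjective (Ideal.Quotient.mk p₀) Ideal.Quotient.mk_surjective (q.under A),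
      ← RingHom.ker_eq_comap_bot, Ideal.mk_ker, sup_eq_left.2 hpu]
    conv_rhs => rw [← (show Q.comap (Ideal.Quotient.mk q₀) = q by
      rw [Ideal.comap_map_of_surjective _ Ideal.Quotient.mk_surjective, ← RingHom.ker_eq_comap_bot,
        Ideal.mk_ker]
      exact sup_eq_left.2 hle)]
    rfl
  let eR : (R ⧸ Q.under R) ≃+* A ⧸ q.under A :=
    (Ideal.quotEquivOfEq hu).trans (DoubleQuot.quotQuotEquivQuotOfLE hpu)
  let eS : (S ⧸ Q) ≃+* B ⧸ q := DoubleQuot.quotQuotEquivQuotOfLE hle
  have h2 : Algebra.trdeg (R ⧸ Q.under R) (S ⧸ Q) = Algebra.trdeg (A ⧸ q.under A) (B ⧸ q) := by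
    refine trdeg_eq_of_ringEquiv eR eS ?_
    refine RingHom.ext fun x => ?_
    obtain ⟨x, rfl⟩ := Ideal.Quotient.mk_surjective x
    obtain ⟨x, rfl⟩ := Ideal.Quotient.mk_surjective x
    rfl
  rw [← h2]
  exact Cardinal.toNat_le_toNat (trdeg_quotient_le_of_valuationRing (Q.under R) Q)
    (trdeg_quotient_lt_aleph0 A B p₀ q₀)

/-- Over a valuation ring, residue transcendence degrees can only decrease under specialization to
the closed fibre. -/
theorem fdeg_le_of_specializes_of_valuationRing {A : Type u} [CommRing A] [IsDomain A]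
    [ValuationRing A] {X : Scheme.{u}} (f : X ⟶ Spec (CommRingCat.of A)) [LocallyOfFiniteType f]
    {ξ z : X} (h : ξ ⤳ z) (hz : f z = IsLocalRing.closedPoint A) : fdeg f z ≤ fdeg f ξ := by
  obtain ⟨C, ⟨q, rfl⟩, -⟩ := exists_chart f z
  obtain ⟨q₀, rfl⟩ := h.mem_open C.isOpenEmbedding_pt.isOpen_range ⟨q, rfl⟩
  have hsurj : Set.range C.j = Set.univ := by
    refine Set.eq_univ_of_forall fun p => ?_
    have hmem : IsLocalRing.closedPoint A ∈ Set.range C.j := ⟨_, ((C.apply q).symm.trans hz)⟩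
    exact (IsLocalRing.specializes_closedPoint p).mem_open C.j.isOpenEmbedding.isOpen_range hmem
  have : IsIso C.j := isIso_of_isOpenImmersion_of_opensRange_eq_top _
    (TopologicalSpace.Opens.ext hsurj)
  let φ : CommRingCat.of A ≅ CommRingCat.of C.A :=
    (Scheme.ΓSpecIso _).symm ≪≫ Scheme.Γ.mapIso (asIso C.j).op ≪≫ Scheme.ΓSpecIso _
  let e : A ≃+* C.A := φ.commRingCatIsoToRingEquiv
  let π : A →+* C.A ⧸ q₀.asIdeal.under C.A :=
    (Ideal.Quotient.mk (q₀.asIdeal.under C.A)).comp e.toRingHom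
  have hπ : Function.Surjective π := Ideal.Quotient.mk_surjective.comp e.surjective
  have : ValuationRing (C.A ⧸ q₀.asIdeal.under C.A) := Function.Surjective.valuationRing π hπ
  have hle := (C.specializes_iff _ _).1 h
  show fdeg f (C.pt q) ≤ fdeg f (C.pt q₀)
  rw [← C.deg_eq_fdeg, ← C.deg_eq_fdeg]
  exact trdeg_under_le_of_valuationRing (q₀.asIdeal.under C.A) q₀.asIdeal q.asIdeal hle

end Groth.Agent.E4O
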