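import Groth.Agent.E4O.SectionCompRed

/-!
EGA IV 15.6.5, 15.6.7: the finitely presented and the locally Noetherian cases.
-/

set_option autoImplicit false
set_option linter.style.haveILetI false
universe u

open CategoryTheory CategoryTheory.Limits AlgebraicGeometry TopologicalSpace Topology

namespace Groth.Agent.E4O

variable {X Y : Scheme.{u}}

theorem exists_reductionBase (Y : Scheme.{u}) :
    ∃ (Y₀ : Scheme.{u}) (i : Y₀ ⟶ Y), IsReduced Y₀ ∧ IsClosedImmersion i ∧ Function.Surjective i :=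
  ⟨_, (Scheme.IdealSheafData.vanishingIdeal (⊤ : Closeds Y)).subschemeι,
    SchBasics.isReduced_vanishingIdeal_subscheme _, inferInstance,
    Set.range_eq_univ.mp (SchBasics.range_vanishingIdeal_subschemeι _)⟩

theorem mem_of_fibreDimAt_bound {f : X ⟶ Y} [LocallyOfFiniteType f] {g : Y ⟶ X} {y : Y} {V : Set Y}
    (hV : IsOpen V) (hy : y ∈ V) (hd : ∀ z ∈ V, FlatMor.fibreDimAt f (g y) ≤ FlatMor.fibreDimAt f (g z)) :
    ∀ z, z ⤳ y → FlatMor.fibreDimAt f (g y) ≤ FlatMor.fibreDimAt f (g z) :=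
  fun z hz => hd z (hz.mem_open hV hy)

/-- Restriction to an affine open and a reduced Noetherian model, at a point of a section component. -/
theorem exists_reduced_model_at [IsReduced Y] (f : X ⟶ Y) [LocallyOfFinitePresentation f] [QuasiCompact f]
    [QuasiSeparated f] (g : Y ⟶ X) (hg : g ≫ f = 𝟙 Y) {y : Y} {x : X}
    (hx : x ∈ connectedComponentIn (f ⁻¹' {y}) (g y)) (hirr : StableIrredAt f g y) {V : Set Y} (hV : IsOpen V)
    (hy : y ∈ V) (hd : ∀ z ∈ V, FlatMor.fibreDimAt f (g y) ≤ FlatMor.fibreDimAt f (g z))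
    (hred : FBase.IsGeomReducedAt (f.fiberToSpecResidueField (f x)) (f.asFiber x)) :
    ∃ (U : Scheme.{u}) (ι : U ⟶ X) (u : U) (W : Scheme.{u}) (j : W ⟶ Y) (fW : U ⟶ W) (gW : W ⟶ U),
      IsOpenImmersion ι ∧ IsOpenImmersion j ∧ ι u = x ∧ IsPullback ι fW f j ∧ gW ≫ fW = 𝟙 W ∧
      gW ≫ ι = j ≫ g ∧
      ∃ (Y' : Scheme.{u}) (π : W ⟶ Y') (X' : Scheme.{u}) (f' : X' ⟶ Y') (_ : IsLocallyNoetherian Y')
        (_ : IsReduced Y') (_ : LocallyOfFiniteType f') (_ : QuasiCompact f') (_ : QuasiSeparated f')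
        (g' : Y' ⟶ X') (_ : g' ≫ f' = 𝟙 Y') (eX : U ⟶ X'),
        IsPullback eX fW f' π ∧ gW ≫ eX = π ≫ g' ∧
        eX u ∈ connectedComponentIn (f' ⁻¹' {π (fW u)}) (g' (π (fW u))) ∧
        StableIrredAt f' g' (π (fW u)) ∧
        (∀ z, z ⤳ π (fW u) → FlatMor.fibreDimAt f' (g' (π (fW u))) ≤ FlatMor.fibreDimAt f' (g' z)) ∧
        FBase.IsGeomReducedAt (f'.fiberToSpecResidueField (f' (eX u))) (f'.asFiber (eX u)) := by
  obtain ⟨W, hW, hyW, hWV⟩ : ∃ W : Y.Opens, IsAffineOpen W ∧ y ∈ W ∧ (W : Set Y) ⊆ V := by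
    obtain ⟨_, ⟨W, hW, rfl⟩, hyW, hWV⟩ := Y.isBasis_affineOpens.exists_subset_of_mem_open hy hV
    exact ⟨W, hW, hyW, hWV⟩
  have : IsAffine W := hW
  have hp := (isPullback_morphismRestrict f W).flip
  let gW : W.toScheme ⟶ (f ⁻¹ᵁ W).toScheme :=
    hp.lift (W.ι ≫ g) (𝟙 _) (by rw [Category.assoc, hg, Category.comp_id, Category.id_comp])
  have hgW : gW ≫ f ∣_ W = 𝟙 _ := hp.lift_snd _ _ _
  have hgWι : gW ≫ (f ⁻¹ᵁ W).ι = W.ι ≫ g := hp.lift_fst _ _ _
  obtain ⟨v, hv⟩ : ∃ v, W.ι v = y := ⟨⟨y, hyW⟩, rfl⟩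
  obtain ⟨u, hu, huv⟩ := exists_of_isPullback hp x v (by
    rw [hv]; exact connectedComponentIn_subset (f ⁻¹' {y}) (g y) hx)
  subst hu huv
  obtain ⟨z₀, -, -, hd₀, -⟩ := exists_fibreDimAt_eq f (g y)
  have hdim : ∀ w, FlatMor.fibreDimAt (f ∣_ W) (gW w) = FlatMor.fibreDimAt f (g (W.ι w)) := fun w => by
    rw [FibDim94.fibreDimAt_eq_of_isPullback hp, ← Scheme.Hom.comp_apply, hgWι, Scheme.Hom.comp_apply]
  obtain ⟨Y', _, _, π, X', f', _, _, _, g', hg', eX, hX, hgX, hd'⟩ :=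
    exists_reduced_model (f ∣_ W) gW hgW (fdeg f z₀) (fun w => by
      rw [hdim, ← hd₀]; exact hd _ (hWV (W.range_ι.le ⟨w, rfl⟩)))
  refine ⟨_, (f ⁻¹ᵁ W).ι, u, _, W.ι, f ∣_ W, gW, inferInstance, inferInstance, rfl, hp, hgW, hgWι,
    Y', π, X', f', inferInstance, inferInstance, inferInstance, inferInstance, inferInstance, g', hg', eX,
    hX, hgX, ?_, ?_, ?_, ?_⟩
  · rw [← GeomCount24.preimage_connectedComponent_fibre f' g' hg' _ _ _ hX gW hgW hgX _ u rfl,
      GeomCount24.preimage_connectedComponent_fibre f g hg _ _ _ hp gW hgW hgWι _ u rfl, hv]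
    exact hx
  · exact (hirr.baseChange hp hgWι hv).descend hX hgW hgX
  · intro z _
    refine le_trans (le_of_eq ?_) (hd' z)
    rw [← Scheme.Hom.comp_apply, ← hgX, Scheme.Hom.comp_apply, ← FibDim94.fibreDimAt_eq_of_isPullback hX, hdim,
      hv, hd₀]
  · rw [← isGeomReducedAt_fibre_iff_of_isPullback hX, isGeomReducedAt_fibre_iff_of_isPullback hp]
    exact hred

/-- 15.6.5 over an arbitrary reduced base. -/
theorem flat_stalkMap_of_dim_const_fp [IsReduced Y] (f : X ⟶ Y) [LocallyOfFinitePresentation f] [QuasiCompact f]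
    [QuasiSeparated f] (g : Y ⟶ X) (hg : g ≫ f = 𝟙 Y) {y : Y} {x : X}
    (hx : x ∈ connectedComponentIn (f ⁻¹' {y}) (g y)) (hirr : StableIrredAt f g y) {V : Set Y} (hV : IsOpen V)
    (hy : y ∈ V) (hd : ∀ z ∈ V, FlatMor.fibreDimAt f (g y) ≤ FlatMor.fibreDimAt f (g z))
    (hred : FBase.IsGeomReducedAt (f.fiberToSpecResidueField (f x)) (f.asFiber x)) :
    (f.stalkMap x).hom.Flat := by
  obtain ⟨U, ι, u, W, j, fW, gW, _, _, rfl, hp, hgW, hgWι, Y', π, X', f', _, _, _, _, _, g', hg', eX, hX, hgX,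
    hm, hs, hd', hr⟩ := exists_reduced_model_at f g hg hx hirr hV hy hd hred
  have hflat := flat_stalkMap_of_dim_const f' g' hg' hm hs hd' hr
  have h1 : (fW.stalkMap u).hom.Flat := FlatMor66.flat_stalkMap_fst hX.flip u hflat
  refine flat_of_flat_comp_openImmersion ι f u ?_
  have h2 := RingHom.Flat.comp (RingHom.Flat.of_bijective (ConcreteCategory.bijective_of_isIso (j.stalkMap (fW u)))) h1
  rw [hp.w, Scheme.Hom.stalkMap_comp]
  exact h2

/-- 15.6.7: the section components form a neighbourhood, finitely presented case over a reduced base. -/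
theorem mem_interior_of_dim_const_fp [IsReduced Y] (f : X ⟶ Y) [LocallyOfFinitePresentation f] [QuasiCompact f]
    [QuasiSeparated f] (g : Y ⟶ X) (hg : g ≫ f = 𝟙 Y) {y : Y} {x : X}
    (hx : x ∈ connectedComponentIn (f ⁻¹' {y}) (g y)) (hirr : StableIrredAt f g y) {V : Set Y} (hV : IsOpen V)
    (hy : y ∈ V) (hd : ∀ z ∈ V, FlatMor.fibreDimAt f (g y) ≤ FlatMor.fibreDimAt f (g z))
    (hred : FBase.IsGeomReducedAt (f.fiberToSpecResidueField (f x)) (f.asFiber x)) :
    x ∈ interior (MoreMor.sectionComponents f g) := by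
  obtain ⟨U, ι, u, W, j, fW, gW, _, _, rfl, hp, hgW, hgWι, Y', π, X', f', _, _, _, _, _, g', hg', eX, hX, hgX,
    hm, hs, hd', hr⟩ := exists_reduced_model_at f g hg hx hirr hV hy hd hred
  have := locallyOfFinitePresentation_of_isLocallyNoetherian f'
  have hmem : MoreMor.sectionComponents f' g' ∈ nhds (eX u) :=
    mem_nhds_of_forall_generization (isLocallyConstructible_sectionComponents f' g' hg') fun w hw =>
      mem_sectionComponents_of_dim_const f' g' hg' hm hs hd' hr hw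
  have h1 := GeomCount24.sectionComponents_baseChange f g hg _ _ _ hp gW hgW hgWι
  have h2 := GeomCount24.sectionComponents_baseChange f' g' hg' _ _ _ hX gW hgW hgX
  refine interior_maximal (?_ : ι '' (eX ⁻¹' interior (MoreMor.sectionComponents f' g')) ⊆ _)
    (ι.isOpenEmbedding.isOpenMap _ (isOpen_interior.preimage eX.continuous))
    ⟨u, mem_interior_iff_mem_nhds.mpr hmem, rfl⟩
  rintro _ ⟨z, hz, rfl⟩
  have : z ∈ eX ⁻¹' MoreMor.sectionComponents f' g' := interior_subset (s := MoreMor.sectionComponents f' g') hz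
  rw [← h2, h1] at this
  exact this

end Groth.Agent.E4O
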