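import Groth.Agent.E4O.QuasiSection
import Groth.Agent.E4O.ChevalleyOpen
import Groth.Agent.E4O.FibreSets
import Mathlib.AlgebraicGeometry.Morphisms.QuasiFinite
import Mathlib.AlgebraicGeometry.Morphisms.Immersion

/-!
Quasi-sections through a closed point of a fibre (EGA IV 14.5.3).
-/

universe u

open CategoryTheory AlgebraicGeometry MvPolynomial

namespace Groth.Agent.E4O

/-- Geometric unibranchness of `A_p` passes to `(A/p₀)_p` when `p₀` lies below all generizations. -/
theorem isGeomUnibranch_quotient {A : Type u} [CommRing A] (p₀ p : Ideal A) [p₀.IsPrime] [p.IsPrime]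
    (Ap : Type u) [CommRing Ap] [IsLocalRing Ap] [Algebra A Ap] [IsLocalization.AtPrime Ap p]
    (hAp : CAlg2.IsGeomUnibranch Ap) (hmin : ∀ p' : Ideal A, p'.IsPrime → p' ≤ p → p₀ ≤ p')
    (P : Ideal (A ⧸ p₀)) [P.IsPrime] (hP : P.comap (Ideal.Quotient.mk p₀) = p) :
    CAlg2.IsGeomUnibranch (Localization.AtPrime P) := by
  let mA : A →+* A ⧸ p₀ := Ideal.Quotient.mk p₀
  let π : Ap →+* Localization.AtPrime P := IsLocalization.map (M := p.primeCompl)
    (T := P.primeCompl) (Localization.AtPrime P) mA fun a ha h => ha (hP.le h)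
  refine isGeomUnibranch_of_surjective π (fun x => ?_) (fun x hx => ?_) hAp
  · obtain ⟨a, ⟨s, hs⟩, rfl⟩ := IsLocalization.exists_mk'_eq P.primeCompl x
    obtain ⟨a, rfl⟩ := Ideal.Quotient.mk_surjective a
    obtain ⟨s, rfl⟩ := Ideal.Quotient.mk_surjective s
    refine ⟨IsLocalization.mk' Ap a (⟨s, fun h => hs (hP.ge h)⟩ : p.primeCompl), ?_⟩
    exact IsLocalization.map_mk' _ _ _
  · obtain ⟨a, s, rfl⟩ := IsLocalization.exists_mk'_eq p.primeCompl x
    rw [RingHom.mem_ker, IsLocalization.map_mk', IsLocalization.mk'_eq_zero_iff] at hx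
    obtain ⟨⟨t, ht⟩, hta⟩ := hx
    have ha : a ∈ p₀ := by
      rcases mul_eq_zero.1 hta with h | h
      · exact absurd (by rw [show t = 0 from h]; exact Ideal.zero_mem _) ht
      · exact Ideal.Quotient.eq_zero_iff_mem.1 h
    rw [IsLocalization.mk'_eq_mul_mk'_one]
    refine Ideal.mul_mem_right _ _ ?_
    rw [nilradical_eq_sInf, Ideal.mem_sInf]
    intro P' hP'
    have hdisj : Disjoint (p.primeCompl : Set A) (P'.comap (algebraMap A Ap)) :=
      ((IsLocalization.isPrime_iff_isPrime_disjoint p.primeCompl Ap P').1 hP').2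
    exact hmin (P'.comap (algebraMap A Ap)) (hP'.comap _)
      (fun y hy => by_contra fun hy' => Set.disjoint_left.1 hdisj hy' hy) ha

theorem length_add_le_of_lt {α : Type*} [Preorder α] (φ : α → ℕ)
    (hφ : ∀ a b, a < b → φ b < φ a) (l : LTSeries α) : l.length + φ l.last ≤ φ l.head := by
  have h : ∀ k (hk : k < l.length + 1), k + φ (l ⟨k, hk⟩) ≤ φ l.head := by
    intro k
    induction k with
    | zero => intro hk; simp [RelSeries.head]
    | succ k ih =>
      intro hk
      have h1 := ih (by omega)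
      have h2 := hφ _ _ (l.strictMono (show (⟨k, by omega⟩ : Fin (l.length + 1)) < ⟨k + 1, hk⟩ from
        Nat.lt_succ_self k))
      omega
  exact h l.length (Nat.lt_succ_self _)

variable {X Y : Scheme.{u}}

/-- EGA IV 14.5.3: a quasi-section through a closed point of a fibre. -/
theorem exists_quasiSection [IsLocallyNoetherian Y] (f : X ⟶ Y) [LocallyOfFiniteType f] {x ξ : X}
    (hclosed : ∀ x' : X, f x' = f x → x ⤳ x' → x' = x) (hξ : ξ ⤳ x)
    (hcomp : ∀ y' : Y, y' ⤳ f x → f ξ ⤳ y') (hdense : closure ({f ξ} : Set Y) = Set.univ)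
    (hdeg : FlatMor.fibreDimAt f x ≤ (fdeg f ξ : ℕ))
    (hy : CAlg2.IsGeomUnibranch (Y.presheaf.stalk (f x))) :
    ∃ (T : Scheme.{u}) (i : T ⟶ X), IsImmersion i ∧ IrreducibleSpace ↥T ∧ IsReduced T ∧
      x ∈ Set.range i ∧ LocallyOfFiniteType (i ≫ f) ∧ LocallyQuasiFinite (i ≫ f) ∧
      QuasiCompact (i ≫ f) ∧ IsDominant (i ≫ f) := by
  obtain ⟨C, ⟨q, rfl⟩, hC⟩ := exists_chart f x
  have := hC ‹_›
  obtain ⟨q₀, rfl⟩ := hξ.mem_open C.isOpenEmbedding_pt.isOpen_range ⟨q, rfl⟩
  let p : Ideal C.A := q.asIdeal.under C.A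
  let p₀ : Ideal C.A := q₀.asIdeal.under C.A
  have hle : q₀.asIdeal ≤ q.asIdeal := (C.specializes_iff _ _).1 hξ
  have hfx : f (C.pt q) = C.ptY (PrimeSpectrum.comap (algebraMap C.A C.B) q) := C.apply q
  have hmin : ∀ p' : Ideal C.A, p'.IsPrime → p' ≤ p → p₀ ≤ p' := fun p' hp' h => by
    have := hcomp (C.ptY ⟨p', hp'⟩) (by rw [hfx]; exact (C.specializesY_iff _ _).2 h)
    rw [C.apply] at this
    exact (C.specializesY_iff _ _).1 this
  -- equations of the point in its fibre
  obtain ⟨ι, _, t, hcard, htq, huniq⟩ := exists_cut_fibre p q.asIdeal (fun r hr hrp hqr => by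
      have := hclosed (C.pt ⟨r, hr⟩)
        (by rw [C.apply, hfx]; exact congrArg C.ptY (PrimeSpectrum.ext hrp))
        ((C.specializes_iff _ _).2 hqr)
      exact congrArg PrimeSpectrum.asIdeal (C.isOpenEmbedding_pt.injective this))
    (fdeg f (C.pt q₀)) fun l hl => by
      have hfib : ∀ w : {w : PrimeSpectrum C.B //
          PrimeSpectrum.comap (algebraMap C.A C.B) w = ⟨p, inferInstance⟩},
          f (C.pt w.1) = f (C.pt q) := fun w => by
        rw [C.apply, hfx, w.2]; rfl
      have h1 := length_add_le_of_lt (fun w : {w : PrimeSpectrum C.B //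
          PrimeSpectrum.comap (algebraMap C.A C.B) w = ⟨p, inferInstance⟩} => fdeg f (C.pt w.1))
        (fun a b h => fdeg_lt ((C.specializes_iff _ _).2 h.le) ((hfib a).trans (hfib b).symm)
          fun h' => h.ne (Subtype.ext (C.isOpenEmbedding_pt.injective h'))) l
      have hhead : C.pt l.head.1 ⤳ C.pt q :=
        (C.specializes_iff _ _).2 ((show l.head.1.asIdeal ≤ l.last.1.asIdeal from l.head_le_last).trans hl.le)
      have h2 := (fdeg_le_fibreDimAt hhead (hfib _)).trans hdeg
      have h3 : fdeg f (C.pt l.head.1) ≤ fdeg f (C.pt q₀) := by exact_mod_cast h2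
      exact le_trans (le_trans (Nat.le_add_right _ _) h1) h3
  -- the generization over the generic point
  let B₀ := C.B ⧸ q₀.asIdeal
  let mB : C.B →+* B₀ := Ideal.Quotient.mk q₀.asIdeal
  have hqb : (q.asIdeal.map mB).IsPrime :=
    Ideal.map_isPrime_of_surjective Ideal.Quotient.mk_surjective (Ideal.mk_ker.le.trans hle)
  have hqbc : (q.asIdeal.map mB).comap mB = q.asIdeal := by
    rw [Ideal.comap_map_of_surjective mB Ideal.Quotient.mk_surjective, ← RingHom.ker_eq_comap_bot,
      Ideal.mk_ker]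
    exact sup_eq_left.2 hle
  have hsq : mB.comp (algebraMap C.A C.B) =
      (algebraMap (C.A ⧸ p₀) B₀).comp (Ideal.Quotient.mk p₀) := rfl
  have hpb : ((q.asIdeal.map mB).under (C.A ⧸ p₀)).comap (Ideal.Quotient.mk p₀) = p := by
    rw [Ideal.under_def, Ideal.comap_comap, ← hsq, ← Ideal.comap_comap, hqbc]
  obtain ⟨a, ha⟩ : ∃ _ : Algebra C.A (Y.presheaf.stalk (f (C.pt q))),
      IsLocalization.AtPrime (Y.presheaf.stalk (f (C.pt q))) p := by
    rw [hfx]
    exact exists_isLocalization_stalk C.j (PrimeSpectrum.comap (algebraMap C.A C.B) q)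
  have hGU := isGeomUnibranch_quotient p₀ p (Y.presheaf.stalk (f (C.pt q))) hy hmin
    ((q.asIdeal.map mB).under (C.A ⧸ p₀)) hpb
  have : Algebra.FiniteType C.A B₀ :=
    Algebra.FiniteType.of_surjective (Ideal.Quotient.mkₐ C.A q₀.asIdeal) Ideal.Quotient.mk_surjective
  have : Algebra.FiniteType (C.A ⧸ p₀) B₀ := .of_restrictScalars_finiteType C.A _ _
  obtain ⟨qb₁, hqb₁, hqb₁le, hqb₁A, hqb₁t⟩ := exists_le_forall_mem_of_domain (A := C.A ⧸ p₀)
    (B := B₀) Ideal.algebraMap_quotient_injective (q.asIdeal.map mB) _ hGU (mB ∘ t)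
    (fun i => Ideal.mem_map_of_mem mB (htq i))
    (fun r hr hrp hrt h => by
      have h1 : r.comap mB = q.asIdeal := by
        refine huniq _ (hr.comap _) ?_ (fun i => hrt i) ?_
        · rw [Ideal.under_def, Ideal.comap_comap, hsq, ← Ideal.comap_comap]
          exact (congrArg (Ideal.comap _) hrp).trans hpb
        · rcases h with h | h
          · exact Or.inl (hqbc.ge.trans (Ideal.comap_mono h))
          · exact Or.inr ((Ideal.comap_mono h).trans hqbc.le)
      rw [← h1, Ideal.map_comap_of_surjective mB Ideal.Quotient.mk_surjective])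
    (by rw [C.trdeg_eq_fdeg]; exact hcard)
  let q₁ : Ideal C.B := qb₁.comap mB
  have hq₁q : q₁ ≤ q.asIdeal := (Ideal.comap_mono hqb₁le).trans hqbc.le
  have hq₁A : q₁.under C.A = p₀ := by
    rw [Ideal.under_def, Ideal.comap_comap, hsq, ← Ideal.comap_comap]
    refine (congrArg (Ideal.comap _) hqb₁A).trans ?_
    rw [← RingHom.ker_eq_comap_bot, Ideal.mk_ker]
  -- a quasi-finite neighbourhood
  let T : MvPolynomial ι C.A →ₐ[C.A] C.B := MvPolynomial.aeval t
  algebraize [T.toRingHom]
  have : IsScalarTower C.A (MvPolynomial ι C.A) C.B :=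
    IsScalarTower.of_algebraMap_eq fun a => (T.commutes a).symm
  have : Algebra.FiniteType (MvPolynomial ι C.A) C.B := .of_restrictScalars_finiteType C.A _ _
  have hqf : Algebra.QuasiFiniteAt (MvPolynomial ι C.A) q.asIdeal := by
    refine quasiFiniteAt_of_forall_comparable q.asIdeal fun r hr hrP h => huniq r hr ?_ (fun i => ?_) h
    · rw [Ideal.under_def, ← T.comp_algebraMap, ← Ideal.comap_comap]
      refine (congrArg (Ideal.comap (algebraMap C.A (MvPolynomial ι C.A))) hrP).trans ?_
      rw [Ideal.under_def, Ideal.comap_comap]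
      exact congrArg (fun k => Ideal.comap k q.asIdeal) T.comp_algebraMap
    · have : MvPolynomial.X i ∈ r.under (MvPolynomial ι C.A) := by
        rw [hrP]
        show T (MvPolynomial.X i) ∈ q.asIdeal
        rw [MvPolynomial.aeval_X]
        exact htq i
      have h' : T (MvPolynomial.X i) ∈ r := this
      rwa [MvPolynomial.aeval_X] at h'
  obtain ⟨S', hS', r, hrq, hbij⟩ :=
    Algebra.QuasiFiniteAt.exists_fg_and_exists_notMem_and_awayMap_bijective
      (R := MvPolynomial ι C.A) q.asIdeal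
  have : Module.Finite (MvPolynomial ι C.A) S' := ⟨(Submodule.fg_top _).mpr hS'⟩
  have : Algebra.QuasiFinite (MvPolynomial ι C.A) (Localization.Away r) := .trans _ S' _
  have : Algebra.QuasiFinite (MvPolynomial ι C.A) (Localization.Away r.1) := by
    let aw : Localization.Away r →ₐ[MvPolynomial ι C.A] Localization.Away r.1 :=
      Localization.awayMapₐ S'.val r
    have haw : Function.Surjective aw := hbij.2
    exact Algebra.QuasiFinite.of_surjective_algHom aw haw
  let Br := Localization.Away r.1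
  let J : Ideal Br := q₁.map (algebraMap C.B Br)
  have hdisj : ∀ {I : Ideal C.B}, I.IsPrime → I ≤ q.asIdeal →
      Disjoint (Submonoid.powers r.1 : Set C.B) I := fun hI hIq =>
    Set.disjoint_left.2 fun b hb hb' => by
      obtain ⟨k, rfl⟩ := hb
      exact hrq (hIq (hI.mem_of_pow_mem k hb'))
  have hJ : J.IsPrime :=
    IsLocalization.isPrime_of_isPrime_disjoint (Submonoid.powers r.1) Br q₁ inferInstance
      (hdisj inferInstance hq₁q)
  have hJc : J.comap (algebraMap C.B Br) = q₁ :=
    IsLocalization.under_map_of_isPrime_disjoint (Submonoid.powers r.1) Br inferInstance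
      (hdisj inferInstance hq₁q)
  let D := Br ⧸ J
  have hX : ∀ i, Ideal.Quotient.mk J (algebraMap C.B Br (t i)) = 0 := fun i =>
    Ideal.Quotient.eq_zero_iff_mem.2 (Ideal.mem_map_of_mem _ (hqb₁t i))
  have hqfD : Algebra.QuasiFinite C.A D := by
    let _ : Algebra (MvPolynomial ι C.A) C.A := MvPolynomial.constantCoeff.toAlgebra
    have htow : IsScalarTower (MvPolynomial ι C.A) C.A D := IsScalarTower.of_algebraMap_eq'
      (R := MvPolynomial ι C.A) (S := C.A) (A := D) <| by
      refine MvPolynomial.ringHom_ext (fun a => ?_) fun i => ?_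
      · rw [RingHom.comp_apply, RingHom.algebraMap_toAlgebra, MvPolynomial.constantCoeff_C]
        exact congrArg (fun z => Ideal.Quotient.mk J (algebraMap C.B Br z)) (T.commutes a)
      · rw [RingHom.comp_apply, RingHom.algebraMap_toAlgebra, MvPolynomial.constantCoeff_X, map_zero]
        refine Eq.trans ?_ (hX i)
        exact congrArg (fun z => Ideal.Quotient.mk J (algebraMap C.B Br z)) (MvPolynomial.aeval_X t i)
    exact .of_restrictScalars (MvPolynomial ι C.A) C.A D
  let m₁ : CommRingCat.of C.B ⟶ CommRingCat.of Br := CommRingCat.ofHom (algebraMap C.B Br)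
  let m₂ : CommRingCat.of Br ⟶ CommRingCat.of D := CommRingCat.ofHom (Ideal.Quotient.mk J)
  have : IsOpenImmersion (Spec.map m₁) := IsOpenImmersion.of_isLocalization r.1
  have : IsClosedImmersion (Spec.map m₂) :=
    IsClosedImmersion.spec_of_surjective _ Ideal.Quotient.mk_surjective
  let i : Spec (CommRingCat.of D) ⟶ X := Spec.map m₂ ≫ Spec.map m₁ ≫ C.e
  have hif : i ≫ f = Spec.map (CommRingCat.ofHom (algebraMap C.A D)) ≫ C.j := by
    simp only [i, Category.assoc, C.comm, ← Spec.map_comp_assoc]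
    rfl
  have : LocallyQuasiFinite (Spec.map (CommRingCat.ofHom (algebraMap C.A D))) := by
    rw [HasRingHomProperty.Spec_iff (P := @LocallyQuasiFinite)]
    exact RingHom.quasiFinite_algebraMap.2 hqfD
  refine ⟨_, i, inferInstance, inferInstance, inferInstance, ?_, inferInstance, ?_, ?_, ?_⟩
  · have hq1 : Disjoint (Submonoid.powers r.1 : Set C.B) q.asIdeal := hdisj inferInstance le_rfl
    let qB : PrimeSpectrum Br := ⟨q.asIdeal.map (algebraMap C.B Br),
      IsLocalization.isPrime_of_isPrime_disjoint (Submonoid.powers r.1) Br q.asIdeal inferInstance hq1⟩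
    have hJq : RingHom.ker (Ideal.Quotient.mk J) ≤ qB.asIdeal :=
      Ideal.mk_ker.le.trans (Ideal.map_mono hq₁q)
    have : qB.asIdeal.IsPrime := qB.2
    let qD : PrimeSpectrum D := ⟨qB.asIdeal.map (Ideal.Quotient.mk J),
      Ideal.map_isPrime_of_surjective Ideal.Quotient.mk_surjective hJq⟩
    refine ⟨qD, ?_⟩
    show C.pt (PrimeSpectrum.comap (algebraMap C.B Br)
      (PrimeSpectrum.comap (Ideal.Quotient.mk J) qD)) = C.pt q
    have h1 : PrimeSpectrum.comap (Ideal.Quotient.mk J) qD = qB := PrimeSpectrum.ext (by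
      show (qB.asIdeal.map (Ideal.Quotient.mk J)).comap (Ideal.Quotient.mk J) = qB.asIdeal
      rw [Ideal.comap_map_of_surjective _ Ideal.Quotient.mk_surjective, ← RingHom.ker_eq_comap_bot]
      exact sup_eq_left.2 hJq)
    rw [h1]
    exact congrArg C.pt (PrimeSpectrum.ext
      (IsLocalization.under_map_of_isPrime_disjoint (Submonoid.powers r.1) Br inferInstance hq1))
  · rw [hif]; infer_instance
  · rw [hif]
    have : TopologicalSpace.NoetherianSpace ↥(Spec (CommRingCat.of C.A)) :=
      (inferInstance : TopologicalSpace.NoetherianSpace (PrimeSpectrum C.A))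
    infer_instance
  · refine ⟨dense_iff_closure_eq.2 (Set.eq_univ_of_univ_subset (hdense.ge.trans
      (closure_mono (Set.singleton_subset_iff.2 ⟨(⟨⊥, Ideal.isPrime_bot⟩ : PrimeSpectrum D), ?_⟩))))⟩
    show f (C.pt (PrimeSpectrum.comap (algebraMap C.B Br)
      (PrimeSpectrum.comap (Ideal.Quotient.mk J) ⟨⊥, Ideal.isPrime_bot⟩))) = f (C.pt q₀)
    rw [C.apply, C.apply]
    refine congrArg C.ptY (PrimeSpectrum.ext ?_)
    show ((((⊥ : Ideal D).comap (Ideal.Quotient.mk J))).comap (algebraMap C.B Br)).comap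
      (algebraMap C.A C.B) = p₀
    rw [← RingHom.ker_eq_comap_bot, Ideal.mk_ker, hJc]
    exact hq₁A

end Groth.Agent.E4O
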