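import Groth.Agent.Stein58.FinitePoints
import Mathlib.FieldTheory.IsAlgClosed.AlgebraicClosure

/-!
Numbers of points of quasi-finite fibres after field extensions.
-/

set_option autoImplicit false
universe u
open CategoryTheory CategoryTheory.Limits AlgebraicGeometry
attribute [local instance] Curv2.resAlgebra

noncomputable section

namespace Groth.Agent.E4O

open Groth.Agent.Stein58

variable (κ : Type u) [Field κ] (S : Scheme.{u}) [S.Over (Spec (CommRingCat.of κ))]
  [IsFinite (S ↘ Spec (CommRingCat.of κ))]

/-- The degree count of a finite scheme over a field. -/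
def sepCount : ℕ := ∑ᶠ s : S, Field.finSepDegree κ (S.residueField s)

theorem finiteDimensional_residueField (x : S) : FiniteDimensional κ (S.residueField x) := by
  let f := S ↘ Spec (CommRingCat.of κ)
  have : DiscreteTopology S := discreteTopology_of_isFinite f
  have : IsClosedImmersion (S.fromSpecResidueField x) :=
    (isClosed_singleton_iff_isClosedImmersion (x := x)).1 (isClosed_discrete _)
  have h2 : IsFinite (Spec.map (CommRingCat.ofHom (Curv2.resMap κ S x))) := by
    rw [SpecMap_resMap]; exact MorphismProperty.comp_mem _ _ _ inferInstance ‹IsFinite f›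
  exact (IsFinite.SpecMap_iff _).1 h2

include κ in
theorem finite_points : Finite S := by
  let f := S ↘ Spec (CommRingCat.of κ)
  have : DiscreteTopology S := discreteTopology_of_isFinite f
  have : CompactSpace S := QuasiCompact.compactSpace_of_compactSpace f
  exact finite_of_compact_of_discrete

/-- Embeddings into an algebraically closed field. -/
theorem card_sigma_algHom (E : Type u) [Field E] [IsAlgClosed E] [Algebra κ E] :
    ENat.card (Σ x : S, (S.residueField x →ₐ[κ] E)) = sepCount κ S := by
  have := finiteDimensional_residueField κ S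
  have := finite_points κ S
  have : ∀ x : S, Finite (S.residueField x →ₐ[κ] E) := fun x => inferInstance
  cases nonempty_fintype S
  rw [ENat.card_eq_coe_natCard, Nat.card_sigma, sepCount, finsum_eq_sum_of_fintype]
  exact congrArg Nat.cast (Finset.sum_congr rfl fun x _ =>
    (Field.finSepDegree_eq_of_isAlgClosed κ (S.residueField x) E).symm)

/-- Points over an algebraically closed field. -/
def pointsOverEquiv {E : Type u} [Field E] [Algebra κ E] [IsAlgClosed E] {W : Scheme.{u}} {a : W ⟶ S}
    {g : W ⟶ Spec (CommRingCat.of E)}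
    (h : IsPullback a g (S ↘ Spec (CommRingCat.of κ)) (Spec.map (CommRingCat.ofHom (algebraMap κ E)))) :
    W ≃ Σ x : S, (S.residueField x →ₐ[κ] E) :=
  haveI : IsFinite g := MorphismProperty.of_isPullback h ‹IsFinite (S ↘ Spec (CommRingCat.of κ))›
  ((sectionsEquiv g).symm.trans (sectionsOfIsPullback h)).trans (pointsEquiv κ S)

theorem card_eq_sepCount {E : Type u} [Field E] [Algebra κ E] [IsAlgClosed E] {W : Scheme.{u}} {a : W ⟶ S}
    {g : W ⟶ Spec (CommRingCat.of E)}
    (h : IsPullback a g (S ↘ Spec (CommRingCat.of κ)) (Spec.map (CommRingCat.ofHom (algebraMap κ E)))) :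
    ENat.card W = sepCount κ S := by
  rw [ENat.card_congr (pointsOverEquiv κ S h), card_sigma_algHom]

/-- A rational point carries at most one section. -/
theorem closedPoint_injective_sections {E : Type u} [Field E] {W : Scheme.{u}} (g : W ⟶ Spec (CommRingCat.of E))
    (p q : {p : Spec (CommRingCat.of E) ⟶ W // p ≫ g = 𝟙 _})
    (h : p.1 (IsLocalRing.closedPoint E) = q.1 (IsLocalRing.closedPoint E)) : p = q := by
  letI : W.Over (Spec (CommRingCat.of E)) := ⟨g⟩
  have hid : Spec.map (CommRingCat.ofHom (algebraMap E E)) = 𝟙 (Spec (CommRingCat.of E)) := by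
    rw [Algebra.algebraMap_self]
    exact Spec.map_id _
  let e := pointsEquiv (k := E) (S := W) (E := E)
  let p' : {p : Spec (CommRingCat.of E) ⟶ W //
      p ≫ (W ↘ Spec (CommRingCat.of E)) = Spec.map (CommRingCat.ofHom (algebraMap E E))} :=
    ⟨p.1, p.2.trans hid.symm⟩
  let q' : {p : Spec (CommRingCat.of E) ⟶ W //
      p ≫ (W ↘ Spec (CommRingCat.of E)) = Spec.map (CommRingCat.ofHom (algebraMap E E))} :=
    ⟨q.1, q.2.trans hid.symm⟩
  have hsub : ∀ w : W, Subsingleton (W.residueField w →ₐ[E] E) := fun w => ⟨fun φ ψ => AlgHom.ext fun z => by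
    have hz : algebraMap E (W.residueField w) (φ z) = z := φ.injective (φ.commutes _)
    conv_rhs => rw [← hz]
    rw [ψ.commutes]
    rfl⟩
  have : e p' = e q' := by
    have h1 : (e p').1 = (e q').1 := h
    refine Sigma.ext h1 ?_
    have := hsub (e q').1
    have key : ∀ (a b : W) (_ : a = b) (φ : W.residueField a →ₐ[E] E) (ψ : W.residueField b →ₐ[E] E), HEq φ ψ := by
      rintro a _ rfl φ ψ
      exact heq_of_eq ((hsub a).elim _ _)
    exact key _ _ h1 _ _
  have h3 : p'.1 = q'.1 := congrArg Subtype.val (e.injective this)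
  exact Subtype.ext h3

/-- A field extension containing all embeddings gives as many points as there are geometric ones. -/
theorem card_eq_sepCount_of_split {E : Type u} [Field E] [Algebra κ E]
    (hE : ∀ (x : S) (σ : S.residueField x →ₐ[κ] AlgebraicClosure E),
      ∀ z, σ z ∈ (algebraMap E (AlgebraicClosure E)).range)
    {W : Scheme.{u}} {a : W ⟶ S} {g : W ⟶ Spec (CommRingCat.of E)}
    (h : IsPullback a g (S ↘ Spec (CommRingCat.of κ)) (Spec.map (CommRingCat.ofHom (algebraMap κ E)))) :
    ENat.card W = sepCount κ S := by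
  let Ē := AlgebraicClosure E
  let r := Spec.map (CommRingCat.ofHom (algebraMap E Ē))
  have hbij : Function.Bijective
      (fun z : Σ x : S, (S.residueField x →ₐ[κ] E) =>
        (⟨z.1, (IsScalarTower.toAlgHom κ E Ē).comp z.2⟩ : Σ x : S, (S.residueField x →ₐ[κ] Ē))) := by
    constructor
    · rintro ⟨x, φ⟩ ⟨y, ψ⟩ e
      simp only [Sigma.mk.injEq] at e
      obtain ⟨rfl, e⟩ := e
      exact Sigma.ext rfl (heq_of_eq (AlgHom.ext fun z =>
        (algebraMap E Ē).injective (DFunLike.congr_fun (eq_of_heq e) z)))
    · rintro ⟨x, σ⟩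
      choose φ hφ using fun z => RingHom.mem_range.1 (hE x σ z)
      refine ⟨⟨x,
        { toFun := φ
          map_one' := (algebraMap E Ē).injective (by rw [hφ, map_one, map_one])
          map_mul' := fun a b => (algebraMap E Ē).injective (by rw [hφ, map_mul, map_mul, hφ, hφ])
          map_zero' := (algebraMap E Ē).injective (by rw [hφ, map_zero, map_zero])
          map_add' := fun a b => (algebraMap E Ē).injective (by rw [hφ, map_add, map_add, hφ, hφ])
          commutes' := fun c => (algebraMap E Ē).injective (by
            rw [hφ, σ.commutes, IsScalarTower.algebraMap_apply κ E Ē]) }⟩, ?_⟩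
      exact Sigma.ext rfl (heq_of_eq (AlgHom.ext hφ))
  let W' := pullback g r
  have hW' : IsPullback (pullback.fst g r ≫ a) (pullback.snd g r) (S ↘ Spec (CommRingCat.of κ))
      (Spec.map (CommRingCat.ofHom (algebraMap κ Ē))) := by
    have : Spec.map (CommRingCat.ofHom (algebraMap κ Ē)) =
        r ≫ Spec.map (CommRingCat.ofHom (algebraMap κ E)) := by
      rw [← Spec.map_comp, IsScalarTower.algebraMap_eq κ E Ē]
      rfl
    rw [this]
    exact (IsPullback.of_hasPullback g r).paste_horiz h
  have : IsFinite (pullback.snd g r) :=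
    MorphismProperty.of_isPullback hW' ‹IsFinite (S ↘ Spec (CommRingCat.of κ))›
  let eE := (sectionsOfIsPullback h).trans (pointsEquiv κ S (E := E))
  let eW' := (sectionsOfIsPullback (IsPullback.of_hasPullback g r))
  -- every point of `W` carries a section
  have hsec : Function.Bijective
      (fun p : {p : Spec (CommRingCat.of E) ⟶ W // p ≫ g = 𝟙 _} => p.1 (IsLocalRing.closedPoint E)) := by
    refine ⟨fun p q e => closedPoint_injective_sections g p q e, fun w => ?_⟩
    have : Surjective r :=
      ⟨Function.surjective_to_subsingleton (α := Spec (CommRingCat.of Ē)) (β := PrimeSpectrum E) _⟩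
    obtain ⟨w', rfl⟩ := (pullback.fst g r).surjective w
    let P := (sectionsEquiv (pullback.snd g r)).symm w'
    let z := (pointsEquiv κ S (E := Ē)) (sectionsOfIsPullback hW' P)
    obtain ⟨z₀, hz₀⟩ := hbij.2 z
    let p := eE.symm z₀
    refine ⟨p, ?_⟩
    have key : P.1 ≫ pullback.fst g r = r ≫ p.1 := by
      refine h.hom_ext ?_ ?_
      · have h1 : ((pointsEquiv κ S (E := Ē)).symm z).1 = r ≫ ((pointsEquiv κ S (E := E)).symm z₀).1 := by
          rw [← hz₀]
          show Spec.map _ ≫ _ = r ≫ Spec.map _ ≫ _
          rw [← Category.assoc, ← Spec.map_comp]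
          rfl
        have h2 : ((pointsEquiv κ S (E := Ē)).symm z).1 = P.1 ≫ pullback.fst g r ≫ a := by
          simp only [z, Equiv.symm_apply_apply]
          rfl
        rw [Category.assoc, ← h2, h1, Category.assoc]
        congr 1
        show _ = ((sectionsOfIsPullback h).symm ((pointsEquiv κ S (E := E)).symm z₀)).1 ≫ a
        exact (h.lift_fst _ _ _).symm
      · rw [Category.assoc, pullback.condition, reassoc_of% P.2, Category.assoc, p.2, Category.comp_id]
    have hP : P.1 (IsLocalRing.closedPoint Ē) = w' := by
      show (sectionsEquiv (pullback.snd g r)) P = w'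
      exact (sectionsEquiv (pullback.snd g r)).apply_symm_apply w'
    calc p.1 (IsLocalRing.closedPoint E) = (r ≫ p.1) (IsLocalRing.closedPoint Ē) := by
          rw [Scheme.Hom.comp_apply]
          congr 1
          exact Subsingleton.elim (α := PrimeSpectrum E) _ _
      _ = _ := by rw [← key, Scheme.Hom.comp_apply, hP]
  rw [← ENat.card_congr (Equiv.ofBijective _ hsec), ENat.card_congr (eE.trans (Equiv.ofBijective _ hbij)),
    card_sigma_algHom]

end Groth.Agent.E4O

namespace Groth.Agent.E4O

open Groth.Agent.Stein58

variable {X Y : Scheme.{u}} (f : X ⟶ Y) [LocallyQuasiFinite f] [QuasiCompact f]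

/-- The count of a fibre. -/
def fibreSepCount (y : Y) : ℕ :=
  letI : (f.fiber y).Over (Spec (CommRingCat.of (Y.residueField y))) := ⟨f.fiberToSpecResidueField y⟩
  sepCount (Y.residueField y) (f.fiber y)

theorem nGeomConnComp_eq_fibreSepCount (y : Y) : MoreMor.nGeomConnComp f y = fibreSepCount f y := by
  let κ := Y.residueField y
  letI : (f.fiber y).Over (Spec (CommRingCat.of κ)) := ⟨f.fiberToSpecResidueField y⟩
  have : IsFinite (f.fiber y ↘ Spec (CommRingCat.of κ)) :=
    inferInstanceAs (IsFinite (f.fiberToSpecResidueField y))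
  let Es := SeparableClosure κ
  let Ea := AlgebraicClosure Es
  let r := Spec.map (CommRingCat.ofHom (algebraMap Es Ea))
  let gs : MoreMor.geomFiber f y ⟶ Spec (CommRingCat.of Es) := pullback.snd _ _
  have : IsFinite gs := MorphismProperty.pullback_snd (P := @IsFinite) _ _ inferInstance
  have : DiscreteTopology (MoreMor.geomFiber f y) := discreteTopology_of_isFinite gs
  have hW : IsPullback (pullback.fst gs r ≫ pullback.fst (f.fiberToSpecResidueField y) _) (pullback.snd gs r)
      (f.fiber y ↘ Spec (CommRingCat.of κ)) (Spec.map (CommRingCat.ofHom (algebraMap κ Ea))) := by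
    have : Spec.map (CommRingCat.ofHom (algebraMap κ Ea)) =
        r ≫ Spec.map (CommRingCat.ofHom (algebraMap κ Es)) := by
      rw [← Spec.map_comp, IsScalarTower.algebraMap_eq κ Es Ea]
      rfl
    rw [this]
    exact (IsPullback.of_hasPullback gs r).paste_horiz (IsPullback.of_hasPullback (f.fiberToSpecResidueField y) _)
  have hb : Function.Bijective (ConnectedComponents.mk : MoreMor.geomFiber f y → _) :=
    ⟨fun a b h => by
      have h' := ConnectedComponents.coe_eq_coe.1 h
      simp only [connectedComponent_eq_singleton, Set.singleton_eq_singleton_iff] at h'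
      exact h', ConnectedComponents.surjective_coe⟩
  show ENat.card _ = _
  rw [← ENat.card_congr (Equiv.ofBijective _ hb),
    ← ENat.card_congr (Equiv.ofBijective _ (bijective_of_purelyInseparable (IsPullback.of_hasPullback gs r))),
    card_eq_sepCount κ (f.fiber y) hW]
  rfl

/-- Points of the base change to a field. -/
theorem card_pullback_eq {y : Y} {E : Type u} [Field E] [Algebra (Y.residueField y) E]
    (hE : IsAlgClosed E ∨ ∀ (x : f.fiber y) (σ : letI : (f.fiber y).Over (Spec (CommRingCat.of (Y.residueField y))) :=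
      ⟨f.fiberToSpecResidueField y⟩; (f.fiber y).residueField x →ₐ[Y.residueField y] AlgebraicClosure E),
      ∀ z, σ z ∈ (algebraMap E (AlgebraicClosure E)).range)
    (q : Spec (CommRingCat.of E) ⟶ Y)
    (hq : q = Spec.map (CommRingCat.ofHom (algebraMap (Y.residueField y) E)) ≫ Y.fromSpecResidueField y) :
    ENat.card ↥(pullback f q) = MoreMor.nGeomConnComp f y := by
  let κ := Y.residueField y
  letI : (f.fiber y).Over (Spec (CommRingCat.of κ)) := ⟨f.fiberToSpecResidueField y⟩
  have : IsFinite (f.fiber y ↘ Spec (CommRingCat.of κ)) :=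
    inferInstanceAs (IsFinite (f.fiberToSpecResidueField y))
  subst hq
  have hW := IsPullback.of_hasPullback (f.fiber y ↘ Spec (CommRingCat.of κ))
    (Spec.map (CommRingCat.ofHom (algebraMap κ E)))
  have e := (pullbackLeftPullbackSndIso f (Y.fromSpecResidueField y)
    (Spec.map (CommRingCat.ofHom (algebraMap κ E)))).schemeIsoToHomeo.toEquiv
  rw [nGeomConnComp_eq_fibreSepCount]
  refine (ENat.card_congr e).symm.trans ?_
  rcases hE with hE | hE
  · exact card_eq_sepCount κ (f.fiber y) hW
  · exact card_eq_sepCount_of_split κ (f.fiber y) hE hW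

end Groth.Agent.E4O
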