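import Mathlib.RingTheory.KrullDimension.Polynomial
import Mathlib.RingTheory.AlgebraicIndependent.TranscendenceBasis
import Mathlib.RingTheory.AlgebraicIndependent.Transcendental
import Mathlib.RingTheory.Algebraic.Integral
import Mathlib.RingTheory.Polynomial.Quotient
import Mathlib.RingTheory.Ideal.KrullsHeightTheorem
import Mathlib.Algebra.MvPolynomial.Equiv
import Mathlib.RingTheory.FiniteType
import Mathlib.SetTheory.Cardinal.ENat

universe u

open Polynomial

namespace Groth.Agent.E4O

/-- one variable -/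
theorem height_add_trdeg_polynomial (R : Type u) [CommRing R] [IsNoetherianRing R] (p : Ideal R)
    [p.IsPrime] (Q : Ideal R[X]) [Q.IsPrime] [Q.LiesOver p] :
    (Q.height : Cardinal.{u}) + Algebra.trdeg (R ⧸ p) (R[X] ⧸ Q) = (p.height : Cardinal.{u}) + 1 := by
  have hh := Ideal.height_eq_height_add_of_liesOver_of_hasGoingDown p Q
  let P : Ideal R[X] := p.map (algebraMap R R[X])
  let D := R ⧸ p
  let φ : D[X] →ₐ[D] R[X] ⧸ Q := Polynomial.aeval (Ideal.Quotient.mk Q X)
  let ψ : R[X] →+* D[X] := Polynomial.mapRingHom (Ideal.Quotient.mk p)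
  have hψ : Function.Surjective ψ := Polynomial.map_surjective _ Ideal.Quotient.mk_surjective
  have hφψ : φ.toRingHom.comp ψ = Ideal.Quotient.mk Q := by
    refine Polynomial.ringHom_ext (fun a => ?_) ?_
    · simp [φ, ψ]; rfl
    · simp [φ, ψ]
  have hφs : Function.Surjective φ := fun y => by
    obtain ⟨g, rfl⟩ := Ideal.Quotient.mk_surjective y
    exact ⟨ψ g, congrArg (fun k : R[X] →+* R[X] ⧸ Q => k g) hφψ⟩
  have hker : Q.map ψ = RingHom.ker φ := by
    have : Q = (RingHom.ker φ.toRingHom).comap ψ := by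
      rw [RingHom.comap_ker, hφψ, Ideal.mk_ker]
    refine (congrArg (Ideal.map ψ) this).trans ((Ideal.map_comap_of_surjective ψ hψ _).trans ?_)
    rfl
  let e : (R[X] ⧸ P) ≃+* D[X] := (Ideal.polynomialQuotientEquivQuotientPolynomial p).symm
  have he : e.toRingHom.comp (Ideal.Quotient.mk P) = ψ := by
    refine Polynomial.ringHom_ext (fun a => ?_) ?_
    · simp [e, ψ, Ideal.polynomialQuotientEquivQuotientPolynomial, P, ← Polynomial.algebraMap_eq]
    · simp [e, ψ, Ideal.polynomialQuotientEquivQuotientPolynomial, P, ← Polynomial.algebraMap_eq]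
  have hfib : (Q.map (Ideal.Quotient.mk P)).height = (RingHom.ker φ).height := by
    rw [← e.height_map (Q.map (Ideal.Quotient.mk P))]
    congr 1
    rw [← hker, ← he, ← Ideal.map_map]
    rfl
  rw [hh, hfib, Cardinal.ofENat_add, add_assoc]
  congr 1
  have hkp : (RingHom.ker φ).IsPrime := RingHom.ker_isPrime φ
  by_cases hbot : RingHom.ker φ = ⊥
  · have e2 : D[X] ≃ₐ[D] R[X] ⧸ Q :=
      AlgEquiv.ofBijective φ ⟨(RingHom.injective_iff_ker_eq_bot φ.toRingHom).2 hbot, hφs⟩
    have ht : Algebra.trdeg D (R[X] ⧸ Q) = 1 := by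
      rw [← e2.trdeg_eq, Polynomial.trdeg_of_isDomain]
    have hz : (RingHom.ker φ).height = 0 := by
      rw [Ideal.height_eq_zero_iff, hbot, IsDomain.minimalPrimes_eq_singleton_bot]
      rfl
    rw [ht, hz, Cardinal.ofENat_zero, zero_add]
  · have hD : (RingHom.ker φ).comap (C : D →+* D[X]) = ⊥ := by
      rw [eq_bot_iff]
      intro d hd
      obtain ⟨a, rfl⟩ := Ideal.Quotient.mk_surjective d
      have : (Ideal.Quotient.mk Q) (C a) = 0 := by
        rw [← hφψ]
        simpa [ψ] using (hd : φ (C (Ideal.Quotient.mk p a)) = 0)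
      rw [Ideal.mem_bot, Ideal.Quotient.eq_zero_iff_mem, Ideal.LiesOver.over (p := p) (P := Q)]
      exact (Ideal.Quotient.eq_zero_iff_mem.1 this : C a ∈ Q)
    have hz : (RingHom.ker φ).height = 1 := by
      refine le_antisymm ?_ (Order.one_le_iff_ne_zero.2 fun h0 => hbot ?_)
      · let K := FractionRing D
        let _ : Algebra D[X] K[X] := Polynomial.algebra D K
        have : IsLocalization ((nonZeroDivisors D).map C) K[X] := Polynomial.isLocalization _ K
        have hdis : Disjoint (((nonZeroDivisors D).map C : Submonoid D[X]) : Set D[X])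
            (RingHom.ker φ) := by
          refine Set.disjoint_left.2 ?_
          rintro _ ⟨d, hd, rfl⟩ hdk
          exact nonZeroDivisors.ne_zero hd
            (by simpa using (hD.le (show d ∈ (RingHom.ker φ).comap C from hdk)))
        rw [← IsLocalization.height_map_of_disjoint ((nonZeroDivisors D).map C) (S := K[X]) _ hdis]
        have hp' : ((RingHom.ker φ).map (algebraMap D[X] K[X])).IsPrime :=
          IsLocalization.isPrime_of_isPrime_disjoint _ _ _ hkp hdis
        have h1 : ringKrullDim K[X] ≤ 1 := (Ring.krullDimLE_iff).1 inferInstance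
        exact WithBot.coe_le_coe.1 ((Ideal.height_le_ringKrullDim_of_ne_top hp'.ne_top).trans h1)
      · rw [Ideal.height_eq_zero_iff, IsDomain.minimalPrimes_eq_singleton_bot] at h0
        exact h0
    have ht : Algebra.trdeg D (R[X] ⧸ Q) = 0 := by
      obtain ⟨f, hf, hf0⟩ := Submodule.exists_mem_ne_zero_of_ne_bot hbot
      have halg : IsAlgebraic D (Ideal.Quotient.mk Q X) := ⟨f, hf0, hf⟩
      have : FaithfulSMul D (R[X] ⧸ Q) := by
        rw [faithfulSMul_iff_algebraMap_injective, injective_iff_map_eq_zero]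
        intro d hd
        have : d ∈ (RingHom.ker φ).comap C := by simpa [φ] using hd
        simpa using hD.le this
      have hgen : (Algebra.adjoin D {Ideal.Quotient.mk Q X}) = ⊤ := by
        rw [Algebra.adjoin_singleton_eq_range_aeval]
        exact (AlgHom.range_eq_top _).2 hφs
      have : Algebra.IsAlgebraic D (Algebra.adjoin D {Ideal.Quotient.mk Q X}) := by
        rw [← Subalgebra.isAlgebraic_iff, Algebra.isAlgebraic_adjoin_iff]
        rintro x rfl
        exact halg
      rw [hgen] at this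
      have : Algebra.IsAlgebraic D (R[X] ⧸ Q) :=
        Algebra.IsAlgebraic.of_injective (Subalgebra.topEquiv : (⊤ : Subalgebra D (R[X] ⧸ Q)) ≃ₐ[D] _).symm.toAlgHom
          Subalgebra.topEquiv.symm.injective
      exact trdeg_eq_zero
    rw [ht, hz, Cardinal.ofENat_one, add_zero]

/-- transport along an algebra isomorphism -/
theorem formula_of_algEquiv {R S S' : Type u} [CommRing R] [CommRing S] [CommRing S'] [Algebra R S]
    [Algebra R S'] (e : S ≃ₐ[R] S') {c : Ideal R → Cardinal.{u}}
    (h : ∀ (p : Ideal R) [p.IsPrime] (Q : Ideal S') [Q.IsPrime] [Q.LiesOver p],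
      (Q.height : Cardinal.{u}) + Algebra.trdeg (R ⧸ p) (S' ⧸ Q) = c p)
    (p : Ideal R) [p.IsPrime] (Q : Ideal S) [Q.IsPrime] [Q.LiesOver p] :
    (Q.height : Cardinal.{u}) + Algebra.trdeg (R ⧸ p) (S ⧸ Q) = c p := by
  let Q' : Ideal S' := Q.map e.toRingEquiv
  have hQ' : Q'.IsPrime := Ideal.map_isPrime_of_equiv _
  have hlo : Q'.LiesOver p := ⟨by
    ext r
    rw [Ideal.LiesOver.over (p := p) (P := Q), Ideal.under_def, Ideal.under_def, Ideal.mem_comap,
      Ideal.mem_comap, ← e.commutes r]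
    exact ⟨fun h => Ideal.mem_map_of_mem e.toRingEquiv h, fun h => by
      obtain ⟨s, hs, hse⟩ := (Ideal.mem_map_of_equiv e.toRingEquiv _).1 h
      rwa [← e.toRingEquiv.injective hse]⟩⟩
  let eq1 : (S ⧸ Q) ≃+* (S' ⧸ Q') := Ideal.quotientEquiv Q Q' e.toRingEquiv rfl
  let eq2 : (S ⧸ Q) ≃ₐ[R ⧸ p] (S' ⧸ Q') := AlgEquiv.ofRingEquiv (f := eq1) fun d => by
    obtain ⟨r, rfl⟩ := Ideal.Quotient.mk_surjective d
    show Ideal.Quotient.mk Q' (e (algebraMap R S r)) = Ideal.Quotient.mk Q' (algebraMap R S' r)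
    rw [e.commutes]
  rw [eq2.trdeg_eq, ← h p Q', e.toRingEquiv.height_map]

/-- The dimension formula for polynomial rings over a Noetherian ring. -/
theorem height_add_trdeg_mvPolynomial (R : Type u) [CommRing R] [IsNoetherianRing R] (n : ℕ)
    (p : Ideal R) [p.IsPrime] (Q : Ideal (MvPolynomial (Fin n) R)) [Q.IsPrime] [Q.LiesOver p] :
    (Q.height : Cardinal.{u}) + Algebra.trdeg (R ⧸ p) (MvPolynomial (Fin n) R ⧸ Q) =
      (p.height : Cardinal.{u}) + n := by
  induction n generalizing p with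
  | zero =>
    refine formula_of_algEquiv (MvPolynomial.isEmptyAlgEquiv R (Fin 0))
      (c := fun p => (p.height : Cardinal.{u}) + (0 : ℕ)) (fun q _ Q' _ _ => ?_) p Q
    obtain rfl : Q' = q := ((Ideal.LiesOver.over (p := q) (P := Q')).trans (Ideal.comap_id Q')).symm
    have : Algebra.IsAlgebraic (R ⧸ Q') (R ⧸ Q') := ⟨fun x => isAlgebraic_algebraMap x⟩
    simp [trdeg_eq_zero]
  | succ n ih =>
    refine formula_of_algEquiv (MvPolynomial.finSuccEquiv R n)
      (c := fun p => (p.height : Cardinal.{u}) + (n + 1 : ℕ)) (fun q _ Q' _ _ => ?_) p Q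
    let S := MvPolynomial (Fin n) R
    let q' : Ideal S := Q'.under S
    have hq' : q'.LiesOver q := ⟨by rw [Ideal.under_under]; exact Ideal.LiesOver.over⟩
    have h1 := ih q q'
    have h2 := height_add_trdeg_polynomial S q' Q'
    have : IsScalarTower (R ⧸ q) (S ⧸ q') (S[X] ⧸ Q') := IsScalarTower.of_algebraMap_eq fun d => by
      obtain ⟨r, rfl⟩ := Ideal.Quotient.mk_surjective d
      rfl
    have hadd := trdeg_add_eq (R ⧸ q) (S ⧸ q') (A := S[X] ⧸ Q')
    calc (Q'.height : Cardinal.{u}) + Algebra.trdeg (R ⧸ q) (S[X] ⧸ Q')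
        = Algebra.trdeg (R ⧸ q) (S ⧸ q') +
            ((Q'.height : Cardinal.{u}) + Algebra.trdeg (S ⧸ q') (S[X] ⧸ Q')) := by
          rw [← hadd, ← add_assoc, ← add_assoc, add_comm (Q'.height : Cardinal.{u})]
      _ = Algebra.trdeg (R ⧸ q) (S ⧸ q') + ((q'.height : Cardinal.{u}) + 1) := by rw [h2]
      _ = (q.height : Cardinal.{u}) + n + 1 := by
          rw [← add_assoc, add_comm (Algebra.trdeg (R ⧸ q) (S ⧸ q')), h1]
      _ = _ := by rw [Nat.cast_succ, add_assoc]

/-- EGA IV 5.5.8: the dimension inequality. -/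
theorem height_add_trdeg_le (R : Type u) [CommRing R] [IsDomain R] [IsNoetherianRing R]
    (S : Type u) [CommRing S] [IsDomain S] [Algebra R S] [FaithfulSMul R S] [Algebra.FiniteType R S]
    (p : Ideal R) [p.IsPrime] (q : Ideal S) [q.IsPrime] [q.LiesOver p] :
    (q.height : Cardinal.{u}) + Algebra.trdeg (R ⧸ p) (S ⧸ q) ≤
      (p.height : Cardinal.{u}) + Algebra.trdeg R S := by
  obtain ⟨n, f, hf⟩ := Algebra.FiniteType.iff_quotient_mvPolynomial''.1 ‹Algebra.FiniteType R S›
  let A := MvPolynomial (Fin n) R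
  let K : Ideal A := RingHom.ker f
  have hK : K.IsPrime := RingHom.ker_isPrime f
  let Q : Ideal A := q.comap f
  have hK0 : K.LiesOver (⊥ : Ideal R) := ⟨by
    rw [Ideal.under_def]
    show (⊥ : Ideal R) = (RingHom.ker f.toRingHom).comap (algebraMap R A)
    rw [RingHom.comap_ker]
    rw [show f.toRingHom.comp (algebraMap R A) = algebraMap R S from f.comp_algebraMap]
    exact ((RingHom.injective_iff_ker_eq_bot _).1 (FaithfulSMul.algebraMap_injective R S)).symm⟩
  have hQp : Q.LiesOver p := ⟨by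
    rw [Ideal.LiesOver.over (p := p) (P := q), Ideal.under_def, Ideal.under_def]
    ext r; simp [Q]⟩
  have h1 := height_add_trdeg_mvPolynomial R n p Q
  have h2 := height_add_trdeg_mvPolynomial R n (⊥ : Ideal R) K
  have hb : (⊥ : Ideal R).height = 0 := by
    rw [Ideal.height_eq_zero_iff, IsDomain.minimalPrimes_eq_singleton_bot]; rfl
  rw [hb, Cardinal.ofENat_zero, zero_add] at h2
  have ht1 : Algebra.trdeg (R ⧸ p) (A ⧸ Q) = Algebra.trdeg (R ⧸ p) (S ⧸ q) := by
    let φ : A ⧸ Q →+* S ⧸ q := Ideal.quotientMap q f.toRingHom le_rfl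
    have hb1 : Function.Bijective φ :=
      ⟨Ideal.quotientMap_injective, Ideal.quotientMap_surjective hf⟩
    exact (AlgEquiv.ofRingEquiv (f := RingEquiv.ofBijective φ hb1) (R := R ⧸ p) fun d => by
      obtain ⟨r, rfl⟩ := Ideal.Quotient.mk_surjective d
      show Ideal.Quotient.mk q (f (algebraMap R A r)) = _
      rw [f.commutes]; rfl).trdeg_eq
  have ht2 : Algebra.trdeg (R ⧸ (⊥ : Ideal R)) (A ⧸ K) = Algebra.trdeg R S := by
    let e1 : (A ⧸ K) ≃ₐ[R] S := Ideal.quotientKerAlgEquivOfSurjective hf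
    let ι : R →+* R ⧸ (⊥ : Ideal R) := Ideal.Quotient.mk ⊥
    have hbij : Function.Bijective ι :=
      ⟨(RingHom.injective_iff_ker_eq_bot _).2 Ideal.mk_ker, Ideal.Quotient.mk_surjective⟩
    rw [← e1.trdeg_eq]
    have : Algebra.IsAlgebraic R (R ⧸ (⊥ : Ideal R)) :=
      ⟨fun x => by obtain ⟨r, rfl⟩ := Ideal.Quotient.mk_surjective x; exact isAlgebraic_algebraMap r⟩
    have : FaithfulSMul R (R ⧸ (⊥ : Ideal R)) := (faithfulSMul_iff_algebraMap_injective _ _).2 hbij.1
    have := trdeg_add_eq R (R ⧸ (⊥ : Ideal R)) (A := A ⧸ K)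
    rw [trdeg_eq_zero, zero_add] at this
    exact this
  rw [ht1] at h1
  rw [ht2] at h2
  have hKQ : K ≤ Q := fun a ha => by simp [Q, RingHom.mem_ker.1 ha]
  have : IsNoetherianRing S := Algebra.FiniteType.isNoetherianRing R S
  have hle : q.height + K.height ≤ Q.height := by
    obtain ⟨l1, hl1, hlen1⟩ := K.exists_ltSeries_length_eq_height
    obtain ⟨l2, hl2, hlen2⟩ := q.exists_ltSeries_length_eq_height
    let l2' : LTSeries (PrimeSpectrum A) :=
      l2.map (PrimeSpectrum.comap f.toRingHom) (RingHom.strictMono_comap_of_surjective hf)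
    let l2'' := l2'
    have hhead : l1.last ≤ l2'.head := by
      rw [hl1, LTSeries.head_map]
      intro a ha
      show f a ∈ (RelSeries.head l2).asIdeal
      rw [RingHom.mem_ker.1 ha]
      exact Ideal.zero_mem _
    have hlast : l2'.last = (⟨Q, inferInstance⟩ : PrimeSpectrum A) := by
      rw [LTSeries.last_map, hl2]
      rfl
    rw [← hlen1, ← hlen2, (⟨Q, inferInstance⟩ : PrimeSpectrum A).height_eq_orderHeight]
    rcases hhead.eq_or_lt with heq | hlt
    · have h := Order.length_le_height (p := l1.smash l2' heq) (x := ⟨Q, inferInstance⟩)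
        (by simp [hlast])
      refine le_trans ?_ h
      simp [RelSeries.smash_length, l2', add_comm]
    · have h := Order.length_le_height (p := l1.append l2' hlt) (x := ⟨Q, inferInstance⟩)
        (by simp [hlast])
      refine le_trans ?_ h
      simp [RelSeries.append_length, l2']
      rw [add_comm (l1.length : ℕ∞)]
      exact le_self_add
  have hKfin : K.height ≠ ⊤ := Ideal.height_ne_top hK.ne_top
  lift K.height to ℕ using hKfin with k hk
  have hc : (q.height : Cardinal.{u}) + (k : Cardinal.{u}) ≤ (Q.height : Cardinal.{u}) := by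
    rw [← Cardinal.ofENat_nat k, ← Cardinal.ofENat_add]
    exact Cardinal.ofENat_le_ofENat.2 hle
  rw [Cardinal.ofENat_nat] at h2
  refine (Cardinal.add_le_add_iff_of_lt_aleph0 (Cardinal.natCast_lt_aleph0 (n := k))).1 ?_
  calc (q.height : Cardinal.{u}) + Algebra.trdeg (R ⧸ p) (S ⧸ q) + k
      = (q.height : Cardinal.{u}) + k + Algebra.trdeg (R ⧸ p) (S ⧸ q) := add_right_comm _ _ _
    _ ≤ (Q.height : Cardinal.{u}) + Algebra.trdeg (R ⧸ p) (S ⧸ q) := by gcongr
    _ = (p.height : Cardinal.{u}) + ((k : Cardinal.{u}) + Algebra.trdeg R S) := by rw [h1, h2]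
    _ = _ := by rw [add_assoc]; congr 1; exact add_comm _ _

end Groth.Agent.E4O
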