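import Groth.Agent.E4O.InjCokerBasic
import Mathlib

/-!
EGA IV 11.2.6 / 11.3.7: injectivity with flat cokernel at a prime descends to a finite stage.
-/

set_option autoImplicit false
set_option linter.style.haveILetI false

noncomputable section

universe u

open TensorProduct Groth.Agent.Fib62

namespace Groth.Agent.E4O.InjStage

attribute [local instance] Algebra.TensorProduct.rightAlgebra

/-- Injective with flat cokernel over the limit holds at a finite stage. -/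
theorem exists_stage_global {D A C₁ C : Type u} [CommRing D] [IsNoetherianRing D] [CommRing A] [CommRing C₁]
    [CommRing C] [Algebra D A] [Algebra D C₁] [Algebra.FiniteType D C₁] [Algebra D C] [Algebra A C]
    [Algebra C₁ C] [IsScalarTower D A C] [IsScalarTower D C₁ C] [Algebra.IsPushout D A C₁ C] {N₁ M₁ : Type u}
    [AddCommGroup N₁] [Module C₁ N₁] [Module.Finite C₁ N₁] [AddCommGroup M₁] [Module C₁ M₁]
    [Module.Finite C₁ M₁] (u₁ : N₁ →ₗ[C₁] M₁) (hinj : Function.Injective (u₁.baseChange C))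
    (hflat : Module.Flat A (C ⊗[C₁] (M₁ ⧸ LinearMap.range u₁))) :
    ∃ E : Subalgebra D A, E.FG ∧ Function.Injective (u₁.baseChange (E ⊗[D] C₁)) ∧
      Module.Flat E ((E ⊗[D] C₁) ⊗[C₁] (M₁ ⧸ LinearMap.range u₁)) := by
  classical
  letI : Module D N₁ := Module.compHom N₁ (algebraMap D C₁)
  letI : Module D M₁ := Module.compHom M₁ (algebraMap D C₁)
  haveI : IsScalarTower D C₁ N₁ := isScalarTower_compHom D C₁ N₁
  haveI : IsScalarTower D C₁ M₁ := isScalarTower_compHom D C₁ M₁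
  let Q₁ := M₁ ⧸ LinearMap.range u₁
  haveI := hflat
  have hA : Module.Flat A (A ⊗[D] Q₁) :=
    Module.Flat.of_linearEquiv (Algebra.IsPushout.cancelBaseChange D A C₁ C Q₁).symm
  obtain ⟨E, hE, hEflat⟩ := FlatStage64.exists_fg_flat (R := D) (B := C₁) (M := Q₁) (A := A) hA
  haveI : Algebra.FiniteType D E := (Subalgebra.fg_iff_finiteType E).1 hE
  haveI : IsNoetherianRing C₁ := Algebra.FiniteType.isNoetherianRing D C₁
  haveI : IsNoetherianRing E := Algebra.FiniteType.isNoetherianRing D E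
  haveI : IsNoetherianRing (E ⊗[D] C₁) := Algebra.FiniteType.isNoetherianRing E (E ⊗[D] C₁)
  let hEC : (E ⊗[D] C₁) →ₐ[C₁] C :=
    { (Algebra.TensorProduct.lift ((IsScalarTower.toAlgHom D A C).comp E.val) (IsScalarTower.toAlgHom D C₁ C)
        (fun _ _ => Commute.all _ _)).toRingHom with
      commutes' := fun c => by
        show Algebra.TensorProduct.lift _ _ _ ((1 : E) ⊗ₜ c) = _
        simp }
  obtain ⟨E', hEE, w, hE', hw, hdie⟩ := exists_die (C := C) E hE (CE := E ⊗[D] C₁) hEC (fun e => by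
      simp [hEC, Algebra.TensorProduct.algebraMap_apply]) u₁ hinj
  refine ⟨E', hE', ?_, ?_⟩
  · letI : Algebra E E' := (Subalgebra.inclusion hEE).toRingHom.toAlgebra
    let h' : (E ⊗[D] C₁) →ₐ[D] (E' ⊗[D] C₁) :=
      Algebra.TensorProduct.map (Subalgebra.inclusion hEE) (AlgHom.id D C₁)
    letI : Algebra (E ⊗[D] C₁) (E' ⊗[D] C₁) := h'.toRingHom.toAlgebra
    haveI : IsScalarTower D E E' := IsScalarTower.of_algebraMap_eq fun _ => rfl
    haveI : IsScalarTower C₁ (E ⊗[D] C₁) (E' ⊗[D] C₁) := IsScalarTower.of_algebraMap_eq fun c => by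
      show (1 : E') ⊗ₜ[D] c = h' ((1 : E) ⊗ₜ c)
      simp [h']
    haveI : IsScalarTower E (E ⊗[D] C₁) (E' ⊗[D] C₁) :=
      IsScalarTower.of_algebraMap_eq (R := E) (S := E ⊗[D] C₁) (A := E' ⊗[D] C₁) fun e => by
        show (Subalgebra.inclusion hEE e) ⊗ₜ[D] (1 : C₁) = h' (e ⊗ₜ (1 : C₁))
        simp [h']
    haveI : Algebra.IsPushout E E' (E ⊗[D] C₁) (E' ⊗[D] C₁) :=
      (Algebra.IsPushout.comp_iff (R := D) (S := E) (T := E') (R' := C₁) (S' := E ⊗[D] C₁)
        (T' := E' ⊗[D] C₁)).1 inferInstance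
    have hfE : Module.Flat E ((E ⊗[D] C₁) ⊗[C₁] Q₁) := by
      haveI := hEflat E le_rfl
      exact Module.Flat.of_linearEquiv (Algebra.IsPushout.cancelBaseChange D E C₁ (E ⊗[D] C₁) Q₁)
    exact injective_of_die (E := E) u₁ hfE (w : Set _) hw fun z hz => hdie z hz
  · haveI := hEflat E' hEE
    exact Module.Flat.of_linearEquiv (Algebra.IsPushout.cancelBaseChange D E' C₁ (E' ⊗[D] C₁) Q₁)

/-- Transfer from a stage to a later one, at a prime avoiding the inverted element. -/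
theorem good_of_stage {D A A' C₁ C C' E₀ E : Type u} [CommRing D] [CommRing A] [CommRing A'] [CommRing C₁]
    [CommRing C] [CommRing C'] [CommRing E₀] [CommRing E] [Algebra D A] [Algebra D A'] [Algebra D C₁] [Algebra D C']
    [Algebra D E₀] [Algebra A C] [Algebra A' C'] [Algebra C₁ C] [Algebra C₁ C'] [IsScalarTower D A' C']
    [IsScalarTower D C₁ C'] [Algebra.IsPushout D A' C₁ C'] [Algebra E₀ A] [Algebra E₀ E]
    [Algebra E A'] [Algebra E₀ A'] [IsScalarTower E₀ E A'] [IsScalarTower D E₀ A']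
    (f₀ : E₀ ⊗[D] C₁) (C₃ : Type u) [CommRing C₃] [Algebra (E₀ ⊗[D] C₁) C₃] [Algebra E₀ C₃]
    [IsScalarTower E₀ (E₀ ⊗[D] C₁) C₃] [Algebra C₁ C₃] [IsScalarTower C₁ (E₀ ⊗[D] C₁) C₃]
    [IsLocalization.Away f₀ C₃] {N₁ M₁ : Type u}
    [AddCommGroup N₁] [Module C₁ N₁] [AddCommGroup M₁] [Module C₁ M₁] (u₁ : N₁ →ₗ[C₁] M₁)
    (hEinj : Function.Injective ((u₁.baseChange C₃).baseChange (E ⊗[E₀] C₃)))
    (hEflat : Module.Flat E ((E ⊗[E₀] C₃) ⊗[C₃] ((C₃ ⊗[C₁] M₁) ⧸ LinearMap.range (u₁.baseChange C₃))))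
    (P : PrimeSpectrum C) (ρ : A' →ₐ[D] A) (σ : C' →ₐ[C₁] C)
    (hρ : ∀ e : E₀, ρ (algebraMap E₀ A' e) = algebraMap E₀ A e)
    (hσ : ∀ a, σ (algebraMap A' C' a) = algebraMap A C (ρ a))
    {τ : E₀ ⊗[D] C₁ →ₐ[C₁] C} (hτ : ∀ e, τ (algebraMap E₀ _ e) = algebraMap A C (algebraMap E₀ A e))
    (hP : τ f₀ ∉ P.asIdeal) :
    Good A' (u₁.baseChange C') (PrimeSpectrum.comap σ.toRingHom P) := by
  letI : Algebra E₀ C' := ((algebraMap A' C').comp (algebraMap E₀ A')).toAlgebra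
  haveI : IsScalarTower E₀ A' C' := IsScalarTower.of_algebraMap_eq fun _ => rfl
  let τ' : (E₀ ⊗[D] C₁) →ₐ[D] C' :=
    Algebra.TensorProduct.lift ((IsScalarTower.toAlgHom D A' C').comp (IsScalarTower.toAlgHom D E₀ A'))
      (IsScalarTower.toAlgHom D C₁ C') (fun _ _ => Commute.all _ _)
  letI : Algebra (E₀ ⊗[D] C₁) C' := τ'.toRingHom.toAlgebra
  haveI : IsScalarTower C₁ (E₀ ⊗[D] C₁) C' := IsScalarTower.of_algebraMap_eq fun c => by
    rw [RingHom.algebraMap_toAlgebra, Algebra.TensorProduct.right_algebraMap_apply]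
    exact ((Algebra.TensorProduct.lift_tmul _ _ _ _ _).trans (by simp)).symm
  haveI : IsScalarTower E₀ (E₀ ⊗[D] C₁) C' := IsScalarTower.of_algebraMap_eq fun e => by
    rw [RingHom.algebraMap_toAlgebra τ'.toRingHom, Algebra.TensorProduct.algebraMap_apply]
    exact ((Algebra.TensorProduct.lift_tmul _ _ _ _ _).trans (by simp; rfl)).symm
  haveI : Algebra.IsPushout E₀ A' (E₀ ⊗[D] C₁) C' :=
    (Algebra.IsPushout.comp_iff (R := D) (S := E₀) (T := A') (R' := C₁) (S' := (E₀ ⊗[D] C₁)) (T' := C')).1 inferInstance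
  let g := algebraMap (E₀ ⊗[D] C₁) C' f₀
  have hσg : σ g = τ f₀ := by
    clear hP
    show σ (τ' f₀) = τ f₀
    induction f₀ using TensorProduct.induction_on with
    | zero => simp
    | add a b ha hb => simp only [map_add, ha, hb]
    | tmul e c =>
      have hec : (e ⊗ₜ[D] c : E₀ ⊗[D] C₁) = algebraMap E₀ _ e * algebraMap C₁ _ c := by
        rw [Algebra.TensorProduct.algebraMap_apply, Algebra.TensorProduct.right_algebraMap_apply,
          Algebra.TensorProduct.tmul_mul_tmul, one_mul, mul_one]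
        rfl
      conv_rhs => rw [hec, map_mul, hτ, AlgHom.commutes]
      rw [Algebra.TensorProduct.lift_tmul, map_mul, AlgHom.comp_apply, IsScalarTower.toAlgHom_apply,
        IsScalarTower.toAlgHom_apply, IsScalarTower.toAlgHom_apply, hσ, hρ, AlgHom.commutes]
  have hgP : g ∉ (PrimeSpectrum.comap σ.toRingHom P).asIdeal := fun hg => hP (hσg ▸ hg)
  let Cg := Localization.Away g
  have hu' : IsUnit ((algebraMap C' Cg).comp (algebraMap (E₀ ⊗[D] C₁) C') f₀) := IsLocalization.Away.algebraMap_isUnit g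
  letI : Algebra C₃ Cg := (IsLocalization.Away.lift f₀ hu').toAlgebra
  haveI : IsScalarTower (E₀ ⊗[D] C₁) C₃ Cg := IsScalarTower.of_algebraMap_eq (R := (E₀ ⊗[D] C₁)) (S := C₃) (A := Cg) fun c => by
    rw [IsScalarTower.algebraMap_apply (E₀ ⊗[D] C₁) C' Cg]
    exact (IsLocalization.Away.lift_eq f₀ hu' c).symm
  haveI : IsScalarTower E₀ (E₀ ⊗[D] C₁) Cg := IsScalarTower.to₁₂₄ E₀ (E₀ ⊗[D] C₁) C' Cg
  haveI : IsScalarTower E₀ C₃ Cg := IsScalarTower.to₁₃₄ E₀ (E₀ ⊗[D] C₁) C₃ Cg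
  haveI : IsScalarTower C₁ (E₀ ⊗[D] C₁) Cg := IsScalarTower.to₁₂₄ C₁ (E₀ ⊗[D] C₁) C' Cg
  haveI : IsScalarTower C₁ C₃ Cg := IsScalarTower.to₁₃₄ C₁ (E₀ ⊗[D] C₁) C₃ Cg
  haveI : IsLocalization.Away (algebraMap (E₀ ⊗[D] C₁) C' f₀) Cg := inferInstanceAs (IsLocalization.Away g Cg)
  haveI : Algebra.IsPushout E₀ A' C₃ Cg := isPushout_away f₀ (C := C')
  let μ : (E ⊗[E₀] C₃) →ₐ[E₀] Cg :=
    Algebra.TensorProduct.lift ((IsScalarTower.toAlgHom E₀ A' Cg).comp (IsScalarTower.toAlgHom E₀ E A'))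
      (IsScalarTower.toAlgHom E₀ C₃ Cg) (fun _ _ => Commute.all _ _)
  letI : Algebra (E ⊗[E₀] C₃) Cg := μ.toRingHom.toAlgebra
  letI : Algebra E Cg := ((algebraMap A' Cg).comp (algebraMap E A')).toAlgebra
  haveI : IsScalarTower E A' Cg := IsScalarTower.of_algebraMap_eq fun _ => rfl
  haveI : IsScalarTower C₃ (E ⊗[E₀] C₃) Cg := IsScalarTower.of_algebraMap_eq fun c => by
    rw [RingHom.algebraMap_toAlgebra, Algebra.TensorProduct.right_algebraMap_apply]
    exact ((Algebra.TensorProduct.lift_tmul _ _ _ _ _).trans (by simp; rfl)).symm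
  haveI : IsScalarTower E (E ⊗[E₀] C₃) Cg := IsScalarTower.of_algebraMap_eq fun e => by
    rw [RingHom.algebraMap_toAlgebra μ.toRingHom, Algebra.TensorProduct.algebraMap_apply]
    exact ((Algebra.TensorProduct.lift_tmul _ _ _ _ _).trans (by simp; rfl)).symm
  haveI : Algebra.IsPushout E A' (E ⊗[E₀] C₃) Cg :=
    (Algebra.IsPushout.comp_iff (R := E₀) (S := E) (T := A') (R' := C₃) (S' := E ⊗[E₀] C₃) (T' := Cg)).1 inferInstance
  have hflatE : Module.Flat E ((E ⊗[E₀] C₃) ⊗[E ⊗[E₀] C₃] (((E ⊗[E₀] C₃) ⊗[C₃] (C₃ ⊗[C₁] M₁)) ⧸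
      LinearMap.range ((u₁.baseChange C₃).baseChange (E ⊗[E₀] C₃)))) := (flat_coker_baseChange_iff E _).2 hEflat
  obtain ⟨h1, h2⟩ := global_baseChange (D := E) (A := A') (C := Cg)
    ((u₁.baseChange C₃).baseChange (E ⊗[E₀] C₃)) hEinj hflatE
  refine good_of_away (u₁.baseChange C') _ g hgP Cg ?_ ?_
  · exact (injective_baseChange_baseChange_iff u₁).2 ((injective_baseChange_baseChange_iff u₁).1
      ((injective_baseChange_baseChange_iff (u₁.baseChange C₃)).1 h1))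
  · exact (flat_coker_baseChange_iff A' u₁).2 ((flat_coker_baseChange_iff A' u₁).1
      ((flat_coker_baseChange_iff A' (u₁.baseChange C₃)).1 h2))

/-- Construction of the stage once the inverted element is defined over a finite stage. -/
theorem exists_stage_aux {D A C₁ C E₀ : Type u} [CommRing D] [CommRing A] [CommRing C₁]
    [CommRing C] [CommRing E₀] [IsNoetherianRing E₀] [Algebra D A] [Algebra D C₁] [Algebra.FiniteType D C₁]
    [Algebra D C] [Algebra A C] [Algebra C₁ C] [IsScalarTower D A C] [IsScalarTower D C₁ C]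
    [Algebra.IsPushout D A C₁ C] [Algebra D E₀] [Algebra E₀ A] [IsScalarTower D E₀ A] [Algebra E₀ C]
    [IsScalarTower E₀ A C] {N₁ M₁ : Type u}
    [AddCommGroup N₁] [Module C₁ N₁] [Module.Finite C₁ N₁] [AddCommGroup M₁] [Module C₁ M₁]
    [Module.Finite C₁ M₁] (u₁ : N₁ →ₗ[C₁] M₁) (P : PrimeSpectrum C) (f : C) (hfP : f ∉ P.asIdeal)
    (hfinj : Function.Injective ((u₁.baseChange C).baseChange (Localization.Away f)))
    (hfflat : Module.Flat A (Localization.Away f ⊗[C] ((C ⊗[C₁] M₁) ⧸ LinearMap.range (u₁.baseChange C))))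
    (f₀ : E₀ ⊗[D] C₁) (τ : (E₀ ⊗[D] C₁) →ₐ[C₁] C) (hτ₀ : τ f₀ = f)
    (hτ : ∀ e, τ (algebraMap E₀ (E₀ ⊗[D] C₁) e) = algebraMap A C (algebraMap E₀ A e)) :
    ∃ E : Subalgebra E₀ A, E.FG ∧ ∀ (A' C' : Type u) [CommRing A'] [CommRing C'] [Algebra D A'] [Algebra D C']
      [Algebra A' C'] [Algebra C₁ C'] [IsScalarTower D A' C'] [IsScalarTower D C₁ C']
      [Algebra.IsPushout D A' C₁ C'] (ψ : E →ₐ[D] A') (ρ : A' →ₐ[D] A) (σ : C' →ₐ[C₁] C),
      (∀ e : E₀, ρ (ψ (algebraMap E₀ E e)) = algebraMap E₀ A e) →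
      (∀ a, σ (algebraMap A' C' a) = algebraMap A C (ρ a)) →
      Good A' (u₁.baseChange C') (PrimeSpectrum.comap σ.toRingHom P) := by
  letI : Algebra (E₀ ⊗[D] C₁) C := τ.toRingHom.toAlgebra
  haveI : IsScalarTower C₁ (E₀ ⊗[D] C₁) C := IsScalarTower.of_algebraMap_eq fun c => (τ.commutes c).symm
  haveI : IsScalarTower E₀ (E₀ ⊗[D] C₁) C := IsScalarTower.of_algebraMap_eq fun e => by
    rw [IsScalarTower.algebraMap_apply E₀ A C]
    exact (hτ e).symm
  haveI : IsScalarTower D (E₀ ⊗[D] C₁) C := IsScalarTower.to₁₃₄ D C₁ (E₀ ⊗[D] C₁) C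
  haveI : Algebra.IsPushout E₀ A (E₀ ⊗[D] C₁) C :=
    (Algebra.IsPushout.comp_iff (R := D) (S := E₀) (T := A) (R' := C₁) (S' := E₀ ⊗[D] C₁) (T' := C)).1 inferInstance
  let C₃ := Localization.Away f₀
  let Cf := Localization.Away f
  have hu : IsUnit ((algebraMap C Cf).comp (algebraMap (E₀ ⊗[D] C₁) C) f₀) := by
    show IsUnit (algebraMap C Cf (τ f₀))
    rw [hτ₀]
    exact IsLocalization.Away.algebraMap_isUnit f
  letI : Algebra C₃ Cf := (IsLocalization.Away.lift f₀ hu).toAlgebra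
  haveI : IsScalarTower (E₀ ⊗[D] C₁) C₃ Cf := IsScalarTower.of_algebraMap_eq (R := (E₀ ⊗[D] C₁)) (S := C₃) (A := Cf) fun c => by
    rw [IsScalarTower.algebraMap_apply (E₀ ⊗[D] C₁) C Cf]
    exact (IsLocalization.Away.lift_eq f₀ hu c).symm
  haveI : IsScalarTower E₀ (E₀ ⊗[D] C₁) Cf := IsScalarTower.to₁₂₄ E₀ (E₀ ⊗[D] C₁) C Cf
  haveI : IsScalarTower E₀ C₃ Cf := IsScalarTower.to₁₃₄ E₀ (E₀ ⊗[D] C₁) C₃ Cf
  haveI : IsLocalization.Away (algebraMap (E₀ ⊗[D] C₁) C f₀) Cf := by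
    rw [show algebraMap (E₀ ⊗[D] C₁) C f₀ = f from hτ₀]
    infer_instance
  haveI : Algebra.IsPushout E₀ A C₃ Cf := isPushout_away f₀ (C := C)
  haveI : Algebra.FiniteType E₀ C₃ := Algebra.FiniteType.trans (S := (E₀ ⊗[D] C₁)) inferInstance inferInstance
  haveI : IsScalarTower C₁ (E₀ ⊗[D] C₁) Cf := IsScalarTower.to₁₂₄ C₁ (E₀ ⊗[D] C₁) C Cf
  haveI : IsScalarTower C₁ C₃ Cf := IsScalarTower.to₁₃₄ C₁ (E₀ ⊗[D] C₁) C₃ Cf
  have hinj₃ : Function.Injective ((u₁.baseChange C₃).baseChange Cf) :=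
    (injective_baseChange_baseChange_iff u₁).2 ((injective_baseChange_baseChange_iff u₁).1 hfinj)
  have hflat₃ : Module.Flat A (Cf ⊗[C₃] ((C₃ ⊗[C₁] M₁) ⧸ LinearMap.range (u₁.baseChange C₃))) :=
    (flat_coker_baseChange_iff A u₁).2 ((flat_coker_baseChange_iff A u₁).1 hfflat)
  obtain ⟨E, hE, hEinj, hEflat⟩ := exists_stage_global (D := E₀) (A := A) (C := Cf) (u₁.baseChange C₃) hinj₃ hflat₃
  haveI : Algebra.FiniteType E₀ E := (Subalgebra.fg_iff_finiteType E).1 hE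
  refine ⟨E, hE, ?_⟩
  intro A' C' _ _ _ _ _ _ _ _ _ ψ ρ σ hρψ hσ
  letI : Algebra E A' := (ψ.toRingHom : E →+* A').toAlgebra
  letI : Algebra E₀ A' := ((ψ.toRingHom : E →+* A').comp (algebraMap E₀ E)).toAlgebra
  haveI : IsScalarTower E₀ E A' := IsScalarTower.of_algebraMap_eq fun _ => rfl
  haveI : IsScalarTower D E₀ A' := IsScalarTower.of_algebraMap_eq fun d => by
    rw [RingHom.algebraMap_toAlgebra, RingHom.comp_apply, ← IsScalarTower.algebraMap_apply D E₀ E]
    exact (ψ.commutes d).symm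
  exact good_of_stage (E := E) (E₀ := E₀) f₀ C₃ u₁ hEinj hEflat _ ρ σ hρψ hσ (τ := τ) hτ
    (fun h => hfP (hτ₀ ▸ h))

/-- The property at a prime over the limit holds at all later stages. -/
theorem exists_stage {D A C₁ C : Type u} [CommRing D] [IsNoetherianRing D] [CommRing A] [CommRing C₁]
    [CommRing C] [Algebra D A] [Algebra D C₁] [Algebra.FiniteType D C₁] [Algebra D C] [Algebra A C]
    [Algebra C₁ C] [IsScalarTower D A C] [IsScalarTower D C₁ C] [Algebra.IsPushout D A C₁ C] {N₁ M₁ : Type u}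
    [AddCommGroup N₁] [Module C₁ N₁] [Module.Finite C₁ N₁] [AddCommGroup M₁] [Module C₁ M₁]
    [Module.Finite C₁ M₁] (u₁ : N₁ →ₗ[C₁] M₁) (P : PrimeSpectrum C) (hP : Good A (u₁.baseChange C) P) :
    ∃ E : Subalgebra D A, E.FG ∧ ∀ (A' C' : Type u) [CommRing A'] [CommRing C'] [Algebra D A'] [Algebra D C']
      [Algebra A' C'] [Algebra C₁ C'] [IsScalarTower D A' C'] [IsScalarTower D C₁ C']
      [Algebra.IsPushout D A' C₁ C'] (ψ : E →ₐ[D] A') (ρ : A' →ₐ[D] A) (σ : C' →ₐ[C₁] C),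
      ρ.comp ψ = E.val → (∀ a, σ (algebraMap A' C' a) = algebraMap A C (ρ a)) →
      Good A' (u₁.baseChange C') (PrimeSpectrum.comap σ.toRingHom P) := by
  classical
  haveI : Algebra.FinitePresentation D C₁ := Algebra.FinitePresentation.of_finiteType.mp inferInstance
  haveI : Algebra.FinitePresentation A C :=
    (Algebra.IsPushout.equiv D A C₁ C).restrictScalars A |> fun e => Algebra.FinitePresentation.equiv e
  haveI : IsNoetherianRing C₁ := Algebra.FiniteType.isNoetherianRing D C₁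
  haveI : Module.FinitePresentation C₁ N₁ := Module.finitePresentation_of_finite C₁ N₁
  haveI : Module.FinitePresentation C₁ M₁ := Module.finitePresentation_of_finite C₁ M₁
  obtain ⟨f, hfP, hfinj, hfflat⟩ := exists_away_good (A := A) (u₁.baseChange C) P hP
  -- the element `f` comes from a stage
  obtain ⟨E₀, hE₀, f₀, hf₀⟩ := TensorProduct.Algebra.exists_of_fg ((Algebra.IsPushout.equiv D A C₁ C).symm f)
  haveI : Algebra.FiniteType D E₀ := (Subalgebra.fg_iff_finiteType E₀).1 hE₀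
  haveI : IsNoetherianRing E₀ := Algebra.FiniteType.isNoetherianRing D E₀
  let τ : (E₀ ⊗[D] C₁) →ₐ[C₁] C :=
    { ((Algebra.IsPushout.equiv D A C₁ C).toRingEquiv.toRingHom.comp
        (Algebra.TensorProduct.map E₀.val (AlgHom.id D C₁)).toRingHom) with
      commutes' := fun c => by
        simp [Algebra.TensorProduct.right_algebraMap_apply, Algebra.IsPushout.equiv_tmul] }
  have hτ₀ : τ f₀ = f := by
    show Algebra.IsPushout.equiv D A C₁ C (Algebra.TensorProduct.map E₀.val (AlgHom.id D C₁) f₀) = f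
    rw [show Algebra.TensorProduct.map E₀.val (AlgHom.id D C₁) f₀ = E₀.val.toLinearMap.rTensor C₁ f₀ from rfl,
      hf₀, AlgEquiv.apply_symm_apply]
  have hτ : ∀ e, τ (algebraMap E₀ (E₀ ⊗[D] C₁) e) = algebraMap A C (algebraMap E₀ A e) := fun e => by
    simp [τ, Algebra.TensorProduct.algebraMap_apply, Algebra.IsPushout.equiv_tmul]
  obtain ⟨E, hE, h⟩ := exists_stage_aux (E₀ := E₀) u₁ P f hfP hfinj hfflat f₀ τ hτ₀ hτ
  haveI : Algebra.FiniteType E₀ E := (Subalgebra.fg_iff_finiteType E).1 hE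
  refine ⟨E.restrictScalars D, (Subalgebra.fg_iff_finiteType (E.restrictScalars D)).2
    (Algebra.FiniteType.trans (R := D) (S := E₀) (A := E) inferInstance inferInstance), ?_⟩
  intro A' C' _ _ _ _ _ _ _ _ _ ψ ρ σ hρψ hσ
  exact h A' C' ψ ρ σ (fun e => AlgHom.congr_fun hρψ (algebraMap E₀ E e)) hσ

/-- The property is preserved by base change. -/
theorem good_baseChange {D A C₁ C : Type u} [CommRing D] [CommRing A] [CommRing C₁]
    [CommRing C] [Algebra D A] [Algebra D C₁] [Algebra.FinitePresentation D C₁] [Algebra D C] [Algebra A C]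
    [Algebra C₁ C] [IsScalarTower D A C] [IsScalarTower D C₁ C] [Algebra.IsPushout D A C₁ C] {N₁ M₁ : Type u}
    [AddCommGroup N₁] [Module C₁ N₁] [Module.FinitePresentation C₁ N₁] [AddCommGroup M₁] [Module C₁ M₁]
    [Module.FinitePresentation C₁ M₁] (u₁ : N₁ →ₗ[C₁] M₁) (P : PrimeSpectrum C)
    (h : Good D u₁ (PrimeSpectrum.comap (algebraMap C₁ C) P)) : Good A (u₁.baseChange C) P := by
  obtain ⟨f, hf, hinj, hflat⟩ := exists_away_good u₁ _ h
  let C₃ := Localization.Away f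
  let Cg := Localization.Away (algebraMap C₁ C f)
  have hu : IsUnit ((algebraMap C Cg).comp (algebraMap C₁ C) f) :=
    IsLocalization.Away.algebraMap_isUnit (S := Cg) (algebraMap C₁ C f)
  letI : Algebra C₃ Cg := (IsLocalization.Away.lift f hu).toAlgebra
  haveI : IsScalarTower C₁ C₃ Cg := IsScalarTower.of_algebraMap_eq (R := C₁) (S := C₃) (A := Cg) fun c => by
    rw [IsScalarTower.algebraMap_apply C₁ C Cg]
    exact (IsLocalization.Away.lift_eq f hu c).symm
  haveI : IsScalarTower D C₁ Cg := IsScalarTower.to₁₂₄ D C₁ C Cg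
  haveI : IsScalarTower D C₃ Cg := IsScalarTower.to₁₃₄ D C₁ C₃ Cg
  haveI : Algebra.IsPushout D A C₃ Cg := isPushout_away f (C := C)
  have hflat' : Module.Flat D (C₃ ⊗[C₃] ((C₃ ⊗[C₁] M₁) ⧸ LinearMap.range (u₁.baseChange C₃))) :=
    (flat_coker_baseChange_iff D u₁).2 hflat
  obtain ⟨h1, h2⟩ := global_baseChange (D := D) (A := A) (C := Cg) (u₁.baseChange C₃) hinj hflat'
  exact good_of_away (u₁.baseChange C) P (algebraMap C₁ C f) hf Cg
    ((injective_baseChange_baseChange_iff u₁).2 ((injective_baseChange_baseChange_iff u₁).1 h1))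
    ((flat_coker_baseChange_iff A u₁).2 ((flat_coker_baseChange_iff A u₁).1 h2))

/-- The property is invariant under isomorphisms of maps. -/
theorem good_congr {A C : Type u} [CommRing A] [CommRing C] [Algebra A C] {N M N' M' : Type u} [AddCommGroup N]
    [Module C N] [AddCommGroup M] [Module C M] [AddCommGroup N'] [Module C N'] [AddCommGroup M'] [Module C M']
    {u : N →ₗ[C] M} {u' : N' →ₗ[C] M'} (eN : N ≃ₗ[C] N') (eM : M ≃ₗ[C] M') (h : ∀ x, eM (u x) = u' (eN x))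
    {P : PrimeSpectrum C} (hu : Good A u P) : Good A u' P := by
  refine ⟨fun x hx => ?_, ?_⟩
  · obtain ⟨s, hs, hsx⟩ := hu.1 (eN.symm x) (eM.injective (by rw [h, eN.apply_symm_apply, hx, map_zero]))
    exact ⟨s, hs, eN.symm.injective (by rw [map_smul, hsx, map_zero])⟩
  · have := hu.2
    let e : (M ⧸ LinearMap.range u) ≃ₗ[C] (M' ⧸ LinearMap.range u') :=
      Submodule.Quotient.equiv _ _ eM (by
        ext y
        constructor
        · rintro ⟨_, ⟨z, rfl⟩, rfl⟩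
          exact ⟨eN z, (h z).symm⟩
        · rintro ⟨z, rfl⟩
          exact ⟨_, ⟨eN.symm z, rfl⟩, (h _).trans (congrArg u' (eN.apply_symm_apply z))⟩)
    exact Module.Flat.of_linearEquiv ((AlgebraTensorModule.congr (LinearEquiv.refl (Localization.AtPrime P.asIdeal)
      (Localization.AtPrime P.asIdeal)) e).symm.restrictScalars A)

end Groth.Agent.E4O.InjStage
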