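import Groth.Agent.S4433
import Groth.Agent.Cohen12.FlatLift
import Groth.Agent.FlatMor68.CompleteDVR
import Groth.Agent.E4O.DvrCrit
import Mathlib.FieldTheory.IsAlgClosed.AlgebraicClosure

/-!
Extensions of discrete valuation rings with algebraically closed residue field.
-/

set_option autoImplicit false
noncomputable section
universe u

open IsLocalRing

namespace Groth.Agent.E4O

/-- A DVR embeds in a DVR with algebraically closed residue field. -/
theorem exists_dvr_isAlgClosed_residueField (A : Type u) [CommRing A] [IsDomain A] [IsDiscreteValuationRing A] :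
    ∃ (B : Type u) (_ : CommRing B) (_ : IsDomain B) (_ : IsDiscreteValuationRing B) (f : A →+* B),
      IsLocalHom f ∧ Function.Injective f ∧ IsAlgClosed (ResidueField B) := by
  let Ω := AlgebraicClosure (ResidueField A)
  have : IsAdicComplete (maximalIdeal Ω) Ω := by rw [IsLocalRing.maximalIdeal_eq_bot]; infer_instance
  obtain ⟨B, _, _, _, f, π, hf, hB, hflat, hπ, hker, -⟩ :=
    Groth.Agent.Cohen12.exists_flat_lift (A := A) Ω (algebraMap (ResidueField A) Ω)
  obtain ⟨ϖ, hϖ⟩ := IsDiscreteValuationRing.exists_irreducible A
  have hm : maximalIdeal B = Ideal.span {f ϖ} := by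
    have h1 : maximalIdeal B = RingHom.ker π := by
      refine (IsLocalRing.eq_maximalIdeal ?_).symm
      exact RingHom.ker_isMaximal_of_surjective π hπ
    rw [h1, hker, hϖ.maximalIdeal_eq, Ideal.map_span, Set.image_singleton]
  algebraize [f]
  have : Module.Flat A B := hflat
  have : Module.FaithfullyFlat A B := Module.FaithfullyFlat.of_flat_of_isLocalHom
  have hinj : Function.Injective f := FaithfulSMul.algebraMap_injective A B
  obtain ⟨hd, hdvr⟩ := Groth.Agent.FlatMor68.CompleteDVR.isDVR_of_complete B (f ϖ) hm fun n e => by
    rw [← map_pow, ← map_zero f] at e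
    exact pow_ne_zero n hϖ.ne_zero (hinj e)
  refine ⟨B, inferInstance, hd, hdvr, f, hf, hinj, ?_⟩
  have hk : maximalIdeal B = RingHom.ker π :=
    (IsLocalRing.eq_maximalIdeal (RingHom.ker_isMaximal_of_surjective π hπ)).symm
  exact IsAlgClosed.of_ringEquiv Ω _
    ((RingHom.quotientKerEquivOfSurjective hπ).symm.trans (Ideal.quotEquivOfEq hk.symm))

/-- A DVR dominating a DVR with algebraically closed residue field inside a finite extension of its
fraction field has algebraically closed residue field. -/
theorem isAlgClosed_residueField_of_finite {B R : Type u} [CommRing B] [IsDomain B] [IsDiscreteValuationRing B]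
    [CommRing R] [IsDomain R] [IsLocalRing R] [Algebra B R] [IsLocalHom (algebraMap B R)]
    [IsAlgClosed (ResidueField B)] (K L : Type u) [Field K] [Algebra B K] [IsFractionRing B K] [Field L]
    [Algebra R L] [IsFractionRing R L] [Algebra K L] [Algebra B L] [IsScalarTower B R L] [IsScalarTower B K L]
    [FiniteDimensional K L] : IsAlgClosed (ResidueField R) := by
  have halg : Algebra.IsIntegral (ResidueField B) (ResidueField R) := by
    refine ⟨fun x => ?_⟩
    obtain ⟨r, rfl⟩ := IsLocalRing.residue_surjective x
    rw [← isAlgebraic_iff_isIntegral]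
    by_contra h
    let n := Module.finrank K L
    have hKind : LinearIndependent K (fun i : Fin (n + 1) => algebraMap R L r ^ (i : ℕ)) := by
      rw [← LinearIndependent.iff_fractionRing B K, Fintype.linearIndependent_iff]
      intro c hc
      -- all coefficients are divisible by every power of a uniformiser
      obtain ⟨ϖ, hϖ⟩ := IsDiscreteValuationRing.exists_irreducible B
      have step : ∀ c : Fin (n + 1) → B, (∑ i, c i • algebraMap R L r ^ (i : ℕ)) = 0 → ∀ i, ϖ ∣ c i := by
        intro c hc
        have hR : ∑ i, algebraMap B R (c i) * r ^ (i : ℕ) = 0 := by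
          apply IsFractionRing.injective R L
          rw [map_sum, map_zero, ← hc]
          refine Finset.sum_congr rfl fun i _ => ?_
          rw [map_mul, map_pow, ← IsScalarTower.algebraMap_apply B R L, Algebra.smul_def]
        have h2 := congrArg (IsLocalRing.residue R) hR
        rw [map_sum, map_zero] at h2
        simp only [map_mul, map_pow] at h2
        intro i
        by_contra hi
        refine h ⟨∑ i : Fin (n + 1), Polynomial.monomial (i : ℕ) (IsLocalRing.residue B (c i)), fun e => hi ?_, ?_⟩
        · have := congrArg (fun p => Polynomial.coeff p (i : ℕ)) e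
          simp only [Polynomial.finsetSum_coeff, Polynomial.coeff_monomial, Fin.val_inj, Finset.sum_ite_eq',
            Finset.mem_univ, if_true, Polynomial.coeff_zero, IsLocalRing.residue_eq_zero_iff] at this
          rw [hϖ.maximalIdeal_eq, Ideal.mem_span_singleton] at this
          exact this
        · rw [map_sum, ← h2]
          exact Finset.sum_congr rfl fun i _ => by
            rw [Polynomial.aeval_monomial]
            rfl
      have hall : ∀ (k : ℕ) (c : Fin (n + 1) → B), (∑ i, c i • algebraMap R L r ^ (i : ℕ)) = 0 →
          ∀ i, c i ∈ maximalIdeal B ^ k := by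
        intro k
        induction k with
        | zero => intro c _ i; simp
        | succ k ih =>
          intro c hc i
          choose d hd using step c hc
          have : (∑ i, d i • algebraMap R L r ^ (i : ℕ)) = 0 := by
            have h3 : algebraMap B L ϖ * (∑ i, d i • algebraMap R L r ^ (i : ℕ)) = 0 := by
              rw [← hc, Finset.mul_sum]
              refine Finset.sum_congr rfl fun i _ => ?_
              rw [hd i, Algebra.smul_def, Algebra.smul_def, map_mul, mul_assoc]
            refine (mul_eq_zero.1 h3).resolve_left ?_
            rw [IsScalarTower.algebraMap_apply B K L]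
            exact fun e => hϖ.ne_zero (IsFractionRing.injective B K
              ((algebraMap K L).injective (e.trans (map_zero _).symm) |>.trans (map_zero _).symm))
          rw [hd i, pow_succ']
          exact Ideal.mul_mem_mul (hϖ.maximalIdeal_eq ▸ Ideal.mem_span_singleton_self ϖ) (ih d this i)
      intro i
      exact IsHausdorff.haus' (I := maximalIdeal B) (c i) fun k => by
        rw [SModEq.zero, smul_eq_mul, Ideal.mul_top]
        exact hall k c hc i
    have := hKind.fintype_card_le_finrank
    simp [n] at this
  exact IsAlgClosed.of_ringEquiv (ResidueField B) _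
    (RingEquiv.ofBijective _ (IsAlgClosed.algebraMap_bijective_of_isIntegral (k := ResidueField B) (K := ResidueField R)))

/-- Inside a finite extension of the fraction field. -/
theorem exists_dvr_isAlgClosed_finite (B : Type u) [CommRing B] [IsDomain B] [IsDiscreteValuationRing B]
    [IsAlgClosed (ResidueField B)] (L : Type u) [Field L] [Algebra (FractionRing B) L]
    [FiniteDimensional (FractionRing B) L] :
    ∃ (R : ValuationSubring L) (_ : IsDiscreteValuationRing R) (φ : B →+* R),
      IsLocalHom φ ∧ IsAlgClosed (ResidueField R) ∧
      (∀ b, (φ b : L) = algebraMap (FractionRing B) L (algebraMap B (FractionRing B) b)) := by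
  let _ : Algebra B L := ((algebraMap (FractionRing B) L).comp (algebraMap B (FractionRing B))).toAlgebra
  have : IsScalarTower B (FractionRing B) L := IsScalarTower.of_algebraMap_eq fun _ => rfl
  obtain ⟨R, hR, hmem, hlt⟩ := Groth.Agent.S4433.result B (IsDiscreteValuationRing.not_isField B)
    (FractionRing B) L (IntermediateField.fg_of_noetherian ⊤)
  let φ : B →+* R := (algebraMap B L).codRestrict R.toSubring hmem
  have hloc : IsLocalHom φ := ⟨fun b hb => by
    by_contra hnu
    have h1 : R.valuation ((φ b : R) : L) < 1 := hlt b ((mem_maximalIdeal b).2 hnu)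
    rw [← R.valuation_lt_one_iff (φ b)] at h1
    exact (mem_maximalIdeal _).1 h1 hb⟩
  refine ⟨R, hR, φ, hloc, ?_, fun b => rfl⟩
  let _ : Algebra B R := φ.toAlgebra
  have : IsLocalHom (algebraMap B R) := hloc
  have : IsScalarTower B R L := IsScalarTower.of_algebraMap_eq fun b => rfl
  exact isAlgClosed_residueField_of_finite (B := B) (R := R) (FractionRing B) L

end Groth.Agent.E4O
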