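import Groth.Agent.E4O.FibreSets
import Groth.Agent.SchBasics.Reduced

/-!
Fibre dimensions of closed subschemes in terms of points of the ambient scheme.
-/

universe u

open CategoryTheory AlgebraicGeometry TopologicalSpace Topology

namespace Groth.Agent.E4O

variable {X Y Z : Scheme.{u}}

/-- `fdeg` does not change under restriction to a closed subscheme. -/
theorem fdeg_comp_closedImmersion (i : Z ⟶ X) [IsClosedImmersion i] (f : X ⟶ Y)
    [LocallyOfFiniteType f] (w : Z) : fdeg (i ≫ f) w = fdeg f (i w) := by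
  have h := dim_fibreClosure (f := i ≫ f) w
  have he : IsEmbedding i := i.isClosedEmbedding.isEmbedding
  rw [he.isInducing.closure_eq_preimage_closure_image, Set.image_singleton] at h
  have h2 : (i ≫ f) ⁻¹' {(i ≫ f) w} = i ⁻¹' (f ⁻¹' {f (i w)}) := rfl
  have hsub : closure {i w} ∩ f ⁻¹' {f (i w)} ⊆ Set.range i :=
    Set.inter_subset_left.trans (closure_minimal (Set.singleton_subset_iff.2 ⟨w, rfl⟩)
      i.isClosedEmbedding.isClosed_range)
  rw [h2, ← Set.preimage_inter, dim_preimage_of_isEmbedding he, Set.inter_eq_left.2 hsub,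
    dim_fibreClosure] at h
  exact_mod_cast h.symm

/-- The fibre dimension of a closed subscheme is the local dimension of its trace on the fibre. -/
theorem fibreDimAt_comp_closedImmersion (i : Z ⟶ X) [IsClosedImmersion i] (f : X ⟶ Y) (w : Z)
    {K : Set X} (hK : Set.range i = K) {x : X} (hw : i w = x) :
    FlatMor.fibreDimAt (i ≫ f) w =
      FlatMor.localDim ↥(K ∩ f ⁻¹' {f x}) ⟨x, ⟨hK ▸ ⟨w, hw⟩, rfl⟩⟩ := by
  subst hK; subst hw
  rw [fibreDimAt_eq_localDim]
  let g : ↥((i ≫ f) ⁻¹' {(i ≫ f) w}) → X := fun t => i t.1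
  have hg : IsEmbedding g := i.isClosedEmbedding.isEmbedding.comp IsEmbedding.subtypeVal
  have hr : Set.range g = Set.range i ∩ f ⁻¹' {f (i w)} := by
    ext a
    constructor
    · rintro ⟨⟨t, ht⟩, rfl⟩
      exact ⟨⟨t, rfl⟩, ht⟩
    · rintro ⟨⟨t, rfl⟩, ha⟩
      exact ⟨⟨t, ha⟩, rfl⟩
  exact localDim_eq_of_homeomorph (hg.toHomeomorph.trans (Homeomorph.setCongr hr)) ⟨w, rfl⟩

/-- On a closed set `K`, the fibre dimension at `x` is attained by a generization of `x` in
`K ∩ f⁻¹ (f x)`, and dominates every generization of `x` in `K`. -/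
theorem exists_max_fdeg_closed (f : X ⟶ Y) [LocallyOfFiniteType f] {K : Set X} (hK : IsClosed K)
    {x : X} (hx : x ∈ K) :
    ∃ z, z ∈ K ∧ z ⤳ x ∧ f z = f x ∧
      FlatMor.localDim ↥(K ∩ f ⁻¹' {f x}) ⟨x, ⟨hx, rfl⟩⟩ = (fdeg f z : ℕ) ∧
      ∀ ξ ∈ K, ξ ⤳ x → fdeg f ξ ≤ fdeg f z := by
  let S : Closeds X := ⟨K, hK⟩
  let i := (Scheme.IdealSheafData.vanishingIdeal S).subschemeι
  have hr : Set.range i = K := SchBasics.range_vanishingIdeal_subschemeι S
  obtain ⟨w, hw⟩ := hr.ge hx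
  have hd := fibreDimAt_comp_closedImmersion i f w hr hw
  obtain ⟨z, hzw, hfz, hzd, -, -⟩ := exists_fibreDimAt_eq (i ≫ f) w
  refine ⟨i z, hr.le ⟨z, rfl⟩, hw ▸ hzw.map i.continuous, ?_, ?_, fun ξ hξ hξx => ?_⟩
  · rw [← hw]; exact hfz
  · rw [← hd, hzd, fdeg_comp_closedImmersion]
  · obtain ⟨v, rfl⟩ := hr.ge hξ
    rw [← hw, i.isClosedEmbedding.isInducing.specializes_iff] at hξx
    have h := fdeg_le_fibreDimAt_of_specializes (f := i ≫ f) hξx
    rw [hzd, fdeg_comp_closedImmersion, fdeg_comp_closedImmersion] at h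
    exact_mod_cast h

/-- A point generizing `x` lies below a point of the fibre of `x` with no smaller `fdeg`. -/
theorem exists_fdeg_ge_between (f : X ⟶ Y) [LocallyOfFiniteType f] {ξ x : X} (h : ξ ⤳ x) :
    ∃ z, ξ ⤳ z ∧ z ⤳ x ∧ f z = f x ∧ fdeg f ξ ≤ fdeg f z := by
  obtain ⟨z, hzK, hzx, hfz, -, hmax⟩ :=
    exists_max_fdeg_closed f (K := closure {ξ}) isClosed_closure h.mem_closure
  exact ⟨z, specializes_iff_mem_closure.2 hzK, hzx, hfz, hmax ξ (subset_closure rfl) h⟩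

end Groth.Agent.E4O
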