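import Groth.Agent.E4O.ArtinDescentAlg
import Groth.Agent.LimTop61.PullBC
import Groth.Agent.Open62.FlatLocus
import Groth.Agent.Div89.FreeStalks
import Mathlib.AlgebraicGeometry.Morphisms.Flat

/-!
Descent of flatness over an Artinian local base, scheme form.
-/

set_option autoImplicit false
set_option backward.isDefEq.respectTransparency.types false
set_option linter.style.haveILetI false
universe u

open CategoryTheory Limits AlgebraicGeometry TopologicalSpace Opposite TensorProduct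
open Groth.Agent.QC70

namespace Groth.Agent.E4O

theorem flat_localized_of_linearEquiv {K R' M M' : Type u} [CommRing K] [CommRing R'] [Algebra K R']
    [AddCommGroup M] [Module R' M] [Module K M] [IsScalarTower K R' M]
    [AddCommGroup M'] [Module R' M'] [Module K M'] [IsScalarTower K R' M'] (E : M ≃ₗ[R'] M')
    (T : Submonoid R') (h : Module.Flat K (LocalizedModule T M)) : Module.Flat K (LocalizedModule T M') := by
  let lT := LocalizedModule.mkLinearMap T M'
  haveI : IsLocalizedModule T (lT.comp E.toLinearMap) := IsLocalizedModule.of_linearEquiv_right T lT E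
  exact Module.Flat.of_linearEquiv
    ((IsLocalizedModule.iso T (lT.comp E.toLinearMap)).symm.restrictScalars K)

/-- Flatness at a point descends along a family of base changes jointly injective on the Artinian
base, when flat at all points above it over the chosen points. -/
theorem isFlatOverAt_of_artinian_points {A : Type u} [CommRing A] [IsArtinianRing A] [IsLocalRing A]
    {X : Scheme.{u}} (f : X ⟶ Spec (CommRingCat.of A)) [LocallyOfFiniteType f] (F : X.Modules)
    (hF : Coh.IsCoh F) (x : X) {J : Type*} (Y : J → Scheme.{u})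
    (g : ∀ j, Y j ⟶ Spec (CommRingCat.of A)) (y : ∀ j, Y j)
    (hg : ∀ a : A, (∀ j, (Y j).presheaf.germ ⊤ (y j) trivial
      ((g j).appTop ((Scheme.ΓSpecIso (CommRingCat.of A)).inv a)) = 0) → a = 0)
    (hflat : ∀ (j : J) (x' : ↥(pullback f (g j))), pullback.fst f (g j) x' = x →
      pullback.snd f (g j) x' = y j → FlatMod.IsFlatOverAt (pullback.snd f (g j))
        ((Scheme.Modules.pullback (pullback.fst f (g j))).obj F) x') :
    FlatMod.IsFlatOverAt f F x := by
  classical
  let S := Spec (CommRingCat.of A)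
  let eA : A ≃+* Γ(S, ⊤) := (Scheme.ΓSpecIso (CommRingCat.of A)).symm.commRingCatIsoToRingEquiv
  haveI : IsLocalRing Γ(S, ⊤) := eA.isLocalRing
  haveI : IsArtinianRing Γ(S, ⊤) := eA.surjective.isArtinianRing (f := eA.toRingHom)
  haveI : IsNoetherianRing A := inferInstance
  haveI : IsLocallyNoetherian X := LocallyOfFiniteType.isLocallyNoetherian f
  have hFP := Div89.isFP_of_isCoh hF
  obtain ⟨σ, hσ⟩ := hFP.exists_quasicoherentData
  haveI : F.IsQuasicoherent := σ.isQuasicoherent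
  obtain ⟨Ω, hΩ, hxΩ, -⟩ := exists_isAffineOpen_mem_and_subset (X := X) (x := x) (U := ⊤) trivial
  have eΩ : Ω ≤ f ⁻¹ᵁ ⊤ := fun _ _ => trivial
  letI : Algebra Γ(S, ⊤) Γ(X, Ω) := (f.appLE ⊤ Ω eΩ).hom.toAlgebra
  letI : Module Γ(S, ⊤) Γ(F, Ω) := Module.compHom _ (f.appLE ⊤ Ω eΩ).hom
  haveI : IsScalarTower Γ(S, ⊤) Γ(X, Ω) Γ(F, Ω) := IsScalarTower.of_algebraMap_smul fun _ _ => rfl
  haveI : Algebra.FiniteType Γ(S, ⊤) Γ(X, Ω) :=
    LocallyOfFiniteType.finiteType_appLE (f := f) (isAffineOpen_top _) hΩ eΩ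
  haveI := Props58.LocFree.finitePresentation_sections F (hM := hFP) hΩ
  refine (Open62.isFlatOverAt_iff_localized f eΩ hΩ (isAffineOpen_top S)
    (isLocAt_of_isQuasicoherent F hΩ) hxΩ).2 ?_
  let P := hΩ.primeIdealOf ⟨x, hxΩ⟩
  choose W hW hyW eW using fun j => exists_isAffineOpen_mem_and_subset (X := Y j) (x := y j)
    (U := g j ⁻¹ᵁ ⊤) trivial
  let O : ∀ j, (pullback f (g j)).Opens := fun j =>
    pullback.fst f (g j) ⁻¹ᵁ Ω ⊓ pullback.snd f (g j) ⁻¹ᵁ W j
  haveI : ∀ j, IsAffine ((W j) : Scheme.{u}) := fun j => hW j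
  haveI : IsAffine (Ω : Scheme.{u}) := hΩ
  haveI : IsAffine ((⊤ : S.Opens) : Scheme.{u}) := isAffineOpen_top S
  have H := fun j => (IsPullback.of_hasPullback f (g j)).flip
  have hO : ∀ j, IsAffineOpen (O j) := fun j => .of_isIso (Scheme.Hom.isPullback_resLE (H j) eΩ (eW j)
    (inf_comm (pullback.fst f (g j) ⁻¹ᵁ Ω) (pullback.snd f (g j) ⁻¹ᵁ W j))).isoPullback.hom
  have hpo := fun j => (isIso_pushoutSection_iff (H j) eΩ (eW j)
      (inf_comm (pullback.fst f (g j) ⁻¹ᵁ Ω) (pullback.snd f (g j) ⁻¹ᵁ W j))).mp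
    (isIso_pushoutSection_of_isAffineOpen (H j) eΩ (eW j)
      (inf_comm (pullback.fst f (g j) ⁻¹ᵁ Ω) (pullback.snd f (g j) ⁻¹ᵁ W j)) (isAffineOpen_top S) hΩ (hW j))
  letI : ∀ j, Algebra Γ(S, ⊤) Γ(Y j, W j) := fun j => ((g j).appLE ⊤ (W j) (eW j)).hom.toAlgebra
  letI : ∀ j, Algebra Γ(X, Ω) Γ(pullback f (g j), O j) := fun j =>
    ((pullback.fst f (g j)).appLE Ω (O j) inf_le_left).hom.toAlgebra
  letI : ∀ j, Algebra Γ(Y j, W j) Γ(pullback f (g j), O j) := fun j =>
    ((pullback.snd f (g j)).appLE (W j) (O j) inf_le_right).hom.toAlgebra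
  letI : ∀ j, Algebra Γ(S, ⊤) Γ(pullback f (g j), O j) := fun j =>
    (f.appLE ⊤ Ω eΩ ≫ (pullback.fst f (g j)).appLE Ω (O j) inf_le_left).hom.toAlgebra
  haveI : ∀ j, IsScalarTower Γ(S, ⊤) Γ(X, Ω) Γ(pullback f (g j), O j) := fun j => .of_algebraMap_eq' rfl
  haveI : ∀ j, IsScalarTower Γ(S, ⊤) Γ(Y j, W j) Γ(pullback f (g j), O j) := fun j =>
    .of_algebraMap_eq' (congrArg CommRingCat.Hom.hom (hpo j).w).symm
  haveI : ∀ j, Algebra.IsPushout Γ(S, ⊤) Γ(Y j, W j) Γ(X, Ω) Γ(pullback f (g j), O j) := fun j =>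
    (CommRingCat.isPushout_iff_isPushout).1 (hpo j)
  let q : ∀ j, Ideal Γ(Y j, W j) := fun j => ((hW j).primeIdealOf ⟨y j, hyW j⟩).asIdeal
  haveI : ∀ j, (q j).IsPrime := fun j => ((hW j).primeIdealOf ⟨y j, hyW j⟩).isPrime
  refine flat_of_flat_over_points Γ(F, Ω) P.asIdeal (fun j => Γ(Y j, W j)) q (fun a ha => ?_)
    (fun j => Γ(pullback f (g j), O j)) (fun j Q _ hQR hQK => ?_)
  · obtain ⟨b, rfl⟩ := eA.surjective a
    suffices b = 0 by rw [this, map_zero]
    refine hg b fun j => ?_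
    letI : Algebra Γ(Y j, W j) ((Y j).presheaf.stalk (y j)) :=
      ((Y j).presheaf.germ (W j) (y j) (hyW j)).hom.toAlgebra
    haveI : IsLocalization.AtPrime ((Y j).presheaf.stalk (y j)) (q j) :=
      (hW j).isLocalization_stalk ⟨y j, hyW j⟩
    have h1 := ha j
    rw [IsScalarTower.algebraMap_apply Γ(S, ⊤) Γ(Y j, W j),
      IsLocalization.map_eq_zero_iff (q j).primeCompl] at h1
    have h2 := (IsLocalization.map_eq_zero_iff (q j).primeCompl ((Y j).presheaf.stalk (y j)) _).2 h1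
    refine Eq.trans ?_ h2
    show _ = (Y j).presheaf.germ (W j) (y j) (hyW j) ((g j).appLE ⊤ (W j) (eW j) (eA b))
    rw [Scheme.Hom.appLE, CommRingCat.comp_apply]
    exact ((Y j).presheaf.germ_res_apply (homOfLE (eW j)) (y j) (hyW j) _).symm
  · haveI := QCPull72.isQuasicoherent_pullback (pullback.fst f (g j)) F
    let x' := (hO j).fromSpec ⟨Q, inferInstance⟩
    have hx'O : x' ∈ O j := (hO j).range_fromSpec.le ⟨_, rfl⟩
    have hx : pullback.fst f (g j) x' = x := by
      have h1 := hΩ.SpecMap_appLE_fromSpec (pullback.fst f (g j)) (hO j) (inf_le_left : O j ≤ _)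
      have h2 := congrArg (fun k : _ ⟶ X => k (⟨Q, inferInstance⟩ : PrimeSpectrum _)) h1
      simp only [Scheme.Hom.comp_apply] at h2
      refine h2.symm.trans ?_
      rw [show (Spec.map ((pullback.fst f (g j)).appLE Ω (O j) inf_le_left))
        (⟨Q, inferInstance⟩ : PrimeSpectrum _) = P from PrimeSpectrum.ext hQR]
      exact hΩ.fromSpec_primeIdealOf _
    have hy : pullback.snd f (g j) x' = y j := by
      have h1 := (hW j).SpecMap_appLE_fromSpec (pullback.snd f (g j)) (hO j) (inf_le_right : O j ≤ _)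
      have h2 := congrArg (fun k : _ ⟶ Y j => k (⟨Q, inferInstance⟩ : PrimeSpectrum _)) h1
      simp only [Scheme.Hom.comp_apply] at h2
      refine h2.symm.trans ?_
      rw [show (Spec.map ((pullback.snd f (g j)).appLE (W j) (O j) inf_le_right))
        (⟨Q, inferInstance⟩ : PrimeSpectrum _) = (hW j).primeIdealOf ⟨y j, hyW j⟩ from PrimeSpectrum.ext hQK]
      exact (hW j).fromSpec_primeIdealOf _
    have hQ : ((hO j).primeIdealOf ⟨x', hx'O⟩).asIdeal = Q := congrArg PrimeSpectrum.asIdeal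
      ((hO j).fromSpec.isOpenEmbedding.injective ((hO j).fromSpec_primeIdealOf ⟨x', hx'O⟩))
    let F' := (Scheme.Modules.pullback (pullback.fst f (g j))).obj F
    letI : Module Γ(Y j, W j) Γ(F', O j) :=
      Module.compHom _ ((pullback.snd f (g j)).appLE (W j) (O j) inf_le_right).hom
    haveI : IsScalarTower Γ(Y j, W j) Γ(pullback f (g j), O j) Γ(F', O j) :=
      IsScalarTower.of_algebraMap_smul fun _ _ => rfl
    have h1 := (Open62.isFlatOverAt_iff_localized (pullback.snd f (g j))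
      (inf_le_right : O j ≤ _) (hO j) (hW j) (isLocAt_of_isQuasicoherent F' (hO j)) hx'O).1 (hflat j x' hx hy)
    obtain ⟨E₁, -⟩ := LimTop61.exists_baseChange_equiv (pullback.fst f (g j)) F hΩ (hO j)
      (inf_le_left : O j ≤ _)
    refine flat_localized_of_linearEquiv E₁ _ ?_
    convert h1 using 3 <;> rw [hQ]

end Groth.Agent.E4O
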