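import Groth.Agent.E4O.DimField
import Groth.Agent.E4O.FibreDimRing
import Groth.Agent.E4O.OpenDim
import Groth.Prelude.Def_EGA4b
import Mathlib.RingTheory.KrullDimension.NonZeroDivisors
import Mathlib.RingTheory.Ideal.KrullsHeightTheorem

/-!
Dimensions of local rings: a surjectivity criterion, and heights relative to a prime.
-/

universe u

namespace Groth.Agent.E4O

/-- A local homomorphism of Noetherian local rings which is surjective on spectra increases the
dimension. -/
theorem ringKrullDim_le_of_forall_exists_comap_eq {R S : Type u} [CommRing R] [IsNoetherianRing R]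
    [IsLocalRing R] [CommRing S] [IsNoetherianRing S] [IsLocalRing S] (f : R →+* S) [IsLocalHom f]
    (hsurj : ∀ p : Ideal R, p.IsPrime → ∃ q : Ideal S, q.IsPrime ∧ q.comap f = p) :
    ringKrullDim R ≤ ringKrullDim S := by
  suffices H : ∀ (n : ℕ) (R S : Type u) [CommRing R] [IsNoetherianRing R] [IsLocalRing R]
      [CommRing S] [IsNoetherianRing S] [IsLocalRing S] (f : R →+* S) [IsLocalHom f],
      (∀ p : Ideal R, p.IsPrime → ∃ q : Ideal S, q.IsPrime ∧ q.comap f = p) →
      (n : WithBot ℕ∞) ≤ ringKrullDim R → (n : WithBot ℕ∞) ≤ ringKrullDim S by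
    have hfin := ((IsLocalRing.maximalIdeal R).finiteHeight_of_isNoetherianRing).1
    rw [← IsLocalRing.maximalIdeal_height_eq_ringKrullDim]
    have hne := Ideal.height_ne_top (I := IsLocalRing.maximalIdeal R) Ideal.IsPrime.ne_top'
    have := H (IsLocalRing.maximalIdeal R).height.toNat R S f hsurj (by
      rw [← IsLocalRing.maximalIdeal_height_eq_ringKrullDim]
      conv_rhs => rw [← ENat.natCast_toNat hne]
      rfl)
    refine le_trans (le_of_eq ?_) this
    conv_lhs => rw [← ENat.natCast_toNat hne]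
    rfl
  intro n
  induction n with
  | zero => intro R S _ _ _ _ _ _ f _ _ _; exact ringKrullDim_nonneg_of_nontrivial
  | succ n ih =>
    intro R S _ _ _ _ _ _ f _ hsurj hn
    let mR := IsLocalRing.maximalIdeal R
    let M : Set (Ideal S) := {m ∈ minimalPrimes S | m.comap f ≠ mR}
    have hM : M.Finite := (minimalPrimes.finite_of_isNoetherianRing S).subset fun m hm => hm.1
    let J : Ideal S := hM.toFinset.inf id
    have hnot : ∀ p : Ideal R, p.IsPrime → p ≠ mR → ∃ q : Ideal S, q.IsPrime ∧ J ≤ q ∧ q.comap f = p := by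
      intro p hp hne
      obtain ⟨q, hq, hqp⟩ := hsurj p hp
      obtain ⟨m, hm, hmq⟩ := Ideal.exists_minimalPrimes_le (I := ⊥) (J := q) bot_le
      refine ⟨q, hq, (Finset.inf_le (hM.mem_toFinset.2 ⟨hm, fun h => hne ?_⟩)).trans hmq, hqp⟩
      exact le_antisymm (IsLocalRing.le_maximalIdeal hp.ne_top)
        (h.ge.trans ((Ideal.comap_mono hmq).trans hqp.le))
    have hnz : ¬ ringKrullDim R ≤ 0 := fun h => by
      have := hn.trans h
      have : n + 1 ≤ 0 := by exact_mod_cast this
      omega
    obtain ⟨p₁, hp₁, hp₁ne⟩ : ∃ p : Ideal R, p.IsPrime ∧ p ≠ mR := by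
      by_contra hc
      push Not at hc
      refine hnz ?_
      have : Subsingleton (PrimeSpectrum R) :=
        ⟨fun a b => PrimeSpectrum.ext ((hc _ a.2).trans (hc _ b.2).symm)⟩
      exact Order.krullDim_nonpos_of_subsingleton
    obtain ⟨a, ham, ha⟩ : ∃ a ∈ mR, ∀ m ∈ M, f a ∉ m := by
      by_contra hc
      push Not at hc
      have hsub : (mR : Set R) ⊆ ⋃ m ∈ (hM.toFinset : Set (Ideal S)), (m.comap f : Set R) := by
        intro a ha
        obtain ⟨m, hm, hfa⟩ := hc a ha
        exact Set.mem_biUnion (x := m) (by simpa using hm) hfa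
      obtain ⟨m, hm, hle⟩ := (Ideal.subset_union_prime (f := fun m : Ideal S => m.comap f) ⊥ ⊥
        fun m hm _ _ => (Ideal.minimalPrimes_isPrime (hM.mem_toFinset.1 hm).1).comap f).1 hsub
      have hmp : m.IsPrime := Ideal.minimalPrimes_isPrime (hM.mem_toFinset.1 hm).1
      exact (hM.mem_toFinset.1 hm).2
        (le_antisymm (IsLocalRing.le_maximalIdeal (hmp.comap f).ne_top) hle)
    let I : Ideal S := J ⊔ Ideal.span {f a}
    have hfa : f a ∈ IsLocalRing.maximalIdeal S := fun h => ham (isUnit_of_map_unit f a h)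
    have hJm : J ≤ IsLocalRing.maximalIdeal S := by
      obtain ⟨q, hq, hJq, -⟩ := hnot p₁ hp₁ hp₁ne
      exact hJq.trans (IsLocalRing.le_maximalIdeal hq.ne_top)
    have hIm : I ≤ IsLocalRing.maximalIdeal S :=
      sup_le hJm ((Ideal.span_singleton_le_iff_mem _).2 hfa)
    have : Nontrivial (S ⧸ I) := Ideal.Quotient.nontrivial_iff.2 fun h =>
      Ideal.IsPrime.ne_top' (top_le_iff.1 (h ▸ hIm))
    have : Nontrivial (R ⧸ Ideal.span {a}) := Ideal.Quotient.nontrivial_iff.2 fun h =>
      Ideal.IsPrime.ne_top' (top_le_iff.1 (h ▸ (Ideal.span_singleton_le_iff_mem mR).2 ham))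
    have : IsLocalRing (S ⧸ I) := IsLocalRing.of_surjective' _ Ideal.Quotient.mk_surjective
    have : IsLocalRing (R ⧸ Ideal.span {a}) := IsLocalRing.of_surjective' _ Ideal.Quotient.mk_surjective
    let g : R ⧸ Ideal.span {a} →+* S ⧸ I := Ideal.quotientMap I f
      ((Ideal.span_singleton_le_iff_mem (I.comap f)).2
        (Ideal.mem_sup_right (Ideal.mem_span_singleton_self _)))
    have : IsLocalHom g := ⟨fun x hx => by
      obtain ⟨r, rfl⟩ := Ideal.Quotient.mk_surjective x
      rw [Ideal.quotientMap_mk] at hx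
      by_contra hnu
      have hr : r ∈ mR := fun h => hnu (h.map _)
      have hfr : f r ∈ IsLocalRing.maximalIdeal S := fun h => hr (isUnit_of_map_unit f r h)
      obtain ⟨u, hu⟩ := hx.exists_right_inv
      obtain ⟨s, rfl⟩ := Ideal.Quotient.mk_surjective u
      rw [← map_mul, ← map_one (Ideal.Quotient.mk I), Ideal.Quotient.eq] at hu
      have h1 : (1 : S) ∈ IsLocalRing.maximalIdeal S := by
        have := (IsLocalRing.maximalIdeal S).sub_mem (Ideal.mul_mem_right s _ hfr) (hIm hu)
        rwa [sub_sub_cancel] at this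
      exact Ideal.IsPrime.ne_top' ((Ideal.eq_top_iff_one _).2 h1)⟩
    have hsurj' : ∀ p : Ideal (R ⧸ Ideal.span {a}), p.IsPrime → ∃ q : Ideal (S ⧸ I),
        q.IsPrime ∧ q.comap g = p := by
      intro p hp
      let p' := p.comap (Ideal.Quotient.mk (Ideal.span {a}))
      have hap : a ∈ p' := by
        show Ideal.Quotient.mk _ a ∈ p
        rw [Ideal.Quotient.eq_zero_iff_mem.2 (Ideal.mem_span_singleton_self a)]
        exact p.zero_mem
      obtain ⟨q, hq, hIq, hqp⟩ : ∃ q : Ideal S, q.IsPrime ∧ I ≤ q ∧ q.comap f = p' := by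
        by_cases hp' : p' = mR
        · refine ⟨IsLocalRing.maximalIdeal S, inferInstance, hIm, ?_⟩
          rw [hp']
          exact le_antisymm (IsLocalRing.le_maximalIdeal (Ideal.IsPrime.ne_top inferInstance))
            fun x hx h => hx (isUnit_of_map_unit f x h)
        · obtain ⟨q, hq, hJq, hqp⟩ := hnot p' (hp.comap _) hp'
          exact ⟨q, hq, sup_le hJq ((Ideal.span_singleton_le_iff_mem q).2 (hqp.ge hap :)), hqp⟩
      have hker : RingHom.ker (Ideal.Quotient.mk I) ≤ q := Ideal.mk_ker.le.trans hIq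
      refine ⟨q.map (Ideal.Quotient.mk I),
        Ideal.map_isPrime_of_surjective Ideal.Quotient.mk_surjective hker, ?_⟩
      refine Ideal.comap_injective_of_surjective _ Ideal.Quotient.mk_surjective ?_
      rw [Ideal.comap_comap, Ideal.quotientMap_comp_mk, ← Ideal.comap_comap,
        Ideal.comap_map_of_surjective _ Ideal.Quotient.mk_surjective, ← RingHom.ker_eq_comap_bot,
        sup_eq_left.2 hker, hqp]
    have h1 : ringKrullDim (S ⧸ I) + 1 ≤ ringKrullDim S := by
      have : Nonempty (PrimeSpectrum.zeroLocus (R := S) I) :=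
        ⟨⟨⟨IsLocalRing.maximalIdeal S, (IsLocalRing.maximalIdeal.isMaximal S).isPrime⟩, hIm⟩⟩
      rw [ringKrullDim_quotient, Order.krullDim_eq_iSup_length, ringKrullDim,
        Order.krullDim_eq_iSup_length, ← WithBot.coe_one, ← WithBot.coe_add, ENat.iSup_add,
        WithBot.coe_le_coe, iSup_le_iff]
      intro l
      have hJh : J ≤ l.head.1.asIdeal := le_sup_left.trans l.head.2
      obtain ⟨m, hm, hmle⟩ := (l.head.1.2.inf_le').1 hJh
      have hmp : m.IsPrime := Ideal.minimalPrimes_isPrime (hM.mem_toFinset.1 hm).1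
      have hlt : (⟨m, hmp⟩ : PrimeSpectrum S) < l.head.1 := lt_of_le_of_ne hmle fun h => by
        refine ha m (hM.mem_toFinset.1 hm) ?_
        rw [show m = l.head.1.asIdeal from congrArg PrimeSpectrum.asIdeal h]
        exact l.head.2 (Ideal.mem_sup_right (Ideal.mem_span_singleton_self _))
      refine le_trans ?_ (le_iSup _ ((l.map Subtype.val (fun _ _ h => h)).cons ⟨m, hmp⟩ hlt))
      simp
    have h2 : (n : WithBot ℕ∞) ≤ ringKrullDim (R ⧸ Ideal.span {a}) := by
      have := Ideal.height_le_ringKrullDim_quotient_add_one (p := mR) ham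
      rw [IsLocalRing.maximalIdeal_height_eq_ringKrullDim] at this
      have h3 : ((n : WithBot ℕ∞)) + 1 ≤ ringKrullDim (R ⧸ Ideal.span {a}) + 1 :=
        le_trans (by simpa using hn) this
      revert h3
      cases ringKrullDim (R ⧸ Ideal.span {a}) with
      | bot => intro h3; simp at h3
      | coe d =>
        intro h3
        have h4 : (n : ℕ∞) + 1 ≤ d + 1 := WithBot.coe_le_coe.1 h3
        exact WithBot.coe_le_coe.2 ((ENat.add_le_add_iff_right ENat.one_ne_top).1 h4)
    refine le_trans ?_ h1
    push_cast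
    gcongr
    exact ih _ _ g hsurj' h2

/-- The height of `q` among the primes containing `m`. -/
noncomputable def relHeight {B : Type u} [CommRing B] (m q : PrimeSpectrum B) : ℕ∞ :=
  ⨆ (h : m ≤ q), Order.height (⟨q, h⟩ : Set.Ici m)

section
variable {B : Type u} [CommRing B]

theorem relHeight_eq {m q : PrimeSpectrum B} (h : m ≤ q) :
    relHeight m q = Order.height (⟨q, h⟩ : Set.Ici m) := by
  simp [relHeight, h]

theorem relHeight_le_height (m q : PrimeSpectrum B) : relHeight m q ≤ q.asIdeal.height := by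
  refine iSup_le fun h => ?_
  rw [PrimeSpectrum.height_eq_orderHeight]
  exact Order.height_le_height_apply_of_strictMono (Subtype.val : Set.Ici m → PrimeSpectrum B)
    (fun _ _ h => h) ⟨q, h⟩

theorem height_map_quotient {m q : PrimeSpectrum B} (h : m ≤ q) :
    (q.asIdeal.map (Ideal.Quotient.mk m.asIdeal)).height = relHeight m q := by
  let e : PrimeSpectrum (B ⧸ m.asIdeal) ≃o Set.Ici m :=
    (m.asIdeal.primeSpectrumQuotientOrderIsoZeroLocus).trans
      ⟨⟨fun x => ⟨x.1, x.2⟩, fun x => ⟨x.1, x.2⟩, fun _ => rfl, fun _ => rfl⟩, .rfl⟩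
  have hker : RingHom.ker (Ideal.Quotient.mk m.asIdeal) ≤ q.asIdeal := Ideal.mk_ker.le.trans h
  let qb : PrimeSpectrum (B ⧸ m.asIdeal) :=
    ⟨q.asIdeal.map (Ideal.Quotient.mk m.asIdeal),
      Ideal.map_isPrime_of_surjective Ideal.Quotient.mk_surjective hker⟩
  have he : e qb = ⟨q, h⟩ := by
    refine Subtype.ext (PrimeSpectrum.ext ?_)
    show (q.asIdeal.map (Ideal.Quotient.mk m.asIdeal)).comap (Ideal.Quotient.mk m.asIdeal) = _
    rw [Ideal.comap_map_of_surjective _ Ideal.Quotient.mk_surjective, ← RingHom.ker_eq_comap_bot]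
    exact sup_eq_left.2 hker
  rw [relHeight_eq h, ← he, Order.height_orderIso]
  exact PrimeSpectrum.height_eq_orderHeight qb

theorem relHeight_add_le_height {m q : PrimeSpectrum B} (h : m ≤ q) :
    m.asIdeal.height + relHeight m q ≤ q.asIdeal.height := by
  rw [relHeight_eq h, PrimeSpectrum.height_eq_orderHeight, PrimeSpectrum.height_eq_orderHeight]
  conv_lhs => rw [Order.height_eq_iSup_last_eq, Order.height_eq_iSup_last_eq]
  refine ENat.biSup_add_biSup_le' (p := fun l : LTSeries _ => RelSeries.last l = m)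
    (q := fun l : LTSeries _ => RelSeries.last l = (⟨q, h⟩ : Set.Ici m))
    ⟨RelSeries.singleton _ m, rfl⟩ ⟨RelSeries.singleton _ _, rfl⟩ fun l₁ h₁ l₂ h₂ => ?_
  let l₂' := l₂.map Subtype.val (fun _ _ h => h)
  by_cases hh : l₂'.head = m
  · refine le_trans (le_of_eq ?_)
      (Order.length_le_height (p := l₁.smash l₂' (h₁.trans hh.symm)) (le_of_eq ?_))
    · show (l₁.length : ℕ∞) + l₂.length = ((l₁.length + l₂.length : ℕ) : ℕ∞)
      push_cast; rfl
    · rw [RelSeries.last_smash]
      show (l₂.map Subtype.val _).last = q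
      rw [LTSeries.last_map, h₂]
  · have hlt : l₁.last < l₂'.head :=
      h₁ ▸ lt_of_le_of_ne l₂.head.2 (Ne.symm hh)
    refine le_trans ?_ (Order.length_le_height (p := l₁.append l₂' hlt) (le_of_eq ?_))
    · show (l₁.length : ℕ∞) + l₂.length ≤ ((l₁.length + l₂.length + 1 : ℕ) : ℕ∞)
      exact_mod_cast Nat.le_succ _
    · rw [RelSeries.last_append]
      show (l₂.map Subtype.val _).last = q
      rw [LTSeries.last_map, h₂]

theorem exists_minimal_relHeight_eq [IsNoetherianRing B] (q : PrimeSpectrum B) :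
    ∃ m : PrimeSpectrum B, m ≤ q ∧ IsMin m ∧ relHeight m q = q.asIdeal.height := by
  obtain ⟨l, hl, hlen⟩ := q.asIdeal.exists_ltSeries_length_eq_height
  have hmin : IsMin l.head := fun w hw => by
    by_contra hne
    have hlt : w < l.head := lt_of_le_not_ge hw hne
    have h1 : ((l.cons w hlt).length : ℕ∞) ≤ Order.height q := Order.length_le_height (by
      rw [RelSeries.last_cons]; exact hl.le)
    rw [← PrimeSpectrum.height_eq_orderHeight, ← hlen, RelSeries.cons_length] at h1
    have : l.length + 1 ≤ l.length := by exact_mod_cast h1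
    omega
  have hle : l.head ≤ q := l.head_le_last.trans hl.le
  refine ⟨l.head, hle, hmin, le_antisymm (relHeight_le_height _ _) ?_⟩
  rw [← hlen, relHeight_eq hle]
  let l' : LTSeries (Set.Ici l.head) :=
    ⟨l.length, fun i => ⟨l i, l.head_le i⟩, fun i => l.step i⟩
  exact Order.length_le_height (p := l') (x := ⟨q, hle⟩) hl.le

/-- The dimension of a quotient of `B_q` by a prime. -/
theorem ringKrullDim_quotient_localization (q : PrimeSpectrum B) (R : Type u) [CommRing R]
    [Algebra B R] [IsLocalization.AtPrime R q.asIdeal] (P : PrimeSpectrum R) :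
    ringKrullDim (R ⧸ P.asIdeal) =
      relHeight (PrimeSpectrum.comap (algebraMap B R) P) q := by
  let e := IsLocalization.AtPrime.primeSpectrumOrderIso R q.asIdeal
  let m := PrimeSpectrum.comap (algebraMap B R) P
  have hem : (e P).1 = m := rfl
  have hmq : m ≤ q := (e P).2
  rw [ringKrullDim_quotient, relHeight_eq hmq, Order.height_eq_krullDim_Iic]
  refine Order.krullDim_eq_of_orderIso ?_
  exact
    { toFun := fun a => ⟨⟨(e a.1).1, show (e P).1 ≤ (e a.1).1 from e.monotone a.2⟩, (e a.1).2⟩
      invFun := fun b => ⟨e.symm ⟨b.1.1, b.2⟩, show P ≤ e.symm ⟨b.1.1, b.2⟩ from e.le_symm_apply.2 b.1.2⟩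
      left_inv := fun a => Subtype.ext (e.symm_apply_apply a.1)
      right_inv := fun b => Subtype.ext (Subtype.ext
        (show (e (e.symm ⟨b.1.1, b.2⟩)).1 = b.1.1 by rw [e.apply_symm_apply]))
      map_rel_iff' := fun {a b} => e.le_iff_le }

/-- Equidimensionality of a local ring in terms of the heights relative to minimal primes. -/
theorem isEquidim_localization_iff (q : PrimeSpectrum B) (R : Type u) [CommRing R]
    [Algebra B R] [IsLocalization.AtPrime R q.asIdeal] :
    EGA4.IsEquidim R ↔ ∀ m : PrimeSpectrum B, IsMin m → m ≤ q → relHeight m q = q.asIdeal.height := by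
  let e := IsLocalization.AtPrime.primeSpectrumOrderIso R q.asIdeal
  have hdim : ringKrullDim R = q.asIdeal.height :=
    IsLocalization.AtPrime.ringKrullDim_eq_height q.asIdeal R
  constructor
  · intro h m hm hmq
    let P := e.symm ⟨m, hmq⟩
    have hP : IsMin P := fun w hw => by
      have h1 : (e w).1 ≤ m := Subtype.coe_le_coe.2 ((e.monotone hw).trans_eq (e.apply_symm_apply _))
      exact e.le_iff_le.1 ((e.apply_symm_apply _).trans_le (Subtype.coe_le_coe.1 (hm h1)))
    have := h P.asIdeal (PrimeSpectrum.isMin_iff.1 hP)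
    rw [ringKrullDim_quotient_localization q R P, hdim, WithBot.coe_inj] at this
    rw [← this]
    exact congrArg (fun x => relHeight x q) (congrArg Subtype.val (e.apply_symm_apply ⟨m, hmq⟩)).symm
  · intro h P hP
    have hPp : P.IsPrime := Ideal.minimalPrimes_isPrime hP
    let P' : PrimeSpectrum R := ⟨P, hPp⟩
    rw [show ringKrullDim (R ⧸ P) = ringKrullDim (R ⧸ P'.asIdeal) from rfl,
      ringKrullDim_quotient_localization q R P', hdim, WithBot.coe_inj]
    refine h _ (fun w hw => ?_) (e P').2
    have hwq : w ≤ q := hw.trans (e P').2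
    have h1 : e.symm ⟨w, hwq⟩ ≤ P' := by
      rw [← e.le_iff_le, e.apply_symm_apply]; exact hw
    have := e.monotone ((PrimeSpectrum.isMin_iff (x := P')).2 hP h1)
    rw [e.apply_symm_apply] at this
    exact this

end

/-- If all generizations lift, the height can only increase. -/
theorem height_under_le_height_of_lifts {A B : Type u} [CommRing A] [IsNoetherianRing A]
    [CommRing B] [IsNoetherianRing B] [Algebra A B] (q : Ideal B) [q.IsPrime]
    (h : ∀ p' : Ideal A, p'.IsPrime → p' ≤ q.under A →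
      ∃ q' : Ideal B, q'.IsPrime ∧ q' ≤ q ∧ q'.under A = p') :
    (q.under A).height ≤ q.height := by
  have h1 := ringKrullDim_le_of_forall_exists_comap_eq
    (Localization.localRingHom (q.under A) q (algebraMap A B) rfl) fun P hP => by
      have hdisj := ((IsLocalization.isPrime_iff_isPrime_disjoint (q.under A).primeCompl
        (Localization.AtPrime (q.under A)) P).1 hP)
      obtain ⟨q', hq', hq'le, hq'p⟩ := h (P.comap (algebraMap A _)) hdisj.1 fun x hx =>
        by_contra fun hx' => Set.disjoint_left.1 hdisj.2 hx' hx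
      have hd : Disjoint (q.primeCompl : Set B) q' :=
        Set.disjoint_left.2 fun x hx hx' => hx (hq'le hx')
      refine ⟨q'.map (algebraMap B (Localization.AtPrime q)),
        IsLocalization.isPrime_of_isPrime_disjoint q.primeCompl _ q' hq' hd, ?_⟩
      rw [← IsLocalization.map_under (q.under A).primeCompl (Localization.AtPrime (q.under A))
        ((q'.map (algebraMap B (Localization.AtPrime q))).comap _),
        ← IsLocalization.map_under (q.under A).primeCompl (Localization.AtPrime (q.under A)) P]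
      congr 1
      simp only [Ideal.under_def, Ideal.comap_comap]
      rw [show (Localization.localRingHom (q.under A) q (algebraMap A B) rfl).comp
        (algebraMap A (Localization.AtPrime (q.under A))) =
        (algebraMap B (Localization.AtPrime q)).comp (algebraMap A B) from
          RingHom.ext fun x => Localization.localRingHom_to_map _ _ _ rfl x, ← Ideal.comap_comap,
        show (q'.map (algebraMap B (Localization.AtPrime q))).comap (algebraMap B _) = q' from
          IsLocalization.under_map_of_isPrime_disjoint q.primeCompl _ hq' hd]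
      exact hq'p
  rw [IsLocalization.AtPrime.ringKrullDim_eq_height (q.under A),
    IsLocalization.AtPrime.ringKrullDim_eq_height q] at h1
  exact WithBot.coe_le_coe.1 h1

/-- Height formula inside a fibre. -/
theorem trdeg_le_relHeight_add_of_under_eq {A B : Type u} [CommRing A] [CommRing B] [Algebra A B]
    [Algebra.FiniteType A B] (p : Ideal A) [p.IsPrime] (m q : PrimeSpectrum B) (h : m ≤ q)
    [m.asIdeal.LiesOver p] [q.asIdeal.LiesOver p] :
    Algebra.trdeg (A ⧸ p) (B ⧸ m.asIdeal) ≤
      (relHeight m q : Cardinal.{u}) + Algebra.trdeg (A ⧸ p) (B ⧸ q.asIdeal) := by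
  let o := PrimeSpectrum.preimageOrderIsoFiber A B ⟨p, inferInstance⟩
  have hm : PrimeSpectrum.comap (algebraMap A B) m = ⟨p, inferInstance⟩ :=
    PrimeSpectrum.ext (Ideal.LiesOver.over (P := m.asIdeal) (p := p)).symm
  have hq : PrimeSpectrum.comap (algebraMap A B) q = ⟨p, inferInstance⟩ :=
    PrimeSpectrum.ext (Ideal.LiesOver.over (P := q.asIdeal) (p := p)).symm
  let M := o ⟨m, hm⟩
  let Q := o ⟨q, hq⟩
  have hMQ : M ≤ Q := o.le_iff_le.2 h
  have hMc : m.asIdeal = M.asIdeal.comap Algebra.TensorProduct.includeRight.toRingHom :=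
    congr($(o.symm_apply_apply ⟨m, hm⟩).1.asIdeal).symm
  have hQc : q.asIdeal = Q.asIdeal.comap Algebra.TensorProduct.includeRight.toRingHom :=
    congr($(o.symm_apply_apply ⟨q, hq⟩).1.asIdeal).symm
  let K := p.ResidueField
  have hker : RingHom.ker (Ideal.Quotient.mk M.asIdeal) ≤ Q.asIdeal := Ideal.mk_ker.le.trans hMQ
  have : (Q.asIdeal.map (Ideal.Quotient.mk M.asIdeal)).IsPrime :=
    Ideal.map_isPrime_of_surjective Ideal.Quotient.mk_surjective hker
  have key := height_add_trdeg_eq K (p.Fiber B ⧸ M.asIdeal)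
    (Q.asIdeal.map (Ideal.Quotient.mk M.asIdeal))
  rw [height_map_quotient hMQ, trdeg_fiber_quotient p M.asIdeal m.asIdeal hMc] at key
  rw [← key]
  gcongr
  · rw [relHeight_eq hMQ, relHeight_eq h]
    refine le_of_le_of_eq (Order.height_le_height_apply_of_strictMono
      (fun x : Set.Ici M => (⟨(o.symm x.1).1, ?_⟩ : Set.Ici m)) ?_ ⟨Q, hMQ⟩) ?_
    · have := o.symm.monotone (x.2 : M ≤ x.1)
      rw [o.symm_apply_apply] at this
      exact this
    · exact fun x y hxy => o.symm.strictMono hxy
    · refine congrArg Order.height (Subtype.ext ?_)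
      show (o.symm Q).1 = q
      rw [o.symm_apply_apply]
  · rw [← trdeg_fiber_quotient p Q.asIdeal q.asIdeal hQc]
    exact (DoubleQuot.quotQuotEquivQuotOfLEₐ K hMQ).trdeg_eq.le

/-- The dimension inequality relative to a prime. -/
theorem relHeight_add_trdeg_le {A B : Type u} [CommRing A] [IsNoetherianRing A] [CommRing B]
    [Algebra A B] [Algebra.FiniteType A B] (m q : PrimeSpectrum B) (h : m ≤ q) :
    (relHeight m q : Cardinal.{u}) + Algebra.trdeg (A ⧸ q.asIdeal.under A) (B ⧸ q.asIdeal) ≤
      (relHeight (PrimeSpectrum.comap (algebraMap A B) m) (PrimeSpectrum.comap (algebraMap A B) q) :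
        Cardinal.{u}) + Algebra.trdeg (A ⧸ m.asIdeal.under A) (B ⧸ m.asIdeal) := by
  let p₀ : Ideal A := m.asIdeal.under A
  let mB : B →+* B ⧸ m.asIdeal := Ideal.Quotient.mk m.asIdeal
  have hker : RingHom.ker mB ≤ q.asIdeal := Ideal.mk_ker.le.trans h
  have hqb : (q.asIdeal.map mB).IsPrime :=
    Ideal.map_isPrime_of_surjective Ideal.Quotient.mk_surjective hker
  have hle0 : p₀ ≤ q.asIdeal.under A := Ideal.comap_mono h
  have hpb : (q.asIdeal.map mB).under (A ⧸ p₀) = (q.asIdeal.under A).map (Ideal.Quotient.mk p₀) := by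
    refine Ideal.comap_injective_of_surjective (Ideal.Quotient.mk p₀) Ideal.Quotient.mk_surjective ?_
    rw [Ideal.comap_map_of_surjective _ Ideal.Quotient.mk_surjective, ← RingHom.ker_eq_comap_bot,
      Ideal.mk_ker, sup_eq_left.2 hle0, Ideal.under_def, Ideal.comap_comap,
      show (algebraMap (A ⧸ p₀) (B ⧸ m.asIdeal)).comp (Ideal.Quotient.mk p₀) =
        mB.comp (algebraMap A B) from rfl,
      ← Ideal.comap_comap, Ideal.comap_map_of_surjective _ Ideal.Quotient.mk_surjective,
      ← RingHom.ker_eq_comap_bot, sup_eq_left.2 hker]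
  have : FaithfulSMul (A ⧸ p₀) (B ⧸ m.asIdeal) :=
    (faithfulSMul_iff_algebraMap_injective _ _).2 Ideal.algebraMap_quotient_injective
  have : Algebra.FiniteType A (B ⧸ m.asIdeal) :=
    Algebra.FiniteType.of_surjective (Ideal.Quotient.mkₐ A m.asIdeal) Ideal.Quotient.mk_surjective
  have : Algebra.FiniteType (A ⧸ p₀) (B ⧸ m.asIdeal) := .of_restrictScalars_finiteType A _ _
  have key := height_add_trdeg_le (A ⧸ p₀) (B ⧸ m.asIdeal) ((q.asIdeal.map mB).under (A ⧸ p₀))
    (q.asIdeal.map mB)
  have htr : Algebra.trdeg (A ⧸ q.asIdeal.under A) (B ⧸ q.asIdeal) =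
      Algebra.trdeg ((A ⧸ p₀) ⧸ (q.asIdeal.map mB).under (A ⧸ p₀))
        ((B ⧸ m.asIdeal) ⧸ q.asIdeal.map mB) := by
    refine (trdeg_eq_of_ringEquiv ((Ideal.quotEquivOfEq hpb).trans
      (DoubleQuot.quotQuotEquivQuotOfLE hle0)) (DoubleQuot.quotQuotEquivQuotOfLE h) ?_).symm
    exact Ideal.Quotient.ringHom_ext (Ideal.Quotient.ringHom_ext (RingHom.ext fun a => rfl))
  rw [htr, ← height_map_quotient h, ← height_map_quotient (B := A)
    (m := PrimeSpectrum.comap (algebraMap A B) m) (q := PrimeSpectrum.comap (algebraMap A B) q) hle0]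
  refine key.trans (le_of_eq ?_)
  rw [hpb]
  rfl

end Groth.Agent.E4O
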