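import Groth.Agent.E4O.StalkDim
import Mathlib.RingTheory.Ideal.KrullsHeightTheorem
import Mathlib.RingTheory.Ideal.Over

/-!
Dimensions attached to an irreducible closed subset through a point (EGA IV 13.2.7).
-/

universe u

open CategoryTheory AlgebraicGeometry TopologicalSpace Topology

namespace Groth.Agent.E4O

/-- The dimension inequality for `A/p₀ → B/m` with fibre read in `Spec B`. -/
theorem relHeight_le_add_fibre {A B : Type u} [CommRing A] [CommRing B] [Algebra A B]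
    [IsNoetherianRing A] [IsNoetherianRing B] (m q : PrimeSpectrum B) (h : m ≤ q) :
    relHeight m q ≤
      relHeight (PrimeSpectrum.comap (algebraMap A B) m) (PrimeSpectrum.comap (algebraMap A B) q) +
      Order.height (⟨q, h, rfl⟩ : {r : PrimeSpectrum B | m ≤ r ∧
        PrimeSpectrum.comap (algebraMap A B) r = PrimeSpectrum.comap (algebraMap A B) q}) := by
  set p₀ := PrimeSpectrum.comap (algebraMap A B) m
  set p := PrimeSpectrum.comap (algebraMap A B) q
  have hp : p₀ ≤ p := Ideal.comap_mono h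
  have : m.asIdeal.LiesOver p₀.asIdeal := ⟨rfl⟩
  let A' := A ⧸ p₀.asIdeal
  let B' := B ⧸ m.asIdeal
  have hkq : RingHom.ker (Ideal.Quotient.mk m.asIdeal) ≤ q.asIdeal := Ideal.mk_ker.le.trans h
  have hkp : RingHom.ker (Ideal.Quotient.mk p₀.asIdeal) ≤ p.asIdeal := Ideal.mk_ker.le.trans hp
  let P : Ideal B' := q.asIdeal.map (Ideal.Quotient.mk m.asIdeal)
  let p' : Ideal A' := p.asIdeal.map (Ideal.Quotient.mk p₀.asIdeal)
  have : P.IsPrime := Ideal.map_isPrime_of_surjective Ideal.Quotient.mk_surjective hkq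
  have : p'.IsPrime := Ideal.map_isPrime_of_surjective Ideal.Quotient.mk_surjective hkp
  have hPc : P.comap (Ideal.Quotient.mk m.asIdeal) = q.asIdeal := by
    rw [Ideal.comap_map_of_surjective _ Ideal.Quotient.mk_surjective, ← RingHom.ker_eq_comap_bot]
    exact sup_eq_left.2 hkq
  have : P.LiesOver p' := ⟨by
    apply Ideal.comap_injective_of_surjective _ (Ideal.Quotient.mk_surjective (I := p₀.asIdeal))
    rw [Ideal.under_def, Ideal.comap_comap]
    show _ = Ideal.comap ((Ideal.Quotient.mk m.asIdeal).comp (algebraMap A B)) P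
    rw [← Ideal.comap_comap, hPc, Ideal.comap_map_of_surjective _ Ideal.Quotient.mk_surjective,
      ← RingHom.ker_eq_comap_bot]
    exact sup_eq_left.2 hkp⟩
  have hb := Ideal.height_le_height_add_of_liesOver p' P
  rw [height_map_quotient h, height_map_quotient hp] at hb
  refine hb.trans (add_le_add le_rfl ?_)
  let P₁ : PrimeSpectrum B' := ⟨P, inferInstance⟩
  have hI : p'.map (algebraMap A' B') ≤ P₁.asIdeal :=
    Ideal.map_le_iff_le_comap.2 (Ideal.LiesOver.over (P := P) (p := p')).le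
  rw [height_map_quotient' (p'.map (algebraMap A' B')) P₁ hI]
  let T : Set (PrimeSpectrum B') := {r | p'.map (algebraMap A' B') ≤ r.asIdeal ∧ r ≤ P₁}
  have h1 : Order.height (⟨P₁, hI, le_rfl⟩ : T) = Order.height
      (⟨P₁, hI⟩ : {r : PrimeSpectrum B' | p'.map (algebraMap A' B') ≤ r.asIdeal}) :=
    Order.height_eq_of_strictMono
      (fun r : T => (⟨r.1, r.2.1⟩ : {r : PrimeSpectrum B' | p'.map (algebraMap A' B') ≤ r.asIdeal}))
      (fun _ _ hlt => hlt) (fun a b hb => ⟨⟨b.1, b.2, le_trans hb.le a.2.2⟩, hb, rfl⟩) _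
  rw [← h1]
  let ψ : T → {r : PrimeSpectrum B | m ≤ r ∧
      PrimeSpectrum.comap (algebraMap A B) r = p} := fun r =>
    ⟨PrimeSpectrum.comap (Ideal.Quotient.mk m.asIdeal) r.1, fun a ha => by
      show Ideal.Quotient.mk m.asIdeal a ∈ r.1.asIdeal
      rw [Ideal.Quotient.eq_zero_iff_mem.2 ha]
      exact r.1.asIdeal.zero_mem, by
      refine PrimeSpectrum.ext (le_antisymm ?_ ?_)
      · refine Ideal.comap_mono (f := algebraMap A B) ?_
        exact (Ideal.comap_mono (f := Ideal.Quotient.mk m.asIdeal) r.2.2).trans hPc.le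
      · intro a ha
        exact r.2.1 (Ideal.mem_map_of_mem (algebraMap A' B') (Ideal.mem_map_of_mem _ ha))⟩
  have hψ : ψ ⟨P₁, hI, le_rfl⟩ = ⟨q, h, rfl⟩ := Subtype.ext (PrimeSpectrum.ext hPc)
  rw [← hψ]
  refine Order.height_le_height_apply_of_strictMono ψ (fun a b hlt => ?_) _
  refine lt_of_le_of_ne (Ideal.comap_mono (f := Ideal.Quotient.mk m.asIdeal) hlt.le) fun he => ?_
  refine hlt.ne (Subtype.ext ?_)
  exact PrimeSpectrum.comap_injective_of_surjective _ Ideal.Quotient.mk_surjective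
    (congrArg Subtype.val he)

variable {X Y W W' : Scheme.{u}}

/-- The numbers attached to an irreducible closed subset through `x`: `a, b, a', b', bk, bk'` are
the dimensions of the local rings of `Y`, `X`, the closure of the image, the subset, and the two
fibres; `D, D'` the local fibre dimensions, `d` the residual degree and `e'` the dimension of the
generic fibre. -/
theorem exists_dim_data [IsLocallyNoetherian Y] (f : X ⟶ Y) [LocallyOfFiniteType f]
    (ι : W ⟶ X) [IsClosedImmersion ι] (κ : W' ⟶ Y) [IsClosedImmersion κ] {ξ x : X} {η' : Y}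
    (hι : Set.range ι = closure {ξ}) (hκ : Set.range κ = closure {η'}) (hξη : f ξ = η')
    (w : W) (hw : ι w = x) (v : W') (hv : κ v = f x) :
    ∃ a b a' b' bk bk' D D' d e' : ℕ,
      ringKrullDim (Y.presheaf.stalk (f x)) = a ∧ ringKrullDim (X.presheaf.stalk x) = b ∧
      ringKrullDim (W'.presheaf.stalk v) = a' ∧ ringKrullDim (W.presheaf.stalk w) = b' ∧
      ringKrullDim ((f.fiber (f x)).presheaf.stalk (f.asFiber x)) = bk ∧
      ringKrullDim (((ι ≫ f).fiber ((ι ≫ f) w)).presheaf.stalk ((ι ≫ f).asFiber w)) = bk' ∧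
      FlatMor.fibreDimAt f x = D ∧ FlatMor.fibreDimAt (ι ≫ f) w = D' ∧
      topologicalKrullDim ↥(closure {ξ} ∩ f ⁻¹' {η'}) = e' ∧
      a' ≤ a ∧ b' ≤ b ∧ bk' ≤ bk ∧ b' ≤ a' + bk' ∧ bk + d = D ∧ bk' + d = D' ∧
      b' + d ≤ a' + e' ∧ e' ≤ D' := by
  obtain ⟨C, ⟨q, rfl⟩, hC⟩ := exists_chart f x
  have := hC ‹_›
  have : IsNoetherianRing C.B := Algebra.FiniteType.isNoetherianRing C.A _
  have hξx : ξ ⤳ C.pt q := specializes_iff_mem_closure.2 (hι.le ⟨w, hw⟩)
  obtain ⟨m, rfl⟩ := hξx.mem_open C.isOpenEmbedding_pt.isOpen_range ⟨q, rfl⟩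
  have hmq : m ≤ q := (C.specializes_iff _ _).1 hξx
  subst hξη
  set p := PrimeSpectrum.comap (algebraMap C.A C.B) q
  set p₀ := PrimeSpectrum.comap (algebraMap C.A C.B) m
  have hp : p₀ ≤ p := Ideal.comap_mono hmq
  have hfx : f (C.pt q) = C.ptY p := C.apply q
  have hfξ : f (C.pt m) = C.ptY p₀ := C.apply m
  -- the six local dimensions
  have ha := C.ringKrullDim_stalkY p
  rw [← hfx] at ha
  have hb := C.ringKrullDim_stalk q
  have hb' : ringKrullDim (W.presheaf.stalk w) = relHeight m q := by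
    rw [ringKrullDim_stalk_eq_height_subtype C.pt C.isOpenEmbedding_pt ι
      ι.isClosedEmbedding.isEmbedding w q hw.symm (Set.Ici m) (fun r _ => by
        rw [hι, ← specializes_iff_mem_closure, C.specializes_iff]; rfl) hmq, relHeight_eq hmq]
  have ha' : ringKrullDim (W'.presheaf.stalk v) = relHeight p₀ p := by
    rw [ringKrullDim_stalk_eq_height_subtype C.ptY C.isOpenEmbedding_ptY κ
      κ.isClosedEmbedding.isEmbedding v p (hfx.symm.trans hv.symm) (Set.Ici p₀) (fun r _ => by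
        rw [hκ, hfξ, ← specializes_iff_mem_closure, C.specializesY_iff]; rfl) hp, relHeight_eq hp]
  let S : Set (PrimeSpectrum C.B) := {r | PrimeSpectrum.comap (algebraMap C.A C.B) r = p}
  let S' : Set (PrimeSpectrum C.B) := {r | m ≤ r ∧ PrimeSpectrum.comap (algebraMap C.A C.B) r = p}
  have hbk : ringKrullDim ((f.fiber (f (C.pt q))).presheaf.stalk (f.asFiber (C.pt q))) =
      Order.height (⟨q, rfl⟩ : S) :=
    ringKrullDim_stalk_eq_height_subtype C.pt C.isOpenEmbedding_pt _ (isEmbedding_fiberι f _) _ q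
      (f.fiberι_fiberHomeo_symm (f (C.pt q)) ⟨C.pt q, rfl⟩).symm S (fun r _ => by
        rw [Scheme.Hom.range_fiberι, Set.mem_preimage, Set.mem_singleton_iff, hfx, C.apply]
        exact C.isOpenEmbedding_ptY.injective.eq_iff.symm) rfl
  have hbk' : ringKrullDim (((ι ≫ f).fiber ((ι ≫ f) w)).presheaf.stalk ((ι ≫ f).asFiber w)) =
      Order.height (⟨q, hmq, rfl⟩ : S') :=
    ringKrullDim_stalk_eq_height_subtype C.pt C.isOpenEmbedding_pt ((ι ≫ f).fiberι _ ≫ ι)
      (ι.isClosedEmbedding.isEmbedding.comp (isEmbedding_fiberι (ι ≫ f) _)) _ q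
      (by
        rw [Scheme.Hom.comp_apply]
        exact hw.symm.trans (congrArg ι
          ((ι ≫ f).fiberι_fiberHomeo_symm ((ι ≫ f) w) ⟨w, rfl⟩).symm)) S' (fun r _ => by
        constructor
        · rintro ⟨hmr, hr⟩
          obtain ⟨u, hu⟩ : C.pt r ∈ Set.range ι :=
            hι.ge (specializes_iff_mem_closure.1 ((C.specializes_iff _ _).2 hmr))
          obtain ⟨z, hz⟩ := exists_fiberι_eq (ι ≫ f) (x := u) (y := (ι ≫ f) w) (by
            rw [Scheme.Hom.comp_apply, Scheme.Hom.comp_apply, hu, hw, C.apply, hr, ← hfx])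
          exact ⟨z, by rw [Scheme.Hom.comp_apply, hz, hu]⟩
        · rintro ⟨z, hz⟩
          rw [Scheme.Hom.comp_apply] at hz
          refine ⟨(C.specializes_iff _ _).1 (specializes_iff_mem_closure.2 (hι.le ⟨_, hz⟩)), ?_⟩
          refine C.isOpenEmbedding_ptY.injective ?_
          rw [← C.apply, ← hz, ← Scheme.Hom.comp_apply, apply_fiberι, Scheme.Hom.comp_apply, hw, hfx])
      ⟨hmq, rfl⟩
  -- fibre dimensions
  obtain ⟨z, hz, hfz, hzd, hzmax, -⟩ := exists_fibreDimAt_eq f (C.pt q)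
  obtain ⟨t, rfl⟩ := hz.mem_open C.isOpenEmbedding_pt.isOpen_range ⟨q, rfl⟩
  obtain ⟨z', hz', hfz', hzd', hzmax', -⟩ := exists_fibreDimAt_eq (ι ≫ f) w
  have hz'q : ι z' ⤳ C.pt q := hw ▸ hz'.map ι.continuous
  obtain ⟨t', ht'⟩ := hz'q.mem_open C.isOpenEmbedding_pt.isOpen_range ⟨q, rfl⟩
  rw [← ht', C.specializes_iff] at hz'q
  have hfz'' : PrimeSpectrum.comap (algebraMap C.A C.B) t' = p := by
    refine C.isOpenEmbedding_ptY.injective ?_
    rw [← C.apply, ht', ← hfx, ← hw]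
    exact hfz'
  have hft : PrimeSpectrum.comap (algebraMap C.A C.B) t = p :=
    C.isOpenEmbedding_ptY.injective (by rw [← C.apply, ← hfx]; exact hfz)
  have hmt' : m ≤ t' := (C.specializes_iff _ _).1
    (specializes_iff_mem_closure.2 (hι.le ⟨z', ht'.symm⟩))
  have hD : ∀ r ∈ S, r ≤ q → fdeg f (C.pt r) ≤ fdeg f (C.pt t) := fun r hr hrq =>
    hzmax _ ((C.specializes_iff _ _).2 hrq) (by rw [C.apply, hr, ← hfx])
  have hD' : ∀ r ∈ S', r ≤ q → fdeg f (C.pt r) ≤ fdeg f (ι z') := fun r hr hrq => by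
    obtain ⟨u, hu⟩ : C.pt r ∈ Set.range ι :=
      hι.ge (specializes_iff_mem_closure.1 ((C.specializes_iff _ _).2 hr.1))
    have := hzmax' u (ι.isClosedEmbedding.isInducing.specializes_iff.1
      (by rw [hu, hw]; exact (C.specializes_iff _ _).2 hrq))
      (by rw [Scheme.Hom.comp_apply, Scheme.Hom.comp_apply, hu, hw, C.apply, hr.2, ← hfx])
    rwa [fdeg_comp_closedImmersion, fdeg_comp_closedImmersion, hu] at this
  have hk1 := C.height_fibre_add_fdeg_le q S (fun r hr => hr) rfl hD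
  have hk1' := C.height_fibre_add_fdeg_le q S' (fun r hr => hr.2) ⟨hmq, rfl⟩ hD'
  have htq : t ≤ q := (C.specializes_iff _ _).1 hz
  have hk2 : (fdeg f (C.pt t) : ℕ∞) ≤ Order.height (⟨q, rfl⟩ : S) + fdeg f (C.pt q) := by
    refine (C.fdeg_le_relHeight_add t q htq hft).trans (add_le_add ?_ le_rfl)
    rw [relHeight_eq htq]
    refine le_trans (le_of_eq ?_) (Order.height_le_height_apply_of_strictMono
      (fun r : {r : Set.Ici t | r.1 ≤ q} => (⟨r.1.1, PrimeSpectrum.ext (le_antisymm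
        (Ideal.comap_mono r.2) ((congrArg PrimeSpectrum.asIdeal hft).ge.trans
          (Ideal.comap_mono r.1.2)))⟩ : S)) (fun _ _ h => h) ⟨⟨q, htq⟩, le_refl q⟩)
    exact (Order.height_eq_of_strictMono (fun r : {r : Set.Ici t | r.1 ≤ q} => r.1)
      (fun _ _ h => h) (fun a b hb => ⟨⟨b, (le_trans (le_of_lt hb) a.2 : b.1 ≤ q)⟩, hb, rfl⟩)
      ⟨⟨q, htq⟩, le_refl q⟩).symm
  have hk2' : (fdeg f (ι z') : ℕ∞) ≤ Order.height (⟨q, hmq, rfl⟩ : S') + fdeg f (C.pt q) := by
    rw [← ht']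
    refine (C.fdeg_le_relHeight_add t' q hz'q hfz'').trans (add_le_add ?_ le_rfl)
    rw [relHeight_eq hz'q]
    refine le_trans (le_of_eq ?_) (Order.height_le_height_apply_of_strictMono
      (fun r : {r : Set.Ici t' | r.1 ≤ q} => (⟨r.1.1, hmt'.trans r.1.2, PrimeSpectrum.ext
        (le_antisymm (Ideal.comap_mono r.2) ((congrArg PrimeSpectrum.asIdeal hfz'').ge.trans
          (Ideal.comap_mono r.1.2)))⟩ : S')) (fun _ _ h => h) ⟨⟨q, hz'q⟩, le_refl q⟩)
    exact (Order.height_eq_of_strictMono (fun r : {r : Set.Ici t' | r.1 ≤ q} => r.1)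
      (fun _ _ h => h) (fun a b hb => ⟨⟨b, (le_trans (le_of_lt hb) a.2 : b.1 ≤ q)⟩, hb, rfl⟩)
      ⟨⟨q, hz'q⟩, le_refl q⟩).symm
  have hdim := C.relHeight_add_fdeg_le m q hmq
  have hsum := relHeight_le_add_fibre (A := C.A) m q hmq
  have hgen : fdeg f (C.pt m) ≤ fdeg f (ι z') := by
    obtain ⟨u, hu⟩ : C.pt m ∈ Set.range ι := hι.ge (subset_closure rfl)
    have h1 := fdeg_le_fibreDimAt_of_specializes (f := ι ≫ f) (ξ := u) (x := w)
      (ι.isClosedEmbedding.isInducing.specializes_iff.1 (by rw [hu, hw]; exact hξx))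
    rw [hzd', fdeg_comp_closedImmersion, fdeg_comp_closedImmersion, hu] at h1
    exact_mod_cast h1
  have hbkk : Order.height (⟨q, hmq, rfl⟩ : S') ≤ Order.height (⟨q, rfl⟩ : S) :=
    height_mono_subset (S := S') (T := S) (fun r hr => hr.2) q ⟨hmq, rfl⟩
  have haa : relHeight p₀ p ≤ p.asIdeal.height := relHeight_le_height _ _
  have hbb : relHeight m q ≤ q.asIdeal.height := relHeight_le_height _ _
  -- pass to natural numbers
  obtain ⟨a, hA⟩ := ENat.ne_top_iff_exists.1 (Ideal.height_ne_top (I := p.asIdeal) p.2.ne_top)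
  obtain ⟨b, hB⟩ := ENat.ne_top_iff_exists.1 (Ideal.height_ne_top (I := q.asIdeal) q.2.ne_top)
  rw [← hA] at haa ha
  rw [← hB] at hbb hb
  obtain ⟨a', hA'⟩ := ENat.ne_top_iff_exists.1 (ne_top_of_le_ne_top (ENat.natCast_ne_top a) haa)
  obtain ⟨b', hB'⟩ := ENat.ne_top_iff_exists.1 (ne_top_of_le_ne_top (ENat.natCast_ne_top b) hbb)
  obtain ⟨k, hK⟩ := ENat.ne_top_iff_exists.1
    (ne_top_of_le_ne_top (ENat.natCast_ne_top _) (le_self_add.trans hk1))
  obtain ⟨k', hK'⟩ := ENat.ne_top_iff_exists.1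
    (ne_top_of_le_ne_top (ENat.natCast_ne_top _) (le_self_add.trans hk1'))
  rw [← hA'] at haa hdim hsum ha'
  rw [← hB'] at hbb hdim hsum hb'
  rw [← hK] at hk1 hk2 hbkk hbk
  rw [← hK'] at hk1' hk2' hbkk hsum hbk'
  norm_cast at haa hbb hdim hsum hbkk hk1 hk2 hk1' hk2'
  refine ⟨a, b, a', b', k, k', fdeg f (C.pt t), fdeg f (ι z'), fdeg f (C.pt q), fdeg f (C.pt m),
    ha, hb, ha', hb', hbk, hbk', hzd, ?_, dim_fibreClosure _, haa, hbb, hbkk, hsum,
    le_antisymm hk1 hk2, le_antisymm hk1' hk2', hdim, hgen⟩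
  rw [hzd', fdeg_comp_closedImmersion]

end Groth.Agent.E4O
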