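import Groth.Agent.Fib62.InjCokerMain
import Groth.Agent.Fib62.InjCokerScheme
import Groth.Agent.ValVan29.Coherent
import Groth.Agent.WE24.TorDim
import Groth.Agent.FlatStage64.Syzygy

/-!
The kernel of a surjection onto a finitely presented module flat over the base is finitely presented.
-/

set_option autoImplicit false
universe u

open TensorProduct CategoryTheory CategoryTheory.Limits AlgebraicGeometry Opposite TopologicalSpace

namespace Groth.Agent.E4O

variable {A C : Type u} [CommRing A] [CommRing C] [Algebra A C] {N M : Type u} [AddCommGroup N]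
  [Module C N] [AddCommGroup M] [Module C M] [Module A M] [IsScalarTower A C M]
  [Algebra.FinitePresentation A C] [Module.FinitePresentation C N] [Module.FinitePresentation C M]

/-- EGA IV 11.3.9.1, ring form. -/
theorem finitePresentation_ker [Module.Flat A M] (u : N →ₗ[C] M)
    (hflat : Module.Flat A (M ⧸ LinearMap.range u)) : Module.FinitePresentation C (LinearMap.ker u) := by
  obtain ⟨D, C₁, _, _, _, _, _, _, _, _, hpo, N₁, M₁, _, _, _, _, _, _, _, _, u₁, eN, eM, hN, hft, hfinN,
    hfinM, hcomm, hM₁, hQ⟩ := Fib62.exists_map_model (A := A) u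
  have : IsNoetherianRing C₁ := Algebra.FiniteType.isNoetherianRing D C₁
  have hQ₁ := hQ hflat
  have : Module.Flat D M₁ := hM₁ inferInstance
  let R₁ := LinearMap.range u₁
  have : Module.Flat D (M₁ ⧸ R₁) := hQ₁
  have : Module.Flat D R₁ := by
    have h1 := WE24.flat_ker (R₁.mkQ.restrictScalars D) R₁.mkQ_surjective
    let e : LinearMap.ker (R₁.mkQ.restrictScalars D) ≃ₗ[D] R₁ :=
      { toFun := fun x => ⟨x.1, (Submodule.Quotient.mk_eq_zero R₁).1 x.2⟩
        map_add' := fun _ _ => rfl
        map_smul' := fun _ _ => rfl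
        invFun := fun x => ⟨x.1, (Submodule.Quotient.mk_eq_zero R₁).2 x.2⟩
        left_inv := fun _ => rfl
        right_inv := fun _ => rfl }
    exact Module.Flat.of_linearEquiv e.symm
  have hinj : Function.Injective ((LinearMap.ker u₁).subtype.baseChange C) :=
    FlatStage64.lTensor_injective_pushout D A C₁ C (LinearMap.ker u₁).subtype u₁.rangeRestrict
      Subtype.val_injective u₁.surjective_rangeRestrict (by
        intro x
        rw [← LinearMap.mem_ker, LinearMap.ker_rangeRestrict]
        exact ⟨fun h => ⟨⟨x, h⟩, rfl⟩, fun ⟨y, hy⟩ => hy ▸ y.2⟩)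
  let φ : C ⊗[C₁] LinearMap.ker u₁ →ₗ[C] N := eN.toLinearMap ∘ₗ (LinearMap.ker u₁).subtype.baseChange C
  have hφ : Function.Injective φ := eN.injective.comp hinj
  have hker : LinearMap.ker u = LinearMap.range φ := by
    apply le_antisymm
    · intro x hx
      obtain ⟨z, rfl⟩ := eN.surjective x
      have hz : z ∈ LinearMap.ker (u₁.baseChange C) := eM.injective (by
        rw [hcomm, map_zero]; exact hx)
      obtain ⟨w, hw⟩ := Fib62.ker_baseChange_le (D := D) (A := A) (C := C) u₁ hQ₁ hz
      exact ⟨w, by simp [φ, hw]⟩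
    · rintro _ ⟨w, rfl⟩
      show u (eN _) = 0
      rw [← hcomm]
      have : (u₁.baseChange C) ((LinearMap.ker u₁).subtype.baseChange C w) = 0 := by
        induction w using TensorProduct.induction_on with
        | zero => simp
        | add a b ha hb => simp only [map_add, ha, hb, add_zero]
        | tmul a b => simp [LinearMap.mem_ker.mp b.2]
      rw [this, map_zero]
  have := Module.finitePresentation_of_finite C₁ (LinearMap.ker u₁)
  exact Module.FinitePresentation.of_equiv
    ((LinearEquiv.ofInjective φ hφ).trans (LinearEquiv.ofEq _ _ hker.symm))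

/-- EGA IV 11.3.9.1. -/
theorem isFP_kernel_of_epi {X Y : Scheme.{u}} (f : X ⟶ Y) [LocallyOfFinitePresentation f]
    (G H : X.Modules) [Coh.IsQCoh G] [Coh.IsQCoh H] (hG : CohB1.IsFP G) (hH : CohB1.IsFP H)
    (hflat : FlatMod.IsFlatOver f H) (p : G ⟶ H) [Epi p] : CohB1.IsFP (kernel p) := by
  haveI : G.IsQuasicoherent := ‹Coh.IsQCoh G›
  haveI : H.IsQuasicoherent := ‹Coh.IsQCoh H›
  haveI : (kernel p).IsQuasicoherent := QC70.isQuasicoherent_kernel p
  have key : ∀ x : X, ∃ (V : Y.Opens) (U : X.Opens), IsAffineOpen V ∧ IsAffineOpen U ∧ x ∈ U ∧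
      U ≤ f ⁻¹ᵁ V := fun x => by
    obtain ⟨_, ⟨V, hV, rfl⟩, hxV, -⟩ :=
      Y.isBasis_affineOpens.exists_subset_of_mem_open (Set.mem_univ (f x)) isOpen_univ
    obtain ⟨_, ⟨U, hU, rfl⟩, hxU, e⟩ :=
      X.isBasis_affineOpens.exists_subset_of_mem_open hxV (V.2.preimage f.continuous)
    exact ⟨V, U, hV, hU, hxU, e⟩
  choose V U hV hU hxU e using key
  refine Props58.LocFree.isFP_of_sections (kernel p) U (IsOpenCover.mk
    (eq_top_iff.2 fun x _ => Opens.mem_iSup.2 ⟨x, hxU x⟩)) hU fun x => ?_
  have hGU := Props58.LocFree.finitePresentation_sections G (hM := hG) (hU x)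
  have hHU := Props58.LocFree.finitePresentation_sections H (hM := hH) (hU x)
  letI : Algebra Γ(Y, V x) Γ(X, U x) := (f.appLE (V x) (U x) (e x)).hom.toAlgebra
  letI : Module Γ(Y, V x) Γ(H, U x) := Module.compHom _ (f.appLE (V x) (U x) (e x)).hom
  haveI : IsScalarTower Γ(Y, V x) Γ(X, U x) Γ(H, U x) := IsScalarTower.of_algebraMap_smul fun _ _ => rfl
  have : Algebra.FinitePresentation Γ(Y, V x) Γ(X, U x) := f.finitePresentation_appLE (hV x) (hU x) (e x)
  have hM : Module.Flat Γ(Y, V x) Γ(H, U x) := by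
    refine Module.flat_of_isLocalized_maximal Γ(X, U x) Γ(H, U x)
      (fun P => LocalizedModule P.primeCompl Γ(H, U x))
      (fun P => LocalizedModule.mkLinearMap P.primeCompl Γ(H, U x)) fun P _ => ?_
    let z := (hU x).fromSpec (⟨P, inferInstance⟩ : PrimeSpectrum Γ(X, U x))
    have hz : z ∈ U x := (hU x).range_fromSpec.le ⟨_, rfl⟩
    have hP : ((hU x).primeIdealOf ⟨z, hz⟩).asIdeal = P := congrArg PrimeSpectrum.asIdeal
      ((hU x).fromSpec.isOpenEmbedding.injective ((hU x).fromSpec_primeIdealOf ⟨z, hz⟩))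
    have h1 := (Open62.isFlatOverAt_iff_localized f (e x) (hU x) (hV x)
      (QC70.isLocAt_of_isQuasicoherent H (hU x)) hz).1 (hflat z)
    convert h1 using 3 <;> rw [hP]
  let S : ShortComplex X.Modules := ShortComplex.mk (kernel.ι p) p (kernel.condition p)
  have hS : S.ShortExact :=
    { exact := ShortComplex.exact_of_f_is_kernel _ (kernelIsKernel p)
      mono_f := inferInstanceAs (Mono (kernel.ι p))
      epi_g := inferInstanceAs (Epi p) }
  haveI : S.X₁.IsQuasicoherent := ‹(kernel p).IsQuasicoherent›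
  let ψ := ValVan29.appL p (U x)
  have hψ : Function.Surjective ψ := QC70.app_surjective_of_isAffineOpen S hS (hU x)
  have : Module.Flat Γ(Y, V x) (Γ(H, U x) ⧸ LinearMap.range ψ) := by
    rw [LinearMap.range_eq_top.2 hψ]
    have : Subsingleton (Γ(H, U x) ⧸ (⊤ : Submodule Γ(X, U x) Γ(H, U x))) :=
      Submodule.Quotient.subsingleton_iff.2 rfl
    infer_instance
  have := finitePresentation_ker (A := Γ(Y, V x)) ψ this
  let i : Γ(kernel p, U x) →ₗ[Γ(X, U x)] LinearMap.ker ψ :=
    (ValVan29.appL (kernel.ι p) (U x)).codRestrict _ fun s => QC70.app_f_g S (U x) s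
  have hi : Function.Bijective i :=
    ⟨fun a b h => QC70.app_injective_of_mono (kernel.ι p) _ (congrArg Subtype.val h),
      fun ⟨y, hy⟩ => by
        obtain ⟨s, hs⟩ := QC70.exists_app_eq_of_exact S hS.exact (U x) y hy
        exact ⟨s, Subtype.ext hs⟩⟩
  exact Module.FinitePresentation.of_equiv (LinearEquiv.ofBijective i hi).symm

end Groth.Agent.E4O
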