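import Groth.Agent.LimTop61.PullBC
import Groth.Agent.QC70.Loc
import Mathlib.AlgebraicGeometry.Morphisms.Flat

/-!
EGA IV 11.9: separating families of homomorphisms of quasi-coherent modules, affine reductions.
-/

set_option autoImplicit false
set_option backward.isDefEq.respectTransparency.types false

noncomputable section

universe u

open CategoryTheory Limits AlgebraicGeometry TopologicalSpace Opposite TensorProduct
open Groth.Agent.QC70 Groth.Agent.QCPull72

namespace Groth.Agent.E4O.Sep

variable {X Y : Scheme.{u}} {ι : Type u}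

/-- A family of homomorphisms is separating on the open `V`. -/
def SepOn (F : X.Modules) (G : ι → X.Modules) (u : ∀ i, F ⟶ G i) (V : X.Opens) : Prop :=
  ∀ t : Γ(F, V), (∀ i, (u i).app V t = 0) → t = 0

/-- A family of homomorphisms is separating. -/
def IsSep (F : X.Modules) (G : ι → X.Modules) (u : ∀ i, F ⟶ G i) : Prop :=
  ∀ V, SepOn F G u V

/-- Separation may be tested on any family of opens containing arbitrarily small neighbourhoods. -/
theorem isSep_of_basis {F : X.Modules} {G : ι → X.Modules} {u : ∀ i, F ⟶ G i}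
    (h : ∀ (V : X.Opens) (p : X), p ∈ V → ∃ W : X.Opens, W ≤ V ∧ p ∈ W ∧ SepOn F G u W) :
    IsSep F G u := fun V t ht => section_ext F t 0 fun p hp => by
  obtain ⟨W, hWV, hpW, hW⟩ := h V p hp
  refine ⟨W, hWV, hpW, ?_⟩
  rw [res_zero]
  exact hW _ fun i => by rw [app_res, ht i, res_zero]

/-- Linear map on sections. -/
def appL {M N : X.Modules} (v : M ⟶ N) (W : X.Opens) : Γ(M, W) →ₗ[Γ(X, W)] Γ(N, W) where
  toFun m := v.app W m
  map_add' := map_add _
  map_smul' := Scheme.Modules.Hom.app_smul v

@[simp] theorem appL_apply {M N : X.Modules} (v : M ⟶ N) (W : X.Opens) (m : Γ(M, W)) :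
    appL v W m = v.app W m := rfl

theorem unitSec_natural (f : Y ⟶ X) {F F' : X.Modules} (v : F ⟶ F') {U : X.Opens} {V : Y.Opens}
    (e : V ≤ f ⁻¹ᵁ U) (x : Γ(F, U)) :
    ((Scheme.Modules.pullback f).map v).app V (unitSec f F e x) = unitSec f F' e (v.app U x) := by
  have h := congr(Scheme.Modules.Hom.app $((Scheme.Modules.pullbackPushforwardAdjunction f).unit.naturality v) U x)
  rw [unitSec, unitSec, app_res]
  exact congrArg (res _ e) h.symm

/-- Separation of a pulled back family on an affine open, in terms of modules. -/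
theorem sepOn_pullback_iff (f : Y ⟶ X) {F : X.Modules} [F.IsQuasicoherent] {G : ι → X.Modules}
    [∀ i, (G i).IsQuasicoherent] (u : ∀ i, F ⟶ G i) {U : X.Opens} (hU : IsAffineOpen U)
    {V : Y.Opens} (hV : IsAffineOpen V) (e : V ≤ f ⁻¹ᵁ U) :
    letI := (f.appLE U V e).hom.toAlgebra
    SepOn ((Scheme.Modules.pullback f).obj F) (fun i => (Scheme.Modules.pullback f).obj (G i))
        (fun i => (Scheme.Modules.pullback f).map (u i)) V ↔
      ∀ z : Γ(Y, V) ⊗[Γ(X, U)] Γ(F, U), (∀ i, (appL (u i) U).lTensor Γ(Y, V) z = 0) → z = 0 := by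
  let _ := (f.appLE U V e).hom.toAlgebra
  obtain ⟨E, hE⟩ := LimTop61.exists_baseChange_equiv f F hU hV e
  choose E' hE' using fun i => LimTop61.exists_baseChange_equiv f (G i) hU hV e
  have key : ∀ i t, E' i (((Scheme.Modules.pullback f).map (u i)).app V t) =
      (appL (u i) U).lTensor Γ(Y, V) (E t) := by
    intro i t
    have h : ((E' i).toLinearMap ∘ₗ appL ((Scheme.Modules.pullback f).map (u i)) V) =
        ((appL (u i) U).baseChange Γ(Y, V)) ∘ₗ E.toLinearMap := by
      refine LinearMap.ext_on_range (span_unitSec_eq_top f F hU hV e) fun x => ?_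
      show E' i (((Scheme.Modules.pullback f).map (u i)).app V (unitSec f F e x)) =
        (appL (u i) U).baseChange Γ(Y, V) (E (unitSec f F e x))
      rw [unitSec_natural, hE', hE, LinearMap.baseChange_tmul]
      rfl
    exact LinearMap.congr_fun h t
  constructor
  · intro h z hz
    have : E.symm z = 0 := h _ fun i => (E' i).injective (by
      rw [key, E.apply_symm_apply, map_zero]; exact hz i)
    rw [← E.apply_symm_apply z, this, map_zero]
  · intro h t ht
    refine E.injective ?_
    rw [map_zero]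
    exact h _ fun i => by rw [← key, ht i, map_zero]

/-- Separation on a basic open of an affine open. -/
theorem sepOn_basicOpen {M : X.Modules} [M.IsQuasicoherent] {N : ι → X.Modules} [∀ i, (N i).IsQuasicoherent]
    {u : ∀ i, M ⟶ N i} {U : X.Opens} (hU : IsAffineOpen U) (b : Γ(X, U))
    (h : ∀ z : Γ(M, U), (∀ i, ∃ n : ℕ, b ^ n • (u i).app U z = 0) → ∃ n : ℕ, b ^ n • z = 0) :
    SepOn M N u (X.basicOpen b) := by
  intro s hs
  obtain ⟨n, t, ht⟩ := (isLocAt_of_isQuasicoherent M hU).exists_of b s
  have hb : IsUnit (resO X (X.basicOpen_le b) b) := RingedSpace.isUnit_res_basicOpen _ b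
  obtain ⟨m, hm⟩ := h t fun i => (isLocAt_of_isQuasicoherent (N i) hU).eq_zero_of b _ (by
    rw [← app_res, ht, Scheme.Modules.Hom.app_smul, hs i, smul_zero])
  have h2 := congrArg (res M (X.basicOpen_le b)) hm
  rw [res_pow_smul, ht, smul_smul, res_zero] at h2
  exact ((hb.pow m).mul (hb.pow n)).smul_eq_zero.1 h2

/-- Separation on all opens gives separation on basic opens in terms of modules. -/
theorem exists_pow_smul_eq_zero {M : X.Modules} [M.IsQuasicoherent] {N : ι → X.Modules}
    {u : ∀ i, M ⟶ N i} (hsep : IsSep M N u) {U : X.Opens} (hU : IsAffineOpen U) (b : Γ(X, U))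
    (z : Γ(M, U)) (hz : ∀ i, ∃ n : ℕ, b ^ n • (u i).app U z = 0) : ∃ n : ℕ, b ^ n • z = 0 := by
  refine (isLocAt_of_isQuasicoherent M hU).eq_zero_of b z (hsep _ _ fun i => ?_)
  obtain ⟨n, hn⟩ := hz i
  have hb : IsUnit (resO X (X.basicOpen_le b) b) := RingedSpace.isUnit_res_basicOpen _ b
  have := congrArg (res (N i) (X.basicOpen_le b)) hn
  rw [res_pow_smul, res_zero] at this
  rw [app_res]
  exact (hb.pow n).smul_eq_zero.1 this

end Groth.Agent.E4O.Sep
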