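import Groth.Agent.E4O.AmpleGlue
import Groth.Agent.Coh69.AmpleFinite
import Groth.Agent.S3599

/-!
Ampleness descends along finite surjective morphisms with normal (or locally free) locus outside a
closed subset proper over the base.
-/

set_option autoImplicit false
set_option backward.isDefEq.respectTransparency.types false
set_option linter.style.haveILetI false
set_option maxSynthPendingDepth 6
set_option maxHeartbeats 1000000

universe u

noncomputable section

open CategoryTheory CategoryTheory.Limits AlgebraicGeometry TopologicalSpace Opposite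

namespace Groth.Agent.E4O.Glue

variable {X X' : Scheme.{u}}

/-- The reduced structure on a closed set with a proper subscheme structure is proper. -/
theorem isProper_vanishing {S A : Scheme.{u}} (f : X ⟶ S) (a : A ⟶ X) [IsClosedImmersion a]
    (C : Closeds X) (hC : Set.range a = C) [IsProper (a ≫ f)] :
    IsProper ((Scheme.IdealSheafData.vanishingIdeal C).subschemeι ≫ f) := by
  have hsub : C ≤ a.ker.support := fun x hx => by
    show x ∈ (a.ker.support : Set X)
    rw [a.support_ker]
    exact subset_closure (hC.symm ▸ hx)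
  have hle : a.ker ≤ (Scheme.IdealSheafData.vanishingIdeal C).subschemeι.ker := by
    rw [Scheme.IdealSheafData.ker_subschemeι]
    exact Scheme.IdealSheafData.le_support_iff_le_vanishingIdeal.1 hsub
  let l := IsClosedImmersion.lift a _ hle
  have hl : l ≫ a = (Scheme.IdealSheafData.vanishingIdeal C).subschemeι := IsClosedImmersion.lift_fac _ _ hle
  haveI : IsClosedImmersion (l ≫ a) := by rw [hl]; infer_instance
  haveI : IsClosedImmersion l := IsClosedImmersion.of_comp l a
  rw [← hl, Category.assoc]
  infer_instance

/-- The reduced case. -/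
theorem isAmple_of_finite_surjective_reduced {R : Type u} [CommRing R] [IsNoetherianRing R]
    (f : X ⟶ Spec (CommRingCat.of R)) [LocallyOfFiniteType f] [QuasiCompact f] [IsReduced X]
    (g : X' ⟶ X) [IsFinite g] [Surjective g] (Zc : Closeds X)
    (hZc : IsProper ((Scheme.IdealSheafData.vanishingIdeal Zc).subschemeι ≫ f))
    (hW : ∀ x : X, x ∉ Zc → (IsDomain (X.presheaf.stalk x) ∧ IsIntegrallyClosed (X.presheaf.stalk x)) ∨
      ∃ T : X.Opens, x ∈ T ∧ T ≤ Zc.compl ∧
        FlatMod.IsFinLocFree (((Coh.push g).obj (Coh.structureModule X')).restrict T.ι))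
    {L : X.Modules} (hL : PicF.IsInvertible L) (h : CohB1.IsAmple ((Scheme.Modules.pullback g).obj L)) :
    CohB1.IsAmple L := by
  haveI : CompactSpace X := QuasiCompact.compactSpace_of_compactSpace f
  haveI : IsLocallyNoetherian X := LocallyOfFiniteType.isLocallyNoetherian f
  haveI : AlgebraicGeometry.IsNoetherian X := {}
  obtain ⟨Z₂, _, h₂, _, hiso, ⟨V, hVd, -, hV⟩, hamp⟩ := S3599.result f g Zc.compl hW
  haveI := hiso
  haveI := hV
  have h2 := (Amp73.isRelAmple_iff_isAmple (h₂ ≫ f)).1 (hamp L hL ((Amp73.isRelAmple_iff_isAmple (g ≫ f)).2 h))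
  haveI : Surjective h₂ := ⟨fun x => by
    have hsub : (V : Set X) ⊆ Set.range h₂ := fun v hv => by
      obtain ⟨w, hw⟩ := (inferInstance : Surjective (h₂ ∣_ V)).surj ⟨v, hv⟩
      exact ⟨w.1, (morphismRestrict_base_coe h₂ V w).symm.trans (congrArg Subtype.val hw)⟩
    exact (h₂.isClosedMap.isClosed_range.closure_subset_iff.2 hsub) (hVd x)⟩
  let ιZ := (Scheme.IdealSheafData.vanishingIdeal Zc).subschemeι
  haveI : Surjective (pullback.snd g ιZ) := MorphismProperty.pullback_snd (P := @Surjective) _ _ inferInstance
  haveI : IsFinite (pullback.snd g ιZ) := MorphismProperty.pullback_snd (P := @IsFinite) _ _ inferInstance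
  haveI := hZc
  haveI : IsProper (pullback.snd g ιZ ≫ ιZ ≫ f) := inferInstance
  refine isAmple_of_iso_outside f h₂ Zc hZc hL h2 ?_
  refine (Coh69.AmpleFinite.isAmple_iff (ιZ ≫ f) (pullback.snd g ιZ ≫ ιZ ≫ f) (pullback.snd g ιZ)
    (Amp73.isInvertible_pullback _ hL)).2 ?_
  exact Amp73.isAmple_of_iso
    ((Scheme.Modules.pullbackComp (pullback.fst g ιZ) g).app L ≪≫
      (Scheme.Modules.pullbackCongr pullback.condition).app L ≪≫
      ((Scheme.Modules.pullbackComp (pullback.snd g ιZ) ιZ).app L).symm)
    (Amp73.isAmple_pullback (pullback.fst g ιZ) (Amp73.isQuasiAffine_of_isAffineHom _) h)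

/-- Ampleness descends along finite surjective morphisms when the points outside a closed subset proper over
the base are normal. -/
theorem isAmple_of_finite_surjective_normal {R : Type u} [CommRing R] [IsNoetherianRing R]
    (f : X ⟶ Spec (CommRingCat.of R)) [LocallyOfFiniteType f] [QuasiCompact f]
    (g : X' ⟶ X) [IsFinite g] [Surjective g] (Zc : Closeds X)
    (hZc : IsProper ((Scheme.IdealSheafData.vanishingIdeal Zc).subschemeι ≫ f))
    (hW : ∀ x : X, x ∉ Zc → IsDomain (X.presheaf.stalk x) ∧ IsIntegrallyClosed (X.presheaf.stalk x))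
    {L : X.Modules} (hL : PicF.IsInvertible L) (h : CohB1.IsAmple ((Scheme.Modules.pullback g).obj L)) :
    CohB1.IsAmple L := by
  let J := Scheme.IdealSheafData.vanishingIdeal (⊤ : Closeds X)
  let i := J.subschemeι
  haveI : IsReduced J.subscheme := SchBasics.isReduced_vanishingIdeal_subscheme _
  haveI : Surjective i := ⟨fun x => by
    have h0 : x ∈ Set.range i := by rw [SchBasics.range_vanishingIdeal_subschemeι]; trivial
    exact h0⟩
  have hi : IsHomeomorph i.base := isHomeomorph_iff_isEmbedding_surjective.2
    ⟨i.isClosedEmbedding.isEmbedding, i.surjective⟩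
  refine (S2153.result i hi L hL).1 ?_
  let Zr : Closeds J.subscheme := ⟨i ⁻¹' (Zc : Set X), Zc.isClosed.preimage i.continuous⟩
  let ιZ := (Scheme.IdealSheafData.vanishingIdeal Zc).subschemeι
  haveI := hZc
  haveI : IsProper (pullback.fst i ιZ ≫ i ≫ f) := by
    rw [pullback.condition_assoc]
    infer_instance
  have hZr := isProper_vanishing (i ≫ f) (pullback.fst i ιZ) Zr (by
    rw [Scheme.Pullback.range_fst, SchBasics.range_vanishingIdeal_subschemeι]; rfl)
  haveI : Surjective (pullback.snd g i) := MorphismProperty.pullback_snd (P := @Surjective) _ _ inferInstance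
  haveI : IsFinite (pullback.snd g i) := MorphismProperty.pullback_snd (P := @IsFinite) _ _ inferInstance
  refine isAmple_of_finite_surjective_reduced (i ≫ f) (pullback.snd g i) Zr hZr (fun x hx => Or.inl ?_)
    (Amp73.isInvertible_pullback i hL) ?_
  · let W : X.Opens := Zc.compl
    haveI : ∀ z : W.toScheme, _root_.IsReduced (W.toScheme.presheaf.stalk z) := fun z => by
      haveI := (hW z.1 z.2).1
      exact isReduced_of_injective (W.stalkIso z).commRingCatIsoToRingEquiv
        (W.stalkIso z).commRingCatIsoToRingEquiv.injective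
    haveI : IsReduced W.toScheme := isReduced_of_isReduced_stalk _
    haveI : IsClosedImmersion (i ∣_ W) := IsZariskiLocalAtTarget.restrict (P := @IsClosedImmersion) inferInstance W
    haveI : Surjective (i ∣_ W) := IsZariskiLocalAtTarget.restrict (P := @Surjective) inferInstance W
    haveI : IsIso (i ∣_ W) := isIso_of_isClosedImmersion_of_surjective _
    let z : (i ⁻¹ᵁ W).toScheme := ⟨x, hx⟩
    haveI : IsIso (i.stalkMap x) :=
      ((MorphismProperty.isomorphisms CommRingCat).arrow_mk_iso_iff (morphismRestrictStalkMap i W z)).1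
        (inferInstanceAs (IsIso ((i ∣_ W).stalkMap z)))
    let e := (asIso (i.stalkMap x)).commRingCatIsoToRingEquiv
    obtain ⟨hd, hn⟩ := hW (i x) hx
    haveI := hd
    haveI := hn
    exact ⟨e.symm.toMulEquiv.isDomain _, IsIntegrallyClosed.of_equiv e⟩
  · exact Amp73.isAmple_of_iso
      ((Scheme.Modules.pullbackComp (pullback.fst g i) g).app L ≪≫
        (Scheme.Modules.pullbackCongr pullback.condition).app L ≪≫
        ((Scheme.Modules.pullbackComp (pullback.snd g i) i).app L).symm)
      (Amp73.isAmple_pullback (pullback.fst g i) (Amp73.isQuasiAffine_of_isAffineHom _) h)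

end Groth.Agent.E4O.Glue
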