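import Groth.Agent.E4O.AmpleGlueTools
import Groth.Agent.RB70.AmpleVanish
import Groth.Agent.GenAff57.Ample
import Groth.Agent.EGA73.VeryAmplePnAmple
import Groth.Agent.S9710
import Groth.Agent.S2153
import Groth.Agent.S0593

/-!
Ampleness descends along finite surjective morphisms which are isomorphisms outside a closed
subset proper over the base.
-/

set_option autoImplicit false
set_option backward.isDefEq.respectTransparency.types false
set_option linter.style.haveILetI false
set_option maxSynthPendingDepth 6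
set_option maxHeartbeats 1000000

universe u

noncomputable section

open CategoryTheory CategoryTheory.Limits AlgebraicGeometry TopologicalSpace Opposite

namespace Groth.Agent.E4O.Glue

open Var76.LineBundle Var76.ZeroScheme Amp73

variable {X X₂ P : Scheme.{u}}

theorem val_restrHom (j : X₂ ⟶ P) [IsOpenImmersion j] {M : P.Modules} (σ : Coh.structureModule P ⟶ M)
    (W : X₂.Opens) : val (M.restrict j) (restrHom j σ) W = (val M σ (j ''ᵁ W) : Γ(M, j ''ᵁ W)) :=
  congrArg (σ.app (j ''ᵁ W)) (map_one (j.appIso W).inv.hom)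

/-- Powers of compatible invertible modules stay compatible. -/
def powComp (h : X₂ ⟶ X) (j : X₂ ⟶ P) {A : X.Modules} {B : P.Modules} (hA : PicF.IsInvertible A)
    (hB : PicF.IsInvertible B) (φ : (Scheme.Modules.pullback h).obj A ≅ (Scheme.Modules.pullback j).obj B) (n : ℕ) :
    (Scheme.Modules.pullback h).obj (CohB1.tensorPow A n) ≅
      (Scheme.Modules.pullback j).obj (CohB1.tensorPow B n) :=
  pullPowIso h hA n ≪≫ powIso φ n ≪≫ (pullPowIso j hB n).symm

theorem image_affine (h : X₂ ⟶ X) [IsFinite h] [Surjective h] (G : X.Opens) (hG : IsAffineOpen (h ⁻¹ᵁ G)) :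
    IsAffineOpen G := by
  haveI : IsAffine (h ⁻¹ᵁ G : Scheme.{u}) := hG
  haveI : Surjective (h ∣_ G) :=
    MorphismProperty.of_isPullback (P := @Surjective) (isPullback_morphismRestrict h G).flip inferInstance
  exact S0593.result _ _ (h ∣_ G)

theorem notMem_basicOpen_of_mem_pow {C : Closeds X} {U : X.affineOpens} {a : Γ(X, U.1)} {m : ℕ} (hm : 0 < m)
    (ha : a ∈ ((Scheme.IdealSheafData.vanishingIdeal C) ^ m).ideal U) {z : X} (hzU : z ∈ U.1) (hzC : z ∈ C) :
    z ∉ X.basicOpen a := by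
  rw [Scheme.IdealSheafData.ideal_pow, Pi.pow_apply] at ha
  exact (mem_vanishingIdeal_iff C U a).1 (Ideal.pow_le_self hm.ne' ha) z hzU hzC

theorem map_mem_pow {C : Closeds X} {C₂ : Closeds X₂} {U : X.affineOpens} {V : X₂.affineOpens}
    (φ : Γ(X, U.1) →+* Γ(X₂, V.1))
    (hφ : ∀ a, ∀ w ∈ V.1, w ∈ C₂ → w ∈ X₂.basicOpen (φ a) → ∃ z, z ∈ U.1 ∧ z ∈ C ∧ z ∈ X.basicOpen a)
    {m : ℕ} {a : Γ(X, U.1)} (ha : a ∈ ((Scheme.IdealSheafData.vanishingIdeal C) ^ m).ideal U) :
    φ a ∈ ((Scheme.IdealSheafData.vanishingIdeal C₂) ^ m).ideal V := by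
  rw [Scheme.IdealSheafData.ideal_pow, Pi.pow_apply] at ha ⊢
  have h1 := Ideal.mem_map_of_mem φ ha
  rw [Ideal.map_pow] at h1
  refine Ideal.pow_right_mono (Ideal.map_le_iff_le_comap.2 fun b hb => ?_) m h1
  refine (mem_vanishingIdeal_iff C₂ V _).2 fun w hw hwC hwb => ?_
  obtain ⟨z, hz, hzC, hzb⟩ := hφ b w hw hwC hwb
  exact (mem_vanishingIdeal_iff C U b).1 hb z hz hzC hzb

theorem res_restrict_app {N : X₂.Modules} (j : X₂ ⟶ P) [IsOpenImmersion j] {M : P.Modules} (ψ : N ⟶ M.restrict j)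
    {V W : X₂.Opens} (h : W ≤ V) (x : Γ(N, V)) :
    res M (j.image_mono h) (show Γ(M, j ''ᵁ V) from ψ.app V x) = (show Γ(M, j ''ᵁ W) from ψ.app W (res N h x)) :=
  (Mero90.app_res ψ h x).symm

theorem app_smul_restrict {N : X₂.Modules} (j : X₂ ⟶ P) [IsOpenImmersion j] {M : P.Modules} (ψ : N ⟶ M.restrict j)
    (V : X₂.Opens) (a : Γ(X₂, V)) (x : Γ(N, V)) :
    (show Γ(M, j ''ᵁ V) from ψ.app V (a • x)) = (j.appIso V).inv a • (show Γ(M, j ''ᵁ V) from ψ.app V x) :=
  Scheme.Modules.Hom.app_smul ψ a x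

/-- Coefficients of a thickened closed subscheme lift. -/
theorem exists_coeff_lift (K : X.IdealSheafData) (N : X.Modules) (hN : PicF.IsInvertible N) (U : X.affineOpens)
    {e : Γ(N, U.1)} (he : IsFrame N U.1 e)
    (t : Coh.structureModule K.subscheme ⟶ (Scheme.Modules.pullback K.subschemeι).obj N) :
    ∃ a : Γ(X, U.1), val _ t (K.subschemeι ⁻¹ᵁ U.1) =
      K.subschemeι.app U.1 a • pullS K.subschemeι N U.1 e := by
  obtain ⟨b, hb⟩ := exists_coord t (isFrame_pullS K.subschemeι hN he)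
  obtain ⟨a, rfl⟩ := K.subschemeι.app_surjective U.1 U.2 b
  exact ⟨a, hb.symm⟩

/-- Extension of a section of a thickening of the bad set, pulled back. -/
theorem exists_extend (h : X₂ ⟶ X) [IsFinite h] (Zc : Closeds X) (j : X₂ ⟶ P) [IsOpenImmersion j]
    (hclosed : IsClosed (j '' (h ⁻¹' (Zc : Set X)))) (m : ℕ) (hm : 0 < m)
    {N : X.Modules} (hN : PicF.IsInvertible N) {M : P.Modules} (hM : PicF.IsInvertible M)
    (ψ : (Scheme.Modules.pullback h).obj N ≅ M.restrict j) {ι : Type u} (U : ι → X.affineOpens)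
    (hU : ⨆ i, (U i).1 = ⊤) (e : ∀ i, Γ(N, (U i).1)) (he : ∀ i, IsFrame N (U i).1 (e i))
    (hH : Subsingleton (Coh.HH P (CohB1.tensorMod (ClSub.idealMod
      ((Scheme.IdealSheafData.vanishingIdeal (⟨(j.opensRange : Set P)ᶜ ∪ j '' (h ⁻¹' (Zc : Set X)),
        j.opensRange.2.isClosed_compl.union hclosed⟩ : Closeds P)) ^ m)) M) 1))
    (t : Coh.structureModule ((Scheme.IdealSheafData.vanishingIdeal Zc) ^ m).subscheme ⟶
      (Scheme.Modules.pullback ((Scheme.IdealSheafData.vanishingIdeal Zc) ^ m).subschemeι).obj N) :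
    ∃ σ : Coh.structureModule P ⟶ M, CohB1.genLocus M σ ≤ j.opensRange ∧
      ∀ i, ∃ (a : Γ(X, (U i).1)) (c : Γ(X₂, h ⁻¹ᵁ (U i).1)),
        val _ t (((Scheme.IdealSheafData.vanishingIdeal Zc) ^ m).subschemeι ⁻¹ᵁ (U i).1) =
          ((Scheme.IdealSheafData.vanishingIdeal Zc) ^ m).subschemeι.app (U i).1 a •
            pullS ((Scheme.IdealSheafData.vanishingIdeal Zc) ^ m).subschemeι N (U i).1 (e i) ∧
        val _ (restrHom j σ ≫ ψ.inv) (h ⁻¹ᵁ (U i).1) = c • pullS h N (U i).1 (e i) ∧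
        c - h.app (U i).1 a ∈ ((Scheme.IdealSheafData.vanishingIdeal
          (⟨h ⁻¹' (Zc : Set X), Zc.isClosed.preimage h.continuous⟩ : Closeds X₂)) ^ m).ideal
            ⟨h ⁻¹ᵁ (U i).1, (U i).2.preimage h⟩ := by
  let C : Closeds P := ⟨(j.opensRange : Set P)ᶜ ∪ j '' (h ⁻¹' (Zc : Set X)),
    j.opensRange.2.isClosed_compl.union hclosed⟩
  let I := (Scheme.IdealSheafData.vanishingIdeal C) ^ m
  let K := (Scheme.IdealSheafData.vanishingIdeal Zc) ^ m
  choose a ha using fun i => exists_coeff_lift K N hN (U i) (he i) t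
  let far : P.Opens := ⟨(j '' (h ⁻¹' (Zc : Set X)))ᶜ, hclosed.isOpen_compl⟩
  let V : Option ι → P.Opens := fun
    | some i => j ''ᵁ (h ⁻¹ᵁ (U i).1)
    | none => far
  let md : ∀ o, Γ(M, V o) := fun
    | some i => ψ.hom.app (h ⁻¹ᵁ (U i).1) (h.app (U i).1 (a i) • pullS h N (U i).1 (e i))
    | none => 0
  have hV : ⨆ o, V o = ⊤ := top_le_iff.1 fun z _ => by
    by_cases hz : z ∈ j '' (h ⁻¹' (Zc : Set X))
    · obtain ⟨w, -, rfl⟩ := hz
      obtain ⟨i, hi⟩ := Opens.mem_iSup.1 (hU.ge (show h w ∈ (⊤ : X.Opens) from trivial))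
      exact Opens.mem_iSup.2 ⟨some i, (show j w ∈ j ''ᵁ _ from ⟨w, hi, rfl⟩)⟩
    · exact Opens.mem_iSup.2 ⟨none, hz⟩
  have hmix : ∀ (i : ι) (W : P.affineOpens), W.1 ≤ j ''ᵁ (h ⁻¹ᵁ (U i).1) → W.1 ≤ far → I.ideal W = ⊤ := by
    intro i W h1 h2
    have : ∀ z ∈ W.1, z ∉ C := fun z hz hzC => by
      rcases hzC with hzC | hzC
      · exact hzC ((j.image_le_opensRange _) (h1 hz))
      · exact h2 hz hzC
    show ((Scheme.IdealSheafData.vanishingIdeal C) ^ m).ideal W = ⊤
    rw [Scheme.IdealSheafData.ideal_pow, Pi.pow_apply, vanishingIdeal_ideal_eq_top C W this,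
      Ideal.top_pow]
  obtain ⟨σ, hσ⟩ := exists_lift I hM hH V hV md (by
    rintro (_ | i) (_ | k) z hz
    · obtain ⟨W, hzW, hWle, ε, hε⟩ := Mero90.exists_affine_frame hM z _ hz
      exact ⟨W, hWle.trans inf_le_left, hWle.trans inf_le_right, ε, 0, hzW, hε, zero_mem _, by
        simp [md]⟩
    · obtain ⟨W, hzW, hWle, ε, hε⟩ := Mero90.exists_affine_frame hM z _ hz
      obtain ⟨c, hc⟩ := (hε W.1 le_rfl).2
        (res M (hWle.trans inf_le_left) (md none) - res M (hWle.trans inf_le_right) (md (some k)))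
      dsimp only at hc
      rw [res_self] at hc
      exact ⟨W, hWle.trans inf_le_left, hWle.trans inf_le_right, ε, c, hzW, hε,
        (hmix k W (hWle.trans inf_le_right) (hWle.trans inf_le_left)).ge trivial, hc.symm⟩
    · obtain ⟨W, hzW, hWle, ε, hε⟩ := Mero90.exists_affine_frame hM z _ hz
      obtain ⟨c, hc⟩ := (hε W.1 le_rfl).2
        (res M (hWle.trans inf_le_left) (md (some i)) - res M (hWle.trans inf_le_right) (md none))
      dsimp only at hc
      rw [res_self] at hc
      exact ⟨W, hWle.trans inf_le_left, hWle.trans inf_le_right, ε, c, hzW, hε,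
        (hmix i W (hWle.trans inf_le_left) (hWle.trans inf_le_right)).ge trivial, hc.symm⟩
    · obtain ⟨w, hwi, rfl⟩ := hz.1
      obtain ⟨w', hwk', hw'⟩ := hz.2
      obtain rfl := j.isOpenEmbedding.injective hw'
      obtain ⟨W, hW, hwW, hWle⟩ := exists_isAffineOpen_mem_and_subset
        (x := h w') (U := (U i).1 ⊓ (U k).1) ⟨hwi, hwk'⟩
      let Wa : X.affineOpens := ⟨W, hW⟩
      have hWi : W ≤ (U i).1 := fun y hy => (hWle hy).1
      have hWk : W ≤ (U k).1 := fun y hy => (hWle hy).2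
      obtain ⟨u, hu⟩ := ((he i).res hWi W le_rfl).2 (res N hWk (e k))
      dsimp only at hu
      rw [res_self] at hu
      let d : Γ(X, W) := fres hWi (a i) - fres hWk (a k) * u
      have hd : d ∈ K.ideal Wa := by
        have h1 := congrArg (res _ (K.subschemeι.preimage_mono hWi)) (ha i)
        have h2 := congrArg (res _ (K.subschemeι.preimage_mono hWk)) (ha k)
        rw [res_val, res_smul, res_pullS K.subschemeι N hWi] at h1
        rw [res_val, res_smul, res_pullS K.subschemeι N hWk, ← hu, pullS_smul, smul_smul] at h2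
        have h3 := (isFrame_pullS K.subschemeι hN ((he i).res hWi) _ le_rfl).1
          (by simpa only [res_self] using h1.symm.trans h2)
        rw [← K.ker_subschemeι_app Wa, RingHom.mem_ker]
        show (K.subschemeι.app W).hom (fres hWi (a i) - fres hWk (a k) * u) = 0
        rw [map_sub, map_mul, sub_eq_zero]
        have nat : ∀ {O : X.Opens} (hO : W ≤ O) (b : Γ(X, O)), (K.subschemeι.app W).hom (fres hO b) =
            K.subscheme.presheaf.map (homOfLE (K.subschemeι.preimage_mono hO)).op (K.subschemeι.app O b) :=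
          fun hO b => ConcreteCategory.congr_hom (K.subschemeι.naturality (homOfLE hO).op) b
        rw [nat, nat]
        exact h3
      refine ⟨⟨j ''ᵁ (h ⁻¹ᵁ W), (hW.preimage h).image_of_isOpenImmersion j⟩,
        j.image_mono (h.preimage_mono hWi), j.image_mono (h.preimage_mono hWk),
        ψ.hom.app (h ⁻¹ᵁ W) (pullS h N W (res N hWi (e i))), (j.appIso (h ⁻¹ᵁ W)).inv (h.app W d),
        ⟨w', hwW, rfl⟩, ?_, ?_, ?_⟩
      · exact (isFrame_restrict_iff j M _ _).1
          ((isFrame_app_iff ψ.hom _).2 (isFrame_pullS h hN ((he i).res hWi)))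
      · refine map_mem_pow (X := X) (X₂ := P) (U := Wa) (C := Zc) (C₂ := C)
          (V := ⟨j ''ᵁ (h ⁻¹ᵁ W), (hW.preimage h).image_of_isOpenImmersion j⟩)
          (show Γ(X, Wa.1) →+* Γ(P, j ''ᵁ (h ⁻¹ᵁ W)) from ((j.appIso (h ⁻¹ᵁ W)).inv).hom.comp (h.app W).hom)
          (fun b z' hz' hz'C hz'b => ?_) hd
        change z' ∈ P.basicOpen ((j.appIso (h ⁻¹ᵁ W)).inv (h.app W b)) at hz'b
        rw [← Scheme.image_basicOpen] at hz'b
        obtain ⟨v, hv, rfl⟩ := hz'b
        have hv' : v ∈ h ⁻¹ᵁ X.basicOpen b := by rw [Scheme.preimage_basicOpen]; exact hv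
        refine ⟨h v, X.basicOpen_le b hv', ?_, hv'⟩
        rcases hz'C with hc | ⟨v', hv', hvv⟩
        · exact absurd ⟨v, rfl⟩ hc
        · exact j.isOpenEmbedding.injective hvv ▸ hv'
      · show res M _ (ψ.hom.app _ _ : Γ(M, j ''ᵁ _)) - res M _ (ψ.hom.app _ _ : Γ(M, j ''ᵁ _)) = _
        rw [res_restrict_app j ψ.hom (h.preimage_mono hWi), res_restrict_app j ψ.hom (h.preimage_mono hWk),
          ← app_smul_restrict j ψ.hom]
        refine (map_sub (ψ.hom.app (h ⁻¹ᵁ W)).hom _ _).symm.trans (congrArg (ψ.hom.app (h ⁻¹ᵁ W)) ?_)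
        rw [← pullS_smul, ← pullS_smul, res_pullS h N hWi, res_pullS h N hWk, res_smul, res_smul, ← hu,
          smul_smul, sub_eq_iff_eq_add, ← pullS_smul]
        refine Eq.trans (congrArg (pullS h N W) ?_) (map_add (((Scheme.Modules.pullbackPushforwardAdjunction h).unit.app N).app W).hom _ _)
        rw [← add_smul]
        simp [d, fres])
  refine ⟨σ, fun z hz => ?_, fun i => ?_⟩
  · by_contra hzr
    have hzfar : z ∈ far := fun ⟨w, _, hw⟩ => hzr ⟨w, hw⟩
    obtain ⟨W, hW, hzW, hWle⟩ := exists_isAffineOpen_mem_and_subset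
      (x := z) (U := CohB1.genLocus M σ ⊓ far) ⟨hz, hzfar⟩
    have h1 := hσ none ⟨W, hW⟩ (fun y hy => (hWle hy).2) (val M σ W)
      ((isFrame_iff_le_genLocus σ W).2 fun y hy => (hWle hy).1) 1 (by simp [md])
    refine notMem_basicOpen_of_mem_pow hm h1 hzW (Or.inl hzr) ?_
    rw [P.basicOpen_of_isUnit isUnit_one]
    exact hzW
  · obtain ⟨c, hc⟩ := exists_coord (restrHom j σ ≫ ψ.inv) (isFrame_pullS h hN (he i))
    refine ⟨a i, c, ha i, hc.symm, ?_⟩
    let V₂ : X₂.affineOpens := ⟨h ⁻¹ᵁ (U i).1, (U i).2.preimage h⟩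
    let VP : P.affineOpens := ⟨j ''ᵁ V₂.1, V₂.2.image_of_isOpenImmersion j⟩
    have hfr : IsFrame M VP.1 (ψ.hom.app V₂.1 (pullS h N (U i).1 (e i))) :=
      (isFrame_restrict_iff j M _ _).1 ((isFrame_app_iff ψ.hom _).2 (isFrame_pullS h hN (he i)))
    have hval : (val M σ VP.1 : Γ(M, j ''ᵁ V₂.1)) = ψ.hom.app V₂.1 (c • pullS h N (U i).1 (e i)) := by
      rw [hc, ← val_restrHom]
      exact (ConcreteCategory.congr_hom (congrArg (fun g => Scheme.Modules.Hom.app g V₂.1) ψ.inv_hom_id) _).symm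
    have h1 := hσ (some i) VP le_rfl _ hfr ((j.appIso V₂.1).inv (c - h.app (U i).1 (a i))) (by
      rw [← app_smul_restrict j ψ.hom, sub_smul, map_sub, hval, res_self]
      rfl)
    have h2 := map_mem_pow (U := VP) (C := C) (C₂ := (⟨h ⁻¹' (Zc : Set X), Zc.isClosed.preimage h.continuous⟩ : Closeds X₂))
      (V := V₂) (j.appIso V₂.1).hom.hom (fun b w hw hwC hwb => ⟨j w, ⟨w, hw, rfl⟩, Or.inr ⟨w, hwC, rfl⟩, by
        have e1 : b = (j.appIso V₂.1).inv ((j.appIso V₂.1).hom b) :=
          (ConcreteCategory.congr_hom (j.appIso V₂.1).hom_inv_id b).symm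
        rw [e1, ← Scheme.image_basicOpen]
        exact ⟨w, hwb, rfl⟩⟩) h1
    have e2 : (j.appIso V₂.1).hom.hom ((j.appIso V₂.1).inv (c - h.app (U i).1 (a i))) = c - h.app (U i).1 (a i) :=
      ConcreteCategory.congr_hom (j.appIso V₂.1).inv_hom_id _
    rw [e2] at h2
    exact h2

theorem isFiniteTypeIdeal [IsLocallyNoetherian X] (I : X.IdealSheafData) : BlowUp.IsFiniteTypeIdeal I :=
  fun U => haveI := IsLocallyNoetherian.component_noetherian U; IsNoetherian.noetherian _

/-- A scheme of finite type with an ample module is open in a proper one, compatibly. -/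
theorem exists_compactification {R : Type u} [CommRing R] [IsNoetherianRing R] {Q : Scheme.{u}}
    (g : Q ⟶ Spec (CommRingCat.of R)) [LocallyOfFiniteType g] [QuasiCompact g] {L : Q.Modules}
    (hL : CohB1.IsAmple L) :
    ∃ (P : Scheme.{u}) (π : P ⟶ Spec (CommRingCat.of R)) (_ : IsProper π) (j : Q ⟶ P) (_ : IsOpenImmersion j)
      (d : ℕ) (M : P.Modules), 0 < d ∧ CohB1.IsAmple M ∧ j ≫ π = g ∧
        Nonempty ((Scheme.Modules.pullback j).obj M ≅ CohB1.tensorPow L d) := by
  obtain ⟨d₀, hd₀, hd⟩ := S9710.result g L hL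
  obtain ⟨N, i, hi, hig, ⟨t⟩⟩ := hd d₀ le_rfl
  obtain ⟨e, he, htw⟩ := RB70.exists_projSpaceOver_iso R N
  haveI := hi
  haveI := Approx60.Segre.isProper_toBase N (Spec (CommRingCat.of R))
  haveI : IsProper (CohB1.ProjSpace.toSpec N R) := by
    rw [← Iso.eq_inv_comp] at he
    rw [he]
    infer_instance
  let i' := i ≫ e.hom
  have hgi : i' ≫ CohB1.ProjSpace.toSpec N R = g := by rw [Category.assoc, he]; exact hig
  haveI : QuasiCompact (i' ≫ CohB1.ProjSpace.toSpec N R) := hgi ▸ inferInstance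
  haveI : QuasiCompact i' := QuasiCompact.of_comp i' (CohB1.ProjSpace.toSpec N R)
  obtain ⟨w⟩ := htw 1
  refine ⟨i'.image, i'.imageι ≫ CohB1.ProjSpace.toSpec N R, inferInstance, i'.toImage, inferInstance, d₀,
    (Scheme.Modules.pullback i'.imageι).obj (Twist.twistProjSpace N R 1), hd₀,
    Amp73.isAmple_pullback _ (Amp73.isQuasiAffine_of_isAffineHom _) (EGA73.VeryAmplePnAmple.isAmple_twistProjSpace R N),
    by rw [i'.toImage_imageι_assoc, hgi], ⟨?_⟩⟩
  exact (Scheme.Modules.pullbackComp i'.toImage i'.imageι).app _ ≪≫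
    (Scheme.Modules.pullbackCongr i'.toImage_imageι).app _ ≪≫
    ((Scheme.Modules.pullbackComp i e.hom).app _).symm ≪≫ (Scheme.Modules.pullback i).mapIso w ≪≫ t.symm

/-- Ampleness descends along a finite surjection which is an isomorphism outside a closed subset proper over
the base, once the restriction to this subset is ample. -/
theorem isAmple_of_iso_outside {R : Type u} [CommRing R] [IsNoetherianRing R] (f : X ⟶ Spec (CommRingCat.of R))
    [LocallyOfFiniteType f] [QuasiCompact f] [IsReduced X] (h : X₂ ⟶ X) [IsFinite h] [Surjective h]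
    (Zc : Closeds X) [IsIso (h ∣_ Zc.compl)]
    (hZc : IsProper ((Scheme.IdealSheafData.vanishingIdeal Zc).subschemeι ≫ f))
    {L : X.Modules} (hL : PicF.IsInvertible L) (h2 : CohB1.IsAmple ((Scheme.Modules.pullback h).obj L))
    (hZ : CohB1.IsAmple ((Scheme.Modules.pullback (Scheme.IdealSheafData.vanishingIdeal Zc).subschemeι).obj L)) :
    CohB1.IsAmple L := by
  classical
  haveI : CompactSpace X := QuasiCompact.compactSpace_of_compactSpace f
  haveI : IsLocallyNoetherian X₂ := LocallyOfFiniteType.isLocallyNoetherian (h ≫ f)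
  obtain ⟨ι, _, U, e, hUa, he, hU⟩ := Amp73.exists_finite_frames hL
  let Ua : ι → X.affineOpens := fun i => ⟨U i, hUa i⟩
  haveI := Fintype.ofFinite ι
  choose m₀ hm₀ using fun i => exists_pow_le_range h Zc (Ua i)
  let m := Finset.univ.sup m₀ + 1
  have hm : 0 < m := Nat.succ_pos _
  have hrange : ∀ i, ∀ b ∈ ((Scheme.IdealSheafData.vanishingIdeal
      (⟨h ⁻¹' (Zc : Set X), Zc.isClosed.preimage h.continuous⟩ : Closeds X₂)) ^ m).ideal
        ⟨h ⁻¹ᵁ U i, (hUa i).preimage h⟩, b ∈ (h.app (U i)).hom.range := fun i =>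
    hm₀ i m ((Finset.le_sup (Finset.mem_univ i)).trans (Nat.le_succ _))
  refine Amp73.isAmple_iff.2 ⟨hL, inferInstance, fun x => ?_⟩
  obtain ⟨x₂, rfl⟩ := h.surjective x
  by_cases hxZ : h x₂ ∈ Zc
  · -- a point of the bad set
    obtain ⟨P, π, _, j, _, d, M, hd, hM, hjπ, ⟨φ⟩⟩ := exists_compactification (h ≫ f) h2
    haveI : IsLocallyNoetherian P := LocallyOfFiniteType.isLocallyNoetherian π
    let ιZ := (Scheme.IdealSheafData.vanishingIdeal Zc).subschemeι
    haveI : IsProper (pullback.fst h ιZ ≫ j ≫ π) := by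
      rw [hjπ, pullback.condition_assoc]
      infer_instance
    haveI : IsProper ((pullback.fst h ιZ ≫ j) ≫ π) := by rw [Category.assoc]; infer_instance
    haveI : IsProper (pullback.fst h ιZ ≫ j) := IsProper.of_comp _ π
    have hclosed : IsClosed (j '' (h ⁻¹' (Zc : Set X))) := by
      have := (pullback.fst h ιZ ≫ j).isClosedMap.isClosed_range
      rw [Scheme.Hom.comp_base, TopCat.coe_comp, Set.range_comp, Scheme.Pullback.range_fst,
        SchBasics.range_vanishingIdeal_subschemeι] at this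
      exact this
    let C : Closeds P := ⟨(j.opensRange : Set P)ᶜ ∪ j '' (h ⁻¹' (Zc : Set X)),
      j.opensRange.2.isClosed_compl.union hclosed⟩
    obtain ⟨n₀, hn₀⟩ := RB70.exists_vanishing_ample π hM
      (ClSub.idealMod ((Scheme.IdealSheafData.vanishingIdeal C) ^ m)) (Amp73.isCoh_idealMod (isFiniteTypeIdeal _))
    let K := (Scheme.IdealSheafData.vanishingIdeal Zc) ^ m
    have hK : CohB1.IsAmple ((Scheme.Modules.pullback K.subschemeι).obj L) := by
      have hle : K ≤ Scheme.IdealSheafData.vanishingIdeal Zc := fun W => by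
        show ((Scheme.IdealSheafData.vanishingIdeal Zc) ^ m).ideal W ≤ _
        rw [Scheme.IdealSheafData.ideal_pow, Pi.pow_apply]
        exact Ideal.pow_le_self hm.ne'
      let incl := Scheme.IdealSheafData.inclusion hle
      have hincl : incl ≫ K.subschemeι = (Scheme.IdealSheafData.vanishingIdeal Zc).subschemeι :=
        Scheme.IdealSheafData.inclusion_subschemeι hle
      haveI : IsClosedImmersion (incl ≫ K.subschemeι) := by rw [hincl]; infer_instance
      haveI : IsClosedImmersion incl := IsClosedImmersion.of_comp incl K.subschemeι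
      have hsurj : Function.Surjective incl.base := fun z => by
        have h1 : K.subschemeι z ∈ Set.range (Scheme.IdealSheafData.vanishingIdeal Zc).subschemeι := by
          have h2 : Set.range K.subschemeι = Set.range (Scheme.IdealSheafData.vanishingIdeal Zc).subschemeι := by
            rw [Scheme.IdealSheafData.range_subschemeι, Scheme.IdealSheafData.range_subschemeι,
              Scheme.IdealSheafData.support_pow _ _ hm.ne']
          exact h2 ▸ Set.mem_range_self z
        obtain ⟨w, hw⟩ := h1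
        refine ⟨w, K.subschemeι.isClosedEmbedding.injective ?_⟩
        rw [← hw, ← hincl]
        rfl
      have hhom : IsHomeomorph incl.base := isHomeomorph_iff_isEmbedding_surjective.2
        ⟨incl.isClosedEmbedding.isEmbedding, hsurj⟩
      refine (S2153.result incl hhom _ (Amp73.isInvertible_pullback _ hL)).1 ?_
      exact Amp73.isAmple_of_iso
        ((Scheme.Modules.pullbackCongr hincl).symm.app L ≪≫ ((Scheme.Modules.pullbackComp incl K.subschemeι).app L).symm) hZ
    let L₁ := CohB1.tensorPow L d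
    have hL₁ : PicF.IsInvertible L₁ := EGA73.isInvertible_tensorPow hL d
    let L₂ := CohB1.tensorPow L₁ (n₀ + 1)
    have hL₂ : PicF.IsInvertible L₂ := EGA73.isInvertible_tensorPow hL₁ _
    have hK₂ : CohB1.IsAmple ((Scheme.Modules.pullback K.subschemeι).obj L₂) :=
      Amp73.isAmple_of_iso (pullPowIso K.subschemeι hL₁ (n₀ + 1)).symm
        ((Amp73.isAmple_tensorPow_iff (Amp73.isInvertible_pullback K.subschemeι hL₁) n₀.succ_pos).1
          (Amp73.isAmple_of_iso (pullPowIso K.subschemeι hL d).symm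
            ((Amp73.isAmple_tensorPow_iff (Amp73.isInvertible_pullback K.subschemeι hL) hd).1 hK)))
    obtain ⟨z, hz⟩ : h x₂ ∈ Set.range K.subschemeι := by
      rw [Scheme.IdealSheafData.range_subschemeι, Scheme.IdealSheafData.support_pow _ _ hm.ne',
        Scheme.IdealSheafData.coe_support_vanishingIdeal]
      exact hxZ
    obtain ⟨_, ⟨k, t, rfl⟩, hzt, -, -⟩ := Amp73.exists_affine_genSet_le hK₂ z ⊤ trivial
    let N := CohB1.tensorPow L₂ (k + 1)
    have hN : PicF.IsInvertible N := EGA73.isInvertible_tensorPow hL₂ _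
    let M₂ := CohB1.tensorPow M (n₀ + 1)
    let M' := CohB1.tensorPow M₂ (k + 1)
    have hM' : PicF.IsInvertible M' := EGA73.isInvertible_tensorPow (EGA73.isInvertible_tensorPow hM.1 _) _
    let ψ : (Scheme.Modules.pullback h).obj N ≅ M'.restrict j :=
      powComp h j hL₂ (EGA73.isInvertible_tensorPow hM.1 _)
          (powComp h j hL₁ hM.1 (pullPowIso h hL d ≪≫ φ.symm) (n₀ + 1)) (k + 1) ≪≫
        ((Scheme.Modules.restrictFunctorIsoPullback j).app M').symm
    have hmn : n₀ ≤ (n₀ + 1) * (k + 1) := (Nat.le_succ n₀).trans (Nat.le_mul_of_pos_right _ k.succ_pos)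
    have hH : Subsingleton (Coh.HH P (CohB1.tensorMod
        (ClSub.idealMod ((Scheme.IdealSheafData.vanishingIdeal C) ^ m)) M') 1) :=
      ValVan29.subsingleton_hh_of_iso (EGA73.tensIso (Iso.refl _) (powMul M (n₀ + 1) (k + 1))).symm 1
        (hn₀ _ hmn 1 le_rfl)
    let eN : ∀ i, Γ(N, U i) := fun i => epow (epow (epow (e i) d) (n₀ + 1)) (k + 1)
    have heN : ∀ i, IsFrame N (U i) (eN i) := fun i =>
      isFrame_epow (isFrame_epow (isFrame_epow (he i) d) (n₀ + 1)) (k + 1)
    obtain ⟨σ, hσr, hσ⟩ := exists_extend h Zc j hclosed m hm hN hM' ψ Ua hU eN heN hH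
      (t ≫ (pullPowIso K.subschemeι hL₂ (k + 1)).inv)
    choose a c hta hsc hmem using hσ
    obtain ⟨s, hs, -⟩ := exists_descend h (app_injective h) hN (restrHom j σ ≫ ψ.inv) U hU (fun i => by
      obtain ⟨b, hb⟩ := hrange i _ (hmem i)
      exact ⟨(a i + b) • eN i, by
        rw [hsc, pullS_smul]
        congr 1
        change c i = h.app (U i) (a i + b)
        rw [map_add, show h.app (U i) b = c i - h.app (U i) (a i) from hb, add_sub_cancel]⟩)
    have hgen : CohB1.genLocus _ (restrHom j σ ≫ ψ.inv) = j ⁻¹ᵁ CohB1.genLocus M' σ := by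
      rw [genLocus_comp_iso, genLocus_restrHom j hM' σ]
    refine ⟨CohB1.genLocus N s, mem_genSet_of_tensorPow hd
      (mem_genSet_of_tensorPow n₀.succ_pos ⟨k, s, rfl⟩), ?_, ?_⟩
    · obtain ⟨i, hi⟩ := Opens.mem_iSup.1 (hU.ge (show h x₂ ∈ (⊤ : X.Opens) from trivial))
      have hzi : z ∈ K.subschemeι ⁻¹ᵁ U i := show K.subschemeι z ∈ U i from hz.symm ▸ hi
      have hza : z ∈ K.subscheme.basicOpen (K.subschemeι.app (U i) (a i)) := by
        refine ((genLocus_inf_eq_basicOpen (t ≫ (pullPowIso K.subschemeι hL₂ (k + 1)).inv)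
          (isFrame_pullS K.subschemeι hN (heN i)) (hta i).symm).le ⟨?_, hzi⟩)
        rw [genLocus_comp_iso]; exact hzt
      rw [← Scheme.preimage_basicOpen] at hza
      have hxa : h x₂ ∈ X.basicOpen (a i) := hz ▸ hza
      have hxd : x₂ ∉ X₂.basicOpen (c i - h.app (U i) (a i)) :=
        notMem_basicOpen_of_mem_pow hm (hmem i) hi hxZ
      have hxh : x₂ ∈ X₂.basicOpen (h.app (U i) (a i)) := by rw [← Scheme.preimage_basicOpen]; exact hxa
      have hxc : x₂ ∈ X₂.basicOpen (c i) := by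
        have hi' : x₂ ∈ h ⁻¹ᵁ U i := hi
        rw [Scheme.mem_basicOpen _ _ _ hi'] at hxd hxh ⊢
        by_contra h6
        refine (IsLocalRing.mem_maximalIdeal _).1 ?_ hxh
        have h7 := sub_mem ((IsLocalRing.mem_maximalIdeal _).2 h6) ((IsLocalRing.mem_maximalIdeal _).2 hxd)
        rwa [← map_sub, sub_sub_cancel] at h7
      exact (show x₂ ∈ h ⁻¹ᵁ CohB1.genLocus N s from
        hs ▸ ((genLocus_inf_eq_basicOpen _ (isFrame_pullS h hN (heN i)) (hsc i).symm).ge hxc).1)
    · refine image_affine h _ ?_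
      rw [← hs, hgen]
      exact (GenAff57.isAffineOpen_genLocus π (Amp73.isAmple_of_iso (powMul M (n₀+1) (k+1)).symm
        ((Amp73.isAmple_tensorPow_iff hM.1 (Nat.mul_pos n₀.succ_pos k.succ_pos)).1 hM)) σ).preimage_of_isOpenImmersion j hσr
  · -- a point where nothing happens
    obtain ⟨_, ⟨k, t, rfl⟩, hxt, htW, hta⟩ :=
      Amp73.exists_affine_genSet_le h2 x₂ (h ⁻¹ᵁ Zc.compl) hxZ
    let N := CohB1.tensorPow L (k + 1)
    have hN : PicF.IsInvertible N := EGA73.isInvertible_tensorPow hL _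
    let t₁ := t ≫ (pullPowIso h hL (k + 1)).inv
    let s₂ := SecTwist.powHom t₁ m ≫ (pullPowIso h hN m).inv
    have hgen : CohB1.genLocus _ s₂ = CohB1.genLocus _ t := by
      rw [genLocus_comp_iso, genLocus_powHom (Amp73.isInvertible_pullback h hN) t₁ m hm, genLocus_comp_iso]
    have heN : ∀ i, IsFrame N (U i) (epow (e i) (k + 1)) := fun i => isFrame_epow (he i) _
    obtain ⟨s, hs, -⟩ := exists_descend h (app_injective h) (EGA73.isInvertible_tensorPow hN m) s₂ U hU (fun i => by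
      let E := epow (epow (e i) (k + 1)) m
      have hE : IsFrame _ (U i) E := isFrame_epow (heN i) m
      have hP := isFrame_pullS h (EGA73.isInvertible_tensorPow hN m) hE
      obtain ⟨b, hb⟩ := exists_coord t₁ (isFrame_pullS h hN (heN i))
      obtain ⟨w, hw⟩ := (hP _ le_rfl).2 ((pullPowIso h hN m).inv.app (h ⁻¹ᵁ U i)
        (epow (pullS h N (U i) (epow (e i) (k + 1))) m))
      dsimp only at hw
      rw [res_self] at hw
      have hbQ : b ∈ (Scheme.IdealSheafData.vanishingIdeal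
          (⟨h ⁻¹' (Zc : Set X), Zc.isClosed.preimage h.continuous⟩ : Closeds X₂)).ideal
            ⟨h ⁻¹ᵁ U i, (hUa i).preimage h⟩ := (mem_vanishingIdeal_iff
              (⟨h ⁻¹' (Zc : Set X), Zc.isClosed.preimage h.continuous⟩ : Closeds X₂)
              ⟨h ⁻¹ᵁ U i, (hUa i).preimage h⟩ b).2 fun z hz hzC hzb => by
        have h1 := ((genLocus_inf_eq_basicOpen t₁ (isFrame_pullS h hN (heN i)) hb).ge hzb).1
        rw [genLocus_comp_iso] at h1
        exact htW h1 hzC
      obtain ⟨a, ha⟩ := hrange i (b ^ m * w) (by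
        rw [Scheme.IdealSheafData.ideal_pow, Pi.pow_apply]
        exact Ideal.mul_mem_right _ _ (Ideal.pow_mem_pow hbQ m))
      refine ⟨a • E, ?_⟩
      rw [pullS_smul, show h.app (U i) a = b ^ m * w from ha, mul_smul, hw, ← Scheme.Modules.Hom.app_smul,
        ← epow_smul, hb]
      exact congrArg ((pullPowIso h hN m).inv.app (h ⁻¹ᵁ U i)) (val_powHom t₁ m (h ⁻¹ᵁ U i)))
    refine ⟨CohB1.genLocus _ s, mem_genSet_of_tensorPow k.succ_pos (mem_genSet_of_tensorPow hm (mem_genSet_one s)), ?_, ?_⟩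
    · exact (show x₂ ∈ h ⁻¹ᵁ CohB1.genLocus _ s from hs ▸ hgen.ge hxt)
    · refine image_affine h _ ?_
      rw [← hs, hgen]
      exact hta

end Groth.Agent.E4O.Glue
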