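import Groth.Agent.Coh69.AmpleCrit
import Groth.Agent.Amp73.PullTensor
import Mathlib.AlgebraicGeometry.Morphisms.Finite

/-!
Tools for gluing sections along finite morphisms: descent of sections whose coefficients are
downstairs, conductors, and lifting of sections prescribed modulo an ideal.
-/

set_option autoImplicit false
set_option backward.isDefEq.respectTransparency.types false
set_option linter.style.haveILetI false

universe u

noncomputable section

open CategoryTheory CategoryTheory.Limits AlgebraicGeometry TopologicalSpace Opposite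

namespace Groth.Agent.E4O.Glue

open Var76.LineBundle Var76.ZeroScheme Amp73

variable {X X₂ : Scheme.{u}}

theorem mem_vanishingIdeal_iff (C : Closeds X) (U : X.affineOpens) (a : Γ(X, U.1)) :
    a ∈ (Scheme.IdealSheafData.vanishingIdeal C).ideal U ↔ ∀ z ∈ U.1, z ∈ C → z ∉ X.basicOpen a := by
  rw [Scheme.IdealSheafData.vanishingIdeal_ideal, PrimeSpectrum.mem_vanishingIdeal]
  constructor
  · intro h z hzU hzC hza
    have h1 : U.2.primeIdealOf ⟨z, hzU⟩ ∈ U.2.fromSpec ⁻¹ᵁ X.basicOpen a := by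
      show U.2.fromSpec _ ∈ X.basicOpen a
      rw [U.2.fromSpec_primeIdealOf]; exact hza
    rw [U.2.fromSpec_preimage_basicOpen] at h1
    refine h1 (h _ ?_)
    show U.2.fromSpec (U.2.primeIdealOf ⟨z, hzU⟩) ∈ C
    rw [U.2.fromSpec_primeIdealOf]
    exact hzC
  · intro h q hq
    by_contra hqa
    have h1 : q ∈ U.2.fromSpec ⁻¹ᵁ X.basicOpen a := by
      rw [U.2.fromSpec_preimage_basicOpen]; exact hqa
    exact h _ (U.2.range_fromSpec.le (Set.mem_range_self (f := U.2.fromSpec) q)) hq h1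

theorem vanishingIdeal_ideal_eq_top (C : Closeds X) (U : X.affineOpens) (h : ∀ z ∈ U.1, z ∉ C) :
    (Scheme.IdealSheafData.vanishingIdeal C).ideal U = ⊤ :=
  (Ideal.eq_top_iff_one _).2 ((mem_vanishingIdeal_iff C U 1).2 fun z hz hzC => absurd hzC (h z hz))

theorem app_injective (h : X₂ ⟶ X) [IsReduced X] [Surjective h] (U : X.Opens) :
    Function.Injective (h.app U) := by
  rw [injective_iff_map_eq_zero]
  intro a ha
  by_contra hne
  have hbot : X.basicOpen a ≠ ⊥ := fun h' => hne ((basicOpen_eq_bot_iff a).1 h')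
  obtain ⟨x, hx⟩ : (X.basicOpen a : Set X).Nonempty := by
    rw [Set.nonempty_iff_ne_empty]; exact fun h' => hbot (Opens.ext h')
  obtain ⟨z, hz⟩ := h.surjective x
  have : z ∈ h ⁻¹ᵁ X.basicOpen a := show h z ∈ X.basicOpen a from hz.symm ▸ hx
  rw [Scheme.preimage_basicOpen, ha, Scheme.basicOpen_zero] at this
  exact this

theorem pullS_injective (h : X₂ ⟶ X) (hinj : ∀ U : X.Opens, Function.Injective (h.app U)) {M : X.Modules}
    (hM : PicF.IsInvertible M) (U : X.Opens) : Function.Injective (pullS h M U) := by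
  intro a b hab
  choose W hxW hWU e he using fun z : U => Mero90.exists_affine_frame hM z.1 U z.2
  refine TopCat.Sheaf.eq_of_locally_eq' (⟨M.presheaf, M.isSheaf⟩ : TopCat.Sheaf AddCommGrpCat.{u} X)
    (fun z : U => (W z).1) U (fun z => homOfLE (hWU z))
    (fun x hx => Opens.mem_iSup.2 ⟨⟨x, hx⟩, hxW ⟨x, hx⟩⟩) a b fun z => ?_
  obtain ⟨c, hc⟩ := (he z _ le_rfl).2 (res M (hWU z) a)
  obtain ⟨d, hd⟩ := (he z _ le_rfl).2 (res M (hWU z) b)
  dsimp only at hc hd
  rw [res_self] at hc hd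
  have h1 := congrArg (res _ (h.preimage_mono (hWU z))) hab
  rw [res_pullS h M (hWU z), res_pullS h M (hWU z), ← hc, ← hd, pullS_smul, pullS_smul] at h1
  have h2 : h.app _ c = h.app _ d :=
    (isFrame_pullS h hM (he z) _ le_rfl).1 (by simpa only [res_self] using h1)
  show res M (hWU z) a = res M (hWU z) b
  rw [← hc, ← hd, hinj _ h2]

/-- Sections upstairs with coefficients downstairs descend. -/
theorem exists_descend (h : X₂ ⟶ X) (hinj : ∀ U : X.Opens, Function.Injective (h.app U)) {M : X.Modules}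
    (hM : PicF.IsInvertible M) (s₂ : Coh.structureModule X₂ ⟶ (Scheme.Modules.pullback h).obj M)
    {ι : Type u} (U : ι → X.Opens) (hU : ⨆ i, U i = ⊤)
    (hloc : ∀ i, ∃ m : Γ(M, U i), val _ s₂ (h ⁻¹ᵁ U i) = pullS h M (U i) m) :
    ∃ s : Coh.structureModule X ⟶ M,
      CohB1.genLocus _ s₂ = h ⁻¹ᵁ CohB1.genLocus M s ∧
      ∀ V : X.Opens, val _ s₂ (h ⁻¹ᵁ V) = pullS h M V (val M s V) := by
  choose m hm using hloc
  have hcomp : ∀ i j, res M (inf_le_left : U i ⊓ U j ≤ U i) (m i) =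
      res M (inf_le_right : U i ⊓ U j ≤ U j) (m j) := fun i j => by
    refine pullS_injective h hinj hM _ ?_
    rw [← res_pullS, ← res_pullS, ← hm, ← hm, res_val, res_val]
  obtain ⟨t, ht, -⟩ := TopCat.Sheaf.existsUnique_gluing' (C := AddCommGrpCat.{u})
    (⟨M.presheaf, M.isSheaf⟩ : TopCat.Sheaf AddCommGrpCat.{u} X) U ⊤ (fun i => homOfLE le_top) hU.ge m hcomp
  let s := Var76.Frames.ofSection M t
  have htop : val _ s₂ ⊤ = pullS h M ⊤ (val M s ⊤) := by
    refine TopCat.Sheaf.eq_of_locally_eq' (⟨((Scheme.Modules.pullback h).obj M).presheaf,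
      ((Scheme.Modules.pullback h).obj M).isSheaf⟩ : TopCat.Sheaf AddCommGrpCat.{u} X₂)
      (fun i => h ⁻¹ᵁ U i) ⊤ (fun i => homOfLE le_top) ?_ _ _ fun i => ?_
    · intro z _
      obtain ⟨i, hi⟩ := Opens.mem_iSup.1 (hU.ge (show h z ∈ (⊤ : X.Opens) from trivial))
      exact Opens.mem_iSup.2 ⟨i, hi⟩
    · show res _ le_top (val _ s₂ ⊤) = res _ le_top (pullS h M ⊤ (val M s ⊤))
      rw [res_val, hm, Var76.Frames.val_ofSection, res_self]
      refine (congrArg (pullS h M (U i)) (ht i).symm).trans ?_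
      exact (res_pullS h M (le_top : U i ≤ ⊤) t).symm
  have hall : ∀ V : X.Opens, val _ s₂ (h ⁻¹ᵁ V) = pullS h M V (val M s V) := fun V => by
    rw [← res_val _ s₂ (le_top : h ⁻¹ᵁ V ≤ ⊤), htop, ← res_val M s (le_top : V ≤ ⊤)]
    exact res_pullS h M le_top _
  refine ⟨s, ?_, hall⟩
  rw [← genLocus_pullHom h hM s]
  have : s₂ = pullHom h s := by
    refine (((Scheme.Modules.pullback h).obj M).unitHomEquiv).injective (Subtype.ext (funext fun W => ?_))
    show val _ s₂ W.unop = val _ (pullHom h s) W.unop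
    rw [← res_val _ s₂ (le_top : W.unop ≤ ⊤), ← res_val _ (pullHom h s) (le_top : W.unop ≤ ⊤)]
    congr 1
    exact (hall ⊤).trans (val_pullHom h s ⊤).symm
  rw [this]

theorem bijective_app_of_le (h : X₂ ⟶ X) (W : X.Opens) [IsIso (h ∣_ W)] {D : X.Opens} (hD : D ≤ W) :
    Function.Bijective (h.app D) := by
  have e : W.ι ''ᵁ (W.ι ⁻¹ᵁ D) = D := by
    rw [Scheme.Hom.image_preimage_eq_opensRange_inf, Scheme.Opens.opensRange_ι, inf_eq_right.2 hD]
  have h1 : IsIso ((h ∣_ W).app (W.ι ⁻¹ᵁ D)) := inferInstance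
  rw [morphismRestrict_app] at h1
  haveI : IsIso (h.app (W.ι ''ᵁ (W.ι ⁻¹ᵁ D))) :=
    @IsIso.of_isIso_comp_right _ _ _ _ _ _ (X₂.presheaf.map (eqToHom (image_morphismRestrict_preimage h W (W.ι ⁻¹ᵁ D))).op) inferInstance h1
  rw [e] at this
  exact ConcreteCategory.bijective_of_isIso _

theorem exists_pow_mul_mem_range (h : X₂ ⟶ X) [IsAffineHom h] (U : X.affineOpens) (g : Γ(X, U.1))
    (hbij : Function.Bijective (h.app (X.basicOpen g))) (b : Γ(X₂, h ⁻¹ᵁ U.1)) :
    ∃ N : ℕ, (h.app U.1).hom g ^ N * b ∈ (h.app U.1).hom.range := by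
  let ρ : Γ(X₂, h ⁻¹ᵁ U.1) →+* Γ(X₂, X₂.basicOpen ((h.app U.1).hom g)) :=
    (X₂.presheaf.map (homOfLE (X₂.basicOpen_le _)).op).hom
  have e : X₂.basicOpen ((h.app U.1).hom g) = h ⁻¹ᵁ X.basicOpen g := (h.preimage_basicOpen g).symm
  let τ : Γ(X₂, h ⁻¹ᵁ X.basicOpen g) →+* Γ(X₂, X₂.basicOpen ((h.app U.1).hom g)) :=
    (X₂.presheaf.map (homOfLE e.le).op).hom
  let σ : Γ(X, U.1) →+* Γ(X, X.basicOpen g) := (X.presheaf.map (homOfLE (X.basicOpen_le g)).op).hom
  have nat : ∀ c, τ (h.app _ (σ c)) = ρ ((h.app U.1).hom c) := fun c => by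
    refine (congrArg τ (ConcreteCategory.congr_hom (h.naturality (homOfLE (X.basicOpen_le g)).op) c)).trans ?_
    show (X₂.presheaf.map _ ≫ X₂.presheaf.map _) ((h.app U.1) c) = (X₂.presheaf.map _) ((h.app U.1) c)
    rw [← Functor.map_comp]
    rfl
  haveI hloc : IsLocalization.Away g Γ(X, X.basicOpen g) := U.2.isLocalization_basicOpen g
  haveI hloc' : IsLocalization.Away ((h.app U.1).hom g) Γ(X₂, X₂.basicOpen ((h.app U.1).hom g)) :=
    (U.2.preimage h).isLocalization_basicOpen _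
  obtain ⟨a', ha'⟩ := hbij.2 (X₂.presheaf.map (homOfLE (h.preimage_mono (X.basicOpen_le g))).op b)
  obtain ⟨⟨a, ⟨_, k, rfl⟩⟩, hk⟩ := IsLocalization.surj (Submonoid.powers g) a'
  replace hk : a' * σ (g ^ k) = σ a := hk
  have hb : τ (h.app _ a') = ρ b := by
    rw [ha']
    show (X₂.presheaf.map _ ≫ X₂.presheaf.map _) b = (X₂.presheaf.map _) b
    rw [← Functor.map_comp]
    rfl
  have h2 : ρ ((h.app U.1).hom g ^ k * b) = ρ ((h.app U.1).hom a) := by
    rw [map_mul, ← map_pow, ← nat, ← nat, ← hb, ← map_mul, ← map_mul, mul_comm, hk]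
  obtain ⟨⟨_, N, rfl⟩, hN⟩ :=
    IsLocalization.exists_of_eq (M := Submonoid.powers ((h.app U.1).hom g)) h2
  refine ⟨N + k, (h.app U.1).hom.mem_range.2 ⟨g ^ N * a, ?_⟩⟩
  rw [map_mul, map_pow, pow_add, mul_assoc]
  exact hN.symm

/-- Where a finite morphism is an isomorphism away from a closed set, high powers of the ideal of
its preimage lie downstairs. -/
theorem exists_pow_le_range (h : X₂ ⟶ X) [IsFinite h] [IsLocallyNoetherian X₂] (Zc : Closeds X) [IsIso (h ∣_ Zc.compl)]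
    (U : X.affineOpens) :
    ∃ m : ℕ, ∀ n, m ≤ n → ∀ b ∈ ((Scheme.IdealSheafData.vanishingIdeal
      (⟨h ⁻¹' (Zc : Set X), Zc.isClosed.preimage h.continuous⟩ : Closeds X₂)) ^ n).ideal
        ⟨h ⁻¹ᵁ U.1, U.2.preimage h⟩, b ∈ (h.app U.1).hom.range := by
  let V : X₂.affineOpens := ⟨h ⁻¹ᵁ U.1, U.2.preimage h⟩
  let Q := (Scheme.IdealSheafData.vanishingIdeal
    (⟨h ⁻¹' (Zc : Set X), Zc.isClosed.preimage h.continuous⟩ : Closeds X₂)).ideal V
  let φ := (h.app U.1).hom
  letI : Algebra Γ(X, U.1) Γ(X₂, V.1) := φ.toAlgebra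
  haveI : Module.Finite Γ(X, U.1) Γ(X₂, V.1) := IsFinite.finite_app h U.1 U.2
  haveI : IsNoetherianRing Γ(X₂, V.1) := IsLocallyNoetherian.component_noetherian V
  let C : Ideal Γ(X₂, V.1) :=
    { carrier := {b | ∀ b', b * b' ∈ φ.range}
      add_mem' := fun {a b} ha hb b' => by rw [add_mul]; exact φ.range.add_mem (ha b') (hb b')
      zero_mem' := fun b' => by rw [zero_mul]; exact φ.range.zero_mem
      smul_mem' := fun c b hb b' => by
        have := hb (c * b')
        rwa [smul_eq_mul, mul_comm c b, mul_assoc] }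
  have hC : Q ≤ C.radical := fun b hb => by
    rw [Ideal.radical_eq_sInf, Submodule.mem_sInf]
    rintro P ⟨hCP, hP⟩
    haveI := hP
    obtain ⟨z, hzV, hz⟩ : ∃ z, ∃ hz : z ∈ V.1, (V.2.primeIdealOf ⟨z, hz⟩).asIdeal = P := by
      have hmem : V.2.fromSpec ⟨P, hP⟩ ∈ V.1 :=
        V.2.range_fromSpec.le (Set.mem_range_self (f := V.2.fromSpec) (⟨P, hP⟩ : PrimeSpectrum _))
      exact ⟨_, hmem, congrArg PrimeSpectrum.asIdeal
        (V.2.fromSpec.isOpenEmbedding.injective (V.2.fromSpec_primeIdealOf ⟨_, hmem⟩))⟩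
    have hbo : ∀ c : Γ(X₂, V.1), z ∈ X₂.basicOpen c ↔ c ∉ P := fun c => by
      have h1 : V.2.primeIdealOf ⟨z, hzV⟩ ∈ V.2.fromSpec ⁻¹ᵁ X₂.basicOpen c ↔ z ∈ X₂.basicOpen c := by
        show V.2.fromSpec _ ∈ X₂.basicOpen c ↔ _
        rw [V.2.fromSpec_primeIdealOf]
      rw [← h1, V.2.fromSpec_preimage_basicOpen, ← hz]
      exact Iff.rfl
    by_cases hzZ : h z ∈ Zc
    · by_contra hbP
      exact (mem_vanishingIdeal_iff _ V b).1 hb z hzV hzZ ((hbo b).2 hbP)
    · obtain ⟨g, hgW, hzg⟩ := U.2.exists_basicOpen_le (V := (Zc.compl : X.Opens)) ⟨h z, hzZ⟩ hzV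
      have hbij : Function.Bijective (h.app (X.basicOpen g)) := bijective_app_of_le h Zc.compl hgW
      obtain ⟨S, hS⟩ := Module.Finite.fg_top (R := Γ(X, U.1)) (M := Γ(X₂, V.1))
      have key : ∀ b' : Γ(X₂, V.1), ∃ N : ℕ, φ g ^ N * b' ∈ φ.range := fun b' =>
        exists_pow_mul_mem_range h U g hbij b'
      choose N hN using key
      have hall : φ g ^ S.sup N ∈ C := fun b' => by
        have : b' ∈ Submodule.span Γ(X, U.1) (S : Set Γ(X₂, V.1)) := hS.ge Submodule.mem_top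
        induction this using Submodule.span_induction with
        | mem c hc =>
          obtain ⟨d, hd⟩ := Nat.exists_eq_add_of_le (Finset.le_sup (f := N) (Finset.mem_coe.1 hc))
          rw [hd, pow_add, mul_right_comm]
          exact φ.range.mul_mem (hN c) (φ.range.pow_mem (φ.mem_range_self g) d)
        | zero => rw [mul_zero]; exact φ.range.zero_mem
        | add x y _ _ hx hy => rw [mul_add]; exact φ.range.add_mem hx hy
        | smul c x _ hx =>
          rw [Algebra.smul_def, mul_left_comm]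
          exact φ.range.mul_mem (φ.mem_range_self c) hx
      have hgP : φ g ∉ P := (hbo (φ g)).1 (by
        rw [show X₂.basicOpen (φ g) = h ⁻¹ᵁ X.basicOpen g from (h.preimage_basicOpen g).symm]
        exact hzg)
      exact absurd (hP.mem_of_pow_mem _ (hCP hall)) hgP
  obtain ⟨m, hm⟩ := Ideal.exists_pow_le_of_le_radical_of_fg hC (IsNoetherian.noetherian Q)
  refine ⟨m, fun n hn b hb => ?_⟩
  rw [Scheme.IdealSheafData.ideal_pow, Pi.pow_apply] at hb
  simpa using hm (Ideal.pow_le_pow_right hn hb) 1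

open Crv77 (valueAt valueAt_frame) in
theorem valueAt_eq_zero_iff (I : X.IdealSheafData) {M : X.Modules} {W : X.affineOpens} {e : Γ(M, W.1)}
    (he : IsFrame M W.1 e) (c : Γ(X, W.1)) : (valueAt I M).app W.1 (c • e) = 0 ↔ c ∈ I.ideal W := by
  rw [valueAt_frame, ← Crv77.toSubscheme_eq_zero_iff I W.2 c]
  constructor
  · intro h
    refine tm_frame_injective (L := ClSub.quotMod I) he le_rfl _ _ ?_
    rw [res_self, tm_zero_left]
    exact h
  · intro h
    rw [h, tm_zero_left]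

/-- Sections prescribed modulo an ideal lift when `H¹` vanishes. -/
theorem exists_lift (I : X.IdealSheafData) {M : X.Modules} (hM : PicF.IsInvertible M)
    (hH : Subsingleton (Coh.HH X (CohB1.tensorMod (ClSub.idealMod I) M) 1)) {ι : Type u} (V : ι → X.Opens)
    (hV : ⨆ i, V i = ⊤) (m : ∀ i, Γ(M, V i))
    (hm : ∀ i j, ∀ z ∈ V i ⊓ V j, ∃ (W : X.affineOpens) (hi : W.1 ≤ V i) (hj : W.1 ≤ V j) (e : Γ(M, W.1))
      (c : Γ(X, W.1)), z ∈ W.1 ∧ IsFrame M W.1 e ∧ c ∈ I.ideal W ∧ res M hi (m i) - res M hj (m j) = c • e) :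
    ∃ σ : Coh.structureModule X ⟶ M, ∀ (i) (W : X.affineOpens) (hi : W.1 ≤ V i) (e : Γ(M, W.1)),
      IsFrame M W.1 e → ∀ c : Γ(X, W.1), val M σ W.1 - res M hi (m i) = c • e → c ∈ I.ideal W := by
  let F := CohB1.tensorMod (ClSub.quotMod I) M
  let sf : ∀ i, Γ(F, V i) := fun i => (Crv77.valueAt I M).app (V i) (m i)
  have hcomp : ∀ i j, res F (inf_le_left : V i ⊓ V j ≤ V i) (sf i) =
      res F (inf_le_right : V i ⊓ V j ≤ V j) (sf j) := fun i j => by
    choose W hi hj e c hzW he hc heq using fun z : ↥(V i ⊓ V j) => hm i j z.1 z.2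
    refine TopCat.Sheaf.eq_of_locally_eq' (⟨F.presheaf, F.isSheaf⟩ : TopCat.Sheaf AddCommGrpCat.{u} X)
      (fun z : ↥(V i ⊓ V j) => (W z).1) _ (fun z => homOfLE (le_inf (hi z) (hj z)))
      (fun x hx => Opens.mem_iSup.2 ⟨⟨x, hx⟩, hzW ⟨x, hx⟩⟩) _ _ fun z => ?_
    show res F (le_inf (hi z) (hj z)) _ = res F (le_inf (hi z) (hj z)) _
    rw [res_res, res_res, ← Mero90.app_res, ← Mero90.app_res]
    rw [← sub_eq_zero, ← map_sub, heq z]
    exact (valueAt_eq_zero_iff I (he z) (c z)).2 (hc z)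
  obtain ⟨T, hT, -⟩ := TopCat.Sheaf.existsUnique_gluing' (C := AddCommGrpCat.{u})
    (⟨F.presheaf, F.isSheaf⟩ : TopCat.Sheaf AddCommGrpCat.{u} X) V ⊤ (fun i => homOfLE le_top) hV.ge sf hcomp
  obtain ⟨s, hs⟩ := Coh69.AmpleCrit.surjective_valueAt I hM hH T
  refine ⟨Var76.Frames.ofSection M s, fun i W hi e he c hc => ?_⟩
  rw [← valueAt_eq_zero_iff I he c, ← hc, map_sub, Var76.Frames.val_ofSection, Mero90.app_res, Mero90.app_res,
    hs, sub_eq_zero, ← res_res F (le_top : V i ≤ ⊤) hi T, show res F (le_top : V i ≤ ⊤) T = sf i from hT i]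

end Groth.Agent.E4O.Glue
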