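import Groth.Agent.E4O.AmpleFinDesc
import Groth.Agent.GIT36.Desc.Affine
import Groth.Agent.LimTop61.RelAmpleStage
import Groth.Agent.LimTop61.FgSubalgLimit

/-!
Ampleness descends along universally open surjective morphisms locally of finite type when the
non-normal locus is contained in a closed subset proper over the base.
-/

set_option autoImplicit false
set_option backward.isDefEq.respectTransparency.types false
set_option linter.style.haveILetI false
set_option maxSynthPendingDepth 6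

universe u

noncomputable section

open CategoryTheory CategoryTheory.Limits AlgebraicGeometry TopologicalSpace Opposite

namespace Groth.Agent.E4O.Glue

theorem compPullIso {A B C : Scheme.{u}} {a : A ⟶ B} {b : B ⟶ C} {c : A ⟶ C} (h : a ≫ b = c) (L : C.Modules) :
    Nonempty ((Scheme.Modules.pullback a).obj ((Scheme.Modules.pullback b).obj L) ≅
      (Scheme.Modules.pullback c).obj L) :=
  ⟨(Scheme.Modules.pullbackComp a b).app L ≪≫ (Scheme.Modules.pullbackCongr h).app L⟩

/-- An integral surjection onto a Noetherian affine scheme factoring locally through a universally open cover. -/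
theorem exists_integral_refine {R : Type u} [CommRing R] [IsNoetherianRing R] {Y' : Scheme.{u}}
    (g : Y' ⟶ Spec (CommRingCat.of R)) [LocallyOfFiniteType g] [UniversallyOpen g] [Surjective g] :
    ∃ (T : Type u) (_ : CommRing T) (_ : Algebra R T), Algebra.IsIntegral R T ∧
      Surjective (Spec.map (CommRingCat.ofHom (algebraMap R T))) ∧
      ∀ t : PrimeSpectrum T, ∃ (U : Scheme.{u}) (v : U ⟶ Spec (CommRingCat.of T)) (_ : IsOpenImmersion v)
        (w : U ⟶ Y'), t ∈ Set.range v ∧ v ≫ Spec.map (CommRingCat.ofHom (algebraMap R T)) = w ≫ g := by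
  classical
  let P := {p : Ideal R // p ∈ minimalPrimes R}
  have : Finite P := (minimalPrimes.finite_of_isNoetherianRing R).to_subtype
  have hP : ∀ p : P, p.1.IsPrime := fun p => p.2.1.1
  let A : P → Type u := fun p =>
    integralClosure (R ⧸ p.1) (AlgebraicClosure (FractionRing (R ⧸ p.1)))
  let _ : ∀ p, Algebra R (A p) := fun p =>
    ((algebraMap (R ⧸ p.1) (A p)).comp (Ideal.Quotient.mk p.1)).toAlgebra
  have hint : ∀ p, Algebra.IsIntegral R (A p) := fun p => ⟨fun x => by
    obtain ⟨f, hf, hf0⟩ := Algebra.IsIntegral.isIntegral (R := R ⧸ p.1) x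
    obtain ⟨F, rfl, -, hFm⟩ := Polynomial.lifts_and_degree_eq_and_monic
      (Polynomial.map_surjective _ Ideal.Quotient.mk_surjective f) hf
    refine ⟨F, hFm, ?_⟩
    rwa [Polynomial.eval₂_map] at hf0⟩
  have := Fintype.ofFinite P
  have hsurjτ : Surjective (Spec.map (CommRingCat.ofHom (algebraMap R (∀ p, A p)))) := ⟨fun (y : PrimeSpectrum R) => by
    obtain ⟨p, hp, hpy⟩ := Ideal.exists_minimalPrimes_le (I := (⊥ : Ideal R)) (J := y.asIdeal) bot_le
    have hpP := hP ⟨p, hp⟩
    have hy : (y.asIdeal.map (Ideal.Quotient.mk p)).IsPrime :=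
      Ideal.map_isPrime_of_surjective Ideal.Quotient.mk_surjective (Ideal.mk_ker.le.trans hpy)
    obtain ⟨Q, -, hQ, hQy⟩ := Ideal.exists_ideal_over_prime_of_isIntegral
      (y.asIdeal.map (Ideal.Quotient.mk p)) (⊥ : Ideal (A ⟨p, hp⟩)) (by
        rw [← RingHom.ker_eq_comap_bot, (RingHom.injective_iff_ker_eq_bot _).1 (fun a b h => by
          have h' := congrArg Subtype.val h
          exact IsFractionRing.injective (R ⧸ p) (FractionRing (R ⧸ p))
            ((algebraMap (FractionRing (R ⧸ p)) (AlgebraicClosure (FractionRing (R ⧸ p)))).injective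
              ((IsScalarTower.algebraMap_apply _ _ _ a).symm.trans
                (h'.trans (IsScalarTower.algebraMap_apply _ _ _ b)))))]
        exact bot_le)
    refine ⟨⟨Q.comap (Pi.evalRingHom A ⟨p, hp⟩), inferInstance⟩, PrimeSpectrum.ext ?_⟩
    show (Q.comap (Pi.evalRingHom A ⟨p, hp⟩)).comap (algebraMap R (∀ p, A p)) = y.asIdeal
    rw [Ideal.comap_comap]
    show Q.comap ((algebraMap (R ⧸ p) (A ⟨p, hp⟩)).comp (Ideal.Quotient.mk p)) = _
    rw [← Ideal.comap_comap, show Q.comap (algebraMap (R ⧸ p) (A ⟨p, hp⟩)) = _ from hQy,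
      Ideal.comap_map_of_surjective _ Ideal.Quotient.mk_surjective, ← RingHom.ker_eq_comap_bot,
      Ideal.mk_ker]
    exact sup_eq_left.2 hpy⟩
  exact ⟨∀ p, A p, inferInstance, inferInstance, GIT36.Desc.isIntegral_pi A hint, hsurjτ,
    fun t => GIT36.Desc.exists_lift_pi A g (fun p q hq => GIT36.Desc.exists_local_lift p.1 (hp := hP p) g q) t⟩

/-- The affine case. -/
theorem isAmple_of_universallyOpen {R : Type u} [CommRing R] [IsNoetherianRing R] {X Y' : Scheme.{u}}
    (f : X ⟶ Spec (CommRingCat.of R)) [LocallyOfFiniteType f] [QuasiCompact f]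
    (g : Y' ⟶ Spec (CommRingCat.of R)) [LocallyOfFiniteType g] [UniversallyOpen g] [Surjective g]
    (Zc : Closeds X) (hZc : IsProper ((Scheme.IdealSheafData.vanishingIdeal Zc).subschemeι ≫ f))
    (hW : ∀ x : X, x ∉ Zc → IsDomain (X.presheaf.stalk x) ∧ IsIntegrallyClosed (X.presheaf.stalk x))
    {L : X.Modules} (hL : PicF.IsInvertible L) {P' : Scheme.{u}} {p' : P' ⟶ X} {f' : P' ⟶ Y'}
    (sq : IsPullback p' f' f g) (h' : RelAmple.IsRelAmple f' ((Scheme.Modules.pullback p').obj L)) :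
    CohB1.IsAmple L := by
  obtain ⟨T, _, _, hint, hsurjτ, hlift⟩ := exists_integral_refine g
  let τ : Spec (CommRingCat.of T) ⟶ Spec (CommRingCat.of R) := Spec.map (CommRingCat.ofHom (algebraMap R T))
  -- ampleness over `T`
  let fT := pullback.snd f τ
  let pT := pullback.fst f τ
  have hT : RelAmple.IsRelAmple fT ((Scheme.Modules.pullback pT).obj L) := by
    refine Amp73.isRelAmple_of_cover fT fun t => ?_
    obtain ⟨U, v, _, w, htv, hvw⟩ := hlift t
    obtain ⟨V, hV, htV, hVle⟩ := exists_isAffineOpen_mem_and_subset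
      (X := Spec (CommRingCat.of T)) (x := t) (U := v.opensRange) htv
    let k : (V : Scheme.{u}) ⟶ U := IsOpenImmersion.lift v V.ι (by rw [Scheme.Opens.range_ι]; exact hVle)
    have hk : k ≫ v = V.ι := IsOpenImmersion.lift_fac _ _ _
    have hkw : (k ≫ w) ≫ g = V.ι ≫ τ := by rw [Category.assoc, ← hvw, ← Category.assoc, hk]
    let a := (fT ⁻¹ᵁ V).ι
    have houter : IsPullback (a ≫ pT) (fT ∣_ V) f (V.ι ≫ τ) :=
      ((isPullback_morphismRestrict fT V).flip).paste_horiz (IsPullback.of_hasPullback f τ)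
    let q : (fT ⁻¹ᵁ V : Scheme.{u}) ⟶ P' := sq.lift (a ≫ pT) ((fT ∣_ V) ≫ k ≫ w) (by
      rw [Category.assoc (fT ∣_ V), hkw]; exact houter.w)
    have hq : q ≫ p' = a ≫ pT := sq.lift_fst _ _ _
    have hsq : IsPullback q (fT ∣_ V) f' (k ≫ w) := by
      refine IsPullback.of_right ?_ (sq.lift_snd _ _ _) sq
      rw [hq, hkw]
      exact houter
    haveI : IsAffine (V : Scheme.{u}) := hV
    haveI : QuasiCompact (fT ∣_ V) := IsZariskiLocalAtTarget.restrict (P := @QuasiCompact) inferInstance V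
    obtain ⟨e⟩ := compPullIso hq L
    refine ⟨⟨V, hV⟩, htV, Amp73.isAmple_of_iso ?_
      ((Amp73.isRelAmple_iff_isAmple (fT ∣_ V)).1 (LimTop61.isRelAmple_of_isPullback hsq h'))⟩
    exact e ≪≫ ((Scheme.Modules.pullbackComp a pT).app L).symm ≪≫
      ((Scheme.Modules.restrictFunctorIsoPullback a).app _).symm
  -- descend to a finite stage
  let A₀ : CommRingCat.{u} := CommRingCat.of R
  let B₀ : CommRingCat.{u} := CommRingCat.of T
  let D := LimTop61.subalgSpec A₀ B₀
  let c := LimTop61.subalgCone A₀ B₀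
  let i₀ : (LimTop61.FgSubalg A₀ B₀)ᵒᵖ := op ⟨⊥, Subalgebra.fg_bot⟩
  let σ : ∀ j : (LimTop61.FgSubalg A₀ B₀)ᵒᵖ, D.obj j ⟶ Spec (CommRingCat.of R) := fun j =>
    Spec.map (CommRingCat.ofHom (algebraMap A₀ j.unop.1))
  have hσ : ∀ {j k} (φ : j ⟶ k), D.map φ ≫ σ k = σ j := fun {j k} φ => by
    simp only [D, σ, LimTop61.subalgSpec, Functor.comp_map, Functor.op_map, Scheme.Spec_map,
      Quiver.Hom.unop_op]
    rw [← Spec.map_comp]
    rfl
  have hcσ : ∀ j, c.π.app j ≫ σ j = τ := fun j => by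
    show Spec.map _ ≫ Spec.map _ = _
    rw [← Spec.map_comp]
    rfl
  have hfin : ∀ j, IsFinite (σ j) := fun j => by
    refine (IsFinite.SpecMap_iff _).2 ?_
    show (algebraMap A₀ j.unop.1).Finite
    refine RingHom.finite_algebraMap.2 ?_
    haveI : Algebra.IsIntegral A₀ j.unop.1 := by
      have : Algebra.IsIntegral A₀ B₀ := hint
      exact ⟨fun x => (isIntegral_algHom_iff j.unop.1.val Subtype.val_injective).1
        (Algebra.IsIntegral.isIntegral _)⟩
    haveI : Algebra.FiniteType A₀ j.unop.1 := (Subalgebra.fg_iff_finiteType _).1 j.unop.2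
    exact Algebra.IsIntegral.finite
  have hsur : ∀ j, Surjective (σ j) := fun j => ⟨fun y => by
    obtain ⟨t, ht⟩ := hsurjτ.surj y
    exact ⟨c.π.app j t, (congrArg (fun q : Spec B₀ ⟶ Spec (CommRingCat.of R) => q t) (hcσ j)).trans ht⟩⟩
  haveI := hfin i₀
  haveI : IsFinite (pullback.fst f (σ i₀)) := MorphismProperty.pullback_fst (P := @IsFinite) _ _ inferInstance
  haveI : IsLocallyNoetherian (pullback f (σ i₀)) :=
    LocallyOfFiniteType.isLocallyNoetherian (pullback.fst f (σ i₀) ≫ f)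
  haveI : CompactSpace X := QuasiCompact.compactSpace_of_compactSpace f
  haveI : CompactSpace (D.obj i₀) := QuasiCompact.compactSpace_of_compactSpace (σ i₀)
  let L₀ := (Scheme.Modules.pullback (pullback.fst f (σ i₀))).obj L
  let qX : pullback f τ ⟶ pullback f (σ i₀) :=
    pullback.lift pT (fT ≫ c.π.app i₀) (by rw [Category.assoc]; exact pullback.condition.trans (congrArg (fT ≫ ·) (hcσ i₀).symm))
  have hqX : qX ≫ pullback.fst f (σ i₀) = pT := pullback.lift_fst _ _ _
  have hX : IsPullback qX fT (pullback.snd f (σ i₀)) (c.π.app i₀) := by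
    refine IsPullback.of_right ?_ (pullback.lift_snd _ _ _) (IsPullback.of_hasPullback f (σ i₀))
    rw [hqX]
    exact (hcσ i₀).symm ▸ IsPullback.of_hasPullback f τ
  obtain ⟨e₀⟩ := compPullIso hqX L
  haveI : IsDirectedOrder (LimTop61.FgSubalg A₀ B₀) :=
    ⟨fun S T => ⟨⟨S.1 ⊔ T.1, S.2.sup T.2⟩, le_sup_left (a := S.1), le_sup_right (a := S.1)⟩⟩
  haveI : Nonempty (LimTop61.FgSubalg A₀ B₀) := ⟨⟨⊥, Subalgebra.fg_bot⟩⟩
  haveI : IsFiltered (LimTop61.FgSubalg A₀ B₀) := isFiltered_of_directed_le_nonempty _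
  haveI : IsCofiltered (LimTop61.FgSubalg A₀ B₀)ᵒᵖ := isCofiltered_op_of_isFiltered _
  obtain ⟨j, φ, Xj, Yj, fj, gj, pY, pX, hYj, hXj, hj⟩ :=
    (LimTop61.isRelAmple_iff_stage D c (LimTop61.isLimitSubalgCone A₀ B₀) i₀ (pullback.snd f (σ i₀))
      (𝟙 (D.obj i₀)) L₀ (Amp73.isInvertible_pullback _ hL) fT (𝟙 c.pt) (c.π.app i₀) qX
      IsPullback.of_id_snd hX).1 (Amp73.isRelAmple_of_iso e₀.symm hT)
  haveI : IsIso gj := (MorphismProperty.isomorphisms Scheme).of_isPullback hYj (inferInstanceAs (IsIso (𝟙 (D.obj i₀))))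
  haveI : IsAffine Yj := .of_isIso gj
  have hpY : pY = gj ≫ D.map φ := by simpa using hYj.w
  have houter : IsPullback (pX ≫ pullback.fst f (σ i₀)) fj f (gj ≫ σ j) := by
    have := hXj.paste_horiz (IsPullback.of_hasPullback f (σ i₀))
    rwa [show pY ≫ σ i₀ = gj ≫ σ j by rw [hpY, Category.assoc, hσ]] at this
  haveI := hfin j
  haveI := hsur j
  haveI : IsFinite (pX ≫ pullback.fst f (σ i₀)) :=
    MorphismProperty.of_isPullback (P := @IsFinite) houter.flip inferInstance
  haveI : Surjective (pX ≫ pullback.fst f (σ i₀)) :=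
    MorphismProperty.of_isPullback (P := @Surjective) houter.flip inferInstance
  haveI : QuasiCompact fj := hj.1
  obtain ⟨e⟩ := compPullIso (rfl : pX ≫ pullback.fst f (σ i₀) = _) L
  exact isAmple_of_finite_surjective_normal f (pX ≫ pullback.fst f (σ i₀)) Zc hZc hW hL
    (Amp73.isAmple_of_iso e ((Amp73.isRelAmple_iff_isAmple fj).1 hj))

theorem quasiCompact_of_baseChange {X Y Y' : Scheme.{u}} (f : X ⟶ Y) (g : Y' ⟶ Y) [UniversallyOpen g]
    [Surjective g] [QuasiCompact (pullback.snd f g)] : QuasiCompact f := by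
  rw [quasiCompact_iff_forall_isAffineOpen]
  intro V hV
  choose W hW hyW hWV using fun z : {z : Y' // g z ∈ V} =>
    exists_isAffineOpen_mem_and_subset (X := Y') (x := z.1) (U := g ⁻¹ᵁ V) z.2
  obtain ⟨S, hS⟩ := hV.isCompact.elim_finite_subcover (fun z => g '' (W z : Set Y'))
    (fun z => g.isOpenMap _ (W z).2) (fun y hy => by
      obtain ⟨z, rfl⟩ := g.surjective y
      exact Set.mem_iUnion.2 ⟨⟨z, hy⟩, z, hyW ⟨z, hy⟩, rfl⟩)
  have e : ((f ⁻¹ᵁ V : X.Opens) : Set X) =
      ⋃ z ∈ S, pullback.fst f g '' (pullback.snd f g ⁻¹ᵁ W z : Set ↥(pullback f g)) := by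
    refine Set.Subset.antisymm (fun x hx => ?_) ?_
    · obtain ⟨z, hzS, w, hw, hgw⟩ := Set.mem_iUnion₂.1 (hS (show f x ∈ (V : Set Y) from hx))
      obtain ⟨p, hp1, hp2⟩ := Scheme.Pullback.exists_preimage_pullback x w hgw.symm
      exact Set.mem_iUnion₂.2 ⟨z, hzS, p, (show pullback.snd f g p ∈ W z from hp2.symm ▸ hw), hp1⟩
    · simp only [Set.iUnion_subset_iff]
      rintro z - _ ⟨p, hp, rfl⟩
      show f (pullback.fst f g p) ∈ V
      rw [← Scheme.Hom.comp_apply, pullback.condition, Scheme.Hom.comp_apply]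
      exact hWV z hp
  rw [e]
  exact S.isCompact_biUnion fun z _ =>
    (QuasiCompact.isCompact_preimage _ (W z).2 (hW z).isCompact).image (pullback.fst f g).continuous

theorem isRelAmple_of_universallyOpen {X Y Y' : Scheme.{u}} [IsLocallyNoetherian Y] (f : X ⟶ Y)
    [LocallyOfFiniteType f] (g : Y' ⟶ Y) [LocallyOfFiniteType g] [UniversallyOpen g] [Surjective g]
    {L : X.Modules} (hL : PicF.IsInvertible L) (Z : Closeds X)
    (hZ : IsProper ((Scheme.IdealSheafData.vanishingIdeal Z).subschemeι ≫ f))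
    (hnor : ∀ x : X, x ∉ (Z : Set X) → IsDomain (X.presheaf.stalk x) ∧ IsIntegrallyClosed (X.presheaf.stalk x))
    (h' : RelAmple.IsRelAmple (pullback.snd f g) ((Scheme.Modules.pullback (pullback.fst f g)).obj L)) :
    RelAmple.IsRelAmple f L := by
  haveI := h'.1
  haveI : QuasiCompact f := quasiCompact_of_baseChange f g
  refine Amp73.isRelAmple_of_cover f fun y => ?_
  obtain ⟨V, hV, hyV, -⟩ := exists_isAffineOpen_mem_and_subset (X := Y) (x := y) (U := ⊤) trivial
  refine ⟨⟨V, hV⟩, hyV, ?_⟩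
  haveI : IsNoetherianRing Γ(Y, V) := IsLocallyNoetherian.component_noetherian ⟨V, hV⟩
  let e : (V : Scheme.{u}) ≅ Spec Γ(Y, V) := hV.isoSpec
  haveI : LocallyOfFiniteType (f ∣_ V) := IsZariskiLocalAtTarget.restrict (P := @LocallyOfFiniteType) inferInstance V
  haveI : QuasiCompact (f ∣_ V) := IsZariskiLocalAtTarget.restrict (P := @QuasiCompact) inferInstance V
  haveI : LocallyOfFiniteType (g ∣_ V) := IsZariskiLocalAtTarget.restrict (P := @LocallyOfFiniteType) inferInstance V
  haveI : UniversallyOpen (g ∣_ V) := IsZariskiLocalAtTarget.restrict (P := @UniversallyOpen) inferInstance V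
  haveI : Surjective (g ∣_ V) := IsZariskiLocalAtTarget.restrict (P := @Surjective) inferInstance V
  let ι := (f ⁻¹ᵁ V).ι
  let p := pullback.fst (f ∣_ V) (g ∣_ V)
  let q := pullback.snd (f ∣_ V) (g ∣_ V)
  have houter : IsPullback (p ≫ ι) q f ((g ⁻¹ᵁ V).ι ≫ g) := by
    rw [← morphismRestrict_ι g V]
    exact (IsPullback.of_hasPullback _ _).paste_horiz (isPullback_morphismRestrict f V).flip
  let k := pullback.lift (p ≫ ι) (q ≫ (g ⁻¹ᵁ V).ι) (by rw [houter.w, Category.assoc])
  have hk : k ≫ pullback.fst f g = p ≫ ι := pullback.lift_fst _ _ _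
  have hsq : IsPullback k q (pullback.snd f g) (g ⁻¹ᵁ V).ι := by
    refine IsPullback.of_right ?_ (pullback.lift_snd _ _ _) (IsPullback.of_hasPullback f g)
    rw [hk]
    exact houter
  obtain ⟨e₁⟩ := compPullIso hk L
  have h1 := Amp73.isRelAmple_of_iso (e₁ ≪≫ ((Scheme.Modules.pullbackComp p ι).app L).symm)
    (LimTop61.isRelAmple_of_isPullback hsq h')
  have hsq' : IsPullback p q ((f ∣_ V) ≫ e.hom) ((g ∣_ V) ≫ e.hom) :=
    (IsPullback.of_hasPullback (f ∣_ V) (g ∣_ V)).of_iso (Iso.refl _) (Iso.refl _) (Iso.refl _) e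
      (by simp [p]) (by simp [q]) (by simp) (by simp)
  let ιZ := (Scheme.IdealSheafData.vanishingIdeal Z).subschemeι
  let Zv : Closeds (f ⁻¹ᵁ V : Scheme.{u}) := ⟨ι ⁻¹' (Z : Set X), Z.isClosed.preimage ι.continuous⟩
  haveI : IsProper (pullback.fst ι ιZ ≫ (f ∣_ V)) :=
    MorphismProperty.of_isPullback (P := @IsProper)
      ((IsPullback.of_hasPullback ι ιZ).flip.paste_vert (isPullback_morphismRestrict f V).flip) hZ
  haveI : IsProper (pullback.fst ι ιZ ≫ (f ∣_ V) ≫ e.hom) := by
    rw [← Category.assoc]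
    infer_instance
  have hZv := isProper_vanishing ((f ∣_ V) ≫ e.hom) (pullback.fst ι ιZ) Zv (by
    rw [Scheme.Pullback.range_fst, SchBasics.range_vanishingIdeal_subschemeι]; rfl)
  have hamp : CohB1.IsAmple ((Scheme.Modules.pullback ι).obj L) :=
    isAmple_of_universallyOpen (R := Γ(Y, V)) ((f ∣_ V) ≫ e.hom) ((g ∣_ V) ≫ e.hom) Zv hZv
      (fun x hx => by
        obtain ⟨hd, hn⟩ := hnor x.1 hx
        haveI := hd
        haveI := hn
        let e' := ((f ⁻¹ᵁ V).stalkIso x).commRingCatIsoToRingEquiv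
        exact ⟨e'.toMulEquiv.isDomain _, IsIntegrallyClosed.of_equiv e'.symm⟩)
      (Amp73.isInvertible_pullback ι hL) hsq' h1
  exact Amp73.isAmple_of_iso ((Scheme.Modules.restrictFunctorIsoPullback ι).app L).symm hamp

end Groth.Agent.E4O.Glue
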