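import Mathlib

/-!
Descent of flatness over an Artinian local base along a jointly injective family of base changes,
tested at the points above one point (EGA IV 11.4).
-/

set_option autoImplicit false
universe u v

open TensorProduct

namespace Groth.Agent.E4O

/-- A family in flat modules jointly independent modulo the maximal ideal is jointly independent. -/
theorem eq_zero_of_jointly_independent {B : Type u} [CommRing B] [IsLocalRing B] {J : Type*}
    (W : J → Type u) [∀ j, AddCommGroup (W j)] [∀ j, Module B (W j)] [∀ j, Module.Flat B (W j)]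
    {I : Type*} (s : Finset I) : ∀ (v : I → B) (w : ∀ j, I → W j),
    (∀ c : I → B, (∀ j, ∑ i ∈ s, c i • w j i ∈ IsLocalRing.maximalIdeal B • (⊤ : Submodule B (W j))) →
      ∀ i ∈ s, c i ∈ IsLocalRing.maximalIdeal B) →
    (∀ j, ∑ i ∈ s, v i • w j i = 0) → ∀ i ∈ s, v i = 0 := by
  classical
  induction s using Finset.induction with
  | empty => intro v w _ _ i hi; exact absurd hi (Finset.notMem_empty i)
  | insert n s hn ih =>
    intro v w hind hv
    have h1 : ∃ j, w j n ∉ IsLocalRing.maximalIdeal B • (⊤ : Submodule B (W j)) := by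
      by_contra! hcon
      have := hind (fun i => if i = n then 1 else 0) (fun j => by
        simpa [Finset.sum_insert hn, ite_smul, hn] using hcon j) n (Finset.mem_insert_self n s)
      rw [if_pos rfl] at this
      exact (IsLocalRing.maximalIdeal.isMaximal B).ne_top ((Ideal.eq_top_iff_one _).2 this)
    obtain ⟨j, hj⟩ := h1
    have hrel : ∑ i : (insert n s : Finset I), v i • w j i = 0 := by
      rw [Finset.sum_coe_sort (insert n s) fun i => v i • w j i]
      exact hv j
    obtain ⟨l, a, y, hay, hfa⟩ := Module.Flat.isTrivialRelation_of_sum_smul_eq_zero hrel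
    let n' : (insert n s : Finset I) := ⟨n, Finset.mem_insert_self n s⟩
    obtain ⟨t, ht⟩ : ∃ t, IsUnit (a n' t) := by
      by_contra! hcon
      refine hj ?_
      rw [show w j n = _ from hay n']
      exact sum_mem fun t _ => Submodule.smul_mem_smul ((IsLocalRing.mem_maximalIdeal _).2 (hcon t)) ⟨⟩
    let a' : I → B := fun i => if hi : i ∈ insert n s then a ⟨i, hi⟩ t else 0
    let c : I → B := fun i => a' i * ↑ht.unit⁻¹
    have hvn : v n = -∑ i ∈ s, v i * c i := by
      have h2 := hfa t
      rw [show ∑ i : (insert n s : Finset I), v i * a i t = ∑ i ∈ insert n s, v i * a' i from by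
        rw [← Finset.sum_coe_sort (insert n s) fun i => v i * a' i]
        exact Finset.sum_congr rfl fun i _ => congrArg (v i.1 * ·) (dif_pos i.2 : a' i.1 = _).symm,
        Finset.sum_insert hn] at h2
      have h3 : a' n * ↑ht.unit⁻¹ = 1 := by
        rw [show a' n = a n' t from dif_pos _]
        exact ht.mul_val_inv
      have h4 := congrArg (· * (↑ht.unit⁻¹ : B)) h2
      simp only [add_mul, zero_mul, mul_assoc, h3, mul_one, Finset.sum_mul] at h4
      exact eq_neg_iff_add_eq_zero.2 h4
    let w' : ∀ j, I → W j := fun j i => w j i - c i • w j n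
    have hs : ∀ i ∈ s, v i = 0 := by
      refine ih v w' (fun d hd i hi => ?_) fun j' => ?_
      · let e : I → B := fun i => if i = n then -∑ i ∈ s, d i * c i else d i
        have := hind e (fun j' => by
          have h5 := hd j'
          rw [Finset.sum_insert hn]
          have : ∑ i ∈ s, e i • w j' i = ∑ i ∈ s, d i • w j' i :=
            Finset.sum_congr rfl fun i hi => by rw [show e i = d i from if_neg (ne_of_mem_of_not_mem hi hn)]
          rw [this, show e n = -∑ i ∈ s, d i * c i from if_pos rfl]
          convert h5 using 1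
          simp only [w', smul_sub, Finset.sum_sub_distrib, smul_smul, ← Finset.sum_smul, neg_smul]
          abel) i (Finset.mem_insert_of_mem hi)
        rwa [show e i = d i from if_neg (ne_of_mem_of_not_mem hi hn)] at this
      · have h5 := hv j'
        rw [Finset.sum_insert hn, hvn, neg_smul, Finset.sum_smul] at h5
        rw [← h5]
        simp only [w', smul_sub, Finset.sum_sub_distrib, smul_smul]
        abel
    intro i hi
    rcases Finset.mem_insert.1 hi with rfl | hi
    · rw [hvn, Finset.sum_eq_zero fun k hk => by rw [hs k hk, zero_mul], neg_zero]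
    · exact hs i hi

theorem mem_map_smul_top_iff {R S W : Type u} [CommRing R] [CommRing S] [Algebra R S] [AddCommGroup W]
    [Module R W] [Module S W] [IsScalarTower R S W] (I : Ideal R) (w : W) :
    w ∈ I.map (algebraMap R S) • (⊤ : Submodule S W) ↔ w ∈ I • (⊤ : Submodule R W) := by
  constructor
  · intro hw
    refine Submodule.smul_induction_on hw (fun a ha x _ => ?_) fun x y hx hy => add_mem hx hy
    induction ha using Submodule.span_induction generalizing x with
    | mem a ha =>
      obtain ⟨r, hr, rfl⟩ := ha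
      rw [algebraMap_smul]
      exact Submodule.smul_mem_smul hr trivial
    | zero => rw [zero_smul]; exact zero_mem _
    | add a b _ _ ha hb => rw [add_smul]; exact add_mem (ha x trivial) (hb x trivial)
    | smul c a _ ha =>
      rw [smul_eq_mul, mul_comm, mul_smul]
      exact ha (c • x) trivial
  · intro hw
    refine Submodule.smul_induction_on hw (fun r hr x _ => ?_) fun x y hx hy => add_mem hx hy
    rw [← algebraMap_smul S r x]
    exact Submodule.smul_mem_smul (Ideal.mem_map_of_mem _ hr) trivial

variable {A : Type u} [CommRing A] [IsLocalRing A]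

section Fibre

variable {O : Type u} [CommRing O] [IsLocalRing O] [IsNoetherianRing O] [Algebra A O]
  (M : Type u) [AddCommGroup M] [Module O M] [Module A M] [IsScalarTower A O M] [Module.Finite O M]
  {κ : Type u} [Field κ] [Algebra A κ]

/-- An element of the fibre over an extension field in all powers of the maximal ideal is zero. -/
theorem eq_zero_of_forall_pow (hm : ∀ a ∈ IsLocalRing.maximalIdeal A, algebraMap A κ a = 0)
    (c : (O ⊗[A] κ) ⊗[O] M)
    (hpow : ∀ n : ℕ, c ∈ (IsLocalRing.maximalIdeal O ^ n) • (⊤ : Submodule O ((O ⊗[A] κ) ⊗[O] M))) :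
    c = 0 := by
  classical
  let S := O ⊗[A] κ
  let m := IsLocalRing.maximalIdeal O
  -- read off along linear forms on `κ`
  let k := IsLocalRing.ResidueField A
  let jk : k →+* κ := Ideal.Quotient.lift _ (algebraMap A κ) hm
  letI : Algebra k κ := jk.toAlgebra
  haveI : IsScalarTower A k κ := IsScalarTower.of_algebraMap_eq fun a => rfl
  let bas := Module.Free.chooseBasis k κ
  let eκ : S ⊗[O] M ≃ₗ[A] κ ⊗[A] M :=
    ((TensorProduct.comm O S M).restrictScalars A) ≪≫ₗ
      ((AlgebraTensorModule.cancelBaseChange A O O M κ).restrictScalars A) ≪≫ₗ TensorProduct.comm A M κ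
  let eN : κ ⊗[A] M ≃ₗ[κ] κ ⊗[k] (k ⊗[A] M) := (AlgebraTensorModule.cancelBaseChange A k κ κ M).symm
  let eb := TensorProduct.equivFinsuppOfBasisLeft bas (N := k ⊗[A] M)
  suffices eb (eN (eκ c)) = 0 by
    rwa [LinearEquiv.map_eq_zero_iff, LinearEquiv.map_eq_zero_iff, LinearEquiv.map_eq_zero_iff] at this
  ext i
  let lam : κ →ₗ[A] k := (bas.coord i).restrictScalars A
  let ψ : S →ₗ[O] O ⊗[A] k := AlgebraTensorModule.map LinearMap.id lam
  let ek : (O ⊗[A] k) ⊗[O] M ≃ₗ[A] k ⊗[A] M :=
    ((TensorProduct.comm O (O ⊗[A] k) M).restrictScalars A) ≪≫ₗ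
      ((AlgebraTensorModule.cancelBaseChange A O O M k).restrictScalars A) ≪≫ₗ TensorProduct.comm A M k
  have key : ∀ x : S ⊗[O] M, eb (eN (eκ x)) i = ek (ψ.rTensor M x) := by
    intro x
    induction x using TensorProduct.induction_on with
    | zero => simp
    | add a b ha hb => simp only [map_add, Finsupp.add_apply, ha, hb]
    | tmul s m =>
      induction s using TensorProduct.induction_on with
      | zero => simp
      | add a b ha hb => simp only [add_tmul, map_add, Finsupp.add_apply, ha, hb]
      | tmul o x =>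
        show eb (eN (x ⊗ₜ[A] (o • m))) i = lam x ⊗ₜ[A] (o • m)
        simp [eN, eb, lam, bas, TensorProduct.smul_tmul']
  rw [key, Finsupp.zero_apply, LinearEquiv.map_eq_zero_iff]
  have : Module.Finite A k := Module.Finite.of_surjective (Algebra.linearMap A k) Ideal.Quotient.mk_surjective
  have : Module.Finite O (O ⊗[A] k) := Module.Finite.base_change A O k
  have hbot := Ideal.iInf_pow_smul_eq_bot_of_isLocalRing (M := (O ⊗[A] k) ⊗[O] M) m
    (IsLocalRing.maximalIdeal.isMaximal O).ne_top
  rw [← Submodule.mem_bot (R := O), ← hbot, Submodule.mem_iInf]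
  intro n
  have h1 := Submodule.mem_map_of_mem (f := ψ.rTensor M) (hpow n)
  rw [Submodule.map_smul''] at h1
  exact Submodule.smul_mono le_rfl le_top h1

/-- An element of the fibre over an extension field vanishing at all points above the closed point
is zero. -/
theorem eq_zero_of_forall_point (hm : ∀ a ∈ IsLocalRing.maximalIdeal A, algebraMap A κ a = 0)
    (c : (O ⊗[A] κ) ⊗[O] M)
    (h : ∀ Q : Ideal (O ⊗[A] κ), Q.IsPrime → Q.comap (algebraMap O (O ⊗[A] κ)) = IsLocalRing.maximalIdeal O →
      ∃ s, s ∉ Q ∧ s • c = 0) : c = 0 := by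
  classical
  let S := O ⊗[A] κ
  let m := IsLocalRing.maximalIdeal O
  have hpow : ∀ n : ℕ, c ∈ (m ^ n) • (⊤ : Submodule O (S ⊗[O] M)) := by
    intro n
    let N₀ : Submodule S (S ⊗[O] M) := (m ^ n).map (algebraMap O S) • ⊤
    suffices c ∈ N₀ by
      have h' : c ∈ (N₀.restrictScalars O) := this
      exact (mem_map_smul_top_iff (m ^ n) c).1 this
    by_contra hcN
    let I : Ideal S := N₀.comap (LinearMap.toSpanSingleton S _ c)
    have hI : I ≠ ⊤ := fun e => hcN (by
      have : (1 : S) ∈ I := e ▸ Submodule.mem_top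
      simpa [I] using this)
    obtain ⟨Q, hQ, hIQ⟩ := Ideal.exists_le_maximal I hI
    have hle : (m ^ n).map (algebraMap O S) ≤ Q := fun a ha => hIQ (by
      show a • c ∈ N₀
      exact Submodule.smul_mem_smul ha Submodule.mem_top)
    have hQm : Q.comap (algebraMap O S) = m := by
      have h1 : m ^ n ≤ Q.comap (algebraMap O S) := Ideal.map_le_iff_le_comap.1 hle
      have h2 : m ≤ Q.comap (algebraMap O S) := fun a ha =>
        (Ideal.IsPrime.comap (algebraMap O S)).mem_of_pow_mem n (h1 (Ideal.pow_mem_pow ha n))
      exact ((IsLocalRing.maximalIdeal.isMaximal O).eq_of_le (Ideal.IsPrime.comap _).ne_top h2).symm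
    obtain ⟨s, hs, hsc⟩ := h Q inferInstance hQm
    refine hs (hIQ ?_)
    show s • c ∈ N₀
    rw [hsc]; exact zero_mem _
  exact eq_zero_of_forall_pow M hm c hpow

end Fibre

variable [IsArtinianRing A] {R : Type u} [CommRing R] [Algebra A R] [Algebra.FiniteType A R]
  (N : Type u) [AddCommGroup N] [Module R N] [Module.Finite R N] [Module A N] [IsScalarTower A R N]
  (P : Ideal R) [P.IsPrime]

variable (A) in
/-- The map from a base change of `R` to the fibre of `R_P` over a residue field. -/
noncomputable def toFibre (K : Type u) [CommRing K] [Algebra A K] (q : Ideal K) [q.IsPrime]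
    (R' : Type u) [CommRing R'] [Algebra R R'] [Algebra K R'] [Algebra A R'] [IsScalarTower A R R']
    [IsScalarTower A K R'] [Algebra.IsPushout A K R R'] :
    R' →ₐ[A] (Localization.AtPrime P) ⊗[A] IsLocalRing.ResidueField (Localization.AtPrime q) :=
  Algebra.pushoutDesc R'
    ((Algebra.TensorProduct.includeRight : IsLocalRing.ResidueField (Localization.AtPrime q) →ₐ[A]
      (Localization.AtPrime P) ⊗[A] IsLocalRing.ResidueField (Localization.AtPrime q)).comp
        (IsScalarTower.toAlgHom A K _))
    ((Algebra.TensorProduct.includeLeft : Localization.AtPrime P →ₐ[A]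
      (Localization.AtPrime P) ⊗[A] IsLocalRing.ResidueField (Localization.AtPrime q)).comp
        (IsScalarTower.toAlgHom A R (Localization.AtPrime P)))
    fun _ _ => mul_comm _ _

/-- Coefficients of a relation between independent elements vanish in any base change flat at a set
of points over the given one which detects zero on the fibre. -/
theorem map_eq_zero_of_flat_over_set (K : Type u) [CommRing K] [Algebra A K] (q : Ideal K) [q.IsPrime]
    (R' : Type u) [CommRing R'] [Algebra R R'] [Algebra K R'] [Algebra A R'] [IsScalarTower A R R']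
    [IsScalarTower A K R'] [Algebra.IsPushout A K R R'] (G : Set (Ideal R'))
    (hflat : ∀ (Q : Ideal R') [Q.IsPrime], Q ∈ G → Q.comap (algebraMap R R') = P →
      Q.comap (algebraMap K R') = q → Module.Flat K (LocalizedModule Q.primeCompl (R' ⊗[R] N)))
    (hsep : ∀ c : ((Localization.AtPrime P) ⊗[A] IsLocalRing.ResidueField (Localization.AtPrime q))
        ⊗[Localization.AtPrime P] LocalizedModule P.primeCompl N,
      (∀ Q : Ideal ((Localization.AtPrime P) ⊗[A] IsLocalRing.ResidueField (Localization.AtPrime q)),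
        Q.IsPrime → Q.comap (algebraMap (Localization.AtPrime P) _) =
          IsLocalRing.maximalIdeal (Localization.AtPrime P) →
        Q.comap (toFibre A P K q R').toRingHom ∈ G → ∃ s, s ∉ Q ∧ s • c = 0) → c = 0)
    {I : Type*} (s : Finset I) (e : I → LocalizedModule P.primeCompl N)
    (hind : LinearIndependent (IsLocalRing.ResidueField A)
      (fun i => (1 : IsLocalRing.ResidueField A) ⊗ₜ[A] e i))
    (v : I → A) (hv : ∑ i ∈ s, v i • e i = 0) :
    ∀ i ∈ s, algebraMap A (Localization.AtPrime q) (v i) = 0 := by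
  classical
  let O := Localization.AtPrime P
  let M := LocalizedModule P.primeCompl N
  let B := Localization.AtPrime q
  let κ := IsLocalRing.ResidueField B
  let k := IsLocalRing.ResidueField A
  haveI : IsNoetherianRing R := Algebra.FiniteType.isNoetherianRing A R
  haveI : IsNoetherianRing O := IsLocalization.isNoetherianRing P.primeCompl O inferInstance
  haveI : Module.Finite O M := Module.Finite.of_isLocalizedModule P.primeCompl
    (LocalizedModule.mkLinearMap P.primeCompl N)
  have hm : ∀ a ∈ IsLocalRing.maximalIdeal A, algebraMap A κ a = 0 := fun a ha => by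
    obtain ⟨n, hn⟩ := IsArtinianRing.isNilpotent_jacobson_bot (R := A)
    rw [IsLocalRing.jacobson_eq_maximalIdeal _ bot_ne_top] at hn
    have h1 : a ^ n = 0 := hn.le (Ideal.pow_mem_pow ha n)
    exact eq_zero_of_pow_eq_zero (n := n) (by rw [← map_pow, h1, map_zero])
  let S := O ⊗[A] κ
  let T := S ⊗[O] M
  let χ : R' →ₐ[A] S := toFibre A P K q R'
  let J := {Q : Ideal S // Q.IsPrime ∧ Q.comap (algebraMap O S) = IsLocalRing.maximalIdeal O ∧
    Q.comap χ.toRingHom ∈ G}
  have hχR : ∀ r, χ (algebraMap R R' r) = algebraMap O S (algebraMap R O r) := fun r =>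
    Algebra.pushoutDesc_right R' _ _ _ r
  have hχK : ∀ b, χ (algebraMap K R' b) = (1 : O) ⊗ₜ[A] algebraMap K κ b := fun b =>
    Algebra.pushoutDesc_left R' _ _ _ b
  let Q₀ : J → Ideal R' := fun Q => Q.1.comap χ.toRingHom
  haveI : ∀ Q : J, (Q₀ Q).IsPrime := fun Q => haveI := Q.2.1; Ideal.IsPrime.comap _
  have hQR : ∀ Q : J, (Q₀ Q).comap (algebraMap R R') = P := fun Q => by
    ext r
    show χ (algebraMap R R' r) ∈ Q.1 ↔ r ∈ P
    rw [hχR, ← Ideal.mem_comap, Q.2.2.1]
    exact IsLocalization.AtPrime.to_map_mem_maximal_iff O P r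
  have hQK : ∀ Q : J, (Q₀ Q).comap (algebraMap K R') = q := fun Q => by
    ext b
    show χ (algebraMap K R' b) ∈ Q.1 ↔ b ∈ q
    rw [hχK]
    constructor
    · intro hb
      by_contra hbq
      refine Q.2.1.ne_top (Ideal.eq_top_of_isUnit_mem _ hb ?_)
      refine IsUnit.map (Algebra.TensorProduct.includeRight : κ →ₐ[A] S) ?_
      rw [IsScalarTower.algebraMap_apply K B κ]
      exact (IsLocalization.map_units B (⟨b, hbq⟩ : q.primeCompl)).map _
    · intro hb
      have : algebraMap K κ b = 0 := by
        rw [IsScalarTower.algebraMap_apply K B κ]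
        exact (IsLocalRing.residue_eq_zero_iff _).2 ((IsLocalization.AtPrime.to_map_mem_maximal_iff B q b).2 hb)
      rw [this, tmul_zero]
      exact Q.1.zero_mem
  let W : J → Type u := fun Q => LocalizedModule (Q₀ Q).primeCompl (R' ⊗[R] N)
  haveI : ∀ Q : J, Module.Flat K (W Q) := fun Q => hflat (Q₀ Q) Q.2.2.2 (hQR Q) (hQK Q)
  -- the comparison maps
  have hRunit : ∀ (Q : J) (r : P.primeCompl), IsUnit (algebraMap R (Module.End R (W Q)) r) := fun Q r => by
    have hr : algebraMap R R' r ∈ (Q₀ Q).primeCompl := fun h => r.2 ((hQR Q).le h)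
    have h1 := IsLocalizedModule.map_units (LocalizedModule.mkLinearMap (Q₀ Q).primeCompl (R' ⊗[R] N)) ⟨_, hr⟩
    rw [Module.End.isUnit_iff] at h1 ⊢
    refine (congrArg Function.Bijective (funext fun x => ?_)).mp h1
    show algebraMap R R' r.1 • x = r.1 • x
    rw [algebraMap_smul]
  let uu : ∀ Q : J, M →ₗ[R] W Q := fun Q => IsLocalizedModule.lift P.primeCompl
    (LocalizedModule.mkLinearMap P.primeCompl N)
    ((LocalizedModule.mkLinearMap (Q₀ Q).primeCompl (R' ⊗[R] N)).restrictScalars R ∘ₗ
      TensorProduct.mk R R' N 1) (hRunit Q)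
  let WB : J → Type u := fun Q => B ⊗[K] W Q
  let w : ∀ Q : J, I → WB Q := fun Q i => (1 : B) ⊗ₜ[K] uu Q (e i)
  intro i hi
  refine eq_zero_of_jointly_independent WB s (fun i => algebraMap A B (v i)) w (fun c hc => ?_) (fun Q => ?_) i hi
  swap
  · have h1 : ∑ i ∈ s, v i • uu Q (e i) = 0 := by
      have := congrArg (uu Q) hv
      rw [map_sum, map_zero] at this
      rw [← this]
      exact Finset.sum_congr rfl fun i _ => ((uu Q).map_smul_of_tower _ _).symm
    calc ∑ i ∈ s, algebraMap A B (v i) • w Q i = (1 : B) ⊗ₜ[K] ∑ i ∈ s, v i • uu Q (e i) := by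
          rw [tmul_sum]
          exact Finset.sum_congr rfl fun i _ => by simp [w, tmul_smul]
      _ = 0 := by rw [h1, tmul_zero]
  -- independence on the fibre
  let cbar : I → κ := fun i => IsLocalRing.residue B (c i)
  let el : T := ∑ i ∈ s, ((1 : O) ⊗ₜ[A] cbar i) ⊗ₜ[O] e i
  have hel : el = 0 := hsep el fun Q hQ hQm hQG => by
    let Qj : J := ⟨Q, hQ, hQm, hQG⟩
    let TQ := LocalizedModule Q.primeCompl T
    let lQ := LocalizedModule.mkLinearMap Q.primeCompl T
    letI : Module R' TQ := Module.compHom TQ χ.toRingHom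
    have hR : ∀ (r : R) (x : TQ), algebraMap O S (algebraMap R O r) • x = r • x := fun r x => by
      rw [← IsScalarTower.algebraMap_apply R O S, algebraMap_smul]
    haveI : IsScalarTower R R' TQ := IsScalarTower.of_algebraMap_smul fun r x => by
      show χ (algebraMap R R' r) • x = r • x
      rw [hχR, hR]
    letI : Module K TQ := Module.compHom TQ (χ.toRingHom.comp (algebraMap K R'))
    letI : Module B TQ := Module.compHom TQ ((Algebra.TensorProduct.includeRight :
      κ →ₐ[A] S).toRingHom.comp (IsLocalRing.residue B))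
    haveI : IsScalarTower K R' TQ := IsScalarTower.of_algebraMap_smul fun _ _ => rfl
    haveI : IsScalarTower K B TQ := IsScalarTower.of_algebraMap_smul fun b x => by
      show ((1 : O) ⊗ₜ[A] IsLocalRing.residue B (algebraMap K B b)) • x = χ (algebraMap K R' b) • x
      rw [hχK]; rfl
    let φN : N →ₗ[R] TQ := lQ.restrictScalars R ∘ₗ (TensorProduct.mk O S M 1).restrictScalars R ∘ₗ
      LocalizedModule.mkLinearMap P.primeCompl N
    let φ' : R' ⊗[R] N →ₗ[R'] TQ := LinearMap.liftBaseChange R' φN
    have hunit : ∀ x : (Q₀ Qj).primeCompl, IsUnit (algebraMap R' (Module.End R' TQ) x) := fun x => by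
      have h1 := IsLocalizedModule.map_units lQ (⟨χ x.1, x.2⟩ : Q.primeCompl)
      rw [Module.End.isUnit_iff] at h1 ⊢
      exact h1
    let ψ : W Qj →ₗ[R'] TQ := IsLocalizedModule.lift (Q₀ Qj).primeCompl
      (LocalizedModule.mkLinearMap (Q₀ Qj).primeCompl (R' ⊗[R] N)) φ' hunit
    let Ψ : WB Qj →ₗ[B] TQ := LinearMap.liftBaseChange B (ψ.restrictScalars K)
    have hψu : ∀ m : M, ψ (uu Qj m) = lQ ((1 : S) ⊗ₜ[O] m) := by
      have hRu : ∀ r : P.primeCompl, IsUnit (algebraMap R (Module.End R TQ) r) := fun r => by
        have hr : algebraMap R R' r ∈ (Q₀ Qj).primeCompl := fun h => r.2 ((hQR Qj).le h)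
        have h1 := hunit ⟨_, hr⟩
        rw [Module.End.isUnit_iff] at h1 ⊢
        refine (congrArg Function.Bijective (funext fun x => ?_)).mp h1
        show algebraMap R R' r.1 • x = r.1 • x
        rw [algebraMap_smul]
      have : ψ.restrictScalars R ∘ₗ uu Qj =
          lQ.restrictScalars R ∘ₗ (TensorProduct.mk O S M 1).restrictScalars R := by
        refine IsLocalizedModule.ext P.primeCompl (LocalizedModule.mkLinearMap P.primeCompl N) hRu ?_
        ext n
        simp only [uu, ψ, IsLocalizedModule.lift_apply, LinearMap.comp_apply,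
          LinearMap.restrictScalars_apply, φ', TensorProduct.mk_apply,
          LinearMap.liftBaseChange_tmul, one_smul, φN]
        rfl
      exact fun m => congr($this m)
    have hΨ : Ψ (∑ i ∈ s, c i • w Qj i) = lQ el := by
      rw [map_sum, map_sum]
      refine Finset.sum_congr rfl fun i _ => ?_
      rw [map_smul, LinearMap.liftBaseChange_tmul, one_smul, LinearMap.restrictScalars_apply, hψu]
      show ((1 : O) ⊗ₜ[A] cbar i) • lQ _ = lQ _
      rw [← map_smul, TensorProduct.smul_tmul', smul_eq_mul, mul_one]
    have h0 : Ψ (∑ i ∈ s, c i • w Qj i) = 0 := by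
      refine Submodule.smul_induction_on (hc Qj) (fun b hb x _ => ?_) fun x y hx hy => by
        rw [map_add, hx, hy, add_zero]
      rw [map_smul]
      show ((1 : O) ⊗ₜ[A] IsLocalRing.residue B b) • Ψ x = 0
      rw [(IsLocalRing.residue_eq_zero_iff b).2 hb, tmul_zero]
      exact zero_smul S (Ψ x : LocalizedModule Q.primeCompl T)
    obtain ⟨x, hx⟩ := (IsLocalizedModule.eq_zero_iff Q.primeCompl lQ).1 (hΨ.symm.trans h0)
    exact ⟨x.1, x.2, hx⟩
  -- read on `k ⊗ M`
  letI : Algebra k κ := (Ideal.Quotient.lift _ (algebraMap A κ) hm).toAlgebra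
  haveI : IsScalarTower A k κ := IsScalarTower.of_algebraMap_eq fun a => rfl
  let bas := Module.Free.chooseBasis k κ
  intro i hi
  by_contra hci
  obtain ⟨j, hj⟩ : ∃ j, bas.repr (cbar i) j ≠ 0 := by
    by_contra! hcon
    refine hci ((IsLocalRing.residue_eq_zero_iff _).1 (bas.repr.injective ?_))
    rw [map_zero]; exact Finsupp.ext hcon
  let lam : κ →ₗ[A] k := (bas.coord j).restrictScalars A
  let T' : T →ₗ[A] k ⊗[A] M :=
    lam.rTensor M ∘ₗ ((TensorProduct.comm A M κ).toLinearMap ∘ₗ
      ((AlgebraTensorModule.cancelBaseChange A O O M κ).restrictScalars A).toLinearMap ∘ₗ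
      ((TensorProduct.comm O S M).restrictScalars A).toLinearMap)
  have h1 : T' el = ∑ i ∈ s, bas.repr (cbar i) j • ((1 : k) ⊗ₜ[A] e i) := by
    rw [map_sum]
    refine Finset.sum_congr rfl fun i _ => ?_
    show lam (cbar i) ⊗ₜ[A] ((1 : O) • e i) = _
    simp [lam, TensorProduct.smul_tmul']
  rw [hel, map_zero] at h1
  exact hj (linearIndependent_iff'.1 hind s _ h1.symm i hi)

theorem algebraMap_residueField_eq_zero {B : Type u} [CommRing B] [IsLocalRing B] [Algebra A B]
    (a : A) (ha : a ∈ IsLocalRing.maximalIdeal A) :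
    algebraMap A (IsLocalRing.ResidueField B) a = 0 := by
  obtain ⟨n, hn⟩ := IsArtinianRing.isNilpotent_jacobson_bot (R := A)
  rw [IsLocalRing.jacobson_eq_maximalIdeal _ bot_ne_top] at hn
  have h1 : a ^ n = 0 := hn.le (Ideal.pow_mem_pow ha n)
  exact eq_zero_of_pow_eq_zero (n := n) (by rw [← map_pow, h1, map_zero])

/-- Coefficients of a relation between independent elements vanish in any base change flat at all
the points over the given one. -/
theorem map_eq_zero_of_flat_over_points (K : Type u) [CommRing K] [Algebra A K] (q : Ideal K) [q.IsPrime]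
    (R' : Type u) [CommRing R'] [Algebra R R'] [Algebra K R'] [Algebra A R'] [IsScalarTower A R R']
    [IsScalarTower A K R'] [Algebra.IsPushout A K R R']
    (hflat : ∀ (Q : Ideal R') [Q.IsPrime], Q.comap (algebraMap R R') = P → Q.comap (algebraMap K R') = q →
      Module.Flat K (LocalizedModule Q.primeCompl (R' ⊗[R] N)))
    {I : Type*} (s : Finset I) (e : I → LocalizedModule P.primeCompl N)
    (hind : LinearIndependent (IsLocalRing.ResidueField A)
      (fun i => (1 : IsLocalRing.ResidueField A) ⊗ₜ[A] e i))
    (v : I → A) (hv : ∑ i ∈ s, v i • e i = 0) :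
    ∀ i ∈ s, algebraMap A (Localization.AtPrime q) (v i) = 0 := by
  haveI : IsNoetherianRing R := Algebra.FiniteType.isNoetherianRing A R
  haveI : IsNoetherianRing (Localization.AtPrime P) := IsLocalization.isNoetherianRing P.primeCompl _ inferInstance
  haveI : Module.Finite (Localization.AtPrime P) (LocalizedModule P.primeCompl N) :=
    Module.Finite.of_isLocalizedModule P.primeCompl (LocalizedModule.mkLinearMap P.primeCompl N)
  exact map_eq_zero_of_flat_over_set N P K q R' Set.univ (fun Q _ _ => hflat Q)
    (fun c hc => eq_zero_of_forall_point _ algebraMap_residueField_eq_zero c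
      fun Q hQ hQm => hc Q hQ hQm trivial) s e hind v hv

/-- A module is flat when relations between independent elements die in a jointly injective family. -/
theorem flat_of_jointly_injective {J : Type v} (K : J → Type u) [∀ j, CommRing (K j)] [∀ j, Algebra A (K j)]
    (q : ∀ j, Ideal (K j)) [∀ j, (q j).IsPrime]
    (hq : ∀ a : A, (∀ j, algebraMap A (Localization.AtPrime (q j)) a = 0) → a = 0)
    (hvanish : ∀ j {I : Type u} (s : Finset I) (e : I → LocalizedModule P.primeCompl N),
      LinearIndependent (IsLocalRing.ResidueField A) (fun i => (1 : IsLocalRing.ResidueField A) ⊗ₜ[A] e i) →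
      ∀ v : I → A, ∑ i ∈ s, v i • e i = 0 → ∀ i ∈ s, algebraMap A (Localization.AtPrime (q j)) (v i) = 0) :
    Module.Flat A (LocalizedModule P.primeCompl N) := by
  classical
  let M := LocalizedModule P.primeCompl N
  let k := IsLocalRing.ResidueField A
  let bas := Module.Free.chooseBasis k (k ⊗[A] M)
  choose e he using fun i => TensorProduct.mk_surjective A M k Ideal.Quotient.mk_surjective (bas i)
  have hind : LinearIndependent k (fun i => (1 : k) ⊗ₜ[A] e i) := by
    have : (fun i => (1 : k) ⊗ₜ[A] e i) = bas := funext he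
    rw [this]
    exact bas.linearIndependent
  have hli : LinearIndependent A e := linearIndependent_iff'.2 fun s v hv i hi => hq _ fun j =>
    hvanish j s e hind v hv i hi
  have hsp : Submodule.span A (Set.range e) = ⊤ := by
    obtain ⟨n, hn⟩ := IsArtinianRing.isNilpotent_jacobson_bot (R := A)
    rw [IsLocalRing.jacobson_eq_maximalIdeal _ bot_ne_top] at hn
    let m := IsLocalRing.maximalIdeal A
    let E := Submodule.span A (Set.range e)
    have h1 : (⊤ : Submodule A M) ≤ E ⊔ m • ⊤ := by
      have h2 : E.map (TensorProduct.mk A k M 1) = ⊤ := by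
        rw [Submodule.map_span, ← Set.range_comp,
          show (TensorProduct.mk A k M 1) ∘ e = bas from funext he,
          ← Submodule.restrictScalars_span A k Ideal.Quotient.mk_surjective, bas.span_eq]
        rfl
      intro x _
      obtain ⟨y, hy, hyx⟩ := (h2.ge (Submodule.mem_top (x := TensorProduct.mk A k M 1 x)) :)
      have h3 : x - y ∈ LinearMap.ker (TensorProduct.mk A k M 1) := by
        rw [LinearMap.mem_ker, map_sub, hyx, sub_self]
      change x - y ∈ LinearMap.ker (TensorProduct.mk A (A ⧸ m) M 1) at h3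
      rw [LinearMap.ker_tensorProductMk] at h3
      exact Submodule.mem_sup.2 ⟨y, hy, x - y, h3, by abel⟩
    have h4 : ∀ l, (⊤ : Submodule A M) ≤ E ⊔ m ^ l • ⊤ := by
      intro l
      induction l with
      | zero => simp
      | succ l ih =>
        refine ih.trans (sup_le le_sup_left ?_)
        refine (Submodule.smul_mono le_rfl h1).trans ?_
        rw [Submodule.smul_sup, ← Submodule.mul_smul, ← pow_succ]
        exact sup_le_sup_right Submodule.smul_le_right _
    have := h4 n
    rw [hn, Ideal.zero_eq_bot, Submodule.bot_smul, sup_bot_eq] at this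
    exact top_le_iff.1 this
  haveI : Module.Free A M := Module.Free.of_basis (Module.Basis.mk hli hsp.ge)
  infer_instance

/-- Flatness descends along a jointly injective family of base changes flat over one point. -/
theorem flat_of_flat_over_points {J : Type v} (K : J → Type u) [∀ j, CommRing (K j)] [∀ j, Algebra A (K j)]
    (q : ∀ j, Ideal (K j)) [∀ j, (q j).IsPrime]
    (hq : ∀ a : A, (∀ j, algebraMap A (Localization.AtPrime (q j)) a = 0) → a = 0)
    (R' : J → Type u) [∀ j, CommRing (R' j)] [∀ j, Algebra R (R' j)] [∀ j, Algebra (K j) (R' j)]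
    [∀ j, Algebra A (R' j)] [∀ j, IsScalarTower A R (R' j)] [∀ j, IsScalarTower A (K j) (R' j)]
    [∀ j, Algebra.IsPushout A (K j) R (R' j)]
    (hflat : ∀ j (Q : Ideal (R' j)) [Q.IsPrime], Q.comap (algebraMap R (R' j)) = P →
      Q.comap (algebraMap (K j) (R' j)) = q j →
      Module.Flat (K j) (LocalizedModule Q.primeCompl (R' j ⊗[R] N))) :
    Module.Flat A (LocalizedModule P.primeCompl N) :=
  flat_of_jointly_injective N P K q hq fun j _ s e hind v hv =>
    map_eq_zero_of_flat_over_points N P (K j) (q j) (R' j) (fun Q _ => hflat j Q) s e hind v hv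

end Groth.Agent.E4O
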