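import Groth.Agent.E4O.ArtinDescentPrimary
import Groth.Agent.E4O.ArtinDescentScheme

/-!
Descent of flatness over an Artinian local base along base changes flat at a single point, when the
residue field extension is primary (EGA IV 11.4).
-/

set_option autoImplicit false
set_option backward.isDefEq.respectTransparency.types false
set_option linter.style.haveILetI false
universe u v

open CategoryTheory Limits AlgebraicGeometry TopologicalSpace Opposite TensorProduct
open Groth.Agent.QC70

namespace Groth.Agent.E4O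

/-- A prime of the fibre lying over a given prime of the base change. -/
theorem exists_prime_fibre_over {A R K R' : Type u} [CommRing A] [CommRing R] [Algebra A R] [CommRing K]
    [Algebra A K] [CommRing R'] [Algebra R R'] [Algebra K R'] [Algebra A R'] [IsScalarTower A R R']
    [IsScalarTower A K R'] [Algebra.IsPushout A K R R'] (P : Ideal R) [P.IsPrime] (q : Ideal K) [q.IsPrime]
    (Q₀ : Ideal R') [Q₀.IsPrime] (hR : Q₀.comap (algebraMap R R') = P) (hK : Q₀.comap (algebraMap K R') = q) :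
    ∃ Q : Ideal ((Localization.AtPrime P) ⊗[A] IsLocalRing.ResidueField (Localization.AtPrime q)),
      Q.IsPrime ∧ Q.comap (algebraMap (Localization.AtPrime P) _) =
        IsLocalRing.maximalIdeal (Localization.AtPrime P) ∧
      Q.comap (toFibre A P K q R').toRingHom = Q₀ := by
  let O := Localization.AtPrime P
  let κ := q.ResidueField
  let κ₀ := Q₀.ResidueField
  have hunit : ∀ r : P.primeCompl, IsUnit (algebraMap R κ₀ r) := fun r => by
    refine isUnit_iff_ne_zero.2 fun h => r.2 ?_
    have h1 : algebraMap R' κ₀ (algebraMap R R' r.1) = 0 := by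
      rw [← IsScalarTower.algebraMap_apply R R' κ₀]; exact h
    exact hR.le (show algebraMap R R' r.1 ∈ Q₀ from Ideal.algebraMap_residueField_eq_zero.1 h1)
  let ψO : O →ₐ[A] κ₀ :=
    { IsLocalization.lift (S := O) hunit with
      commutes' := fun a => by
        show IsLocalization.lift (S := O) hunit (algebraMap A O a) = _
        rw [IsScalarTower.algebraMap_apply A R O, IsLocalization.lift_eq]
        show algebraMap R κ₀ (algebraMap A R a) = _
        rw [← IsScalarTower.algebraMap_apply] }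
  let ψκ : κ →ₐ[A] κ₀ := Ideal.ResidueField.mapₐ q Q₀ (IsScalarTower.toAlgHom A K R') hK.symm
  let Φ : O ⊗[A] κ →ₐ[A] κ₀ := Algebra.TensorProduct.lift ψO ψκ fun _ _ => mul_comm _ _
  have hΦ : Φ.comp (toFibre A P K q R') = IsScalarTower.toAlgHom A R' κ₀ := by
    refine Algebra.IsPushout.algHom_ext (R := A) (S := K) (R' := R) (S' := R') ?_ ?_
    · ext r
      show Φ (toFibre A P K q R' (algebraMap R R' r)) = algebraMap R' κ₀ (algebraMap R R' r)
      rw [toFibre, Algebra.pushoutDesc_right]
      show Φ (algebraMap R O r ⊗ₜ[A] (1 : κ)) = _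
      rw [Algebra.TensorProduct.lift_tmul, map_one, mul_one]
      show IsLocalization.lift (S := O) hunit (algebraMap R O r) = _
      rw [IsLocalization.lift_eq]
      exact IsScalarTower.algebraMap_apply R R' κ₀ r
    · ext b
      show Φ (toFibre A P K q R' (algebraMap K R' b)) = algebraMap R' κ₀ (algebraMap K R' b)
      rw [toFibre, Algebra.pushoutDesc_left]
      show Φ ((1 : O) ⊗ₜ[A] algebraMap K κ b) = _
      rw [Algebra.TensorProduct.lift_tmul, map_one, one_mul]
      exact Ideal.ResidueField.map_algebraMap q Q₀ _ hK.symm b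
  have hker : (RingHom.ker Φ.toRingHom).IsPrime := RingHom.ker_isPrime _
  refine ⟨RingHom.ker Φ.toRingHom, hker, ?_, ?_⟩
  · refine ((IsLocalRing.maximalIdeal.isMaximal O).eq_of_le (Ideal.IsPrime.comap _).ne_top ?_).symm
    rw [← Localization.AtPrime.map_eq_maximalIdeal, Ideal.map_le_iff_le_comap]
    intro r hr
    show Φ (algebraMap R O r ⊗ₜ[A] (1 : κ)) = 0
    rw [Algebra.TensorProduct.lift_tmul, map_one, mul_one]
    show IsLocalization.lift (S := O) hunit (algebraMap R O r) = 0
    rw [IsLocalization.lift_eq]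
    show algebraMap R κ₀ r = 0
    rw [IsScalarTower.algebraMap_apply R R' κ₀, Ideal.algebraMap_residueField_eq_zero]
    exact hR.ge hr
  · ext z
    show (Φ.comp (toFibre A P K q R')) z = 0 ↔ _
    rw [hΦ]
    exact Ideal.algebraMap_residueField_eq_zero

/-- With a primary residue extension, flatness descends from one point over the given one. -/
theorem flat_of_flat_over_point_primary {A : Type u} [CommRing A] [IsLocalRing A] [IsArtinianRing A]
    {R : Type u} [CommRing R] [Algebra A R] [Algebra.FiniteType A R]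
    (N : Type u) [AddCommGroup N] [Module R N] [Module.Finite R N] [Module A N] [IsScalarTower A R N]
    (P : Ideal R) [P.IsPrime]
    (hprim : ∀ a : IsLocalRing.ResidueField (Localization.AtPrime P),
      (∃ p : Polynomial A, (p.map (IsLocalRing.residue A)).Separable ∧ Polynomial.aeval a p = 0) →
        a ∈ Set.range (algebraMap A (IsLocalRing.ResidueField (Localization.AtPrime P))))
    {J : Type v} (K : J → Type u) [∀ j, CommRing (K j)] [∀ j, Algebra A (K j)]
    (q : ∀ j, Ideal (K j)) [∀ j, (q j).IsPrime]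
    (hq : ∀ a : A, (∀ j, algebraMap A (Localization.AtPrime (q j)) a = 0) → a = 0)
    (R' : J → Type u) [∀ j, CommRing (R' j)] [∀ j, Algebra R (R' j)] [∀ j, Algebra (K j) (R' j)]
    [∀ j, Algebra A (R' j)] [∀ j, IsScalarTower A R (R' j)] [∀ j, IsScalarTower A (K j) (R' j)]
    [∀ j, Algebra.IsPushout A (K j) R (R' j)]
    (hflat : ∀ j, ∃ Q : Ideal (R' j), ∃ _ : Q.IsPrime, Q.comap (algebraMap R (R' j)) = P ∧
      Q.comap (algebraMap (K j) (R' j)) = q j ∧
      Module.Flat (K j) (LocalizedModule Q.primeCompl (R' j ⊗[R] N))) :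
    Module.Flat A (LocalizedModule P.primeCompl N) := by
  let O := Localization.AtPrime P
  haveI : IsNoetherianRing R := Algebra.FiniteType.isNoetherianRing A R
  haveI : IsNoetherianRing O := IsLocalization.isNoetherianRing P.primeCompl O inferInstance
  haveI : Module.Finite O (LocalizedModule P.primeCompl N) :=
    Module.Finite.of_isLocalizedModule P.primeCompl (LocalizedModule.mkLinearMap P.primeCompl N)
  haveI : IsLocalHom (algebraMap A O) := ⟨fun a ha => by
    by_contra h
    have h1 : a ∈ (IsLocalRing.maximalIdeal O).comap (algebraMap A O) := by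
      rw [IsLocalRing.eq_maximalIdeal (IsArtinianRing.isMaximal_of_isPrime
        ((IsLocalRing.maximalIdeal O).comap (algebraMap A O)))]
      exact (IsLocalRing.mem_maximalIdeal _).2 h
    exact (IsLocalRing.mem_maximalIdeal _).1 h1 ha⟩
  refine flat_of_jointly_injective N P K q hq fun j _ s e hind v hv => ?_
  obtain ⟨Q₀, _, hR, hK, hfl⟩ := hflat j
  refine map_eq_zero_of_flat_over_set N P (K j) (q j) (R' j) {Q₀} (fun Q _ hQ _ _ => ?_) (fun c hc => ?_)
    s e hind v hv
  · cases Set.mem_singleton_iff.1 hQ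
    exact hfl
  · obtain ⟨Q, hQ, hQm, hQ₀⟩ := exists_prime_fibre_over (A := A) P (q j) Q₀ hR hK
    obtain ⟨t, ht, htc⟩ := hc Q hQ hQm hQ₀
    refine eq_zero_of_point_primary (fun a ha => ?_) algebraMap_residueField_eq_zero _ Q hQm t ht c htc
    obtain ⟨p, hp⟩ := Polynomial.map_surjective _ IsLocalRing.residue_surjective
      (minpoly (IsLocalRing.ResidueField A) a)
    obtain ⟨b, hb⟩ := hprim a ⟨p, by rw [hp]; exact ha, by
      have h1 := minpoly.aeval (IsLocalRing.ResidueField A) a
      rw [← hp] at h1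
      exact (Polynomial.aeval_map_algebraMap (IsLocalRing.ResidueField A) a p).symm.trans h1⟩
    exact ⟨IsLocalRing.residue A b, hb⟩

/-- Flatness at a point descends along a family of base changes jointly injective on the Artinian
base, when the residue extension is primary and each is flat at one point over it. -/
theorem isFlatOverAt_of_artinian_point_primary {A : Type u} [CommRing A] [IsArtinianRing A] [IsLocalRing A]
    {X : Scheme.{u}} (f : X ⟶ Spec (CommRingCat.of A)) [LocallyOfFiniteType f] (F : X.Modules)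
    (hF : Coh.IsCoh F) (x : X)
    (hprim : letI := (f.residueFieldMap x).hom.toAlgebra
      ∀ a : ↑(X.residueField x), IsSeparable ↑((Spec (CommRingCat.of A)).residueField (f x)) a →
        a ∈ (f.residueFieldMap x).hom.range)
    {J : Type*} (Y : J → Scheme.{u})
    (g : ∀ j, Y j ⟶ Spec (CommRingCat.of A)) (y : ∀ j, Y j)
    (hg : ∀ a : A, (∀ j, (Y j).presheaf.germ ⊤ (y j) trivial
      ((g j).appTop ((Scheme.ΓSpecIso (CommRingCat.of A)).inv a)) = 0) → a = 0)
    (hflat : ∀ j, ∃ x' : ↥(pullback f (g j)), pullback.fst f (g j) x' = x ∧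
      pullback.snd f (g j) x' = y j ∧ FlatMod.IsFlatOverAt (pullback.snd f (g j))
        ((Scheme.Modules.pullback (pullback.fst f (g j))).obj F) x') :
    FlatMod.IsFlatOverAt f F x := by
  classical
  let S := Spec (CommRingCat.of A)
  let eA : A ≃+* Γ(S, ⊤) := (Scheme.ΓSpecIso (CommRingCat.of A)).symm.commRingCatIsoToRingEquiv
  haveI : IsLocalRing Γ(S, ⊤) := eA.isLocalRing
  haveI : IsArtinianRing Γ(S, ⊤) := eA.surjective.isArtinianRing (f := eA.toRingHom)
  haveI : IsNoetherianRing A := inferInstance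
  haveI : IsLocallyNoetherian X := LocallyOfFiniteType.isLocallyNoetherian f
  have hFP := Div89.isFP_of_isCoh hF
  obtain ⟨σ, hσ⟩ := hFP.exists_quasicoherentData
  haveI : F.IsQuasicoherent := σ.isQuasicoherent
  obtain ⟨Ω, hΩ, hxΩ, -⟩ := exists_isAffineOpen_mem_and_subset (X := X) (x := x) (U := ⊤) trivial
  have eΩ : Ω ≤ f ⁻¹ᵁ ⊤ := fun _ _ => trivial
  letI : Algebra Γ(S, ⊤) Γ(X, Ω) := (f.appLE ⊤ Ω eΩ).hom.toAlgebra
  letI : Module Γ(S, ⊤) Γ(F, Ω) := Module.compHom _ (f.appLE ⊤ Ω eΩ).hom
  haveI : IsScalarTower Γ(S, ⊤) Γ(X, Ω) Γ(F, Ω) := IsScalarTower.of_algebraMap_smul fun _ _ => rfl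
  haveI : Algebra.FiniteType Γ(S, ⊤) Γ(X, Ω) :=
    LocallyOfFiniteType.finiteType_appLE (f := f) (isAffineOpen_top _) hΩ eΩ
  haveI := Props58.LocFree.finitePresentation_sections F (hM := hFP) hΩ
  refine (Open62.isFlatOverAt_iff_localized f eΩ hΩ (isAffineOpen_top S)
    (isLocAt_of_isQuasicoherent F hΩ) hxΩ).2 ?_
  let P := hΩ.primeIdealOf ⟨x, hxΩ⟩
  choose W hW hyW eW using fun j => exists_isAffineOpen_mem_and_subset (X := Y j) (x := y j)
    (U := g j ⁻¹ᵁ ⊤) trivial
  let O : ∀ j, (pullback f (g j)).Opens := fun j =>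
    pullback.fst f (g j) ⁻¹ᵁ Ω ⊓ pullback.snd f (g j) ⁻¹ᵁ W j
  haveI : ∀ j, IsAffine ((W j) : Scheme.{u}) := fun j => hW j
  haveI : IsAffine (Ω : Scheme.{u}) := hΩ
  haveI : IsAffine ((⊤ : S.Opens) : Scheme.{u}) := isAffineOpen_top S
  have H := fun j => (IsPullback.of_hasPullback f (g j)).flip
  have hO : ∀ j, IsAffineOpen (O j) := fun j => .of_isIso (Scheme.Hom.isPullback_resLE (H j) eΩ (eW j)
    (inf_comm (pullback.fst f (g j) ⁻¹ᵁ Ω) (pullback.snd f (g j) ⁻¹ᵁ W j))).isoPullback.hom
  have hpo := fun j => (isIso_pushoutSection_iff (H j) eΩ (eW j)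
      (inf_comm (pullback.fst f (g j) ⁻¹ᵁ Ω) (pullback.snd f (g j) ⁻¹ᵁ W j))).mp
    (isIso_pushoutSection_of_isAffineOpen (H j) eΩ (eW j)
      (inf_comm (pullback.fst f (g j) ⁻¹ᵁ Ω) (pullback.snd f (g j) ⁻¹ᵁ W j)) (isAffineOpen_top S) hΩ (hW j))
  letI : ∀ j, Algebra Γ(S, ⊤) Γ(Y j, W j) := fun j => ((g j).appLE ⊤ (W j) (eW j)).hom.toAlgebra
  letI : ∀ j, Algebra Γ(X, Ω) Γ(pullback f (g j), O j) := fun j =>
    ((pullback.fst f (g j)).appLE Ω (O j) inf_le_left).hom.toAlgebra
  letI : ∀ j, Algebra Γ(Y j, W j) Γ(pullback f (g j), O j) := fun j =>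
    ((pullback.snd f (g j)).appLE (W j) (O j) inf_le_right).hom.toAlgebra
  letI : ∀ j, Algebra Γ(S, ⊤) Γ(pullback f (g j), O j) := fun j =>
    (f.appLE ⊤ Ω eΩ ≫ (pullback.fst f (g j)).appLE Ω (O j) inf_le_left).hom.toAlgebra
  haveI : ∀ j, IsScalarTower Γ(S, ⊤) Γ(X, Ω) Γ(pullback f (g j), O j) := fun j => .of_algebraMap_eq' rfl
  haveI : ∀ j, IsScalarTower Γ(S, ⊤) Γ(Y j, W j) Γ(pullback f (g j), O j) := fun j =>
    .of_algebraMap_eq' (congrArg CommRingCat.Hom.hom (hpo j).w).symm
  haveI : ∀ j, Algebra.IsPushout Γ(S, ⊤) Γ(Y j, W j) Γ(X, Ω) Γ(pullback f (g j), O j) := fun j =>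
    (CommRingCat.isPushout_iff_isPushout).1 (hpo j)
  let q : ∀ j, Ideal Γ(Y j, W j) := fun j => ((hW j).primeIdealOf ⟨y j, hyW j⟩).asIdeal
  haveI : ∀ j, (q j).IsPrime := fun j => ((hW j).primeIdealOf ⟨y j, hyW j⟩).isPrime
  refine flat_of_flat_over_point_primary Γ(F, Ω) P.asIdeal (fun a ha => ?_)
    (fun j => Γ(Y j, W j)) q (fun a ha => ?_) (fun j => Γ(pullback f (g j), O j)) (fun j => ?_)
  · -- the residue fields
    letI : Algebra Γ(X, Ω) (X.presheaf.stalk x) := (X.presheaf.germ Ω x hxΩ).hom.toAlgebra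
    haveI : IsLocalization.AtPrime (X.presheaf.stalk x) P.asIdeal := hΩ.isLocalization_stalk ⟨x, hxΩ⟩
    let e : Localization.AtPrime P.asIdeal ≃ₐ[Γ(X, Ω)] X.presheaf.stalk x :=
      IsLocalization.algEquiv P.asIdeal.primeCompl _ _
    let er : IsLocalRing.ResidueField (Localization.AtPrime P.asIdeal) ≃+* X.residueField x :=
      IsLocalRing.ResidueField.mapEquiv e.toRingEquiv
    let fx : S := f x
    letI := (f.residueFieldMap x).hom.toAlgebra
    have hcomp : ∀ b : Γ(S, ⊤), er (algebraMap Γ(S, ⊤) _ b) = f.residueFieldMap x (S.evaluation ⊤ fx trivial b) := by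
      intro b
      rw [IsScalarTower.algebraMap_apply Γ(S, ⊤) Γ(X, Ω) (IsLocalRing.ResidueField (Localization.AtPrime P.asIdeal)),
        IsScalarTower.algebraMap_apply Γ(X, Ω) (Localization.AtPrime P.asIdeal) (IsLocalRing.ResidueField (Localization.AtPrime P.asIdeal))]
      show IsLocalRing.residue _ (e (algebraMap _ _ (algebraMap Γ(S, ⊤) Γ(X, Ω) b))) = _
      rw [e.commutes, Scheme.evaluation_naturality_apply]
      show X.residue x (X.presheaf.germ Ω x hxΩ (f.appLE ⊤ Ω eΩ b)) = _
      rw [Scheme.Hom.appLE, CommRingCat.comp_apply]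
      exact congrArg (X.residue x) (X.presheaf.germ_res_apply (homOfLE eΩ) x hxΩ _)
    have hsurj : Function.Surjective (S.evaluation ⊤ fx trivial) := by
      letI : Algebra Γ(S, ⊤) (S.presheaf.stalk fx) := (S.presheaf.germ ⊤ fx trivial).hom.toAlgebra
      let p := (isAffineOpen_top S).primeIdealOf ⟨fx, trivial⟩
      haveI : IsLocalization.AtPrime (S.presheaf.stalk fx) p.asIdeal :=
        (isAffineOpen_top S).isLocalization_stalk ⟨fx, trivial⟩
      have hu : ∀ r ∈ p.asIdeal.primeCompl, IsUnit r := fun r hr => by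
        by_contra h
        refine hr ?_
        rw [IsLocalRing.eq_maximalIdeal (IsArtinianRing.isMaximal_of_isPrime p.asIdeal)]
        exact (IsLocalRing.mem_maximalIdeal _).2 h
      intro z
      obtain ⟨w, rfl⟩ := Ideal.Quotient.mk_surjective (I := IsLocalRing.maximalIdeal (S.presheaf.stalk fx)) z
      obtain ⟨b, rfl⟩ := (IsLocalization.atUnits Γ(S, ⊤) p.asIdeal.primeCompl hu
        (S := S.presheaf.stalk fx)).surjective w
      exact ⟨b, rfl⟩
    obtain ⟨pA, hsep, hroot⟩ := ha
    let ρ : Γ(S, ⊤) →+* S.residueField fx := (S.evaluation ⊤ fx trivial).hom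
    have hρk : ∀ b ∈ IsLocalRing.maximalIdeal Γ(S, ⊤), ρ b = 0 := by
      intro b hb
      obtain ⟨n, hn⟩ := IsArtinianRing.isNilpotent_jacobson_bot (R := Γ(S, ⊤))
      rw [IsLocalRing.jacobson_eq_maximalIdeal _ bot_ne_top] at hn
      have h1 : b ^ n = 0 := hn.le (Ideal.pow_mem_pow hb n)
      exact eq_zero_of_pow_eq_zero (n := n) (by rw [← map_pow, h1, map_zero])
    have hsep' : (pA.map ρ).Separable := by
      have h1 := hsep.map (f := Ideal.Quotient.lift _ ρ hρk)
      rw [Polynomial.map_map] at h1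
      exact h1
    have h0 : Polynomial.aeval (er a) (pA.map ρ) = 0 := by
      have h1 := congrArg er hroot
      rw [map_zero, Polynomial.aeval_def, ← RingEquiv.coe_toRingHom, Polynomial.hom_eval₂] at h1
      rw [Polynomial.aeval_def, Polynomial.eval₂_map]
      convert h1 using 2
      · exact RingHom.ext fun b => (hcomp b).symm
      · rfl
    obtain ⟨b, hb⟩ := hprim (er a) (hsep'.of_dvd (minpoly.dvd _ _ h0))
    obtain ⟨c, rfl⟩ := hsurj b
    exact ⟨c, er.injective ((hcomp c).trans hb)⟩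
  · obtain ⟨b, rfl⟩ := eA.surjective a
    suffices b = 0 by rw [this, map_zero]
    refine hg b fun j => ?_
    letI : Algebra Γ(Y j, W j) ((Y j).presheaf.stalk (y j)) :=
      ((Y j).presheaf.germ (W j) (y j) (hyW j)).hom.toAlgebra
    haveI : IsLocalization.AtPrime ((Y j).presheaf.stalk (y j)) (q j) :=
      (hW j).isLocalization_stalk ⟨y j, hyW j⟩
    have h1 := ha j
    rw [IsScalarTower.algebraMap_apply Γ(S, ⊤) Γ(Y j, W j),
      IsLocalization.map_eq_zero_iff (q j).primeCompl] at h1
    have h2 := (IsLocalization.map_eq_zero_iff (q j).primeCompl ((Y j).presheaf.stalk (y j)) _).2 h1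
    refine Eq.trans ?_ h2
    show _ = (Y j).presheaf.germ (W j) (y j) (hyW j) ((g j).appLE ⊤ (W j) (eW j) (eA b))
    rw [Scheme.Hom.appLE, CommRingCat.comp_apply]
    exact ((Y j).presheaf.germ_res_apply (homOfLE (eW j)) (y j) (hyW j) _).symm
  · haveI := QCPull72.isQuasicoherent_pullback (pullback.fst f (g j)) F
    obtain ⟨x', hx, hy, hfl⟩ := hflat j
    have hx'O : x' ∈ O j := ⟨show pullback.fst f (g j) x' ∈ Ω from hx ▸ hxΩ,
      show pullback.snd f (g j) x' ∈ W j from hy ▸ hyW j⟩
    let Q := ((hO j).primeIdealOf ⟨x', hx'O⟩)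
    let F' := (Scheme.Modules.pullback (pullback.fst f (g j))).obj F
    letI : Module Γ(Y j, W j) Γ(F', O j) :=
      Module.compHom _ ((pullback.snd f (g j)).appLE (W j) (O j) inf_le_right).hom
    haveI : IsScalarTower Γ(Y j, W j) Γ(pullback f (g j), O j) Γ(F', O j) :=
      IsScalarTower.of_algebraMap_smul fun _ _ => rfl
    have h1 := (Open62.isFlatOverAt_iff_localized (pullback.snd f (g j))
      (inf_le_right : O j ≤ _) (hO j) (hW j) (isLocAt_of_isQuasicoherent F' (hO j)) hx'O).1 hfl
    obtain ⟨E₁, -⟩ := LimTop61.exists_baseChange_equiv (pullback.fst f (g j)) F hΩ (hO j)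
      (inf_le_left : O j ≤ _)
    refine ⟨Q.asIdeal, inferInstance, ?_, ?_, flat_localized_of_linearEquiv E₁ _ h1⟩
    · refine congrArg PrimeSpectrum.asIdeal (a₁ := (Spec.map ((pullback.fst f (g j)).appLE Ω (O j) inf_le_left)) Q)
        (hΩ.fromSpec.isOpenEmbedding.injective ?_)
      rw [← Scheme.Hom.comp_apply, hΩ.SpecMap_appLE_fromSpec (pullback.fst f (g j)) (hO j) inf_le_left,
        Scheme.Hom.comp_apply, (hO j).fromSpec_primeIdealOf, hΩ.fromSpec_primeIdealOf]
      exact hx
    · refine congrArg PrimeSpectrum.asIdeal (a₁ := (Spec.map ((pullback.snd f (g j)).appLE (W j) (O j) inf_le_right)) Q)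
        ((hW j).fromSpec.isOpenEmbedding.injective ?_)
      rw [← Scheme.Hom.comp_apply, (hW j).SpecMap_appLE_fromSpec (pullback.snd f (g j)) (hO j) inf_le_right,
        Scheme.Hom.comp_apply, (hO j).fromSpec_primeIdealOf, (hW j).fromSpec_primeIdealOf]
      exact hy

end Groth.Agent.E4O
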