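import Groth.Agent.E4O.ArtinDescentAlg
import Groth.Agent.FBase64.Primary
import Groth.Agent.FBase64.AlgFields

/-!
When the residue field extension is primary, one point detects zero on the fibre over an extension field.
-/

set_option autoImplicit false
set_option linter.style.haveILetI false
universe u

open TensorProduct

namespace Groth.Agent.E4O

/-- In the tensor product of two field extensions, one of them primary, non-nilpotent elements are
regular. -/
theorem eq_zero_of_mul_eq_zero_of_primary {k κ L : Type u} [Field k] [Field κ] [Field L] [Algebra k κ]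
    [Algebra k L] (hL : separableClosure k L = ⊥) (s z : κ ⊗[k] L) (hs : ¬ IsNilpotent s)
    (hz : s * z = 0) : z = 0 := by
  by_contra hne
  let I : Ideal (κ ⊗[k] L) := Ideal.span {s}
  have hdisj : Disjoint (I : Set (κ ⊗[k] L)) (nonZeroDivisors (κ ⊗[k] L) : Set (κ ⊗[k] L)) := by
    refine Set.disjoint_left.2 fun r hr hr' => hne ?_
    obtain ⟨t, rfl⟩ := Ideal.mem_span_singleton'.1 hr
    exact (mem_nonZeroDivisors_iff_left.1 hr') z (by rw [mul_assoc, hz, mul_zero])
  obtain ⟨P, hP, hIP, hPd⟩ := Ideal.exists_le_prime_disjoint I (nonZeroDivisors (κ ⊗[k] L)) hdisj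
  have hzd : ∀ r ∈ P, ∃ x, x ≠ 0 ∧ r * x = 0 := by
    intro r hr
    have hr' : r ∉ nonZeroDivisors (κ ⊗[k] L) := fun h => Set.disjoint_left.1 hPd hr h
    rw [mem_nonZeroDivisors_iff_left] at hr'
    push Not at hr'
    obtain ⟨x, hx, hx0⟩ := hr'
    exact ⟨x, hx0, hx⟩
  have hmin := FBase64.mem_minimalPrimes_tensor k κ L P hzd
  have hn := FBase64.isPrime_nilradical_tensor hL κ
  have hPn : P ≤ nilradical (κ ⊗[k] L) := hmin.2 ⟨hn, bot_le⟩ (nilradical_le_prime P)
  exact hs (mem_nilradical.1 (hPn (hIP (Ideal.mem_span_singleton_self s))))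

variable {A : Type u} [CommRing A] [IsLocalRing A]

/-- Tensoring with a field over the residue field is exact on modules killed by the maximal ideal. -/
theorem injective_lTensor_of_killed {κ : Type u} [Field κ] [Algebra A κ]
    (hm : ∀ a ∈ IsLocalRing.maximalIdeal A, algebraMap A κ a = 0) {X X' : Type u} [AddCommGroup X]
    [Module A X] [AddCommGroup X'] [Module A X'] (f : X' →ₗ[A] X) (hf : Function.Injective f)
    (hX : ∀ a ∈ IsLocalRing.maximalIdeal A, ∀ x : X, a • x = 0) : Function.Injective (f.lTensor κ) := by
  let k := IsLocalRing.ResidueField A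
  letI : Algebra k κ := (Ideal.Quotient.lift _ (algebraMap A κ) hm).toAlgebra
  haveI : IsScalarTower A k κ := IsScalarTower.of_algebraMap_eq fun a => rfl
  have hbij : Function.Injective (TensorProduct.mk A k X 1) := by
    rw [injective_iff_map_eq_zero]
    intro x hx
    have h1 : x ∈ LinearMap.ker (TensorProduct.mk A (A ⧸ IsLocalRing.maximalIdeal A) X 1) := hx
    rw [LinearMap.ker_tensorProductMk] at h1
    refine Submodule.smul_induction_on h1 (fun a ha y _ => hX a ha y) fun a b ha hb => ?_
    rw [ha, hb, add_zero]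
  have hinj : Function.Injective (f.baseChange k) := by
    rw [injective_iff_map_eq_zero]
    intro w hw
    obtain ⟨x, rfl⟩ := TensorProduct.mk_surjective A X' k Ideal.Quotient.mk_surjective w
    rw [TensorProduct.mk_apply, LinearMap.baseChange_tmul] at hw
    have h2 : f x = 0 := hbij (hw.trans (map_zero _).symm)
    rw [hf (h2.trans (map_zero f).symm), map_zero]
  have h3 : Function.Injective ((f.baseChange k).lTensor κ) :=
    Module.Flat.lTensor_preserves_injective_linearMap _ hinj
  let eX := AlgebraTensorModule.cancelBaseChange A k κ κ X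
  let eX' := AlgebraTensorModule.cancelBaseChange A k κ κ X'
  have key : ∀ z, eX ((f.baseChange k).lTensor κ z) = f.lTensor κ (eX' z) := by
    intro z
    induction z using TensorProduct.induction_on with
    | zero => simp
    | add a b ha hb => simp only [map_add, ha, hb]
    | tmul a z =>
      induction z using TensorProduct.induction_on with
      | zero => simp
      | add b c hb hc => simp only [tmul_add, map_add, hb, hc]
      | tmul b x => simp [eX, eX']
  intro x y hxy
  obtain ⟨x, rfl⟩ := eX'.surjective x
  obtain ⟨y, rfl⟩ := eX'.surjective y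
  rw [← key, ← key] at hxy
  rw [h3 (eX.injective hxy)]

variable {O : Type u} [CommRing O] [IsLocalRing O] [Algebra A O] {κ : Type u} [Field κ] [Algebra A κ]

variable (A O κ) in
/-- The fibre over an extension field as a tensor product over the base. -/
noncomputable def fibreEquiv (X : Type u) [AddCommGroup X] [Module O X] [Module A X] [IsScalarTower A O X] :
    (O ⊗[A] κ) ⊗[O] X ≃ₗ[A] κ ⊗[A] X :=
  ((TensorProduct.comm O (O ⊗[A] κ) X).restrictScalars A) ≪≫ₗ
    ((AlgebraTensorModule.cancelBaseChange A O O X κ).restrictScalars A) ≪≫ₗ TensorProduct.comm A X κ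

theorem fibreEquiv_tmul (X : Type u) [AddCommGroup X] [Module O X] [Module A X] [IsScalarTower A O X]
    (o : O) (b : κ) (x : X) : fibreEquiv A O κ X ((o ⊗ₜ[A] b) ⊗ₜ[O] x) = b ⊗ₜ[A] (o • x) := rfl

theorem fibreEquiv_natural {X X' : Type u} [AddCommGroup X] [Module O X] [Module A X] [IsScalarTower A O X]
    [AddCommGroup X'] [Module O X'] [Module A X'] [IsScalarTower A O X'] (f : X' →ₗ[O] X)
    (z : (O ⊗[A] κ) ⊗[O] X') :
    fibreEquiv A O κ X (f.lTensor (O ⊗[A] κ) z) = (f.restrictScalars A).lTensor κ (fibreEquiv A O κ X' z) := by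
  induction z using TensorProduct.induction_on with
  | zero => simp
  | add a b ha hb => simp only [map_add, ha, hb]
  | tmul s x =>
    induction s using TensorProduct.induction_on with
    | zero => simp
    | add a b ha hb => simp only [add_tmul, map_add, ha, hb]
    | tmul o b => simp [fibreEquiv_tmul]

variable [IsNoetherianRing O]

/-- With a primary residue extension, what one point above the closed point kills is zero. -/
theorem eq_zero_of_point_primary [IsLocalHom (algebraMap A O)]
    (hprim : ∀ a : IsLocalRing.ResidueField O, IsSeparable (IsLocalRing.ResidueField A) a →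
      a ∈ Set.range (algebraMap (IsLocalRing.ResidueField A) (IsLocalRing.ResidueField O)))
    (hm : ∀ a ∈ IsLocalRing.maximalIdeal A, algebraMap A κ a = 0)
    (M : Type u) [AddCommGroup M] [Module O M] [Module A M] [IsScalarTower A O M] [Module.Finite O M]
    (Q : Ideal (O ⊗[A] κ)) [Q.IsPrime]
    (hQ : Q.comap (algebraMap O (O ⊗[A] κ)) = IsLocalRing.maximalIdeal O)
    (s : O ⊗[A] κ) (hs : s ∉ Q) (c : (O ⊗[A] κ) ⊗[O] M) (hsc : s • c = 0) : c = 0 := by
  classical
  let k := IsLocalRing.ResidueField A
  let L := IsLocalRing.ResidueField O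
  let S := O ⊗[A] κ
  let m := IsLocalRing.maximalIdeal O
  let mA := IsLocalRing.maximalIdeal A
  letI : Algebra k κ := (Ideal.Quotient.lift _ (algebraMap A κ) hm).toAlgebra
  haveI : IsScalarTower A k κ := IsScalarTower.of_algebraMap_eq fun a => rfl
  have hL : separableClosure k L = ⊥ := eq_bot_iff.2 fun a ha =>
    IntermediateField.mem_bot.2 (hprim a (mem_separableClosure_iff.1 ha))
  have hmA : ∀ a ∈ mA, algebraMap A L a = 0 := fun a ha => by
    rw [IsScalarTower.algebraMap_apply A k L]
    show algebraMap k L (IsLocalRing.residue A a) = 0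
    rw [(IsLocalRing.residue_eq_zero_iff a).2 ha, map_zero]
  -- the fibre of the residue field
  have hkilledL : ∀ a ∈ mA, ∀ x : L, a • x = 0 := fun a ha x => by
    rw [Algebra.smul_def, hmA a ha, zero_mul]
  have hmk : Function.Bijective (TensorProduct.mk A k L 1) := by
    refine ⟨?_, TensorProduct.mk_surjective A L k Ideal.Quotient.mk_surjective⟩
    rw [injective_iff_map_eq_zero]
    intro x hx
    have h1 : x ∈ LinearMap.ker (TensorProduct.mk A (A ⧸ mA) L 1) := hx
    rw [LinearMap.ker_tensorProductMk] at h1
    exact Submodule.smul_induction_on h1 (fun a ha y _ => hkilledL a ha y) fun a b ha hb => by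
      rw [ha, hb, add_zero]
  let eL : κ ⊗[A] L → κ ⊗[k] L := TensorProduct.mapOfCompatibleSMul k A A κ L
  let φ : S →ₐ[A] κ ⊗[k] L := Algebra.TensorProduct.lift
    (((Algebra.TensorProduct.includeRight : L →ₐ[k] κ ⊗[k] L).restrictScalars A).comp
      (IsScalarTower.toAlgHom A O L))
    ((Algebra.TensorProduct.includeLeft : κ →ₐ[k] κ ⊗[k] L).restrictScalars A) fun _ _ => mul_comm _ _
  let eκ := AlgebraTensorModule.cancelBaseChange A k κ κ L
  let eM : L ≃ₗ[A] k ⊗[A] L := LinearEquiv.ofBijective (TensorProduct.mk A k L 1) hmk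
  let eMk : L ≃ₗ[k] k ⊗[A] L := LinearEquiv.ofBijective
    { toFun := fun x => (1 : k) ⊗ₜ[A] x
      map_add' := tmul_add _
      map_smul' := fun r x => by
        obtain ⟨a, rfl⟩ := IsLocalRing.residue_surjective r
        show (1 : k) ⊗ₜ[A] (algebraMap A k a • x) = algebraMap A k a • ((1 : k) ⊗ₜ[A] x)
        rw [algebraMap_smul, algebraMap_smul, tmul_smul] } hmk
  let e : S ⊗[O] L ≃ₗ[A] κ ⊗[k] L := fibreEquiv A O κ L ≪≫ₗ (eκ.symm.restrictScalars A) ≪≫ₗ
    ((LinearEquiv.lTensor κ eMk.symm).restrictScalars A)
  have he : ∀ (o : O) (b : κ) (x : L), e ((o ⊗ₜ[A] b) ⊗ₜ[O] x) = b ⊗ₜ[k] (algebraMap O L o * x) := by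
    intro o b x
    show LinearEquiv.lTensor κ eMk.symm (eκ.symm (b ⊗ₜ[A] (o • x))) = _
    simp only [eκ, AlgebraTensorModule.cancelBaseChange_symm_tmul, LinearEquiv.lTensor_tmul]
    rw [show eMk.symm ((1 : k) ⊗ₜ[A] (o • x)) = o • x from eMk.symm_apply_apply (o • x),
      Algebra.smul_def]
  have hmul : ∀ (s : S) (y : S ⊗[O] L), e (s • y) = φ s * e y := by
    intro s y
    induction y using TensorProduct.induction_on with
    | zero => simp
    | add a b ha hb => simp only [smul_add, map_add, ha, hb, mul_add]
    | tmul t x =>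
      induction t using TensorProduct.induction_on with
      | zero => simp
      | add a b ha hb => simp only [add_tmul, smul_add, map_add, ha, hb, mul_add]
      | tmul o b =>
        induction s using TensorProduct.induction_on with
        | zero => simp
        | add a b ha hb => simp only [add_smul, map_add, ha, hb, add_mul]
        | tmul o' b' =>
          rw [TensorProduct.smul_tmul', smul_eq_mul, Algebra.TensorProduct.tmul_mul_tmul, he, he]
          rw [show φ (o' ⊗ₜ[A] b') = (1 : κ) ⊗ₜ[k] algebraMap O L o' * b' ⊗ₜ[k] (1 : L) from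
            Algebra.TensorProduct.lift_tmul _ _ _ _ _]
          simp [mul_assoc]
  -- `φ s` is not nilpotent
  have hnil : ¬ IsNilpotent (φ s) := by
    rintro ⟨n, hn⟩
    have h1 : e (s ^ n • ((1 : S) ⊗ₜ[O] (1 : L))) = 0 := by rw [hmul, map_pow, hn, zero_mul]
    rw [LinearEquiv.map_eq_zero_iff] at h1
    let γ : L →ₗ[O] S ⧸ Q := (Submodule.liftQ m ((Algebra.linearMap O (S ⧸ Q))) (fun o ho => by
      show algebraMap O (S ⧸ Q) o = 0
      rw [IsScalarTower.algebraMap_apply O S (S ⧸ Q)]
      exact Ideal.Quotient.eq_zero_iff_mem.2 (hQ.ge ho)))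
    let γ' : S ⊗[O] L →ₗ[S] S ⧸ Q := LinearMap.liftBaseChange S γ
    have h2 := congrArg γ' h1
    rw [map_smul, map_zero, LinearMap.liftBaseChange_tmul, one_smul] at h2
    have h3 : γ (1 : L) = 1 := by
      show algebraMap O (S ⧸ Q) 1 = 1
      exact map_one _
    rw [h3] at h2
    change Ideal.Quotient.mk Q (s ^ n • (1 : S)) = 0 at h2
    rw [smul_eq_mul, mul_one] at h2
    exact hs (‹Q.IsPrime›.mem_of_pow_mem n (Ideal.Quotient.eq_zero_iff_mem.1 h2))
  have hregL : ∀ y : S ⊗[O] L, s • y = 0 → y = 0 := fun y hy => e.injective (by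
    rw [map_zero]
    exact eq_zero_of_mul_eq_zero_of_primary hL (φ s) (e y) hnil (by rw [← hmul, hy, map_zero]))
  -- modules killed by the maximal ideal
  have hregV : ∀ (V : Type u) [AddCommGroup V] [Module O V], (∀ o ∈ m, ∀ v : V, o • v = 0) →
      ∀ y : S ⊗[O] V, s • y = 0 → y = 0 := by
    intro V _ _ hV y hy
    have hb : Function.Bijective (TensorProduct.mk O L V 1) := by
      refine ⟨?_, TensorProduct.mk_surjective O V L Ideal.Quotient.mk_surjective⟩
      rw [injective_iff_map_eq_zero]
      intro x hx
      have h1 : x ∈ LinearMap.ker (TensorProduct.mk O (O ⧸ m) V 1) := hx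
      rw [LinearMap.ker_tensorProductMk] at h1
      exact Submodule.smul_induction_on h1 (fun a ha y _ => hV a ha y) fun a b ha hb => by
        rw [ha, hb, add_zero]
    let β := Module.Free.chooseBasis L (L ⊗[O] V)
    let eV : V ≃ₗ[O] (Module.Free.ChooseBasisIndex L (L ⊗[O] V) →₀ L) :=
      LinearEquiv.ofBijective (TensorProduct.mk O L V 1) hb ≪≫ₗ (β.repr.restrictScalars O)
    let E := TensorProduct.finsuppRight O S S L (Module.Free.ChooseBasisIndex L (L ⊗[O] V))
    let g := eV.toLinearMap.baseChange S
    have hg : Function.Injective g :=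
      Function.LeftInverse.injective (g := eV.symm.toLinearMap.baseChange S) fun x => by
        rw [← LinearMap.comp_apply, ← LinearMap.baseChange_comp, LinearEquiv.symm_comp,
          LinearMap.baseChange_id, LinearMap.id_apply]
    refine hg (E.injective ?_)
    rw [map_zero, map_zero]
    ext i
    refine hregL _ ?_
    rw [← Finsupp.smul_apply, ← map_smul, ← map_smul, hy, map_zero, map_zero, Finsupp.zero_apply]
  -- the filtration
  let J : Ideal O := mA.map (algebraMap A O)
  let U : ℕ → Submodule O M := fun n => J • ⊤ ⊔ m ^ n • ⊤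
  have hJm : J ≤ m := Ideal.map_le_iff_le_comap.2 fun a ha => by
    show algebraMap A O a ∈ m
    exact (IsLocalRing.mem_maximalIdeal _).2 fun h => (IsLocalRing.mem_maximalIdeal _).1 ha
      (isUnit_of_map_unit (algebraMap A O) a h)
  have hU : ∀ n, U (n + 1) ≤ U n := fun n =>
    sup_le_sup_left (Submodule.smul_mono (Ideal.pow_le_pow_right n.le_succ) le_rfl) _
  have hkill : ∀ n, ∀ a ∈ mA, ∀ x : M ⧸ U n, a • x = 0 := fun n a ha x => by
    obtain ⟨x, rfl⟩ := Submodule.mkQ_surjective (U n) x
    rw [← algebraMap_smul O a ((U n).mkQ x), ← map_smul]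
    exact (Submodule.Quotient.mk_eq_zero _).2
      (Submodule.mem_sup_left (Submodule.smul_mem_smul (Ideal.mem_map_of_mem _ ha) Submodule.mem_top))
  have hreg : ∀ n, ∀ y : S ⊗[O] (M ⧸ U n), s • y = 0 → y = 0 := by
    intro n
    induction n with
    | zero =>
      intro y _
      have : Subsingleton (M ⧸ U 0) := Submodule.Quotient.subsingleton_iff.2 (eq_top_iff.2 (by
        show ⊤ ≤ J • ⊤ ⊔ m ^ 0 • ⊤
        rw [pow_zero, Ideal.one_eq_top, Submodule.top_smul]; exact le_sup_right))
      exact Subsingleton.elim _ _
    | succ n ih =>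
      intro y hy
      let p : M ⧸ U (n + 1) →ₗ[O] M ⧸ U n := Submodule.factor (hU n)
      have hp : Function.Surjective p := Submodule.factor_surjective _
      let V := LinearMap.ker p
      have hV : ∀ o ∈ m, ∀ v : V, o • v = 0 := by
        rintro o ho ⟨v, hv⟩
        obtain ⟨x, rfl⟩ := Submodule.mkQ_surjective (U (n + 1)) v
        have hx : x ∈ U n := (Submodule.Quotient.mk_eq_zero _).1 hv
        refine Subtype.ext ?_
        show o • (U (n + 1)).mkQ x = 0
        rw [← map_smul]
        refine (Submodule.Quotient.mk_eq_zero _).2 ?_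
        obtain ⟨a, ha, b, hb, rfl⟩ := Submodule.mem_sup.1 hx
        rw [smul_add]
        refine add_mem (Submodule.mem_sup_left (Submodule.smul_mem _ o ha)) ?_
        refine Submodule.mem_sup_right ?_
        rw [pow_succ', Submodule.mul_smul]
        exact Submodule.smul_mem_smul ho hb
      have hi : Function.Injective (V.subtype.baseChange S) := by
        intro a b hab
        apply (fibreEquiv A O κ V).injective
        apply injective_lTensor_of_killed hm (V.subtype.restrictScalars A) Subtype.val_injective
          (hkill (n + 1))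
        rw [← fibreEquiv_natural, ← fibreEquiv_natural]
        exact congrArg _ hab
      have hex := lTensor_exact S (LinearMap.exact_subtype_ker_map p) hp
      have hy' : p.baseChange S y = 0 := ih _ (by rw [← map_smul, hy, map_zero])
      obtain ⟨v, hv⟩ := (hex y).1 hy'
      have hv' : V.subtype.baseChange S v = y := hv
      rw [← hv', hregV V hV v (hi (by rw [map_smul, hv', hy, map_zero])), map_zero]
  refine eq_zero_of_forall_pow M hm c fun n => ?_
  have h0 : (U n).mkQ.baseChange S c = 0 := hreg n _ (by rw [← map_smul, hsc, map_zero])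
  obtain ⟨v, hv⟩ := ((lTensor_exact S (LinearMap.exact_subtype_mkQ (U n)) (U n).mkQ_surjective) c).1 h0
  rw [← hv]
  clear hv h0
  have hJ0 : ∀ a ∈ mA, ∀ z : S ⊗[O] M, algebraMap A O a • z = 0 := by
    intro a ha z
    induction z using TensorProduct.induction_on with
    | zero => rw [smul_zero]
    | add x y hx hy => rw [smul_add, hx, hy, add_zero]
    | tmul t x =>
      rw [TensorProduct.smul_tmul', algebraMap_smul]
      have : a • t = 0 := by
        induction t using TensorProduct.induction_on with
        | zero => rw [smul_zero]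
        | add x y hx hy => rw [smul_add, hx, hy, add_zero]
        | tmul o b => rw [← tmul_smul, Algebra.smul_def, hm a ha, zero_mul, tmul_zero]
      rw [this, zero_tmul]
  induction v using TensorProduct.induction_on with
  | zero => simp
  | add x y hx hy => rw [map_add]; exact add_mem hx hy
  | tmul t x =>
    rw [LinearMap.lTensor_tmul]
    obtain ⟨a, ha, b, hb, hab⟩ := Submodule.mem_sup.1 x.2
    rw [Submodule.subtype_apply, ← hab, tmul_add]
    refine add_mem ?_ ?_
    · have h4 : t ⊗ₜ[O] a ∈ (⊥ : Submodule O (S ⊗[O] M)) := by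
        refine Submodule.smul_induction_on ha (fun r hr z _ => ?_) fun x y hx hy => by
          rw [tmul_add]; exact add_mem hx hy
        rw [tmul_smul, Submodule.mem_bot]
        induction hr using Submodule.span_induction generalizing z with
        | mem w hw => obtain ⟨w, hw, rfl⟩ := hw; exact hJ0 w hw _
        | zero => rw [zero_smul]
        | add w w' _ _ h h' => rw [add_smul, h _ trivial, h' _ trivial, add_zero]
        | smul w w' _ h => rw [smul_eq_mul, mul_smul, h _ trivial, smul_zero]
      rw [(Submodule.mem_bot O).1 h4]; exact zero_mem _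
    · refine Submodule.smul_induction_on hb (fun r hr z _ => ?_) fun x y hx hy => by
        rw [tmul_add]; exact add_mem hx hy
      rw [tmul_smul]
      exact Submodule.smul_mem_smul hr Submodule.mem_top

end Groth.Agent.E4O
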