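import Groth.Agent.Cyc90.Dev.SecIso
import Groth.Agent.Cyc90.Dev.ChernOps
import Groth.Agent.Cyc90.Dev.ChernGysin
import Groth.Agent.Cyc90.RelDimShift
import Groth.Agent.Cyc90.GysinRat
import Groth.Agent.Cyc90.GysinBC
import Groth.Agent.Cyc90.Dev.ChernComm
import Groth.Agent.Cyc90.IsDimFunLft
import Groth.Prelude.Def_Bivar

/-! Basic tools for bivariant classes: classes of cycles and induced maps of Chow groups. -/

set_option autoImplicit false
set_option backward.isDefEq.respectTransparency.types false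
universe u

open CategoryTheory AlgebraicGeometry TopologicalSpace Limits
open Groth.Agent.Cyc90 Groth.Agent.Cyc90.Dev

noncomputable section

namespace Groth.Agent.E4O.BivarBasic

variable {X Y : Scheme.{u}} {δ : X → ℤ} {δY : Y → ℤ}

lemma cl_eq_of_ratEquiv {k : ℤ} {α β : AlgebraicCycle X ℤ} (hα : α ∈ Cyc.Zk X δ k)
    (hβ : β ∈ Cyc.Zk X δ k) (h : Cyc.RatEquivZero δ k (α - β)) :
    ChowOps.cl α hα = ChowOps.cl β hβ :=
  (QuotientAddGroup.eq_iff_sub_mem).2 (AddSubgroup.subset_closure h)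

lemma ratEquivZero_sub_of_cl_eq (hX : Cyc.IsSetup X δ) {k : ℤ} {α β : AlgebraicCycle X ℤ}
    (hα : α ∈ Cyc.Zk X δ k) (hβ : β ∈ Cyc.Zk X δ k) (h : ChowOps.cl α hα = ChowOps.cl β hβ) :
    Cyc.RatEquivZero δ k (α - β) :=
  IntMult12.ratEquiv_of_cl_eq hX hα hβ h

lemma cl_eq_zero_of_ratEquivZero {k : ℤ} {α : AlgebraicCycle X ℤ} (hα : α ∈ Cyc.Zk X δ k)
    (h : Cyc.RatEquivZero δ k α) : ChowOps.cl α hα = 0 :=
  (QuotientAddGroup.eq_zero_iff _).2 (AddSubgroup.subset_closure h)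

/-- A homomorphism of cycle groups compatible with rational equivalence, on Chow groups. -/
def chHom (F : AlgebraicCycle X ℤ →+ AlgebraicCycle Y ℤ) (k l : ℤ)
    (hmem : ∀ α, α ∈ Cyc.Zk X δ k → F α ∈ Cyc.Zk Y δY l)
    (hrat : ∀ α, Cyc.RatEquivZero δ k α → Cyc.RatEquivZero δY l (F α)) :
    ChowOps.CH X δ k →+ ChowOps.CH Y δY l :=
  QuotientAddGroup.lift _
    ((ChowOps.clHom Y δY l).comp
      ((F.comp (ChowOps.zk X δ k).subtype).codRestrict (ChowOps.zk Y δY l) fun a => hmem a.1 a.2))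
    ((AddSubgroup.closure_le _).2 fun a ha =>
      (QuotientAddGroup.eq_zero_iff _).2 (AddSubgroup.subset_closure (hrat a.1 ha)))

lemma chHom_cl (F : AlgebraicCycle X ℤ →+ AlgebraicCycle Y ℤ) (k l : ℤ)
    (hmem : ∀ α, α ∈ Cyc.Zk X δ k → F α ∈ Cyc.Zk Y δY l)
    (hrat : ∀ α, Cyc.RatEquivZero δ k α → Cyc.RatEquivZero δY l (F α)) {α : AlgebraicCycle X ℤ}
    (hα : α ∈ Cyc.Zk X δ k) :
    chHom F k l hmem hrat (ChowOps.cl α hα) = ChowOps.cl (F α) (hmem α hα) := rfl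

/-- Induced dimension functions are unique. -/
lemma deltaCompat_unique (f : X ⟶ Y) [LocallyOfFiniteType f] {δ₁ δ₂ : X → ℤ}
    (h₁ : Cyc.DeltaCompat f δ₁ δY) (h₂ : Cyc.DeltaCompat f δ₂ δY) : δ₁ = δ₂ :=
  funext fun x => by rw [delta_eq_add_fdeg f h₁ x, delta_eq_add_fdeg f h₂ x]

lemma deltaCompat_cancel {W : Scheme.{u}} (h : W ⟶ X) (f : X ⟶ Y) [LocallyOfFiniteType h]
    [LocallyOfFiniteType f] {δW : W → ℤ} (hf : Cyc.DeltaCompat f δ δY)
    (hc : Cyc.DeltaCompat (h ≫ f) δW δY) : Cyc.DeltaCompat h δW δ := by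
  have h1 := deltaCompat_upDelta h δ
  rwa [deltaCompat_unique (h ≫ f) hc (Bivar.deltaCompat_comp h f _ _ _ h1 hf)]

lemma delta_closedImmersion {D : Scheme.{u}} (i : D ⟶ X) [IsClosedImmersion i] {δD : D → ℤ}
    (hc : Cyc.DeltaCompat i δD δ) : δD = fun d => δ (i d) :=
  deltaCompat_unique i hc (deltaCompat_preimmersion i δ)

end Groth.Agent.E4O.BivarBasic
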