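import Groth.Agent.EGA73.CurveModels
import Groth.Agent.Cyc90.ClosureSub

/-! A locally finite disjoint sum of proper morphisms is proper. -/

set_option autoImplicit false
set_option backward.isDefEq.respectTransparency.types false
universe u

open CategoryTheory AlgebraicGeometry CategoryTheory.Limits TopologicalSpace IsLocalRing
open Groth.Agent.EGA73

noncomputable section

namespace Groth.Agent.E4O.BivarSigma

theorem universallyClosed_of_locallyFinite_cover {X Y : Scheme.{u}} (f : X ⟶ Y) {ι : Type u}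
    (Xi : ι → Scheme.{u}) (j : ∀ i, Xi i ⟶ X) (hc : ∀ i, UniversallyClosed (j i ≫ f))
    (hcov : ∀ x : X, ∃ i, x ∈ Set.range (j i))
    (hlf : LocallyFinite fun i => Set.range (j i ≫ f)) : UniversallyClosed f := by
  rw [universallyClosed_eq]
  intro X' W a w b sq Z hZ
  let a' : X' ⟶ X := a
  have hZu : b '' Z = ⋃ i, (pullback.fst a' (j i) ≫ b) '' (pullback.fst a' (j i) ⁻¹' Z) := by
    ext p
    constructor
    · rintro ⟨z, hz, rfl⟩
      obtain ⟨i, t, ht⟩ := hcov (a' z)
      obtain ⟨q, hq1, hq2⟩ := Scheme.Pullback.exists_preimage_pullback (f := a') (g := j i) z t ht.symm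
      exact Set.mem_iUnion.mpr ⟨i, q, (show pullback.fst a' (j i) q ∈ Z from hq1 ▸ hz), by
        rw [Scheme.Hom.comp_apply, hq1]⟩
    · intro hp
      obtain ⟨i, q, hq, rfl⟩ := Set.mem_iUnion.mp hp
      exact ⟨_, hq, (Scheme.Hom.comp_apply _ _ _).symm⟩
  rw [hZu]
  refine LocallyFinite.isClosed_iUnion ?_ fun i => ?_
  · refine (hlf.preimage_continuous w.continuous).subset fun i => ?_
    rintro _ ⟨q, -, rfl⟩
    refine ⟨pullback.snd a' (j i) q, ?_⟩
    have e : pullback.snd a' (j i) ≫ j i ≫ f = (pullback.fst a' (j i) ≫ b) ≫ w := by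
      rw [← Category.assoc, ← pullback.condition, Category.assoc, Category.assoc]
      exact congrArg (pullback.fst a' (j i) ≫ ·) sq.w.symm
    exact congrArg (fun g : pullback a' (j i) ⟶ Y => g q) e
  · exact (hc i).universally_isClosedMap _ _ _
      ((IsPullback.of_hasPullback a' (j i)).paste_horiz sq) _
      (hZ.preimage (pullback.fst a' (j i)).continuous)

/-- A locally finite disjoint sum of proper morphisms is proper. -/
theorem isProper_sigmaDesc_of_locallyFinite {S : Scheme.{u}} [IsLocallyNoetherian S] {ι : Type u}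
    (Y : ι → Scheme.{u}) (f : ∀ i, Y i ⟶ S) [∀ i, IsProper (f i)]
    (hlf : LocallyFinite fun i => Set.range (f i)) : IsProper (Sigma.desc f) := by
  have hlft : LocallyOfFiniteType (Sigma.desc f) :=
    IsZariskiLocalAtSource.sigmaDesc fun i => inferInstance
  have huc : UniversallyClosed (Sigma.desc f) := by
    refine universallyClosed_of_locallyFinite_cover (Sigma.desc f) Y (Sigma.ι Y) (fun i => ?_) (fun z => ?_) ?_
    · rw [Sigma.ι_desc]; infer_instance
    · obtain ⟨i, y, rfl⟩ := exists_eq_sigma Y z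
      exact ⟨i, y, rfl⟩
    · simpa only [Sigma.ι_desc] using hlf
  have : IsLocallyNoetherian (∐ Y) := LocallyOfFiniteType.isLocallyNoetherian (Sigma.desc f)
  have hqs : QuasiSeparated (Sigma.desc f) := inferInstance
  have hsep : IsSeparated (Sigma.desc f) := by
    refine IsSeparated.of_valuativeCriterion _ fun sq => ⟨fun ⟨l, h1, h2⟩ ⟨l', h1', h2'⟩ => ?_⟩
    have hin : ∀ (m : Spec (CommRingCat.of sq.R) ⟶ ∐ Y) (i : ι),
        m (closedPoint sq.R) ∈ (Sigma.ι Y i).opensRange →
        Set.range m ⊆ Set.range (Sigma.ι Y i) := by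
      rintro m i hm _ ⟨p, rfl⟩
      exact ((IsLocalRing.specializes_closedPoint p).map m.continuous).mem_open
        (Sigma.ι Y i).opensRange.isOpen hm
    obtain ⟨i, y, hy⟩ := exists_eq_sigma Y (l (closedPoint sq.R))
    obtain ⟨j, y', hy'⟩ := exists_eq_sigma Y (l' (closedPoint sq.R))
    have hi := hin l i ⟨y, hy⟩
    have hj := hin l' j ⟨y', hy'⟩
    let g := Spec.map (CommRingCat.ofHom (algebraMap sq.R sq.K))
    have hg : g ≫ l = g ≫ l' := h1.trans h1'.symm
    obtain rfl : i = j := by
      by_contra hij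
      let p := g (closedPoint sq.K)
      have e : l p = l' p := by
        rw [← Scheme.Hom.comp_apply, ← Scheme.Hom.comp_apply, hg]
      have hd := disjoint_opensRange_sigmaι Y i j hij
      have h3 : l p ∈ (Sigma.ι Y i).opensRange ⊓ (Sigma.ι Y j).opensRange :=
        ⟨hi ⟨p, rfl⟩, e ▸ hj ⟨p, rfl⟩⟩
      rw [hd.eq_bot] at h3
      exact h3
    have e1 := IsOpenImmersion.lift_fac (Sigma.ι Y i) l hi
    have e2 := IsOpenImmersion.lift_fac (Sigma.ι Y i) l' hj
    have hval : ValuativeCriterion.Uniqueness (f i) := IsSeparated.valuativeCriterion (f i)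
    let sq' : ValuativeCommSq (f i) :=
      { R := sq.R
        K := sq.K
        i₁ := g ≫ IsOpenImmersion.lift (Sigma.ι Y i) l hi
        i₂ := sq.i₂
        commSq := ⟨by
          rw [← Sigma.ι_desc f i, Category.assoc, ← Category.assoc (IsOpenImmersion.lift _ _ _), e1,
            h2]⟩ }
    have heq : IsOpenImmersion.lift (Sigma.ι Y i) l hi = IsOpenImmersion.lift (Sigma.ι Y i) l' hj := by
      have := (hval sq').allEq
        ⟨IsOpenImmersion.lift (Sigma.ι Y i) l hi, rfl, by
          show _ ≫ f i = sq.i₂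
          exact (congrArg (_ ≫ ·) (Sigma.ι_desc f i)).symm.trans
            ((Category.assoc _ _ _).symm.trans ((congrArg (· ≫ Sigma.desc f) e1).trans h2))⟩
        ⟨IsOpenImmersion.lift (Sigma.ι Y i) l' hj, by
          rw [← cancel_mono (Sigma.ι Y i)]
          show (g ≫ _) ≫ _ = (g ≫ _) ≫ _
          rw [Category.assoc, Category.assoc, e1, e2, hg], by
          show _ ≫ f i = sq.i₂
          exact (congrArg (_ ≫ ·) (Sigma.ι_desc f i)).symm.trans
            ((Category.assoc _ _ _).symm.trans ((congrArg (· ≫ Sigma.desc f) e2).trans h2'))⟩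
      exact congrArg CommSq.LiftStruct.l this
    have hll : l = l' := by rw [← e1, ← e2, heq]
    subst hll
    rfl
  exact {}

end Groth.Agent.E4O.BivarSigma
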