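import Groth.Agent.E4O.BivarGlue
import Groth.Agent.E4O.BivarSigma
import Groth.Agent.Cyc90.EnvelopeSeq

/-! A bivariant class killing enough fundamental classes is zero. -/

set_option autoImplicit false
set_option backward.isDefEq.respectTransparency.types false
universe u

open CategoryTheory AlgebraicGeometry TopologicalSpace Limits IsLocalRing
open Groth.Agent.Cyc90 Groth.Agent.Cyc90.Dev Groth.Agent.E4O.BivarBasic Groth.Agent.E4O.BivarSquare
  Groth.Agent.E4O.BivarRep Groth.Agent.E4O.BivarClopen Groth.Agent.E4O.BivarGlue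

noncomputable section

namespace Groth.Agent.E4O.BivarBirat

variable {X Y : Scheme.{u}} {f : X ⟶ Y} {δX : X → ℤ} {δY : Y → ℤ} {p : ℤ} (hX : Cyc.IsSetup X δX)
  (hY : Cyc.IsSetup Y δY) (c : Bivar.Cl p f δX δY)
  (h3 : ∀ (s : Bivar.Sq f δX δY) [IsIntegral s.Y'], ∃ (t : Bivar.Sq s.f' s.δX' s.δY')
    (_ : IrreducibleSpace t.Y') (_ : IsProper t.g), t.g (genericPoint t.Y') = genericPoint s.Y' ∧
    IsIso (t.g.stalkMap (genericPoint t.Y')) ∧ ∀ (k : ℤ) (α : AlgebraicCycle t.Y' ℤ)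
      (hα : α ∈ Cyc.Zk t.Y' t.δY' k), α (genericPoint t.Y') = 1 →
      (∀ y : t.Y', y ≠ genericPoint t.Y' → α y = 0) → c.op (s.paste t) k (ChowOps.cl α hα) = 0)

include hX hY h3

/-- The class kills every multiple of a fundamental class. -/
theorem op_eq_zero_of_integral (q : Bivar.Sq f δX δY) [IsIntegral q.Y'] (k : ℤ)
    (α : AlgebraicCycle q.Y' ℤ) (hα : α ∈ Cyc.Zk q.Y' q.δY' k)
    (hsupp : ∀ y, y ≠ genericPoint q.Y' → α y = 0) : c.op q k (ChowOps.cl α hα) = 0 := by
  classical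
  obtain ⟨t, _, _, hgen, hiso, hzero⟩ := h3 q
  have : IsProper t.g' := MorphismProperty.of_isPullback t.isPullback inferInstance
  have := t.lft
  let ζ := genericPoint t.Y'
  have hsurj : Function.Surjective (t.g.residueFieldMap ζ).hom := fun a => by
    obtain ⟨b, rfl⟩ := t.Y'.residue_surjective ζ a
    obtain ⟨d, rfl⟩ := (ConcreteCategory.bijective_of_isIso (t.g.stalkMap ζ)).2 b
    exact ⟨q.Y'.residue (t.g ζ) d, by
      rw [← ConcreteCategory.comp_apply, Scheme.residue_residueFieldMap, ConcreteCategory.comp_apply]⟩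
  have hdeg := residueDegree_of_surjective t.g ζ hsurj
  have hd : t.δY' ζ = q.δY' (t.g ζ) :=
    delta_eq_of_residueDegree_ne_zero t.g t.compatY ζ (by omega)
  have hd' : t.δY' ζ = q.δY' (genericPoint q.Y') := hgen ▸ hd
  by_cases hk : α (genericPoint q.Y') = 0
  · have h0 : α = 0 := DFunLike.ext _ _ fun y => by
      by_cases hy : y = genericPoint q.Y'
      · rw [hy, hk]; rfl
      · rw [hsupp y hy]; rfl
    rw [Bivar.cl_congr h0 hα (ChowOps.zk q.Y' q.δY' k).zero_mem, Bivar.cl_zero, map_zero]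
  have hkk : q.δY' (genericPoint q.Y') = k := by_contra fun e => hk (hα _ e)
  let γ₁ : AlgebraicCycle t.Y' ℤ := Function.locallyFinsuppWithin.single ζ 1
  have hγ₁ : γ₁ ∈ Cyc.Zk t.Y' t.δY' k := fun y hy => by
    simp only [γ₁, Function.locallyFinsuppWithin.single_apply]
    exact if_neg (fun e => hy (by rw [e, hd', hkk]))
  have h1 := hzero k γ₁ hγ₁ (by simp [γ₁, ζ]) fun y hy => by
    simp only [γ₁, Function.locallyFinsuppWithin.single_apply]
    exact if_neg hy
  let n := α (genericPoint q.Y')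
  have hγ : n • γ₁ ∈ Cyc.Zk t.Y' t.δY' k := (ChowOps.zk t.Y' t.δY' k).zsmul_mem hγ₁ n
  have h2 : c.op (q.paste t) k (ChowOps.cl (n • γ₁) hγ) = ChowOps.cl 0 ((ChowOps.zk _ _ _).zero_mem) := by
    rw [show ChowOps.cl (n • γ₁) hγ = n • ChowOps.cl γ₁ hγ₁ from map_zsmul
      (ChowOps.clHom t.Y' t.δY' k) n ⟨γ₁, hγ₁⟩, map_zsmul, h1, zsmul_zero]
    rfl
  have h4 := push_rep hX c q (q.paste t) t.g t.g' rfl t.isPullback.w.symm rfl hγ _ h2
  rw [Bivar.cl_congr (Bivar.cycMap_zero t.g' _ _) _ (ChowOps.zk q.X' q.δX' (k - p)).zero_mem,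
    Bivar.cl_zero] at h4
  refine Eq.trans ?_ h4
  refine congrArg _ (Bivar.cl_congr (DFunLike.ext _ _ fun y => ?_) _ _)
  rw [map_apply_eq, finsum_mem_def, finsum_eq_single _ ζ fun z hz => ?_]
  · by_cases hy : y = genericPoint q.Y'
    · subst hy
      rw [Set.indicator_of_mem (show ζ ∈ t.g ⁻¹' {genericPoint q.Y'} from hgen), if_pos hd, hdeg]
      simp [γ₁, n]
    · rw [Set.indicator_of_notMem (fun h => hy (h.symm.trans hgen) : ζ ∉ t.g ⁻¹' {y}), hsupp y hy]
  · simp [Set.indicator_apply, γ₁, hz]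

/-- The class is zero. -/
theorem eq_zero : c = 0 := by
  classical
  refine Bivar.Cl.ext (funext fun q => funext fun k => AddMonoidHom.ext fun a => ?_)
  obtain ⟨α, hα, rfl⟩ := Bivar.exists_rep a
  change c.op q k (ChowOps.cl α hα) = 0
  have hq := isSetup_Y' hY q
  have := hq.1
  have := q.lft
  let S := {ξ : q.Y' // α ξ ≠ 0}
  let Z : S → Scheme.{u} := fun ξ => Cyc90.cl ξ.1
  let h : ∐ Z ⟶ q.Y' := Sigma.desc fun ξ : S => clι ξ.1
  have hlf : LocallyFinite fun ξ : S => Set.range (clι ξ.1) := fun x => by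
    obtain ⟨U, hU, hfin⟩ := α.supportLocallyFiniteWithinDomain' x trivial
    obtain ⟨V, hVU, hV, hxV⟩ := mem_nhds_iff.1 hU
    refine ⟨V, hV.mem_nhds hxV, (hfin.preimage Subtype.val_injective.injOn).subset ?_⟩
    rintro ξ ⟨y, hy, hyV⟩
    change y ∈ Set.range (clι ξ.1) at hy
    rw [range_clι] at hy
    obtain ⟨z, hz, hz'⟩ := mem_closure_iff.1 hy V hV hyV
    rw [Set.mem_singleton_iff] at hz'
    exact ⟨hVU (hz' ▸ hz), ξ.2⟩
  have : IsProper h := BivarSigma.isProper_sigmaDesc_of_locallyFinite Z _ hlf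
  have : IsProper (pullback.fst q.f' h) := inferInstance
  let tW : Bivar.Sq f δX δY :=
    { Y' := ∐ Z
      X' := pullback q.f' h
      g := h ≫ q.g
      f' := pullback.snd q.f' h
      g' := pullback.fst q.f' h ≫ q.g'
      isPullback := (IsPullback.of_hasPullback q.f' h).flip.paste_vert q.isPullback
      lft := inferInstance
      δY' := upDelta h q.δY'
      δX' := upDelta (pullback.fst q.f' h) q.δX'
      compatY := Bivar.deltaCompat_comp h q.g _ _ _ (deltaCompat_upDelta h q.δY') q.compatY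
      compatX := Bivar.deltaCompat_comp (pullback.fst q.f' h) q.g' _ _ _
        (deltaCompat_upDelta (pullback.fst q.f' h) q.δX') q.compatX }
  have hdec : IsDecomp fun ξ : S => Sigma.ι Z ξ :=
    { isOpen := fun _ => inferInstance
      disjoint := fun i j hij => Set.disjoint_left.2 fun x hx hx' =>
        (disjoint_opensRange_sigmaι Z i j hij).le_bot (show x ∈ (Sigma.ι Z i).opensRange ⊓
          (Sigma.ι Z j).opensRange from ⟨hx, hx'⟩)
      cover := fun x => by
        obtain ⟨i, y, rfl⟩ := EGA73.exists_eq_sigma Z x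
        exact ⟨i, y, rfl⟩ }
  have hdι : ∀ ξ : S, (fun z => tW.δY' (Sigma.ι Z ξ z)) = fun z => q.δY' (clι ξ.1 z) := fun ξ => by
    refine delta_closedImmersion (clι ξ.1) ?_
    have h1 := Bivar.deltaCompat_comp (Sigma.ι Z ξ) h _ _ _
      (deltaCompat_preimmersion (Sigma.ι Z ξ) tW.δY') (deltaCompat_upDelta h q.δY')
    rwa [show Sigma.ι Z ξ ≫ h = clι ξ.1 from Sigma.ι_desc _ _] at h1
  let g₀ : (ξ : S) → AlgebraicCycle (Z ξ) ℤ := fun ξ =>
    Function.locallyFinsuppWithin.single (genericPoint (Cyc90.cl ξ.1)) (α ξ.1)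
  have hg₀ : ∀ ξ : S, g₀ ξ ∈ Cyc.Zk (Z ξ) (fun z => tW.δY' (Sigma.ι Z ξ z)) k := fun ξ y hy => by
    rw [hdι ξ] at hy
    simp only [g₀, Function.locallyFinsuppWithin.single_apply]
    exact if_neg (fun e => hy (by
      dsimp only
      rw [e, clι_genericPoint]
      exact by_contra fun h' => ξ.2 (hα _ h')))
  have hγ := glue_mem hdec g₀ hg₀
  obtain ⟨β, hβ, he⟩ := Bivar.exists_rep (c.op tW k (ChowOps.cl (glue hdec g₀) hγ))
  have hβ0 : Cyc.RatEquivZero tW.δX' (k - p) β := by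
    have hdX := hdec.pullback tW.f' fun ξ => IsPullback.of_hasPullback tW.f' (Sigma.ι Z ξ)
    refine ratEquivZero_of_pieces (isSetup_X' hX tW) hdX fun ξ => ?_
    have := hdec.isClosedImmersion ξ
    have := hdec.isOpen ξ
    have := hdX.isClosedImmersion ξ
    have := hdX.isOpen ξ
    refine ⟨restr (pullback.fst tW.f' (Sigma.ι Z ξ)) β, ?_, fun z => restr_apply _ _ _⟩
    let sξ : Bivar.Sq tW.f' tW.δX' tW.δY' :=
      { Y' := Z ξ
        X' := pullback tW.f' (Sigma.ι Z ξ)
        g := Sigma.ι Z ξ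
        f' := pullback.snd tW.f' (Sigma.ι Z ξ)
        g' := pullback.fst tW.f' (Sigma.ι Z ξ)
        isPullback := (IsPullback.of_hasPullback tW.f' (Sigma.ι Z ξ)).flip
        lft := inferInstance
        δY' := fun z => tW.δY' (Sigma.ι Z ξ z)
        δX' := fun z => tW.δX' (pullback.fst tW.f' (Sigma.ι Z ξ) z)
        compatY := deltaCompat_preimmersion _ _
        compatX := deltaCompat_preimmersion _ _ }
    have hm := restr_mem (Sigma.ι Z ξ) hγ
    have hm' := restr_mem (pullback.fst tW.f' (Sigma.ι Z ξ)) hβ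
    have h1 := restr_rep hX hY c tW (tW.paste sξ) (Sigma.ι Z ξ) (pullback.fst tW.f' (Sigma.ι Z ξ)) rfl
      pullback.condition rfl hγ hβ he.symm hm hm'
    haveI : IsIntegral (tW.paste sξ).Y' := inferInstanceAs (IsIntegral (Cyc90.cl ξ.1))
    rw [op_eq_zero_of_integral hX hY c h3 (tW.paste sξ) k _ hm fun y hy => by
      rw [restr_apply, glue_apply]
      simp only [g₀, Function.locallyFinsuppWithin.single_apply]
      exact if_neg hy] at h1
    have h2 := ratEquivZero_sub_of_cl_eq (isSetup_X' hX (tW.paste sξ)) hm'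
      (ChowOps.zk _ _ _).zero_mem h1.symm
    rwa [sub_zero] at h2
  have hw : h ≫ q.g = tW.g := rfl
  have h5 := push_rep hX c q tW h (pullback.fst q.f' h) hw pullback.condition rfl hγ hβ he.symm
  have hr := mapHom_rat (pullback.fst q.f' h) (isSetup_X' hX tW) (isSetup_X' hX q)
    (deltaCompat_upDelta (pullback.fst q.f' h) q.δX') hβ0
  simp only [mapHom_apply] at hr
  rw [cl_eq_zero_of_ratEquivZero _ hr] at h5
  refine Eq.trans (congrArg _ (Bivar.cl_congr (DFunLike.ext _ _ fun x => ?_) _ _)) h5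
  have hval : ∀ w : ↥(∐ Z : Scheme.{u}), h w = x → glue hdec g₀ w ≠ 0 →
      ∃ hx : α x ≠ 0, w = Sigma.ι Z ⟨x, hx⟩ (genericPoint (Cyc90.cl x)) := fun w hw hne => by
    obtain ⟨ξ, z, rfl⟩ := hdec.cover w
    rw [glue_apply] at hne
    have hz : z = genericPoint (Cyc90.cl ξ.1) := by_contra fun hz => hne (by
      simp only [g₀, Function.locallyFinsuppWithin.single_apply]
      exact if_neg hz)
    subst hz
    have hx : ξ.1 = x := by
      rw [← clι_genericPoint ξ.1, ← show Sigma.ι Z ξ ≫ h = clι ξ.1 from Sigma.ι_desc _ _,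
        Scheme.Hom.comp_apply]
      exact hw
    subst hx
    exact ⟨ξ.2, rfl⟩
  rw [map_apply_eq]
  by_cases hx : α x = 0
  · rw [hx, finsum_mem_eq_zero_of_forall_eq_zero fun w hw => ?_]
    by_contra hne
    exact (hval w hw (left_ne_zero_of_mul hne)).1 hx
  let w₀ := Sigma.ι Z ⟨x, hx⟩ (genericPoint (Cyc90.cl x))
  have hw₀ : h w₀ = x := by
    rw [← Scheme.Hom.comp_apply, show Sigma.ι Z ⟨x, hx⟩ ≫ h = clι x from Sigma.ι_desc _ _, clι_genericPoint]
  rw [finsum_mem_def, finsum_eq_single _ w₀ fun w hw => ?_]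
  · have hd : tW.δY' w₀ = q.δY' (h w₀) := by
      rw [hw₀]
      exact (congrFun (hdι ⟨x, hx⟩) (genericPoint (Cyc90.cl x))).trans (congrArg q.δY' (clι_genericPoint x))
    have hdeg : h.residueDegree w₀ = 1 := by
      have h1 := Div89.residueDegree_comp (Sigma.ι Z ⟨x, hx⟩) h (genericPoint (Cyc90.cl x))
      rw [show Sigma.ι Z ⟨x, hx⟩ ≫ h = clι x from Sigma.ι_desc _ _, residueDegree_closedImmersion] at h1
      exact Nat.eq_one_of_mul_eq_one_right h1.symm
    rw [Set.indicator_of_mem (show w₀ ∈ h ⁻¹' {x} from hw₀), if_pos hd, hdeg, glue_apply]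
    simp [g₀]
  · refine Set.indicator_apply_eq_zero.2 fun hwx => ?_
    by_contra hne
    obtain ⟨_, e⟩ := hval w hwx (left_ne_zero_of_mul hne)
    exact hw e

end Groth.Agent.E4O.BivarBirat
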