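import Groth.Agent.E4O.BivarBasic

/-! The first Chern class of an invertible module as an operational class. -/

set_option autoImplicit false
set_option backward.isDefEq.respectTransparency.types false
universe u

open CategoryTheory AlgebraicGeometry TopologicalSpace Limits
open Groth.Agent.Cyc90 Groth.Agent.Cyc90.Dev Groth.Agent.E4O.BivarBasic

noncomputable section

namespace Groth.Agent.E4O.BivarC1

variable {X : Scheme.{u}} {δX : X → ℤ}

lemma isSetup_osq (hX : Cyc.IsSetup X δX) (s : Bivar.OSq X δX) : Cyc.IsSetup s.Y s.δ :=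
  have := s.lft
  isSetup_of_lft s.g δX hX s.δ s.compat

lemma deltaCompat_osq_map (s t : Bivar.OSq X δX) (h : t.Y ⟶ s.Y) [LocallyOfFiniteType h]
    (w : h ≫ s.g = t.g) : Cyc.DeltaCompat h t.δ s.δ :=
  have := s.lft
  deltaCompat_cancel h s.g s.compat (w ▸ t.compat)

/-- The pullback along a composite. -/
def pullIso {A B C : Scheme.{u}} (h : A ⟶ B) (g : B ⟶ C) (g' : A ⟶ C) (w : h ≫ g = g') (L : C.Modules) :
    (Scheme.Modules.pullback h).obj ((Scheme.Modules.pullback g).obj L) ≅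
      (Scheme.Modules.pullback g').obj L :=
  (Scheme.Modules.pullbackComp h g).app L ≪≫ (Scheme.Modules.pullbackCongr w).app L

variable {L : X.Modules} (hX : Cyc.IsSetup X δX) (hL : PicF.IsInvertible L)

/-- Chosen sections on a test scheme. -/
def sec (s : Bivar.OSq X δX) :
    (ξ : s.Y) → Cyc.secFibre ((Scheme.Modules.pullback s.g).obj L) ξ :=
  (exists_secFibre_family (Amp73.isInvertible_pullback s.g hL)).choose

lemma sec_ne_zero (s : Bivar.OSq X δX) (ξ : s.Y) : sec hL s ξ ≠ 0 :=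
  (exists_secFibre_family (Amp73.isInvertible_pullback s.g hL)).choose_spec ξ

/-- The cap on cycles of a test scheme. -/
def capS (s : Bivar.OSq X δX) : AlgebraicCycle s.Y ℤ →+ AlgebraicCycle s.Y ℤ :=
  cap1 (isSetup_osq hX s) (Amp73.isInvertible_pullback s.g hL) (sec hL s) (sec_ne_zero hL s)

lemma capS_mem (s : Bivar.OSq X δX) {k : ℤ} {α : AlgebraicCycle s.Y ℤ} (hα : α ∈ Cyc.Zk s.Y s.δ k) :
    capS hX hL s α ∈ Cyc.Zk s.Y s.δ (k - 1) :=
  cap1_mem _ _ _ _ (by rw [sub_add_cancel]; exact hα)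

lemma capS_rat (s : Bivar.OSq X δX) {k : ℤ} {α : AlgebraicCycle s.Y ℤ}
    (hα : Cyc.RatEquivZero s.δ k α) : Cyc.RatEquivZero s.δ (k - 1) (capS hX hL s α) :=
  cap1_rat _ _ _ _ (by rw [sub_add_cancel]; exact hα)

/-- The operation. -/
def c1Op (s : Bivar.OSq X δX) (k : ℤ) :
    ChowOps.CH s.Y s.δ k →+ ChowOps.CH s.Y s.δ (k - 1) :=
  chHom (capS hX hL s) k (k - 1) (fun _ h => capS_mem hX hL s h) fun _ h => capS_rat hX hL s h

lemma capS_iso (s : Bivar.OSq X δX) {M : s.Y.Modules} (hM : PicF.IsInvertible M)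
    (e : M ≅ (Scheme.Modules.pullback s.g).obj L) (v : (ξ : s.Y) → Cyc.secFibre M ξ) (hv : ∀ ξ, v ξ ≠ 0)
    {k : ℤ} {α : AlgebraicCycle s.Y ℤ} (hα : α ∈ Cyc.Zk s.Y s.δ k) :
    capS hX hL s α - cap1 (isSetup_osq hX s) hM v hv α ∈ ratZ (isSetup_osq hX s) (k - 1) :=
  cap1_iso_indep _ hM _ e v hv _ _ (by rw [sub_add_cancel]; exact hα)

include hX hL in
lemma push (s t : Bivar.OSq X δX) (h : t.Y ⟶ s.Y) [IsProper h] (w : h ≫ s.g = t.g) (k : ℤ) :
    Bivar.PushOK t.δ t.δ s.δ s.δ h h (c1Op hX hL t k) (c1Op hX hL s k) := by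
  intro α hα
  refine ⟨capS hX hL t α, capS_mem hX hL t hα, rfl, ?_⟩
  have hS := isSetup_osq hX s
  have hT := isSetup_osq hX t
  have hδ := deltaCompat_osq_map s t h w
  let hLs := Amp73.isInvertible_pullback s.g hL
  have h1 := capS_iso hX hL t (Amp73.isInvertible_pullback h hLs) (pullIso h s.g t.g w L)
    (pullSec h hLs (sec hL s) (sec_ne_zero hL s)) (pullSec_ne_zero h hLs (sec hL s) (sec_ne_zero hL s)) hα
  have h2 : AlgebraicCycle.map h t.δ s.δ
      (cap1 hT (Amp73.isInvertible_pullback h hLs) (pullSec h hLs (sec hL s) (sec_ne_zero hL s))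
        (pullSec_ne_zero h hLs (sec hL s) (sec_ne_zero hL s)) α) =
      capS hX hL s (AlgebraicCycle.map h t.δ s.δ α) :=
    DFunLike.coe_injective ((map_c1Cap hT hS h hδ hLs α (sec hL s) (sec_ne_zero hL s) _
      (coe_cap1 _ _ _ _ _)).trans (coe_cap1 _ _ _ _ _).symm)
  refine (chHom_cl _ _ _ _ _ _).trans (cl_eq_of_ratEquiv _ _ ?_)
  rw [← h2, ← mapHom_apply, ← mapHom_apply, ← map_sub]
  refine mapHom_rat h hT hS hδ ?_
  exact (mem_ratZ hT).1 ((ratZ hT (k - 1)).sub_mem_comm_iff.1 h1)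

include hX hL in
lemma pull (s t : Bivar.OSq X δX) (h : t.Y ⟶ s.Y) [Flat h] (r : ℕ) (hr : Cyc.HasRelDim h r)
    (w : h ≫ s.g = t.g) (k : ℤ) :
    Bivar.PullOK s.δ s.δ t.δ t.δ h h (r : ℤ) (c1Op hX hL s k) (c1Op hX hL t (k + r)) := by
  intro α hα
  refine ⟨capS hX hL s α, capS_mem hX hL s hα, rfl, fun α₁ he hα₁ => ?_⟩
  have hS := isSetup_osq hX s
  have hT := isSetup_osq hX t
  have := t.lft
  have := s.lft
  have : LocallyOfFiniteType (h ≫ s.g) := by rw [w]; infer_instance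
  have : LocallyOfFiniteType h := locallyOfFiniteType_of_comp h s.g
  have hc := shiftAt_of_hasRelDim h hr (deltaCompat_osq_map s t h w)
  let hLs := Amp73.isInvertible_pullback s.g hL
  obtain rfl : α₁ = pullHom h hT hc α := DFunLike.coe_injective he
  refine ⟨pullHom h hT hc (capS hX hL s α), ?_, rfl, (chHom_cl _ _ _ _ _ _).trans (cl_eq_of_ratEquiv _ _ ?_)⟩
  · rw [show k + (r : ℤ) - 1 = k - 1 + r by ring]
    exact pullHom_mem h hT hc (capS_mem hX hL s hα)
  · rw [show capS hX hL s = cap1 hS hLs (sec hL s) (sec_ne_zero hL s) from rfl, pullHom_cap1 h hT hc hS hLs]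
    exact capS_iso hX hL t (Amp73.isInvertible_pullback h hLs) (pullIso h s.g t.g w L) _ _ hα₁

include hX hL in
lemma gysin (s t : Bivar.OSq X δX) (i : t.Y ⟶ s.Y) [IsClosedImmersion i] (w : i ≫ s.g = t.g)
    (M : s.Y.Modules) (hM : PicF.IsInvertible M) (σ : M.presheaf.obj (Opposite.op ⊤))
    (hσ : Cyc.IsZeroSchemeOf i M σ) (k : ℤ) :
    Bivar.GysinOK₁ s.δ t.δ i M σ (c1Op hX hL s k) (c1Op hX hL t (k - 1)) := by
  intro α hα
  refine ⟨capS hX hL s α, capS_mem hX hL s hα, rfl, fun v hv γ hγ hγ' => ?_⟩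
  have hS := isSetup_osq hX s
  have hT := isSetup_osq hX t
  have hd := delta_closedImmersion i (deltaCompat_osq_map s t i w)
  let hLs := Amp73.isInvertible_pullback s.g hL
  let hLi := Amp73.isInvertible_pullback i hLs
  obtain ⟨u, hu⟩ := exists_secFibre_family hLi
  refine ⟨gysHom hS hM σ i v hv (capS hX hL s α), ?_, gysHom_apply hS hM σ i v hv _,
    (chHom_cl _ _ _ _ _ _).trans (cl_eq_of_ratEquiv _ _ ?_)⟩
  · rw [hd]
    exact gysHom_mem hS hM σ i v hv (by rw [sub_add_cancel]; exact capS_mem hX hL s hα)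
  · have h1 := capS_iso hX hL t hLi (pullIso i s.g t.g w L) u hu hγ'
    have h2 := ratEquiv_gysin_c1Cap hS hM hLs σ i hσ k α hα v hv (sec hL s) (sec_ne_zero hL s) u hu
      (capS hX hL s α) (coe_cap1 _ _ _ _ _) ⇑γ (funext hγ) (gysHom hS hM σ i v hv (capS hX hL s α))
      (cap1 hT hLi u hu γ) (gysHom_apply hS hM σ i v hv _) ((coe_cap1 _ _ _ _ _).trans (by rw [hd]))
    rw [← hd, show k - 2 = k - 1 - 1 by ring] at h2
    refine (mem_ratZ hT).1 ?_
    rw [← sub_sub_sub_cancel_right _ _ (cap1 hT hLi u hu γ)]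
    exact sub_mem h1 h2

/-- The first Chern class. -/
def c1Class : Bivar.OpCl 1 X δX where
  op := c1Op hX hL
  push s t h _ w k := push hX hL s t h w k
  pull s t h _ r hr w k := pull hX hL s t h r hr w k
  gysin s t i _ w M hM σ hσ k := gysin hX hL s t i w M hM σ hσ k

theorem isC1Class_c1Class : Bivar.IsC1Class L (c1Class hX hL) := by
  refine ⟨hL, fun s k α hα v hv γ hγ hγ' => ?_⟩
  show ChowOps.cl (capS hX hL s α) (capS_mem hX hL s hα) = _
  refine cl_eq_of_ratEquiv _ _ ?_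
  obtain rfl : γ = cap1 (isSetup_osq hX s) (Amp73.isInvertible_pullback s.g hL) v hv α :=
    DFunLike.coe_injective (hγ.trans (coe_cap1 _ _ _ _ _).symm)
  exact cap1_indep _ _ _ _ (by rw [sub_add_cancel]; exact hα) v hv

end Groth.Agent.E4O.BivarC1
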