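import Groth.Agent.E4O.BivarGysinLem
import Groth.Agent.Cyc90.RatFamily
import Groth.Agent.Cyc90.FlatFinFibre

/-! Cycles on a scheme covered by disjoint open subschemes. -/

set_option autoImplicit false
set_option backward.isDefEq.respectTransparency.types false
universe u

open CategoryTheory AlgebraicGeometry TopologicalSpace Limits IsLocalRing
open Groth.Agent.Cyc90 Groth.Agent.Cyc90.Dev Groth.Agent.E4O.BivarBasic

noncomputable section

namespace Groth.Agent.E4O.BivarClopen

variable {W V : Scheme.{u}} {δ : W → ℤ}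

lemma deltaCompat_openImmersion (e : V ⟶ W) [IsOpenImmersion e] {δV : V → ℤ}
    (h : Cyc.DeltaCompat e δV δ) : δV = fun z => δ (e z) :=
  deltaCompat_unique e h (deltaCompat_preimmersion e δ)

lemma pullFun_openImmersion (e : V ⟶ W) [IsOpenImmersion e] (a : W → ℤ) (z : V) :
    Cyc.pullFun e (fun z => δ (e z)) δ 0 a z = a (e z) := by
  have hlen : (maximalIdeal (W.presheaf.stalk (e z))).map (e.stalkMap z).hom = maximalIdeal _ :=
    IsLocalRing.map_maximalIdeal_of_surjective _ (e.stalkMap_surjective _)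
  have : IsSimpleModule (V.presheaf.stalk z) (V.presheaf.stalk z ⧸ maximalIdeal (V.presheaf.stalk z)) :=
    isSimpleModule_iff_isCoatom.2 (Ideal.isMaximal_def.1 (maximalIdeal.isMaximal _))
  rw [Cyc.pullFun, if_pos (add_zero _).symm, hlen, Module.length_eq_one]
  simp

/-- Restriction of cycles along a closed immersion, as a homomorphism. -/
def restr (e : V ⟶ W) [IsClosedImmersion e] : AlgebraicCycle W ℤ →+ AlgebraicCycle V ℤ :=
  AddMonoidHom.mk' (restrictClosed e) fun a b => by ext z; simp [restrictClosed_apply]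

lemma restr_apply (e : V ⟶ W) [IsClosedImmersion e] (α : AlgebraicCycle W ℤ) (z : V) :
    restr e α z = α (e z) := restrictClosed_apply e α z

lemma restr_mem (e : V ⟶ W) [IsClosedImmersion e] {k : ℤ} {α : AlgebraicCycle W ℤ}
    (hα : α ∈ Cyc.Zk W δ k) : restr e α ∈ Cyc.Zk V (fun z => δ (e z)) k :=
  fun z hz => by rw [restr_apply]; exact hα _ hz

lemma restr_rat (hW : Cyc.IsSetup W δ) (e : V ⟶ W) [IsOpenImmersion e] [IsClosedImmersion e] {k : ℤ}
    {α : AlgebraicCycle W ℤ} (h : Cyc.RatEquivZero δ k α) :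
    Cyc.RatEquivZero (fun z => δ (e z)) k (restr e α) := by
  have hc : ShiftAt e (fun z => δ (e z)) δ ((0 : ℕ) : ℤ) :=
    shiftAt_of_hasRelDim e (hasRelDim_zero_of_finite e) (deltaCompat_preimmersion e δ)
  have h1 := pullHom_rat e (isSetup_closedImmersion e hW) hc hW h
  have h2 : k + ((0 : ℕ) : ℤ) = k := by simp
  rw [h2] at h1
  convert h1 using 1
  refine DFunLike.ext _ _ fun z => ?_
  rw [restr_apply, coe_pullHom]
  simpa using (pullFun_openImmersion (δ := δ) e ⇑α z).symm

/-- A decomposition into disjoint open subschemes. -/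
structure IsDecomp {J : Type u} {V : J → Scheme.{u}} (e : (j : J) → V j ⟶ W) : Prop where
  isOpen : ∀ j, IsOpenImmersion (e j)
  disjoint : ∀ j j', j ≠ j' → Disjoint (Set.range (e j)) (Set.range (e j'))
  cover : ∀ x, ∃ j, x ∈ Set.range (e j)

variable {J : Type u} {Vs : J → Scheme.{u}} {e : (j : J) → Vs j ⟶ W}

lemma IsDecomp.eq_of_mem (h : IsDecomp e) {j j' : J} {x : W} (h1 : x ∈ Set.range (e j))
    (h2 : x ∈ Set.range (e j')) : j = j' :=
  by_contra fun hne => (h.disjoint j j' hne).le_bot ⟨h1, h2⟩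

lemma IsDecomp.isOpen_range (h : IsDecomp e) (j : J) : IsOpen (Set.range (e j)) :=
  haveI := h.isOpen j
  (e j).isOpenEmbedding.isOpen_range

lemma IsDecomp.isClosed_range (h : IsDecomp e) (j : J) : IsClosed (Set.range (e j)) := by
  rw [← isOpen_compl_iff, show (Set.range (e j))ᶜ = ⋃ (j' : J) (_ : j' ≠ j), Set.range (e j') from ?_]
  · exact isOpen_iUnion fun j' => isOpen_iUnion fun _ => h.isOpen_range j'
  refine Set.ext fun x => ⟨fun hx => ?_, fun hx hxj => ?_⟩
  · obtain ⟨j', hj'⟩ := h.cover x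
    exact Set.mem_iUnion₂.2 ⟨j', fun e => hx (e ▸ hj'), hj'⟩
  · obtain ⟨j', hne, hj'⟩ := Set.mem_iUnion₂.1 hx
    exact hne (h.eq_of_mem hj' hxj)

lemma IsDecomp.isClosedImmersion (h : IsDecomp e) (j : J) : IsClosedImmersion (e j) :=
  haveI := h.isOpen j
  IsClosedImmersion.of_isPreimmersion (e j) (h.isClosed_range j)

lemma IsDecomp.pullback (h : IsDecomp e) {W' : Scheme.{u}} (g : W' ⟶ W) {V' : J → Scheme.{u}}
    {e' : (j : J) → V' j ⟶ W'} {g' : (j : J) → V' j ⟶ Vs j}
    (hsq : ∀ j, IsPullback (e' j) (g' j) g (e j)) : IsDecomp e' where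
  isOpen j := haveI := h.isOpen j; MorphismProperty.of_isPullback (hsq j).flip inferInstance
  disjoint j j' hne := Set.disjoint_left.2 fun x h1 h2 => by
    obtain ⟨z, rfl⟩ := h1
    obtain ⟨z', hz'⟩ := h2
    refine (h.disjoint j j' hne).le_bot (show g (e' j z) ∈ Set.range (e j) ∩ Set.range (e j') from ⟨⟨g' j z, ?_⟩, ⟨g' j' z', ?_⟩⟩)
    · rw [← Scheme.Hom.comp_apply, ← (hsq j).w, Scheme.Hom.comp_apply]
    · rw [← Scheme.Hom.comp_apply, ← (hsq j').w, Scheme.Hom.comp_apply, hz']
  cover x := by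
    obtain ⟨j, hj⟩ := h.cover (g x)
    exact ⟨j, by_contra fun hn => BivarSquare.notMem_range_of_square (hsq j) hn hj⟩

/-- Cycles on the pieces glue. -/
theorem exists_glue (h : IsDecomp e) (a : (j : J) → AlgebraicCycle (Vs j) ℤ) :
    ∃ α : AlgebraicCycle W ℤ, ∀ j z, α (e j z) = a j z := by
  classical
  choose idx pre hpre using h.cover
  let α : AlgebraicCycle W ℤ :=
    { toFun := fun x => a (idx x) (pre x)
      supportWithinDomain' := by simp
      supportLocallyFiniteWithinDomain' := fun x _ => by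
        obtain ⟨t, ht, hfin⟩ := (a (idx x)).supportLocallyFiniteWithinDomain' (pre x) trivial
        haveI := h.isOpen (idx x)
        refine ⟨e (idx x) '' t, ?_, ?_⟩
        · conv => enter [1, 1]; rw [← hpre x]
          exact (e (idx x)).isOpenEmbedding.isOpenMap.image_mem_nhds ht
        refine (hfin.image (e (idx x))).subset ?_
        rintro y ⟨⟨z, hz, rfl⟩, hy⟩
        refine ⟨z, ⟨hz, ?_⟩, rfl⟩
        simp only [Function.mem_support] at hy ⊢
        have hi : idx (e (idx x) z) = idx x := h.eq_of_mem ⟨_, hpre _⟩ ⟨z, rfl⟩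
        exact fun h0 => hy (key h (idx x) z (idx (e (idx x) z)) (pre (e (idx x) z)) (hpre _) a ▸ h0) }
  exact ⟨α, fun j z => key h j z _ _ (hpre _) a⟩
where
  key (h : IsDecomp e) (j : J) (z : Vs j) (j' : J) (z' : Vs j') (he : e j' z' = e j z)
      (a : (j : J) → AlgebraicCycle (Vs j) ℤ) : a j' z' = a j z := by
    obtain rfl : j' = j := h.eq_of_mem ⟨z', rfl⟩ ⟨z, he.symm⟩
    have := h.isOpen j'
    rw [(e j').isOpenEmbedding.injective he]

lemma ext_of_pieces (h : IsDecomp e) {α β : AlgebraicCycle W ℤ} (heq : ∀ j z, α (e j z) = β (e j z)) :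
    α = β := DFunLike.ext _ _ fun x => by
  obtain ⟨j, z, rfl⟩ := h.cover x
  exact heq j z

/-- The glued cycle. -/
def glue (h : IsDecomp e) (a : (j : J) → AlgebraicCycle (Vs j) ℤ) : AlgebraicCycle W ℤ :=
  (exists_glue h a).choose

lemma glue_apply (h : IsDecomp e) (a : (j : J) → AlgebraicCycle (Vs j) ℤ) (j : J) (z : Vs j) :
    glue h a (e j z) = a j z := (exists_glue h a).choose_spec j z

lemma glue_mem (h : IsDecomp e) {k : ℤ} (a : (j : J) → AlgebraicCycle (Vs j) ℤ)
    (ha : ∀ j, a j ∈ Cyc.Zk (Vs j) (fun z => δ (e j z)) k) : glue h a ∈ Cyc.Zk W δ k := fun x hx => by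
  obtain ⟨j, z, rfl⟩ := h.cover x
  rw [glue_apply]
  exact ha j z hx

/-- Rational equivalence is local for such a decomposition. -/
theorem ratEquivZero_of_pieces (hW : Cyc.IsSetup W δ) (h : IsDecomp e) {k : ℤ}
    {α : AlgebraicCycle W ℤ}
    (hr : ∀ j, ∃ β : AlgebraicCycle (Vs j) ℤ, Cyc.RatEquivZero (fun z => δ (e j z)) k β ∧
      ∀ z, β z = α (e j z)) :
    Cyc.RatEquivZero δ k α := by
  classical
  choose β hβ hβe using hr
  haveI := fun j => h.isClosedImmersion j
  have hF : ∀ j, RatFamIn δ k (Set.range (e j))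
      ⇑(AlgebraicCycle.map (e j) (fun z => δ (e j z)) δ (β j)) := fun j =>
    ratFamIn_map (isSetup_closedImmersion (e j) hW) hW (e j) (deltaCompat_preimmersion (e j) δ) (hβ j)
  have hsum : ⇑α = fun x => ∑ᶠ j, AlgebraicCycle.map (e j) (fun z => δ (e j z)) δ (β j) x := funext fun x => by
    obtain ⟨j, z, rfl⟩ := h.cover x
    rw [finsum_eq_single _ j fun j' hne => map_closedImmersion_notMem (e j') δ _
      fun hm => hne (h.eq_of_mem hm ⟨z, rfl⟩), map_closedImmersion_image, hβe]
  have h1 := ratFamIn_finsum (δ := δ) (fun j => Set.range (e j)) h.isClosed_range (fun x => by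
    obtain ⟨j, hj⟩ := h.cover x
    refine ⟨Set.range (e j), h.isOpen_range j, hj, (Set.finite_singleton j).subset ?_⟩
    rintro j' ⟨y, hy, hy'⟩
    exact h.eq_of_mem hy hy') _ hF Set.univ fun _ => Set.subset_univ _
  rw [← hsum] at h1
  exact h1.ratEquivZero

end Groth.Agent.E4O.BivarClopen
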