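import Groth.Agent.E4O.BivarSquare

/-! The flat pullback class. -/

set_option autoImplicit false
set_option backward.isDefEq.respectTransparency.types false
universe u

open CategoryTheory AlgebraicGeometry TopologicalSpace Limits
open Groth.Agent.Cyc90 Groth.Agent.Cyc90.Dev Groth.Agent.E4O.BivarBasic Groth.Agent.E4O.BivarSquare

noncomputable section

namespace Groth.Agent.E4O.BivarFlat

variable {X Y : Scheme.{u}} {f : X ⟶ Y} {δX : X → ℤ} {δY : Y → ℤ} [Flat f] [LocallyOfFiniteType f] {r : ℕ}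
  (hr : Cyc.HasRelDim f r) (hX : Cyc.IsSetup X δX) (hY : Cyc.IsSetup Y δY) (hδ : Cyc.DeltaCompat f δX δY)

include hr hδ in
lemma shiftAt_f' (s : Bivar.Sq f δX δY) : ShiftAt s.f' s.δX' s.δY' r :=
  shiftAt_square hr s.isPullback (deltaCompat_f' hδ s)

lemma flat_f' (s : Bivar.Sq f δX δY) : Flat s.f' :=
  MorphismProperty.of_isPullback s.isPullback.flip inferInstance

/-- Flat pullback along a base change. -/
def pullS (s : Bivar.Sq f δX δY) : AlgebraicCycle s.Y' ℤ →+ AlgebraicCycle s.X' ℤ :=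
  pullHom s.f' (isSetup_X' hX s) (shiftAt_f' hr hδ s)

lemma pullS_mem (s : Bivar.Sq f δX δY) {k : ℤ} {α : AlgebraicCycle s.Y' ℤ}
    (hα : α ∈ Cyc.Zk s.Y' s.δY' k) : pullS hr hX hδ s α ∈ Cyc.Zk s.X' s.δX' (k - -(r : ℤ)) := by
  rw [sub_neg_eq_add]; exact pullHom_mem s.f' _ _ hα

include hY in
lemma pullS_rat (s : Bivar.Sq f δX δY) {k : ℤ} {α : AlgebraicCycle s.Y' ℤ}
    (hα : Cyc.RatEquivZero s.δY' k α) : Cyc.RatEquivZero s.δX' (k - -(r : ℤ)) (pullS hr hX hδ s α) := by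
  have := flat_f' s
  rw [sub_neg_eq_add]
  exact pullHom_rat s.f' _ _ (isSetup_Y' hY s) hα

/-- The operation. -/
def flatOp (s : Bivar.Sq f δX δY) (k : ℤ) :
    ChowOps.CH s.Y' s.δY' k →+ ChowOps.CH s.X' s.δX' (k - -(r : ℤ)) :=
  chHom (pullS hr hX hδ s) k _ (fun _ h => pullS_mem hr hX hδ s h) fun _ h => pullS_rat hr hX hY hδ s h

include hr hX hY hδ in
lemma push (s t : Bivar.Sq f δX δY) (h : t.Y' ⟶ s.Y') [IsProper h] (h' : t.X' ⟶ s.X') [IsProper h']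
    (w₁ : h ≫ s.g = t.g) (w₂ : h' ≫ s.f' = t.f' ≫ h) (w₃ : h' ≫ s.g' = t.g') (k : ℤ) :
    Bivar.PushOK t.δY' t.δX' s.δY' s.δX' h h' (flatOp hr hX hY hδ t k) (flatOp hr hX hY hδ s k) := by
  intro α hα
  refine ⟨pullS hr hX hδ t α, pullS_mem hr hX hδ t hα, rfl, ?_⟩
  have hS' := isSetup_X' hX s
  have := hS'.1
  refine (chHom_cl _ _ _ _ _ _).trans (Bivar.cl_congr ?_ _ _)
  exact pull_map_square (isPullback_top s t h h' w₁ w₂ w₃).flip hS' (isSetup_X' hX t)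
    (deltaCompat_h s t h w₁) (deltaCompat_h' s t h' w₃) (shiftAt_f' hr hδ s) (shiftAt_f' hr hδ t) α

include hr hX hY hδ in
lemma pull (s t : Bivar.Sq f δX δY) (h : t.Y' ⟶ s.Y') [Flat h] (h' : t.X' ⟶ s.X') [Flat h'] (q : ℕ)
    (hq : Cyc.HasRelDim h q) (hq' : Cyc.HasRelDim h' q)
    (w₁ : h ≫ s.g = t.g) (w₂ : h' ≫ s.f' = t.f' ≫ h) (w₃ : h' ≫ s.g' = t.g') (k : ℤ) :
    Bivar.PullOK s.δY' s.δX' t.δY' t.δX' h h' (q : ℤ) (flatOp hr hX hY hδ s k)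
      (flatOp hr hX hY hδ t (k + q)) := by
  intro α hα
  refine ⟨pullS hr hX hδ s α, pullS_mem hr hX hδ s hα, rfl, fun α₁ he hα₁ => ?_⟩
  have := lft_h s t h w₁
  have hT := isSetup_Y' hY t
  have hT' := isSetup_X' hX t
  have hS' := isSetup_X' hX s
  have := flat_f' t
  have := flat_f' s
  have hsq := isPullback_top s t h h' w₁ w₂ w₃
  have : LocallyOfFiniteType h' := MorphismProperty.of_isPullback hsq inferInstance
  have hc := shiftAt_of_hasRelDim h hq (deltaCompat_h s t h w₁)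
  have hc' := shiftAt_of_hasRelDim h' hq' (deltaCompat_h' s t h' w₃)
  obtain rfl : α₁ = pullHom h hT hc α := DFunLike.coe_injective he
  refine ⟨pullHom h' hT' hc' (pullS hr hX hδ s α), ?_, rfl, (chHom_cl _ _ _ _ _ _).trans (Bivar.cl_congr ?_ _ _)⟩
  · rw [show k + (q : ℤ) - -(r : ℤ) = k - -(r : ℤ) + q by ring]
    exact pullHom_mem h' hT' hc' (pullS_mem hr hX hδ s hα)
  refine DFunLike.coe_injective ?_
  rw [pullS, pullS, coe_pullHom, coe_pullHom, coe_pullHom, coe_pullHom]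
  have h1 := (pullFun_comp t.f' h hT'.2.2 hT.2.2 (shiftAt_f' hr hδ t) hc ⇑α).2
  have h2 := (pullFun_comp h' s.f' hT'.2.2 hS'.2.2 hc' (shiftAt_f' hr hδ s) ⇑α).2
  rw [← h1, ← h2, w₂, add_comm (r : ℤ)]

lemma gysin_aux {S S' D E : Scheme.{u}} {δ : S → ℤ} {δ' : S' → ℤ} {δD : D → ℤ} {δE : E → ℤ}
    (hS : Cyc.IsSetup S δ) (hS' : Cyc.IsSetup S' δ') (hE : Cyc.IsSetup E δE) (g : S' ⟶ S) [Flat g]
    (fD : E ⟶ D) [Flat fD] {c : ℤ} (hc : ShiftAt g δ' δ c) (hcD : ShiftAt fD δE δD c)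
    {L : S.Modules} (hL : PicF.IsInvertible L)
    {σ : L.presheaf.obj (Opposite.op ⊤)} (i : D ⟶ S) [IsClosedImmersion i] (hσ : Cyc.IsZeroSchemeOf i L σ)
    (j : E ⟶ S') [IsClosedImmersion j] (hsq : IsPullback j fD g i)
    {τ : ((Scheme.Modules.pullback g).obj L).presheaf.obj (Opposite.op ⊤)}
    (hτ : Cyc.IsZeroSchemeOf j ((Scheme.Modules.pullback g).obj L) τ)
    (hD : δD = fun d => δ (i d)) (hEd : δE = fun e => δ' (j e))
    (w : (ξ : S) → Cyc.secFibre L ξ) (hw : ∀ ξ, w ξ ≠ 0)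
    (w' : (ξ : S') → Cyc.secFibre ((Scheme.Modules.pullback g).obj L) ξ) (hw' : ∀ ξ, w' ξ ≠ 0)
    {k : ℤ} {α : AlgebraicCycle S ℤ} (hα : α ∈ Cyc.Zk S δ k) (γ : AlgebraicCycle D ℤ)
    (hγ : ∀ d, γ d = Cyc.c1CapFun δ L ⇑α (Cyc.gysinChoice L σ w) (i d)) :
    ∃ ζ : AlgebraicCycle E ℤ,
      (∀ e, ζ e = Cyc.c1CapFun δ' ((Scheme.Modules.pullback g).obj L) ⇑(pullHom g hS' hc α)
        (Cyc.gysinChoice ((Scheme.Modules.pullback g).obj L) τ w') (j e)) ∧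
      ζ ∈ Cyc.Zk E δE (k - 1 + c) ∧ Cyc.RatEquivZero δE (k - 1 + c) (pullHom fD hE hcD γ - ζ) := by
  subst hD hEd
  have hLp := Amp73.isInvertible_pullback g hL
  refine ⟨gysHom hS' hLp τ j w' hw' (pullHom g hS' hc α), gysHom_apply hS' hLp τ j w' hw' _, ?_, ?_⟩
  · exact gysHom_mem hS' hLp τ j w' hw'
      (by rw [show k - 1 + c + 1 = k + c by ring]; exact pullHom_mem g hS' hc hα)
  · obtain rfl : γ = gysHom hS hL σ i w hw α :=
      DFunLike.ext _ _ fun d => (hγ d).trans (gysHom_apply hS hL σ i w hw α d).symm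
    exact (mem_ratZ hE).1 ((ratZ hE _).sub_mem_comm_iff.1 (gysin_pull_square hS hS' g hc hL i hσ j hsq hτ
      w hw w' hw' hE hcD (by rw [sub_add_cancel]; exact hα)))

include hr hX hY hδ in
lemma gysin (s t : Bivar.Sq f δX δY) (i : t.Y' ⟶ s.Y') [IsClosedImmersion i] (j : t.X' ⟶ s.X')
    [IsClosedImmersion j] (w₁ : i ≫ s.g = t.g) (w₂ : j ≫ s.f' = t.f' ≫ i) (w₃ : j ≫ s.g' = t.g')
    (L : s.Y'.Modules) (hL : PicF.IsInvertible L) (σ : L.presheaf.obj (Opposite.op ⊤))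
    (hσ : Cyc.IsZeroSchemeOf i L σ)
    (τ : ((Scheme.Modules.pullback s.f').obj L).presheaf.obj (Opposite.op ⊤))
    (hτ : Cyc.IsZeroSchemeOf j ((Scheme.Modules.pullback s.f').obj L) τ) (k : ℤ) :
    Bivar.GysinOK s.δY' t.δY' s.δX' t.δX' i L σ j ((Scheme.Modules.pullback s.f').obj L) τ
      (flatOp hr hX hY hδ s k) (flatOp hr hX hY hδ t (k - 1)) := by
  intro α hα
  refine ⟨pullS hr hX hδ s α, pullS_mem hr hX hδ s hα, rfl, fun w hw γ hγ hγ' w' hw' => ?_⟩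
  have := flat_f' s
  have := flat_f' t
  obtain ⟨ζ, h1, h2, h3⟩ := gysin_aux (isSetup_Y' hY s) (isSetup_X' hX s) (isSetup_X' hX t) s.f' t.f'
    (shiftAt_f' hr hδ s) (shiftAt_f' hr hδ t) hL i hσ j (isPullback_top s t i j w₁ w₂ w₃).flip hτ
    (delta_closedImmersion i (deltaCompat_h s t i w₁)) (delta_closedImmersion j (deltaCompat_h' s t j w₃))
    w hw w' hw' hα γ hγ
  rw [← sub_neg_eq_add (k - 1) (r : ℤ)] at h2 h3
  exact ⟨ζ, h2, h1, (chHom_cl _ _ _ _ _ _).trans (cl_eq_of_ratEquiv _ _ h3)⟩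

/-- The flat pullback class. -/
def flatClass : Bivar.Cl (-(r : ℤ)) f δX δY where
  op := flatOp hr hX hY hδ
  push s t h _ h' _ w₁ w₂ w₃ k := push hr hX hY hδ s t h h' w₁ w₂ w₃ k
  pull s t h _ h' _ q hq hq' w₁ w₂ w₃ k := pull hr hX hY hδ s t h h' q hq hq' w₁ w₂ w₃ k
  gysin s t i _ j _ w₁ w₂ w₃ L hL σ hσ τ hτ k := gysin hr hX hY hδ s t i j w₁ w₂ w₃ L hL σ hσ τ hτ k

theorem isFlatPullClass_flatClass : Bivar.IsFlatPullClass f r (flatClass hr hX hY hδ) := by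
  refine ⟨inferInstance, inferInstance, hr, hδ, fun s k α hα α₁ he hα₁ => ?_⟩
  show ChowOps.cl (pullS hr hX hδ s α) (pullS_mem hr hX hδ s hα) = _
  exact Bivar.cl_congr (DFunLike.coe_injective ((coe_pullHom _ _ _ _).trans he.symm)) _ _

end Groth.Agent.E4O.BivarFlat
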