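import Groth.Agent.E4O.BivarRep
import Groth.Agent.Cyc90.Dev.ChernComm

/-! The base change of a square of bivariant classes along another one. -/

set_option autoImplicit false
set_option backward.isDefEq.respectTransparency.types false
universe u

open CategoryTheory AlgebraicGeometry TopologicalSpace Limits
open Groth.Agent.Cyc90 Groth.Agent.Cyc90.Dev Groth.Agent.E4O.BivarBasic Groth.Agent.E4O.BivarSquare

noncomputable section

namespace Groth.Agent.E4O.BivarRestrict

variable {X Y : Scheme.{u}} {f : X ⟶ Y} {δX : X → ℤ} {δY : Y → ℤ} (s₀ s : Bivar.Sq f δX δY)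

/-- The map of the base change to the first test scheme. -/
abbrev toBase : pullback s₀.g s.g ⟶ s₀.Y' := pullback.fst s₀.g s.g

/-- The map of the base change to the second test scheme. -/
abbrev toTest : pullback s₀.g s.g ⟶ s.Y' := pullback.snd s₀.g s.g

/-- The fibre product over the base change. -/
abbrev top : Scheme.{u} := pullback s.f' (toTest s₀ s)

/-- The induced map of fibre products. -/
abbrev topTest : top s₀ s ⟶ s.X' := pullback.fst s.f' (toTest s₀ s)

/-- The projection of the fibre product. -/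
abbrev topF : top s₀ s ⟶ pullback s₀.g s.g := pullback.snd s.f' (toTest s₀ s)

lemma top_w : (topF s₀ s ≫ toBase s₀ s) ≫ s₀.g = (topTest s₀ s ≫ s.g') ≫ f := by
  rw [Category.assoc, pullback.condition, ← Category.assoc, ← pullback.condition, Category.assoc,
    s.isPullback.w, Category.assoc]

/-- The map to the fibre product of the first square. -/
def topBase : top s₀ s ⟶ s₀.X' :=
  s₀.isPullback.lift (topF s₀ s ≫ toBase s₀ s) (topTest s₀ s ≫ s.g') (top_w s₀ s)

lemma topBase_g' : topBase s₀ s ≫ s₀.g' = topTest s₀ s ≫ s.g' := s₀.isPullback.lift_snd _ _ _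

lemma isPullback_piece : IsPullback (topF s₀ s) (topBase s₀ s) (toBase s₀ s) s₀.f' :=
  IsPullback.of_bot (by
    rw [topBase_g', pullback.condition]
    exact (IsPullback.of_hasPullback s.f' (toTest s₀ s)).flip.paste_vert s.isPullback)
    (s₀.isPullback.lift_fst _ _ _).symm s₀.isPullback

lemma lft_toBase : LocallyOfFiniteType (toBase s₀ s) :=
  haveI := s.lft
  inferInstance

lemma lft_topBase : LocallyOfFiniteType (topBase s₀ s) :=
  MorphismProperty.of_isPullback (isPullback_piece s₀ s) (lft_toBase s₀ s)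

/-- The base change, as a square over the first one. -/
abbrev piece : Bivar.Sq s₀.f' s₀.δX' s₀.δY' where
  Y' := pullback s₀.g s.g
  X' := top s₀ s
  g := toBase s₀ s
  f' := topF s₀ s
  g' := topBase s₀ s
  isPullback := isPullback_piece s₀ s
  lft := lft_toBase s₀ s
  δY' := upDelta (toBase s₀ s) s₀.δY'
  δX' := upDelta (topBase s₀ s) s₀.δX'
  compatY :=
    haveI := lft_toBase s₀ s
    deltaCompat_upDelta (toBase s₀ s) s₀.δY'
  compatX :=
    haveI := lft_topBase s₀ s
    deltaCompat_upDelta (topBase s₀ s) s₀.δX'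

lemma w₁ : toTest s₀ s ≫ s.g = (s₀.paste (piece s₀ s)).g := pullback.condition.symm

lemma w₂ : topTest s₀ s ≫ s.f' = (s₀.paste (piece s₀ s)).f' ≫ toTest s₀ s := pullback.condition

lemma w₃ : topTest s₀ s ≫ s.g' = (s₀.paste (piece s₀ s)).g' := (topBase_g' s₀ s).symm

lemma op_paste_eq {p : ℤ} {c₁ c₂ : Bivar.Cl p f δX δY} (h : c₁.res s₀ = c₂.res s₀)
    (t : Bivar.Sq s₀.f' s₀.δX' s₀.δY') (k : ℤ) : c₁.op (s₀.paste t) k = c₂.op (s₀.paste t) k :=
  congrArg (fun c : Bivar.Cl p s₀.f' s₀.δX' s₀.δY' => c.op t k) h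

end Groth.Agent.E4O.BivarRestrict
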