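import Groth.Agent.E4O.BivarClopen
import Groth.Agent.E4O.BivarRestrict

/-! Bivariant classes over a disjoint union. -/

set_option autoImplicit false
set_option backward.isDefEq.respectTransparency.types false
universe u

open CategoryTheory AlgebraicGeometry TopologicalSpace Limits
open Groth.Agent.Cyc90 Groth.Agent.Cyc90.Dev Groth.Agent.E4O.BivarBasic Groth.Agent.E4O.BivarSquare
  Groth.Agent.E4O.BivarGysinLem Groth.Agent.E4O.BivarRep Groth.Agent.E4O.BivarClopen
  Groth.Agent.E4O.BivarRestrict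

noncomputable section

namespace Groth.Agent.E4O.BivarGlue

variable {X Y : Scheme.{u}} {f : X ⟶ Y} {δX : X → ℤ} {δY : Y → ℤ} {p : ℤ}

lemma pullHom_eq_restr {V W : Scheme.{u}} {δ : W → ℤ} {δV : V → ℤ} (e : V ⟶ W) [IsOpenImmersion e]
    [IsClosedImmersion e] (hV : Cyc.IsSetup V δV) (hd : δV = fun z => δ (e z)) {c : ℤ} (hc0 : c = 0)
    (hc : ShiftAt e δV δ c) (α : AlgebraicCycle W ℤ) : pullHom e hV hc α = restr e α := by
  subst hd hc0
  refine DFunLike.ext _ _ fun z => ?_
  rw [coe_pullHom, restr_apply, pullFun_openImmersion]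

/-- Compatibility of a class with restriction to open and closed pieces. -/
theorem restr_rep (hX : Cyc.IsSetup X δX) (hY : Cyc.IsSetup Y δY) (c : Bivar.Cl p f δX δY)
    (s t : Bivar.Sq f δX δY) (h : t.Y' ⟶ s.Y') [IsOpenImmersion h] [IsClosedImmersion h]
    (h' : t.X' ⟶ s.X') [IsOpenImmersion h'] [IsClosedImmersion h'] (w₁ : h ≫ s.g = t.g)
    (w₂ : h' ≫ s.f' = t.f' ≫ h) (w₃ : h' ≫ s.g' = t.g') {k : ℤ} {α : AlgebraicCycle s.Y' ℤ}
    (hα : α ∈ Cyc.Zk s.Y' s.δY' k) {β : AlgebraicCycle s.X' ℤ} (hβ : β ∈ Cyc.Zk s.X' s.δX' (k - p))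
    (he : c.op s k (ChowOps.cl α hα) = ChowOps.cl β hβ)
    (hm : restr h α ∈ Cyc.Zk t.Y' t.δY' k) (hm' : restr h' β ∈ Cyc.Zk t.X' t.δX' (k - p)) :
    c.op t k (ChowOps.cl (restr h α) hm) = ChowOps.cl (restr h' β) hm' := by
  have hd := deltaCompat_h s t h w₁
  have hd' := deltaCompat_h' s t h' w₃
  have hr := hasRelDim_zero_of_finite h
  have hr' := hasRelDim_zero_of_finite h'
  have hc' : ShiftAt h' t.δX' s.δX' ((0 : ℕ) : ℤ) := shiftAt_of_hasRelDim h' hr' hd'
  have hc : ShiftAt h t.δY' s.δY' ((0 : ℕ) : ℤ) := shiftAt_of_hasRelDim h hr hd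
  have e2 : pullHom h' (isSetup_X' hX t) hc' β = restr h' β :=
    pullHom_eq_restr h' _ (deltaCompat_openImmersion h' hd') Nat.cast_zero hc' β
  have e1 : ⇑(restr h α) = Cyc.pullFun h t.δY' s.δY' ((0 : ℕ) : ℤ) ⇑α := by
    rw [← pullHom_eq_restr h (isSetup_Y' hY t) (deltaCompat_openImmersion h hd) Nat.cast_zero hc α,
      coe_pullHom]
  have main : ∀ l : ℤ, l = k + ((0 : ℕ) : ℤ) → ∀ (a : restr h α ∈ Cyc.Zk t.Y' t.δY' l)
      (b : restr h' β ∈ Cyc.Zk t.X' t.δX' (l - p)),
      c.op t l (ChowOps.cl (restr h α) a) = ChowOps.cl (restr h' β) b := by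
    rintro l rfl a b
    exact (pull_rep hX c s t h h' 0 hr hr' w₁ w₂ w₃ hc' hα hβ he _ e1 a (e2 ▸ b)).trans
      (Bivar.cl_congr e2 _ _)
  exact main k (by simp) hm hm'

variable {J : Type u} (s : J → Bivar.Sq f δX δY)

section Pieces

variable (hdec : IsDecomp fun j => (s j).g) (q : Bivar.Sq f δX δY) (j : J)

include hdec in
lemma decompY : IsDecomp fun j => toTest (s j) q :=
  hdec.pullback q.g fun j => (IsPullback.of_hasPullback (s j).g q.g).flip

include hdec in
lemma decompX : IsDecomp fun j => topTest (s j) q :=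
  (decompY s hdec q).pullback q.f' fun j => IsPullback.of_hasPullback q.f' (toTest (s j) q)

include hdec in
lemma deltaY : (piece (s j) q).δY' = fun z => q.δY' (toTest (s j) q z) :=
  haveI := (decompY s hdec q).isOpen j
  deltaCompat_openImmersion _ (deltaCompat_h q ((s j).paste (piece (s j) q)) _ (w₁ (s j) q))

include hdec in
lemma deltaX : (piece (s j) q).δX' = fun z => q.δX' (topTest (s j) q z) :=
  haveI := (decompX s hdec q).isOpen j
  deltaCompat_openImmersion _ (deltaCompat_h' q ((s j).paste (piece (s j) q)) _ (w₃ (s j) q))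

/-- Restriction to a piece of the test scheme. -/
def resY : AlgebraicCycle q.Y' ℤ →+ AlgebraicCycle (piece (s j) q).Y' ℤ :=
  haveI := (decompY s hdec q).isClosedImmersion j
  restr (toTest (s j) q)

/-- Restriction to a piece of the fibre product. -/
def resX : AlgebraicCycle q.X' ℤ →+ AlgebraicCycle (piece (s j) q).X' ℤ :=
  haveI := (decompX s hdec q).isClosedImmersion j
  restr (topTest (s j) q)

lemma resY_mem {k : ℤ} {α : AlgebraicCycle q.Y' ℤ} (h : α ∈ Cyc.Zk q.Y' q.δY' k) :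
    resY s hdec q j α ∈ Cyc.Zk _ (piece (s j) q).δY' k := by
  haveI := (decompY s hdec q).isClosedImmersion j
  rw [deltaY s hdec q j]
  exact restr_mem (toTest (s j) q) h

lemma resX_mem {k : ℤ} {α : AlgebraicCycle q.X' ℤ} (h : α ∈ Cyc.Zk q.X' q.δX' k) :
    resX s hdec q j α ∈ Cyc.Zk _ (piece (s j) q).δX' k := by
  haveI := (decompX s hdec q).isClosedImmersion j
  rw [deltaX s hdec q j]
  exact restr_mem (topTest (s j) q) h

lemma resY_rat (hY : Cyc.IsSetup Y δY) {k : ℤ} {α : AlgebraicCycle q.Y' ℤ}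
    (h : Cyc.RatEquivZero q.δY' k α) : Cyc.RatEquivZero (piece (s j) q).δY' k (resY s hdec q j α) := by
  haveI := (decompY s hdec q).isClosedImmersion j
  haveI := (decompY s hdec q).isOpen j
  rw [deltaY s hdec q j]
  exact restr_rat (isSetup_Y' hY q) (toTest (s j) q) h

lemma resX_rat (hX : Cyc.IsSetup X δX) {k : ℤ} {α : AlgebraicCycle q.X' ℤ}
    (h : Cyc.RatEquivZero q.δX' k α) : Cyc.RatEquivZero (piece (s j) q).δX' k (resX s hdec q j α) := by
  haveI := (decompX s hdec q).isClosedImmersion j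
  haveI := (decompX s hdec q).isOpen j
  rw [deltaX s hdec q j]
  exact restr_rat (isSetup_X' hX q) (topTest (s j) q) h

/-- Restriction of classes to a piece. -/
def chResY (hY : Cyc.IsSetup Y δY) (k : ℤ) :
    ChowOps.CH q.Y' q.δY' k →+ ChowOps.CH (piece (s j) q).Y' (piece (s j) q).δY' k :=
  chHom (resY s hdec q j) k k (fun _ h => resY_mem s hdec q j h) fun _ h => resY_rat s hdec q j hY h

/-- Restriction of classes to a piece of the fibre product. -/
def chResX (hX : Cyc.IsSetup X δX) (k : ℤ) :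
    ChowOps.CH q.X' q.δX' k →+ ChowOps.CH (piece (s j) q).X' (piece (s j) q).δX' k :=
  chHom (resX s hdec q j) k k (fun _ h => resX_mem s hdec q j h) fun _ h => resX_rat s hdec q j hX h

end Pieces

variable (hX : Cyc.IsSetup X δX) (hY : Cyc.IsSetup Y δY) (hdec : IsDecomp fun j => (s j).g)

include hdec in
/-- A class of the fibre product is determined by its restrictions. -/
theorem chResX_ext (q : Bivar.Sq f δX δY) {k : ℤ} {a b : ChowOps.CH q.X' q.δX' k}
    (h : ∀ j, chResX s hdec q j hX k a = chResX s hdec q j hX k b) : a = b := by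
  obtain ⟨α, hα, rfl⟩ := Bivar.exists_rep a
  obtain ⟨β, hβ, rfl⟩ := Bivar.exists_rep b
  refine cl_eq_of_ratEquiv _ _ (ratEquivZero_of_pieces (isSetup_X' hX q) (decompX s hdec q) fun j => ?_)
  haveI := (decompX s hdec q).isClosedImmersion j
  refine ⟨resX s hdec q j (α - β), ?_, fun z => restr_apply _ _ _⟩
  show Cyc.RatEquivZero (fun z => q.δX' (topTest (s j) q z)) k _
  rw [← deltaX s hdec q j, map_sub]
  exact ratEquivZero_sub_of_cl_eq (isSetup_X' (isSetup_X' hX (s j)) (piece (s j) q))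
    (resX_mem s hdec q j hα) (resX_mem s hdec q j hβ) (h j)

include hdec in
/-- Classes of the pieces glue. -/
theorem exists_chResX (q : Bivar.Sq f δX δY) {k : ℤ}
    (b : ∀ j, ChowOps.CH (piece (s j) q).X' (piece (s j) q).δX' k) :
    ∃ a : ChowOps.CH q.X' q.δX' k, ∀ j, chResX s hdec q j hX k a = b j := by
  choose β hβ he using fun j => Bivar.exists_rep (b j)
  refine ⟨ChowOps.cl (glue (decompX s hdec q) β) (glue_mem (decompX s hdec q) β fun j => ?_), fun j => ?_⟩
  · rw [← deltaX s hdec q j]; exact hβ j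
  · refine (chHom_cl _ _ _ _ _ _).trans ((Bivar.cl_congr ?_ _ _).trans (he j))
    haveI := (decompX s hdec q).isClosedImmersion j
    exact DFunLike.ext _ _ fun z => (restr_apply _ _ _).trans (glue_apply (decompX s hdec q) β j z)

include hY hdec in
lemma res_op (c : Bivar.Cl p f δX δY) (q : Bivar.Sq f δX δY) (k : ℤ) (a : ChowOps.CH q.Y' q.δY' k)
    (j : J) :
    chResX s hdec q j hX (k - p) (c.op q k a) =
      (c.res (s j)).op (piece (s j) q) k (chResY s hdec q j hY k a) := by
  obtain ⟨α, hα, rfl⟩ := Bivar.exists_rep a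
  obtain ⟨β, hβ, he⟩ := Bivar.exists_rep (c.op q k (ChowOps.cl α hα))
  haveI := (decompX s hdec q).isClosedImmersion j
  haveI := (decompX s hdec q).isOpen j
  haveI := (decompY s hdec q).isClosedImmersion j
  haveI := (decompY s hdec q).isOpen j
  rw [← he]
  exact (restr_rep hX hY c q ((s j).paste (piece (s j) q)) (toTest (s j) q) (topTest (s j) q)
    (w₁ (s j) q) (w₂ (s j) q) (w₃ (s j) q) hα hβ he.symm (resY_mem s hdec q j hα)
    (resX_mem s hdec q j hβ)).symm

include hX hY hdec in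
theorem res_injective : Function.Injective fun c : Bivar.Cl p f δX δY => fun j : J => c.res (s j) := by
  intro c₁ c₂ h
  refine Bivar.Cl.ext (funext fun q => funext fun k => AddMonoidHom.ext fun a => ?_)
  refine chResX_ext s hX hdec q fun j => ?_
  rw [res_op s hX hY hdec, res_op s hX hY hdec, show c₁.res (s j) = c₂.res (s j) from congrFun h j]

variable (c : ∀ j, Bivar.Cl p (s j).f' (s j).δX' (s j).δY')

/-- The glued operation. -/
def glueOp (q : Bivar.Sq f δX δY) (k : ℤ) :
    ChowOps.CH q.Y' q.δY' k →+ ChowOps.CH q.X' q.δX' (k - p) :=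
  AddMonoidHom.mk' (fun a => (exists_chResX s hX hdec q fun j =>
      (c j).op (piece (s j) q) k (chResY s hdec q j hY k a)).choose) fun a b =>
    chResX_ext s hX hdec q fun j =>
      ((exists_chResX s hX hdec q fun j =>
        (c j).op (piece (s j) q) k (chResY s hdec q j hY k (a + b))).choose_spec j).trans (by
        rw [map_add, map_add, map_add, (exists_chResX s hX hdec q fun j =>
            (c j).op (piece (s j) q) k (chResY s hdec q j hY k a)).choose_spec j,
          (exists_chResX s hX hdec q fun j =>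
            (c j).op (piece (s j) q) k (chResY s hdec q j hY k b)).choose_spec j])

lemma chResX_glueOp (q : Bivar.Sq f δX δY) (k : ℤ) (a : ChowOps.CH q.Y' q.δY' k) (j : J) :
    chResX s hdec q j hX (k - p) (glueOp s hX hY hdec c q k a) =
      (c j).op (piece (s j) q) k (chResY s hdec q j hY k a) :=
  (exists_chResX s hX hdec q fun j =>
    (c j).op (piece (s j) q) k (chResY s hdec q j hY k a)).choose_spec j

lemma glueOp_eq (q : Bivar.Sq f δX δY) {k : ℤ} {α : AlgebraicCycle q.Y' ℤ}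
    (hα : α ∈ Cyc.Zk q.Y' q.δY' k) {β : AlgebraicCycle q.X' ℤ} (hβ : β ∈ Cyc.Zk q.X' q.δX' (k - p))
    (h : ∀ j, (c j).op (piece (s j) q) k (ChowOps.cl _ (resY_mem s hdec q j hα)) =
      ChowOps.cl _ (resX_mem s hdec q j hβ)) :
    glueOp s hX hY hdec c q k (ChowOps.cl α hα) = ChowOps.cl β hβ :=
  chResX_ext s hX hdec q fun j => (chResX_glueOp s hX hY hdec c q k _ j).trans (h j)

lemma glueOp_spec (q : Bivar.Sq f δX δY) {k : ℤ} {α : AlgebraicCycle q.Y' ℤ}
    (hα : α ∈ Cyc.Zk q.Y' q.δY' k) {β : AlgebraicCycle q.X' ℤ} (hβ : β ∈ Cyc.Zk q.X' q.δX' (k - p))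
    (h : glueOp s hX hY hdec c q k (ChowOps.cl α hα) = ChowOps.cl β hβ) (j : J) :
    (c j).op (piece (s j) q) k (ChowOps.cl _ (resY_mem s hdec q j hα)) =
      ChowOps.cl _ (resX_mem s hdec q j hβ) :=
  (chResX_glueOp s hX hY hdec c q k _ j).symm.trans (congrArg (chResX s hdec q j hX (k - p)) h)

section Maps

variable (q t : Bivar.Sq f δX δY) (h : t.Y' ⟶ q.Y') (h' : t.X' ⟶ q.X') (v₁ : h ≫ q.g = t.g)
  (v₂ : h' ≫ q.f' = t.f' ≫ h) (v₃ : h' ≫ q.g' = t.g') (j : J)

/-- The induced map of pieces. -/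
def mapY : (piece (s j) t).Y' ⟶ (piece (s j) q).Y' :=
  pullback.lift (toBase (s j) t) (toTest (s j) t ≫ h) (by rw [Category.assoc, v₁]; exact pullback.condition)

/-- The induced map of pieces of the fibre products. -/
def mapX : (piece (s j) t).X' ⟶ (piece (s j) q).X' :=
  pullback.lift (topTest (s j) t ≫ h') (topF (s j) t ≫ mapY s q t h v₁ j) (by
    rw [Category.assoc, v₂, Category.assoc, mapY, pullback.lift_snd, ← Category.assoc, pullback.condition,
      Category.assoc])

lemma mapY_toBase : mapY s q t h v₁ j ≫ (piece (s j) q).g = (piece (s j) t).g := pullback.lift_fst _ _ _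

lemma mapX_f' : mapX s q t h h' v₁ v₂ j ≫ (piece (s j) q).f' = (piece (s j) t).f' ≫ mapY s q t h v₁ j :=
  pullback.lift_snd _ _ _

include v₃ in
lemma mapX_g' : mapX s q t h h' v₁ v₂ j ≫ (piece (s j) q).g' = (piece (s j) t).g' := by
  refine (s j).isPullback.hom_ext ?_ ?_
  · rw [Category.assoc, ← (piece (s j) q).isPullback.w, ← Category.assoc, mapX_f', Category.assoc,
      mapY_toBase]
    exact (piece (s j) t).isPullback.w
  · show (mapX s q t h h' v₁ v₂ j ≫ topBase (s j) q) ≫ (s j).g' = topBase (s j) t ≫ (s j).g'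
    rw [Category.assoc, topBase_g', topBase_g', ← Category.assoc, mapX, pullback.lift_fst, Category.assoc, v₃]

lemma isPullback_mapY : IsPullback (toTest (s j) t) (mapY s q t h v₁ j) h (toTest (s j) q) :=
  IsPullback.of_bot (by
    rw [mapY, pullback.lift_fst, v₁]
    exact (IsPullback.of_hasPullback (s j).g t.g).flip) (pullback.lift_snd _ _ _).symm
    (IsPullback.of_hasPullback (s j).g q.g).flip

lemma isPullback_mapX :
    IsPullback (topTest (s j) t) (mapX s q t h h' v₁ v₂ j) h' (topTest (s j) q) :=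
  IsPullback.of_bot (by
    rw [mapX, pullback.lift_snd, v₂]
    exact (IsPullback.of_hasPullback t.f' (toTest (s j) t)).paste_vert (isPullback_mapY s q t h v₁ j))
    (pullback.lift_fst _ _ _).symm (IsPullback.of_hasPullback q.f' (toTest (s j) q))

end Maps

include hX hY hdec in
lemma push (q t : Bivar.Sq f δX δY) (h : t.Y' ⟶ q.Y') [IsProper h] (h' : t.X' ⟶ q.X') [IsProper h']
    (v₁ : h ≫ q.g = t.g) (v₂ : h' ≫ q.f' = t.f' ≫ h) (v₃ : h' ≫ q.g' = t.g') (k : ℤ) :
    Bivar.PushOK t.δY' t.δX' q.δY' q.δX' h h' (glueOp s hX hY hdec c t k) (glueOp s hX hY hdec c q k) := by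
  intro α hα
  obtain ⟨β, hβ, he⟩ := Bivar.exists_rep (glueOp s hX hY hdec c t k (ChowOps.cl α hα))
  refine ⟨β, hβ, he.symm, glueOp_eq s hX hY hdec c q _ _ fun j => ?_⟩
  have hsY := isPullback_mapY s q t h v₁ j
  have hsX := isPullback_mapX s q t h h' v₁ v₂ j
  haveI : IsProper (mapY s q t h v₁ j) := MorphismProperty.of_isPullback hsY inferInstance
  haveI : IsProper (mapX s q t h h' v₁ v₂ j) := MorphismProperty.of_isPullback hsX inferInstance
  haveI := (decompY s hdec t).isClosedImmersion j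
  haveI := (decompY s hdec q).isClosedImmersion j
  haveI := (decompX s hdec t).isClosedImmersion j
  haveI := (decompX s hdec q).isClosedImmersion j
  have e1 : resY s hdec q j (AlgebraicCycle.map h t.δY' q.δY' α) =
      AlgebraicCycle.map (mapY s q t h v₁ j) (piece (s j) t).δY' (piece (s j) q).δY' (resY s hdec t j α) :=
    DFunLike.ext _ _ fun z => by
      rw [deltaY s hdec t j, deltaY s hdec q j]
      exact (restr_apply _ _ _).trans (map_closed_square hsY _ _ α z)
  have e2 : resX s hdec q j (AlgebraicCycle.map h' t.δX' q.δX' β) =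
      AlgebraicCycle.map (mapX s q t h h' v₁ v₂ j) (piece (s j) t).δX' (piece (s j) q).δX'
        (resX s hdec t j β) :=
    DFunLike.ext _ _ fun z => by
      rw [deltaX s hdec t j, deltaX s hdec q j]
      exact (restr_apply _ _ _).trans (map_closed_square hsX _ _ β z)
  rw [Bivar.cl_congr e1 _ (e1 ▸ resY_mem s hdec q j (Bivar.cycMap_mem_Zk h _ _ k hα)),
    Bivar.cl_congr e2 _ (e2 ▸ resX_mem s hdec q j (Bivar.cycMap_mem_Zk h' _ _ (k - p) hβ))]
  exact push_rep (isSetup_X' hX (s j)) (c j) (piece (s j) q) (piece (s j) t) _ _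
    (mapY_toBase s q t h v₁ j) (mapX_f' s q t h h' v₁ v₂ j) (mapX_g' s q t h h' v₁ v₂ v₃ j)
    _ _ (glueOp_spec s hX hY hdec c t hα hβ he.symm j)

include hX hY hdec in
lemma pull (q t : Bivar.Sq f δX δY) (h : t.Y' ⟶ q.Y') [Flat h] (h' : t.X' ⟶ q.X') [Flat h'] (r : ℕ)
    (hr : Cyc.HasRelDim h r) (hr' : Cyc.HasRelDim h' r)
    (v₁ : h ≫ q.g = t.g) (v₂ : h' ≫ q.f' = t.f' ≫ h) (v₃ : h' ≫ q.g' = t.g') (k : ℤ) :
    Bivar.PullOK q.δY' q.δX' t.δY' t.δX' h h' (r : ℤ) (glueOp s hX hY hdec c q k)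
      (glueOp s hX hY hdec c t (k + r)) := by
  intro α hα
  obtain ⟨β, hβ, he⟩ := Bivar.exists_rep (glueOp s hX hY hdec c q k (ChowOps.cl α hα))
  refine ⟨β, hβ, he.symm, fun α₁ he₁ hα₁ => ?_⟩
  haveI := lft_h q t h v₁
  haveI : LocallyOfFiniteType h' :=
    MorphismProperty.of_isPullback (isPullback_top q t h h' v₁ v₂ v₃) inferInstance
  have hT := isSetup_X' hX t
  have hc := shiftAt_of_hasRelDim h hr (deltaCompat_h q t h v₁)
  have hc' := shiftAt_of_hasRelDim h' hr' (deltaCompat_h' q t h' v₃)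
  obtain rfl : α₁ = pullHom h (isSetup_Y' hY t) hc α := DFunLike.coe_injective he₁
  have hm : pullHom h' hT hc' β ∈ Cyc.Zk t.X' t.δX' (k + r - p) := by
    rw [show k + (r : ℤ) - p = k - p + r by ring]; exact pullHom_mem _ _ _ hβ
  refine ⟨pullHom h' hT hc' β, hm, rfl, glueOp_eq s hX hY hdec c t _ hm fun j => ?_⟩
  have hsY := isPullback_mapY s q t h v₁ j
  have hsX := isPullback_mapX s q t h h' v₁ v₂ j
  haveI := (decompY s hdec t).isClosedImmersion j
  haveI := (decompY s hdec q).isClosedImmersion j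
  haveI := (decompX s hdec t).isClosedImmersion j
  haveI := (decompX s hdec q).isClosedImmersion j
  haveI : Flat (mapY s q t h v₁ j) := MorphismProperty.of_isPullback hsY inferInstance
  haveI : Flat (mapX s q t h h' v₁ v₂ j) := MorphismProperty.of_isPullback hsX inferInstance
  haveI : LocallyOfFiniteType (mapY s q t h v₁ j) := MorphismProperty.of_isPullback hsY inferInstance
  haveI : LocallyOfFiniteType (mapX s q t h h' v₁ v₂ j) := MorphismProperty.of_isPullback hsX inferInstance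
  have hrY : Cyc.HasRelDim (mapY s q t h v₁ j) r := FibDim94.hasRelDim_of_isPullback hsY hr
  have hrX : Cyc.HasRelDim (mapX s q t h h' v₁ v₂ j) r := FibDim94.hasRelDim_of_isPullback hsX hr'
  have hS := isSetup_X' hX (s j)
  have hcX := shiftAt_of_hasRelDim _ hrX (deltaCompat_h' (piece (s j) q) (piece (s j) t) _
    (mapX_g' s q t h h' v₁ v₂ v₃ j))
  have e1 : ⇑(resY s hdec t j (pullHom h (isSetup_Y' hY t) hc α)) =
      Cyc.pullFun (mapY s q t h v₁ j) (piece (s j) t).δY' (piece (s j) q).δY' (r : ℤ)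
        ⇑(resY s hdec q j α) := funext fun z => by
    rw [deltaY s hdec t j, deltaY s hdec q j]
    refine (restr_apply _ _ _).trans ((pullFun_closed_square hsY (isSetup_Y' hY t) hc ⇑α z).trans ?_)
    exact congrArg (fun a => Cyc.pullFun (mapY s q t h v₁ j) _ _ (r : ℤ) a z)
      (funext fun y => (restr_apply _ _ y).symm)
  have e2 : pullHom (mapX s q t h h' v₁ v₂ j) (isSetup_X' hS (piece (s j) t)) hcX (resX s hdec q j β) =
      resX s hdec t j (pullHom h' hT hc' β) := DFunLike.ext _ _ fun z => by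
    rw [coe_pullHom, deltaX s hdec t j, deltaX s hdec q j]
    refine Eq.trans ?_ ((restr_apply _ _ _).trans (pullFun_closed_square hsX hT hc' ⇑β z)).symm
    exact congrArg (fun a => Cyc.pullFun (mapX s q t h h' v₁ v₂ j) _ _ (r : ℤ) a z)
      (funext fun y => restr_apply _ _ y)
  exact (pull_rep hS (c j) (piece (s j) q) (piece (s j) t) _ _ r hrY hrX
    (mapY_toBase s q t h v₁ j) (mapX_f' s q t h h' v₁ v₂ j) (mapX_g' s q t h h' v₁ v₂ v₃ j) hcX
    _ _ (glueOp_spec s hX hY hdec c q hα hβ he.symm j) _ e1 (resY_mem s hdec t j hα₁)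
    (e2 ▸ resX_mem s hdec t j hm)).trans (Bivar.cl_congr e2 _ _)

/-- Gysin maps commute with restriction to an open and closed piece. -/
theorem gysin_restr_square {S S' D E : Scheme.{u}} {δ : S → ℤ} {δ' : S' → ℤ} {δE : E → ℤ}
    (hS : Cyc.IsSetup S δ) (hS' : Cyc.IsSetup S' δ') (e : S' ⟶ S) [IsOpenImmersion e] [IsClosedImmersion e]
    (hd : δ' = fun z => δ (e z)) {L : S.Modules} (hL : PicF.IsInvertible L)
    {σ : L.presheaf.obj (Opposite.op ⊤)} (i : D ⟶ S) [IsClosedImmersion i] (hσ : Cyc.IsZeroSchemeOf i L σ)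
    {eD : E ⟶ D} [IsOpenImmersion eD] [IsClosedImmersion eD] (j : E ⟶ S') [IsClosedImmersion j]
    (hsq : IsPullback j eD e i)
    {τ : ((Scheme.Modules.pullback e).obj L).presheaf.obj (Opposite.op ⊤)}
    (hτ : Cyc.IsZeroSchemeOf j ((Scheme.Modules.pullback e).obj L) τ)
    (w : (ξ : S) → Cyc.secFibre L ξ) (hw : ∀ ξ, w ξ ≠ 0)
    (w' : (ξ : S') → Cyc.secFibre ((Scheme.Modules.pullback e).obj L) ξ) (hw' : ∀ ξ, w' ξ ≠ 0)
    (hE : δE = fun z => δ' (j z)) {k : ℤ} {α : AlgebraicCycle S ℤ} (hα : α ∈ Cyc.Zk S δ (k + 1)) :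
    Cyc.RatEquivZero δE k (gysHom hS' (Amp73.isInvertible_pullback e hL) τ j w' hw' (restr e α) -
      restr eD (gysHom hS hL σ i w hw α)) := by
  subst hE
  have hjS := isSetup_closedImmersion j hS'
  have hc : ShiftAt e δ' δ ((0 : ℕ) : ℤ) := by
    rw [hd]; exact shiftAt_of_hasRelDim e (hasRelDim_zero_of_finite e) (deltaCompat_preimmersion e δ)
  have hdE : (fun z => δ' (j z)) = fun z => δ (i (eD z)) := funext fun z => by
    rw [hd]
    exact congrArg δ (congrArg (fun g : E ⟶ S => g z) hsq.w)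
  have hcD : ShiftAt eD (fun z => δ' (j z)) (fun d => δ (i d)) ((0 : ℕ) : ℤ) := by
    rw [hdE]
    exact shiftAt_of_hasRelDim eD (hasRelDim_zero_of_finite eD)
      (deltaCompat_preimmersion eD (fun d => δ (i d)))
  have h := gysin_pull_square hS hS' e hc hL i hσ j hsq hτ w hw w' hw' hjS hcD hα
  rw [pullHom_eq_restr e hS' hd Nat.cast_zero hc, pullHom_eq_restr eD hjS hdE Nat.cast_zero hcD,
    show k + ((0 : ℕ) : ℤ) = k by simp] at h
  exact (mem_ratZ hjS).1 h

include hX hY hdec in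
lemma gysin (q t : Bivar.Sq f δX δY) (i : t.Y' ⟶ q.Y') [IsClosedImmersion i] (i' : t.X' ⟶ q.X')
    [IsClosedImmersion i'] (v₁ : i ≫ q.g = t.g) (v₂ : i' ≫ q.f' = t.f' ≫ i) (v₃ : i' ≫ q.g' = t.g')
    (L : q.Y'.Modules) (hL : PicF.IsInvertible L) (σ : L.presheaf.obj (Opposite.op ⊤))
    (hσ : Cyc.IsZeroSchemeOf i L σ)
    (τ : ((Scheme.Modules.pullback q.f').obj L).presheaf.obj (Opposite.op ⊤))
    (hτ : Cyc.IsZeroSchemeOf i' ((Scheme.Modules.pullback q.f').obj L) τ) (k : ℤ) :
    Bivar.GysinOK q.δY' t.δY' q.δX' t.δX' i L σ i' ((Scheme.Modules.pullback q.f').obj L) τ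
      (glueOp s hX hY hdec c q k) (glueOp s hX hY hdec c t (k - 1)) := by
  intro α hα
  obtain ⟨β, hβ, he⟩ := Bivar.exists_rep (glueOp s hX hY hdec c q k (ChowOps.cl α hα))
  refine ⟨β, hβ, he.symm, fun w hw γ hγe hγ w' hw' => ?_⟩
  have hQ := isSetup_Y' hY q
  have hQ' := isSetup_X' hX q
  have hLf := Amp73.isInvertible_pullback q.f' hL
  obtain rfl : γ = gysHom hQ hL σ i w hw α :=
    DFunLike.ext _ _ fun d => (hγe d).trans (gysHom_apply hQ hL σ i w hw α d).symm
  have hdi' := delta_closedImmersion i' (deltaCompat_h' q t i' v₃)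
  have hm : gysHom hQ' hLf τ i' w' hw' β ∈ Cyc.Zk t.X' t.δX' (k - 1 - p) := by
    rw [hdi']
    exact gysHom_mem hQ' hLf τ i' w' hw' (by rw [show k - 1 - p + 1 = k - p by ring]; exact hβ)
  refine ⟨gysHom hQ' hLf τ i' w' hw' β, hm, gysHom_apply hQ' hLf τ i' w' hw' β,
    glueOp_eq s hX hY hdec c t hγ hm fun j => ?_⟩
  have hsY := isPullback_mapY s q t i v₁ j
  have hsX := isPullback_mapX s q t i i' v₁ v₂ j
  haveI := (decompY s hdec t).isClosedImmersion j
  haveI := (decompY s hdec q).isClosedImmersion j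
  haveI := (decompX s hdec t).isClosedImmersion j
  haveI := (decompX s hdec q).isClosedImmersion j
  haveI := (decompY s hdec t).isOpen j
  haveI := (decompY s hdec q).isOpen j
  haveI := (decompX s hdec t).isOpen j
  haveI := (decompX s hdec q).isOpen j
  haveI : IsClosedImmersion (mapY s q t i v₁ j) := MorphismProperty.of_isPullback hsY inferInstance
  haveI : IsClosedImmersion (mapX s q t i i' v₁ v₂ j) := MorphismProperty.of_isPullback hsX inferInstance
  have hPY := isSetup_Y' (isSetup_Y' hY (s j)) (piece (s j) q)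
  have hPX := isSetup_X' (isSetup_X' hX (s j)) (piece (s j) q)
  have hPY' := isSetup_Y' (isSetup_Y' hY (s j)) (piece (s j) t)
  have hPX' := isSetup_X' (isSetup_X' hX (s j)) (piece (s j) t)
  have hLj := Amp73.isInvertible_pullback (toTest (s j) q) hL
  obtain ⟨u, hu⟩ := exists_secFibre_family hLj
  have hσj := isZeroSchemeOf_square (toTest (s j) q) hL hσ hsY.flip
  have hτj := isZeroSchemeOf_square (piece (s j) q).f' hLj hσj (isPullback_top (piece (s j) q) (piece (s j) t)
    _ _ (mapY_toBase s q t i v₁ j) (mapX_f' s q t i i' v₁ v₂ j) (mapX_g' s q t i i' v₁ v₂ v₃ j)).flip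
  have hNj := Amp73.isInvertible_pullback (topTest (s j) q) hLf
  obtain ⟨v, hv⟩ := exists_secFibre_family hNj
  have hνj := isZeroSchemeOf_square (topTest (s j) q) hLf hτ hsX.flip
  let e : (Scheme.Modules.pullback (topTest (s j) q)).obj ((Scheme.Modules.pullback q.f').obj L) ≅
      (Scheme.Modules.pullback (piece (s j) q).f').obj ((Scheme.Modules.pullback (toTest (s j) q)).obj L) :=
    (Scheme.Modules.pullbackComp (topTest (s j) q) q.f').app L ≪≫
      (Scheme.Modules.pullbackCongr (w₂ (s j) q)).app L ≪≫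
      ((Scheme.Modules.pullbackComp (piece (s j) q).f' (toTest (s j) q)).app L).symm
  have hdY : (piece (s j) t).δY' = fun z => (piece (s j) q).δY' (mapY s q t i v₁ j z) :=
    delta_closedImmersion _ (deltaCompat_h (piece (s j) q) (piece (s j) t) _ (mapY_toBase s q t i v₁ j))
  have hdX : (piece (s j) t).δX' = fun z => (piece (s j) q).δX' (mapX s q t i i' v₁ v₂ j z) :=
    delta_closedImmersion _ (deltaCompat_h' (piece (s j) q) (piece (s j) t) _
      (mapX_g' s q t i i' v₁ v₂ v₃ j))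
  have hmα : gysHom hPY hLj (Amp73.pullS (toTest (s j) q) L ⊤ σ) (mapY s q t i v₁ j) u hu (resY s hdec q j α) ∈
      Cyc.Zk _ (piece (s j) t).δY' (k - 1) := by
    rw [hdY]
    exact gysHom_mem hPY hLj _ _ u hu (by rw [sub_add_cancel]; exact resY_mem s hdec q j hα)
  obtain ⟨hmβ, h1⟩ := gysin_rep (isSetup_X' hX (s j)) (isSetup_Y' hY (s j)) (c j) (piece (s j) q)
    (piece (s j) t) (mapY s q t i v₁ j) (mapX s q t i i' v₁ v₂ j) (mapY_toBase s q t i v₁ j)
    (mapX_f' s q t i i' v₁ v₂ j) (mapX_g' s q t i i' v₁ v₂ v₃ j) hLj hσj hτj hNj e hνj u hu v hv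
    (resY_mem s hdec q j hα) (resX_mem s hdec q j hβ) (glueOp_spec s hX hY hdec c q hα hβ he.symm j)
    _ (gysHom_apply hPY hLj _ _ u hu _) hmα
  have g1 : Cyc.RatEquivZero (piece (s j) t).δY' (k - 1)
      (gysHom hPY hLj (Amp73.pullS (toTest (s j) q) L ⊤ σ) (mapY s q t i v₁ j) u hu (resY s hdec q j α) -
        resY s hdec t j (gysHom hQ hL σ i w hw α)) :=
    gysin_restr_square hQ hPY (toTest (s j) q) (deltaY s hdec q j) hL i hσ (mapY s q t i v₁ j) hsY.flip
      hσj w hw u hu hdY (by rw [sub_add_cancel]; exact hα)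
  have g2 : Cyc.RatEquivZero (piece (s j) t).δX' (k - 1 - p)
      (gysHom hPX hNj (Amp73.pullS (topTest (s j) q) ((Scheme.Modules.pullback q.f').obj L) ⊤ τ)
        (mapX s q t i i' v₁ v₂ j) v hv (resX s hdec q j β) -
        resX s hdec t j (gysHom hQ' hLf τ i' w' hw' β)) :=
    gysin_restr_square hQ' hPX (topTest (s j) q) (deltaX s hdec q j) hLf i' hτ (mapX s q t i i' v₁ v₂ j)
      hsX.flip hνj w' hw' v hv hdX (by rw [show k - 1 - p + 1 = k - p by ring]; exact hβ)
  rw [← cl_eq_of_ratEquiv hmα (resY_mem s hdec t j hγ) g1]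
  exact h1.trans (cl_eq_of_ratEquiv _ _ g2)

/-- The glued class. -/
def glueClass : Bivar.Cl p f δX δY where
  op := glueOp s hX hY hdec c
  push q t h _ h' _ v₁ v₂ v₃ k := push s hX hY hdec c q t h h' v₁ v₂ v₃ k
  pull q t h _ h' _ r hr hr' v₁ v₂ v₃ k := pull s hX hY hdec c q t h h' r hr hr' v₁ v₂ v₃ k
  gysin q t i _ i' _ v₁ v₂ v₃ L hL σ hσ τ hτ k := gysin s hX hY hdec c q t i i' v₁ v₂ v₃ L hL σ hσ τ hτ k

lemma ch_eq_of_isEmpty {Z : Scheme.{u}} [IsEmpty Z] {δ : Z → ℤ} {k : ℤ} (a b : ChowOps.CH Z δ k) :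
    a = b := by
  obtain ⟨α, hα, rfl⟩ := Bivar.exists_rep a
  obtain ⟨β, hβ, rfl⟩ := Bivar.exists_rep b
  exact Bivar.cl_congr (DFunLike.ext _ _ fun x => isEmptyElim x) _ _

theorem res_glueClass (j : J) : (glueClass s hX hY hdec c).res (s j) = c j := by
  refine Bivar.Cl.ext (funext fun t => funext fun k => AddMonoidHom.ext fun a => ?_)
  obtain ⟨α, hα, rfl⟩ := Bivar.exists_rep a
  obtain ⟨β, hβ, he⟩ := Bivar.exists_rep ((c j).op t k (ChowOps.cl α hα))
  rw [← he]
  refine glueOp_eq s hX hY hdec c ((s j).paste t) hα hβ fun i => ?_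
  by_cases hij : i = j
  · subst hij
    have hmono : Mono (s i).g :=
      haveI : IsOpenImmersion (s i).g := hdec.isOpen i
      inferInstance
    have u1 : toTest (s i) ((s i).paste t) ≫ t.g = toBase (s i) ((s i).paste t) := by
      rw [← cancel_mono (s i).g, Category.assoc]
      exact pullback.condition.symm
    haveI := (decompY s hdec ((s i).paste t)).isClosedImmersion i
    haveI := (decompX s hdec ((s i).paste t)).isClosedImmersion i
    haveI := (decompY s hdec ((s i).paste t)).isOpen i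
    haveI := (decompX s hdec ((s i).paste t)).isOpen i
    refine restr_rep (isSetup_X' hX (s i)) (isSetup_Y' hY (s i)) (c i) t
      (piece (s i) ((s i).paste t)) _ _ u1 pullback.condition ?_ hα hβ he.symm _ _
    refine (s i).isPullback.hom_ext ?_ ?_
    · show (topTest (s i) ((s i).paste t) ≫ t.g') ≫ (s i).f' = topBase (s i) ((s i).paste t) ≫ (s i).f'
      rw [Category.assoc, ← t.isPullback.w, ← Category.assoc, pullback.condition, Category.assoc, u1]
      exact (piece (s i) ((s i).paste t)).isPullback.w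
    · show (topTest (s i) ((s i).paste t) ≫ t.g') ≫ (s i).g' = topBase (s i) ((s i).paste t) ≫ (s i).g'
      rw [topBase_g', Category.assoc]
  · have hW : IsEmpty (piece (s i) ((s j).paste t)).Y' := ⟨fun z => hij (hdec.eq_of_mem
      ⟨toBase (s i) ((s j).paste t) z, rfl⟩ ⟨t.g (toTest (s i) ((s j).paste t) z), by
        rw [← Scheme.Hom.comp_apply, ← Scheme.Hom.comp_apply, ← Scheme.Hom.comp_apply,
          pullback.condition]⟩)⟩
    have : IsEmpty (piece (s i) ((s j).paste t)).X' :=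
      ⟨fun z => hW.false ((piece (s i) ((s j).paste t)).f' z)⟩
    exact ch_eq_of_isEmpty _ _

include hX hY hdec in
theorem res_bijective : Function.Bijective fun c : Bivar.Cl p f δX δY => fun j : J => c.res (s j) :=
  ⟨res_injective s hX hY hdec, fun c => ⟨glueClass s hX hY hdec c, funext (res_glueClass s hX hY hdec c)⟩⟩

end Groth.Agent.E4O.BivarGlue
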