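import Groth.Agent.E4O.BivarGysinLem
import Groth.Agent.E4O.BivarFlat
import Groth.Agent.Cyc90.GysinRat

/-! The Gysin class of a triple. -/

set_option autoImplicit false
set_option backward.isDefEq.respectTransparency.types false
universe u

open CategoryTheory AlgebraicGeometry TopologicalSpace Limits
open Groth.Agent.Cyc90 Groth.Agent.Cyc90.Dev Groth.Agent.E4O.BivarBasic Groth.Agent.E4O.BivarSquare
  Groth.Agent.E4O.BivarGysinLem

noncomputable section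

namespace Groth.Agent.E4O.BivarGysin

variable {X D : Scheme.{u}} {δX : X → ℤ} {δD : D → ℤ} {i : D ⟶ X} [IsClosedImmersion i]
  (hX : Cyc.IsSetup X δX) (hδ : Cyc.DeltaCompat i δD δX) {L : X.Modules} (hL : PicF.IsInvertible L)
  {σ : L.presheaf.obj (Opposite.op ⊤)} (hσ : Cyc.IsZeroSchemeOf i L σ)

/-- The pulled back module. -/
abbrev Ls (s : Bivar.Sq i δD δX) : s.Y'.Modules := (Scheme.Modules.pullback s.g).obj L

lemma closed_f' (s : Bivar.Sq i δD δX) : IsClosedImmersion s.f' :=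
  MorphismProperty.of_isPullback s.isPullback.flip inferInstance

include hL hσ in
lemma isZeroSchemeOf_τ (s : Bivar.Sq i δD δX) :
    Cyc.IsZeroSchemeOf s.f' (Ls s) (Amp73.pullS s.g L ⊤ σ) :=
  isZeroSchemeOf_square s.g hL hσ s.isPullback

include hδ in
lemma delta_f' (s : Bivar.Sq i δD δX) : s.δX' = fun d => s.δY' (s.f' d) :=
  have := closed_f' s
  delta_closedImmersion s.f' (deltaCompat_f' hδ s)

/-- Chosen sections. -/
def secS (s : Bivar.Sq i δD δX) : (ξ : s.Y') → Cyc.secFibre (Ls (L := L) s) ξ :=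
  (exists_secFibre_family (Amp73.isInvertible_pullback s.g hL)).choose

lemma secS_ne_zero (s : Bivar.Sq i δD δX) (ξ : s.Y') : secS hL s ξ ≠ 0 :=
  (exists_secFibre_family (Amp73.isInvertible_pullback s.g hL)).choose_spec ξ

variable (σ) in
/-- The Gysin map on a square. -/
def gysS (s : Bivar.Sq i δD δX) : AlgebraicCycle s.Y' ℤ →+ AlgebraicCycle s.X' ℤ :=
  haveI := closed_f' s
  gysHom (isSetup_Y' hX s) (Amp73.isInvertible_pullback s.g hL) (Amp73.pullS s.g L ⊤ σ) s.f'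
    (secS hL s) (secS_ne_zero hL s)

include hδ in
lemma gysS_mem (s : Bivar.Sq i δD δX) {k : ℤ} {α : AlgebraicCycle s.Y' ℤ}
    (hα : α ∈ Cyc.Zk s.Y' s.δY' k) : gysS hX hL σ s α ∈ Cyc.Zk s.X' s.δX' (k - 1) := by
  have := closed_f' s
  rw [delta_f' hδ s]
  exact gysHom_mem (isSetup_Y' hX s) (Amp73.isInvertible_pullback s.g hL) (Amp73.pullS s.g L ⊤ σ) s.f' (secS hL s) (secS_ne_zero hL s) (by rw [sub_add_cancel]; exact hα)

include hδ hσ in
lemma gysS_rat (s : Bivar.Sq i δD δX) {k : ℤ} {α : AlgebraicCycle s.Y' ℤ}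
    (hα : Cyc.RatEquivZero s.δY' k α) : Cyc.RatEquivZero s.δX' (k - 1) (gysS hX hL σ s α) := by
  have := closed_f' s
  rw [delta_f' hδ s]
  exact ratEquivZero_gysin (isSetup_Y' hX s) (Amp73.isInvertible_pullback s.g hL) s.f'
    (isZeroSchemeOf_τ hL hσ s) (by rw [sub_add_cancel]; exact hα) (secS hL s) (secS_ne_zero hL s) _
    (gysHom_apply (isSetup_Y' hX s) (Amp73.isInvertible_pullback s.g hL) (Amp73.pullS s.g L ⊤ σ) s.f' (secS hL s) (secS_ne_zero hL s) α)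

/-- The operation. -/
def gysOp (s : Bivar.Sq i δD δX) (k : ℤ) :
    ChowOps.CH s.Y' s.δY' k →+ ChowOps.CH s.X' s.δX' (k - 1) :=
  chHom (gysS hX hL σ s) k (k - 1) (fun _ h => gysS_mem hX hδ hL s h)
    fun _ h => gysS_rat hX hδ hL hσ s h

include hδ hσ in
lemma gysS_indep (s : Bivar.Sq i δD δX) [IsClosedImmersion s.f'] {M : s.Y'.Modules}
    (hM : PicF.IsInvertible M) (e : M ≅ Ls (L := L) s) {τ : M.presheaf.obj (Opposite.op ⊤)}
    (hτ : Cyc.IsZeroSchemeOf s.f' M τ) (w : (ξ : s.Y') → Cyc.secFibre M ξ) (hw : ∀ ξ, w ξ ≠ 0)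
    {k : ℤ} {α : AlgebraicCycle s.Y' ℤ} (hα : α ∈ Cyc.Zk s.Y' s.δY' k) :
    Cyc.RatEquivZero s.δX' (k - 1)
      (gysS hX hL σ s α - gysHom (isSetup_Y' hX s) hM τ s.f' w hw α) := by
  rw [delta_f' hδ s]
  exact gys_indep (isSetup_Y' hX s) s.f' hM (Amp73.isInvertible_pullback s.g hL) e hτ
    (isZeroSchemeOf_τ hL hσ s) w hw (secS hL s) (secS_ne_zero hL s)
    (by rw [sub_add_cancel]; exact hα)

include hX hδ hL hσ in
lemma push (s t : Bivar.Sq i δD δX) (h : t.Y' ⟶ s.Y') [IsProper h] (h' : t.X' ⟶ s.X') [IsProper h']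
    (w₁ : h ≫ s.g = t.g) (w₂ : h' ≫ s.f' = t.f' ≫ h) (w₃ : h' ≫ s.g' = t.g') (k : ℤ) :
    Bivar.PushOK t.δY' t.δX' s.δY' s.δX' h h' (gysOp hX hδ hL hσ t k) (gysOp hX hδ hL hσ s k) := by
  intro α hα
  refine ⟨gysS hX hL σ t α, gysS_mem hX hδ hL t hα, rfl, ?_⟩
  have := closed_f' s
  have := closed_f' t
  have hS := isSetup_Y' hX s
  have hT := isSetup_Y' hX t
  have hLs := Amp73.isInvertible_pullback s.g hL
  have hsq := isPullback_top s t h h' w₁ w₂ w₃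
  have hτ := isZeroSchemeOf_square h hLs (isZeroSchemeOf_τ hL hσ s) hsq
  have hLh := Amp73.isInvertible_pullback h hLs
  obtain ⟨u, hu⟩ := exists_secFibre_family hLh
  have hS' : Cyc.IsSetup s.X' s.δX' := delta_f' hδ s ▸ isSetup_closedImmersion s.f' hS
  have hT' : Cyc.IsSetup t.X' t.δX' := delta_f' hδ t ▸ isSetup_closedImmersion t.f' hT
  have h1 := gysS_indep hX hδ hL hσ t hLh
    ((Scheme.Modules.pullbackComp h s.g).app L ≪≫ (Scheme.Modules.pullbackCongr w₁).app L) hτ u hu hα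
  have h2 := gysin_map_square hS hT h (deltaCompat_h s t h w₁) hLs s.f' (isZeroSchemeOf_τ hL hσ s)
    t.f' hsq hτ (secS hL s) (secS_ne_zero hL s) u hu (k := k - 1) (by rw [sub_add_cancel]; exact hα)
  rw [mem_ratZ, ← delta_f' hδ s, ← delta_f' hδ t] at h2
  have h3 := mapHom_rat h' hT' hS' (deltaCompat_h' s t h' w₃) h1
  rw [map_sub] at h3
  refine (chHom_cl _ _ _ _ _ _).trans (cl_eq_of_ratEquiv _ _ ((mem_ratZ hS').1 ?_))
  have key := sub_mem ((mem_ratZ hS').2 h2) ((mem_ratZ hS').2 h3)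
  rwa [sub_sub_sub_cancel_right, mapHom_apply, mapHom_apply] at key

include hX hδ hL hσ in
lemma pull (s t : Bivar.Sq i δD δX) (h : t.Y' ⟶ s.Y') [Flat h] (h' : t.X' ⟶ s.X') [Flat h'] (q : ℕ)
    (hq : Cyc.HasRelDim h q) (hq' : Cyc.HasRelDim h' q)
    (w₁ : h ≫ s.g = t.g) (w₂ : h' ≫ s.f' = t.f' ≫ h) (w₃ : h' ≫ s.g' = t.g') (k : ℤ) :
    Bivar.PullOK s.δY' s.δX' t.δY' t.δX' h h' (q : ℤ) (gysOp hX hδ hL hσ s k)
      (gysOp hX hδ hL hσ t (k + q)) := by
  intro α hα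
  refine ⟨gysS hX hL σ s α, gysS_mem hX hδ hL s hα, rfl, fun α₁ he hα₁ => ?_⟩
  have := closed_f' s
  have := closed_f' t
  have hS := isSetup_Y' hX s
  have hT := isSetup_Y' hX t
  have hLs := Amp73.isInvertible_pullback s.g hL
  have hsq := isPullback_top s t h h' w₁ w₂ w₃
  have hτ := isZeroSchemeOf_square h hLs (isZeroSchemeOf_τ hL hσ s) hsq
  have hLh := Amp73.isInvertible_pullback h hLs
  obtain ⟨u, hu⟩ := exists_secFibre_family hLh
  have hT' : Cyc.IsSetup t.X' t.δX' := delta_f' hδ t ▸ isSetup_closedImmersion t.f' hT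
  have := lft_h s t h w₁
  have : LocallyOfFiniteType h' := MorphismProperty.of_isPullback hsq inferInstance
  have hc := shiftAt_of_hasRelDim h hq (deltaCompat_h s t h w₁)
  have hc' := shiftAt_of_hasRelDim h' hq' (deltaCompat_h' s t h' w₃)
  obtain rfl : α₁ = pullHom h hT hc α := DFunLike.coe_injective he
  refine ⟨pullHom h' hT' hc' (gysS hX hL σ s α), ?_, rfl,
    (chHom_cl _ _ _ _ _ _).trans (cl_eq_of_ratEquiv _ _ ?_)⟩
  · rw [show k + (q : ℤ) - 1 = k - 1 + q by ring]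
    exact pullHom_mem h' hT' hc' (gysS_mem hX hδ hL s hα)
  have h1 := gysS_indep hX hδ hL hσ t hLh
    ((Scheme.Modules.pullbackComp h s.g).app L ≪≫ (Scheme.Modules.pullbackCongr w₁).app L) hτ u hu hα₁
  obtain ⟨ζ, hζ, -, h2⟩ := BivarFlat.gysin_aux hS hT hT' h h' hc hc' hLs s.f' (isZeroSchemeOf_τ hL hσ s)
    t.f' hsq hτ (delta_f' hδ s) (delta_f' hδ t) (secS hL s) (secS_ne_zero hL s) u hu hα
    (gysS hX hL σ s α) (gysHom_apply (isSetup_Y' hX s) (Amp73.isInvertible_pullback s.g hL) (Amp73.pullS s.g L ⊤ σ) s.f' (secS hL s) (secS_ne_zero hL s) α)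
  obtain rfl : ζ = gysHom hT hLh _ t.f' u hu (pullHom h hT hc α) :=
    DFunLike.ext _ _ fun d => (hζ d).trans (gysHom_apply _ _ _ _ _ _ _ d).symm
  rw [show k - 1 + (q : ℤ) = k + q - 1 by ring] at h2
  have key := sub_mem ((mem_ratZ hT').2 h1) ((mem_ratZ hT').2 h2)
  exact (mem_ratZ hT').1 (by rwa [sub_sub_sub_cancel_right] at key)

include hX hδ hL hσ in
lemma gysin (s t : Bivar.Sq i δD δX) (i₁ : t.Y' ⟶ s.Y') [IsClosedImmersion i₁] (j : t.X' ⟶ s.X')
    [IsClosedImmersion j] (w₁ : i₁ ≫ s.g = t.g) (w₂ : j ≫ s.f' = t.f' ≫ i₁) (w₃ : j ≫ s.g' = t.g')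
    (M : s.Y'.Modules) (hM : PicF.IsInvertible M) (μ : M.presheaf.obj (Opposite.op ⊤))
    (hμ : Cyc.IsZeroSchemeOf i₁ M μ)
    (ν : ((Scheme.Modules.pullback s.f').obj M).presheaf.obj (Opposite.op ⊤))
    (hν : Cyc.IsZeroSchemeOf j ((Scheme.Modules.pullback s.f').obj M) ν) (k : ℤ) :
    Bivar.GysinOK s.δY' t.δY' s.δX' t.δX' i₁ M μ j ((Scheme.Modules.pullback s.f').obj M) ν
      (gysOp hX hδ hL hσ s k) (gysOp hX hδ hL hσ t (k - 1)) := by
  intro α hα
  refine ⟨gysS hX hL σ s α, gysS_mem hX hδ hL s hα, rfl, fun v hv γ hγ hγ' v' hv' => ?_⟩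
  have := closed_f' s
  have := closed_f' t
  have hS := isSetup_Y' hX s
  have hSX := isSetup_closedImmersion s.f' hS
  have hLs := Amp73.isInvertible_pullback s.g hL
  have hMj := Amp73.isInvertible_pullback s.f' hM
  have hsq := isPullback_top s t i₁ j w₁ w₂ w₃
  have hτ := isZeroSchemeOf_square i₁ hLs (isZeroSchemeOf_τ hL hσ s) hsq
  have hLi := Amp73.isInvertible_pullback i₁ hLs
  obtain ⟨u, hu⟩ := exists_secFibre_family hLi
  have hdi := delta_closedImmersion i₁ (deltaCompat_h s t i₁ w₁)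
  have hdj : t.δX' = fun z => s.δY' (s.f' (j z)) := by
    rw [delta_closedImmersion j (deltaCompat_h' s t j w₃), delta_f' hδ s]
  have hT' : Cyc.IsSetup t.X' t.δX' := hdj ▸ isSetup_closedImmersion j hSX
  obtain rfl : γ = gysHom hS hM μ i₁ v hv α :=
    DFunLike.ext _ _ fun d => (hγ d).trans (gysHom_apply hS hM μ i₁ v hv α d).symm
  refine ⟨gysHom hSX hMj ν j v' hv' (gysS hX hL σ s α), ?_, fun z => ?_,
    (chHom_cl _ _ _ _ _ _).trans (cl_eq_of_ratEquiv _ _ ?_)⟩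
  · rw [hdj]
    have hm := gysS_mem hX hδ hL (σ := σ) s hα
    rw [delta_f' hδ s] at hm
    exact gysHom_mem hSX hMj ν j v' hv' (by rw [sub_add_cancel]; exact hm)
  · rw [gysHom_apply, delta_f' hδ s]
  have h1 := gysS_indep hX hδ hL hσ t hLi
    ((Scheme.Modules.pullbackComp i₁ s.g).app L ≪≫ (Scheme.Modules.pullbackCongr w₁).app L) hτ u hu hγ'
  have h2 := gys_cast (hS := hS) hdi hdj (isSetup_Y' hX t) hT'
    (gysin_gysin_square hS hLs hM s.f' i₁ (isZeroSchemeOf_τ hL hσ s) hμ j t.f' hsq.flip hν hτ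
      (secS hL s) (secS_ne_zero hL s) v hv v' hv' u hu hα)
  rw [show k - 2 = k - 1 - 1 by ring] at h2
  have key := sub_mem ((mem_ratZ hT').2 h1) ((mem_ratZ hT').2 h2)
  exact (mem_ratZ hT').1 (by rwa [sub_sub_sub_cancel_right] at key)
where
  gys_cast {S D E D' : Scheme.{u}} {δ : S → ℤ} {δD : D → ℤ} {δE : E → ℤ} {hS : Cyc.IsSetup S δ}
      {i : D ⟶ S} [IsClosedImmersion i] {p' : E ⟶ D} [IsClosedImmersion p'] {i' : D' ⟶ S}
      [IsClosedImmersion i'] {p : E ⟶ D'} [IsClosedImmersion p]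
      {A : AlgebraicCycle E ℤ} {B : AlgebraicCycle D ℤ} {k : ℤ}
      {M : D.Modules} {hM : PicF.IsInvertible M} {τ : M.presheaf.obj (Opposite.op ⊤)}
      {u : (ξ : D) → Cyc.secFibre M ξ} {hu : ∀ ξ, u ξ ≠ 0}
      (hdi : δD = fun d => δ (i d)) (hdj : δE = fun z => δ (i' (p z)))
      (hD : Cyc.IsSetup D δD) (hE : Cyc.IsSetup E δE)
      (h : A - gysHom (isSetup_closedImmersion i hS) hM τ p' u hu B ∈
        ratZ (isSetup_closedImmersion p (isSetup_closedImmersion i' hS)) k) :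
      Cyc.RatEquivZero δE k (A - gysHom hD hM τ p' u hu B) := by
    subst hdi hdj
    exact h

include hX hδ hL hσ in
/-- The Gysin class. -/
def gysinClass : Bivar.Cl 1 i δD δX where
  op := gysOp hX hδ hL hσ
  push s t h _ h' _ w₁ w₂ w₃ k := push hX hδ hL hσ s t h h' w₁ w₂ w₃ k
  pull s t h _ h' _ q hq hq' w₁ w₂ w₃ k := pull hX hδ hL hσ s t h h' q hq hq' w₁ w₂ w₃ k
  gysin s t i₁ _ j _ w₁ w₂ w₃ M hM μ hμ ν hν k := gysin hX hδ hL hσ s t i₁ j w₁ w₂ w₃ M hM μ hμ ν hν k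

theorem isGysinClass_gysinClass : Bivar.IsGysinClass i L σ (gysinClass hX hδ hL hσ) := by
  refine ⟨hL, hσ, hδ, fun s τ hτ k α hα w hw γ hγ hγ' => ?_⟩
  show ChowOps.cl (gysS hX hL σ s α) (gysS_mem hX hδ hL s hα) = _
  have := closed_f' s
  obtain rfl : γ = gysHom (isSetup_Y' hX s) (Amp73.isInvertible_pullback s.g hL) τ s.f' w hw α :=
    DFunLike.ext _ _ fun d => (hγ d).trans (gysHom_apply _ _ _ _ _ _ _ d).symm
  exact cl_eq_of_ratEquiv _ _ (gysS_indep hX hδ hL hσ s _ (Iso.refl _) hτ w hw hα)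

end Groth.Agent.E4O.BivarGysin
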