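import Groth.Agent.E4O.BivarSquare

/-! Gysin maps: change of the section and of the module, and proper pushforward in a square. -/

set_option autoImplicit false
set_option backward.isDefEq.respectTransparency.types false
universe u

open CategoryTheory AlgebraicGeometry TopologicalSpace Limits
open Groth.Agent.Cyc90 Groth.Agent.Cyc90.Dev Groth.Agent.E4O.BivarBasic Groth.Agent.E4O.BivarSquare

noncomputable section

namespace Groth.Agent.E4O.BivarGysinLem

variable {S S' D E : Scheme.{u}} {δ : S → ℤ} {δ' : S' → ℤ}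

lemma fibreMap_germ {M N : S.Modules} (φ : M ⟶ N) (σ : M.presheaf.obj (Opposite.op ⊤)) (x : S) :
    fibreMap φ x (Submodule.Quotient.mk (M.presheaf.germ ⊤ x trivial σ)) =
      Submodule.Quotient.mk (N.presheaf.germ ⊤ x trivial (φ.app ⊤ σ)) := by
  rw [fibreMap_mk]
  exact congrArg _ (QC70.stalkMapM_germ φ (show x ∈ (⊤ : S.Opens) from trivial) σ)

/-- Zero schemes are insensitive to isomorphisms of the module. -/
lemma isZeroSchemeOf_modIso {M N : S.Modules} (e : M ≅ N) {σ : M.presheaf.obj (Opposite.op ⊤)}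
    {i : D ⟶ S} (h : Cyc.IsZeroSchemeOf i M σ) : Cyc.IsZeroSchemeOf i N (e.hom.app ⊤ σ) := by
  refine ⟨h.1.trans (Set.ext fun x => ?_), fun d => ?_⟩
  · simp only [Set.mem_setOf_eq]
    rw [← fibreMap_germ e.hom σ x]
    exact ⟨fun hx => by rw [hx, map_zero], fun hx => by_contra fun hne => fibreMap_ne_zero e x hne hx⟩
  · obtain ⟨t, f, ht, hf, hker⟩ := h.2 d
    let φ := QC70.stalkLinear e.hom (i d)
    have hsurj : Function.Surjective φ := fun y => ⟨QC70.stalkLinear e.inv (i d) y, by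
      obtain ⟨W, hW, s, rfl⟩ := QC70.germM_exist y
      show QC70.stalkMapM e.hom (i d) (QC70.stalkMapM e.inv (i d) (QC70.germM N W (i d) hW s)) = _
      rw [QC70.stalkMapM_germ, QC70.stalkMapM_germ, ← ConcreteCategory.comp_apply,
        ← Scheme.Modules.Hom.comp_app, e.inv_hom_id]
      rfl⟩
    refine ⟨φ t, f, ?_, ?_, hker⟩
    · rw [← Set.image_singleton, Submodule.span_image, ht, Submodule.map_top, LinearMap.range_eq_top.2 hsurj]
    · rw [← map_smul, ← hf]
      exact (QC70.stalkMapM_germ e.hom (show i d ∈ (⊤ : S.Opens) from trivial) σ).symm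

/-- The Gysin map depends only on the zero scheme and the class of the module. -/
theorem gys_indep (hS : Cyc.IsSetup S δ) (i : D ⟶ S) [IsClosedImmersion i] {M N : S.Modules}
    (hM : PicF.IsInvertible M) (hN : PicF.IsInvertible N) (e : M ≅ N)
    {σ : M.presheaf.obj (Opposite.op ⊤)} (hσ : Cyc.IsZeroSchemeOf i M σ)
    {τ : N.presheaf.obj (Opposite.op ⊤)} (hτ : Cyc.IsZeroSchemeOf i N τ)
    (w : (ξ : S) → Cyc.secFibre M ξ) (hw : ∀ ξ, w ξ ≠ 0)
    (w' : (ξ : S) → Cyc.secFibre N ξ) (hw' : ∀ ξ, w' ξ ≠ 0)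
    {k : ℤ} {α : AlgebraicCycle S ℤ} (hα : α ∈ Cyc.Zk S δ (k + 1)) :
    gysHom hS hN τ i w' hw' α - gysHom hS hM σ i w hw α ∈ ratZ (isSetup_closedImmersion i hS) k := by
  refine ratEquiv_restrict_c1Cap hS i hN k α hα _ _ (gysinChoice_ne_zero τ w' hw')
    (fun ξ => fibreMap_ne_zero e ξ (gysinChoice_ne_zero σ w hw ξ)) (fun ξ hξ x => ?_) _ _
    (gysHom_apply hS hN τ i w' hw' α) (fun d => ?_)
  · rw [gysinChoice_of_notMem hτ w' hξ, gysinChoice_of_notMem hσ w hξ, fibreMap_germ]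
    exact secDivFun_eq_of_zeroScheme hS hN hτ (isZeroSchemeOf_modIso e hσ) hξ x
  · rw [gysHom_apply, ← coe_cap1 hS hM _ (gysinChoice_ne_zero σ w hw) α,
      ← cap1_iso hS hM hN e _ (gysinChoice_ne_zero σ w hw) α, coe_cap1]

lemma map_closed_square {S S' D E : Scheme.{u}} {f : S' ⟶ S} [QuasiCompact f] {i : D ⟶ S}
    [IsClosedImmersion i] {fD : E ⟶ D} [QuasiCompact fD] {j : E ⟶ S'} [IsClosedImmersion j]
    (hsq : IsPullback j fD f i) (δ' : S' → ℤ) (δ : S → ℤ) (γ : AlgebraicCycle S' ℤ) (d : D) :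
    AlgebraicCycle.map f δ' δ γ (i d) =
      AlgebraicCycle.map fD (fun e => δ' (j e)) (fun d => δ (i d)) (restrictClosed j γ) d := by
  have hw : ∀ z : E, i (fD z) = f (j z) := fun z => (congrArg (fun k : E ⟶ S => k z) hsq.w).symm
  rw [map_apply_eq, map_apply_eq,
    show f ⁻¹' {i d} = j '' (fD ⁻¹' {d}) from Set.ext fun x => by
      constructor
      · intro hx
        obtain ⟨z, rfl⟩ : x ∈ Set.range j := by
          by_contra hn
          exact notMem_range_of_square hsq hn ⟨d, hx.symm⟩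
        exact ⟨z, i.isClosedEmbedding.injective ((hw z).trans hx), rfl⟩
      · rintro ⟨z, hz, rfl⟩
        exact (hw z).symm.trans (congrArg _ hz),
    finsum_mem_image j.isClosedEmbedding.injective.injOn]
  refine finsum_mem_congr rfl fun z _ => ?_
  rw [restrictClosed_apply, hw,
    residueDegree_preimmersion_square j i fD f hsq.w.symm z]

/-- Gysin maps commute with proper pushforward in a cartesian square. -/
theorem gysin_map_square (hS : Cyc.IsSetup S δ) (hS' : Cyc.IsSetup S' δ') (f : S' ⟶ S) [IsProper f]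
    (hδ : Cyc.DeltaCompat f δ' δ) {L : S.Modules} (hL : PicF.IsInvertible L)
    {σ : L.presheaf.obj (Opposite.op ⊤)} (i : D ⟶ S) [IsClosedImmersion i] (hσ : Cyc.IsZeroSchemeOf i L σ)
    {fD : E ⟶ D} [IsProper fD] (j : E ⟶ S') [IsClosedImmersion j] (hsq : IsPullback j fD f i)
    {τ : ((Scheme.Modules.pullback f).obj L).presheaf.obj (Opposite.op ⊤)}
    (hτ : Cyc.IsZeroSchemeOf j ((Scheme.Modules.pullback f).obj L) τ)
    (w : (ξ : S) → Cyc.secFibre L ξ) (hw : ∀ ξ, w ξ ≠ 0)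
    (w' : (ξ : S') → Cyc.secFibre ((Scheme.Modules.pullback f).obj L) ξ) (hw' : ∀ ξ, w' ξ ≠ 0)
    {k : ℤ} {α : AlgebraicCycle S' ℤ} (hα : α ∈ Cyc.Zk S' δ' (k + 1)) :
    gysHom hS hL σ i w hw (mapHom f δ' δ α) -
      mapHom fD (fun e => δ' (j e)) (fun d => δ (i d))
        (gysHom hS' (Amp73.isInvertible_pullback f hL) τ j w' hw' α) ∈
      ratZ (isSetup_closedImmersion i hS) k := by
  have hv := gysinChoice_ne_zero σ w hw
  have hLp := Amp73.isInvertible_pullback f hL
  have hr : restrictClosed j (cap1 hS' hLp (pullSec f hL _ hv) (pullSec_ne_zero f hL _ hv) α) -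
      gysHom hS' hLp τ j w' hw' α ∈ ratZ (isSetup_closedImmersion j hS') k := by
    refine ratEquiv_restrict_c1Cap hS' j hLp k α hα _ _ (pullSec_ne_zero f hL _ hv)
      (gysinChoice_ne_zero τ w' hw') (fun ξ hξ x => ?_) _ _ (fun z => ?_) (gysHom_apply hS' hLp τ j w' hw' α)
    · rw [pullSec_eq_germ f hL _ hv σ ξ (gysinChoice_of_notMem hσ w (notMem_range_of_square hsq hξ)),
        gysinChoice_of_notMem hτ w' hξ]
      exact secDivFun_eq_of_zeroScheme hS' hLp (isZeroSchemeOf_square f hL hσ hsq) hτ hξ x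
    · rw [restrictClosed_apply, coe_cap1]
  have hmap := map_c1Cap hS' hS f hδ hL α _ hv
    (cap1 hS' hLp (pullSec f hL _ hv) (pullSec_ne_zero f hL _ hv) α) (coe_cap1 _ _ _ _ _)
  have e1 : gysHom hS hL σ i w hw (mapHom f δ' δ α) = mapHom fD (fun e => δ' (j e)) (fun d => δ (i d))
      (restrictClosed j (cap1 hS' hLp (pullSec f hL _ hv) (pullSec_ne_zero f hL _ hv) α)) :=
    DFunLike.ext _ _ fun d => by
      rw [gysHom_apply, mapHom_apply, mapHom_apply, ← congrFun hmap (i d)]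
      exact map_closed_square hsq δ' δ _ d
  rw [e1, ← map_sub]
  refine mapHom_rat fD (isSetup_closedImmersion j hS') (isSetup_closedImmersion i hS) ?_ hr
  exact deltaCompat_square j i fD f hsq.w.symm hδ

/-- Two Gysin maps commute in a cartesian square. -/
theorem gysin_gysin_square {D' E' : Scheme.{u}} (hS : Cyc.IsSetup S δ) {L L' : S.Modules}
    (hL : PicF.IsInvertible L) (hL' : PicF.IsInvertible L') {s : L.presheaf.obj (Opposite.op ⊤)}
    {s' : L'.presheaf.obj (Opposite.op ⊤)} (i : D ⟶ S) (i' : D' ⟶ S) [IsClosedImmersion i]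
    [IsClosedImmersion i'] (hD : Cyc.IsZeroSchemeOf i L s) (hD' : Cyc.IsZeroSchemeOf i' L' s')
    (p : E' ⟶ D) (p' : E' ⟶ D') [IsClosedImmersion p] [IsClosedImmersion p'] (hsq : IsPullback p p' i i')
    {σ' : ((Scheme.Modules.pullback i).obj L').presheaf.obj (Opposite.op ⊤)}
    (hσ' : Cyc.IsZeroSchemeOf p ((Scheme.Modules.pullback i).obj L') σ')
    {σ : ((Scheme.Modules.pullback i').obj L).presheaf.obj (Opposite.op ⊤)}
    (hσ : Cyc.IsZeroSchemeOf p' ((Scheme.Modules.pullback i').obj L) σ)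
    (w : (ξ : S) → Cyc.secFibre L ξ) (hw : ∀ ξ, w ξ ≠ 0)
    (w' : (ξ : S) → Cyc.secFibre L' ξ) (hw' : ∀ ξ, w' ξ ≠ 0)
    (w₁ : (d : D) → Cyc.secFibre ((Scheme.Modules.pullback i).obj L') d) (hw₁ : ∀ d, w₁ d ≠ 0)
    (w₂ : (d : D') → Cyc.secFibre ((Scheme.Modules.pullback i').obj L) d) (hw₂ : ∀ d, w₂ d ≠ 0)
    {k : ℤ} {α : AlgebraicCycle S ℤ} (hα : α ∈ Cyc.Zk S δ k) :
    gysHom (isSetup_closedImmersion i hS) (Amp73.isInvertible_pullback i hL') σ' p w₁ hw₁
        (gysHom hS hL s i w hw α) -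
      gysHom (isSetup_closedImmersion i' hS) (Amp73.isInvertible_pullback i' hL) σ p' w₂ hw₂
        (gysHom hS hL' s' i' w' hw' α) ∈
      ratZ (isSetup_closedImmersion p (isSetup_closedImmersion i hS)) (k - 2) := by
  have hE := isSetup_closedImmersion p (isSetup_closedImmersion i hS)
  let e := hsq.isoPullback
  have e1 : e.inv ≫ p = pullback.fst i i' := hsq.isoPullback_inv_fst
  have e2 : e.inv ≫ p' = pullback.snd i i' := hsq.isoPullback_inv_snd
  have z1 : Cyc.IsZeroSchemeOf (pullback.fst i i') ((Scheme.Modules.pullback i).obj L') σ' :=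
    e1 ▸ isZeroSchemeOf_precomp_iso hσ' e.symm
  have z2 : Cyc.IsZeroSchemeOf (pullback.snd i i') ((Scheme.Modules.pullback i').obj L) σ :=
    e2 ▸ isZeroSchemeOf_precomp_iso hσ e.symm
  set ζ₁ := gysHom (isSetup_closedImmersion i hS) (Amp73.isInvertible_pullback i hL') σ' p w₁ hw₁
    (gysHom hS hL s i w hw α) with hz1
  set ζ₂ := gysHom (isSetup_closedImmersion i' hS) (Amp73.isInvertible_pullback i' hL) σ p' w₂ hw₂
    (gysHom hS hL' s' i' w' hw' α) with hz2
  have h := ratEquiv_gysin_gysin hS hL hL' s s' i i' hD hD' σ' z1 σ z2 k α hα w hw w' hw' w₁ hw₁ w₂ hw₂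
    ⇑(gysHom hS hL s i w hw α) (funext (gysHom_apply hS hL s i w hw α))
    ⇑(gysHom hS hL' s' i' w' hw' α) (funext (gysHom_apply hS hL' s' i' w' hw' α))
    (restrictClosed e.inv ζ₁) (restrictClosed e.inv ζ₂)
    (fun z => by rw [restrictClosed_apply, hz1, gysHom_apply, ← Scheme.Hom.comp_apply, e1])
    (fun z => by rw [restrictClosed_apply, hz2, gysHom_apply, ← Scheme.Hom.comp_apply, e2])
  have hd : (fun z : ↑(pullback i i') => δ (i (pullback.fst i i' z))) =
      fun z => δ (i (p (e.inv z))) := funext fun z => by rw [← e1, Scheme.Hom.comp_apply]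
  rw [hd] at h
  have h2 := mapHom_rat e.inv (isSetup_closedImmersion e.inv hE) hE (deltaCompat_preimmersion e.inv (fun x => δ (i (p x)))) h
  have h3 : ∀ ζ : AlgebraicCycle E' ℤ,
      mapHom e.inv (fun z => δ (i (p (e.inv z)))) (fun x => δ (i (p x))) (restrictClosed e.inv ζ) = ζ :=
    fun ζ => DFunLike.ext _ _ fun x => by
      obtain ⟨z, rfl⟩ : ∃ z, e.inv z = x :=
        ⟨e.hom x, by rw [← Scheme.Hom.comp_apply, e.hom_inv_id]; rfl⟩
      rw [mapHom_apply]
      exact (map_closedImmersion_image e.inv (fun x => δ (i (p x))) (restrictClosed e.inv ζ) z).trans (restrictClosed_apply _ _ _)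
  rw [map_sub, h3, h3] at h2
  exact h2

end Groth.Agent.E4O.BivarGysinLem
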