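import Groth.Agent.E4O.BivarRep

/-! The proper pushforward of a bivariant class. -/

set_option autoImplicit false
set_option backward.isDefEq.respectTransparency.types false
universe u

open CategoryTheory AlgebraicGeometry TopologicalSpace Limits
open Groth.Agent.Cyc90 Groth.Agent.Cyc90.Dev Groth.Agent.E4O.BivarBasic Groth.Agent.E4O.BivarSquare
  Groth.Agent.E4O.BivarGysinLem Groth.Agent.E4O.BivarRep

noncomputable section

namespace Groth.Agent.E4O.BivarPush

variable {X Y Z : Scheme.{u}} {δX : X → ℤ} {δY : Y → ℤ} {δZ : Z → ℤ} {f : X ⟶ Y} [IsProper f]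
  {g : Y ⟶ Z} {p : ℤ} (hX : Cyc.IsSetup X δX) (hY : Cyc.IsSetup Y δY) (hZ : Cyc.IsSetup Z δZ)
  (hδ : Cyc.DeltaCompat f δX δY) (c : Bivar.Cl p (f ≫ g) δX δZ)

/-- The projection of the fibre product to the test scheme over `Y`. -/
abbrev fX (s : Bivar.Sq g δY δZ) : pullback s.g' f ⟶ s.X' := pullback.fst s.g' f

/-- The square over the composite. -/
abbrev sqX (s : Bivar.Sq g δY δZ) : Bivar.Sq (f ≫ g) δX δZ where
  Y' := s.Y'
  X' := pullback s.g' f
  g := s.g
  f' := fX (f := f) s ≫ s.f'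
  g' := pullback.snd s.g' f
  isPullback := (IsPullback.of_hasPullback s.g' f).paste_horiz s.isPullback
  lft := s.lft
  δY' := s.δY'
  δX' := upDelta (pullback.snd s.g' f) δX
  compatY := s.compatY
  compatX :=
    haveI := lft_g' s
    deltaCompat_upDelta (pullback.snd s.g' f) δX

include hδ in
lemma deltaCompat_fX (s : Bivar.Sq g δY δZ) :
    Cyc.DeltaCompat (fX (f := f) s) (sqX (δX := δX) (f := f) s).δX' s.δX' :=
  deltaCompat_square_top pullback.condition hδ s.compatX (sqX (δX := δX) (f := f) s).compatX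

include hX hY hδ in
lemma rat_fX (s : Bivar.Sq g δY δZ) {k : ℤ} {β : AlgebraicCycle (sqX (δX := δX) (f := f) s).X' ℤ}
    (h : Cyc.RatEquivZero (sqX (δX := δX) (f := f) s).δX' k β) :
    Cyc.RatEquivZero s.δX' k (mapHom (fX (f := f) s) (sqX (δX := δX) (f := f) s).δX' s.δX' β) :=
  mapHom_rat _ (isSetup_X' hX _) (isSetup_X' hY s) (deltaCompat_fX hδ s) h

/-- Pushforward of classes to the test scheme over `Y`. -/
def chPush (s : Bivar.Sq g δY δZ) (k : ℤ) :
    ChowOps.CH (sqX (δX := δX) (f := f) s).X' (sqX (δX := δX) (f := f) s).δX' k →+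
      ChowOps.CH s.X' s.δX' k :=
  chHom (mapHom (fX (f := f) s) (sqX (δX := δX) (f := f) s).δX' s.δX') k k
    (fun _ h => mapHom_mem _ h) fun _ h => rat_fX hX hY hδ s h

/-- The operation. -/
def pushOp (s : Bivar.Sq g δY δZ) (k : ℤ) :
    ChowOps.CH s.Y' s.δY' k →+ ChowOps.CH s.X' s.δX' (k - p) :=
  (chPush hX hY hδ s (k - p)).comp (c.op (sqX s) k)

lemma pushOp_cl (s : Bivar.Sq g δY δZ) {k : ℤ} {α : AlgebraicCycle s.Y' ℤ}
    (hα : α ∈ Cyc.Zk s.Y' s.δY' k) {β : AlgebraicCycle (sqX (δX := δX) (f := f) s).X' ℤ}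
    (hβ : β ∈ Cyc.Zk _ (sqX (δX := δX) (f := f) s).δX' (k - p))
    (he : c.op (sqX s) k (ChowOps.cl α hα) = ChowOps.cl β hβ) :
    pushOp hX hY hδ c s k (ChowOps.cl α hα) =
      ChowOps.cl (mapHom (fX (f := f) s) _ s.δX' β) (mapHom_mem _ hβ) := by
  rw [pushOp, AddMonoidHom.comp_apply, he]
  rfl

section Maps

variable (s t : Bivar.Sq g δY δZ) (h : t.Y' ⟶ s.Y') (h' : t.X' ⟶ s.X') (w₁ : h ≫ s.g = t.g)
  (w₂ : h' ≫ s.f' = t.f' ≫ h) (w₃ : h' ≫ s.g' = t.g')

/-- The induced map of fibre products. -/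
def upMap : pullback t.g' f ⟶ pullback s.g' f :=
  pullback.lift (pullback.fst t.g' f ≫ h') (pullback.snd t.g' f)
    (by rw [Category.assoc, w₃]; exact pullback.condition)

lemma upMap_fst : upMap (f := f) s t h' w₃ ≫ fX (f := f) s = fX (f := f) t ≫ h' := pullback.lift_fst _ _ _

lemma upMap_snd : upMap (f := f) s t h' w₃ ≫ pullback.snd s.g' f = pullback.snd t.g' f :=
  pullback.lift_snd _ _ _

lemma isPullback_up : IsPullback (fX (f := f) t) (upMap (f := f) s t h' w₃) h' (fX (f := f) s) :=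
  IsPullback.of_bot (by
    rw [upMap_snd, w₃]
    exact IsPullback.of_hasPullback t.g' f) (upMap_fst s t h' w₃).symm
    (IsPullback.of_hasPullback s.g' f)

include w₂ in
lemma upMap_f' : upMap (f := f) s t h' w₃ ≫ (sqX (δX := δX) (f := f) s).f' =
    (sqX (δX := δX) (f := f) t).f' ≫ h := by
  show upMap (f := f) s t h' w₃ ≫ fX (f := f) s ≫ s.f' = (fX (f := f) t ≫ t.f') ≫ h
  rw [← Category.assoc, upMap_fst, Category.assoc, w₂, Category.assoc]

end Maps

include hX hY hδ in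
lemma push (s t : Bivar.Sq g δY δZ) (h : t.Y' ⟶ s.Y') [IsProper h] (h' : t.X' ⟶ s.X') [IsProper h']
    (w₁ : h ≫ s.g = t.g) (w₂ : h' ≫ s.f' = t.f' ≫ h) (w₃ : h' ≫ s.g' = t.g') (k : ℤ) :
    Bivar.PushOK t.δY' t.δX' s.δY' s.δX' h h' (pushOp hX hY hδ c t k) (pushOp hX hY hδ c s k) := by
  intro α hα
  obtain ⟨β, hβ, he⟩ := Bivar.exists_rep (c.op (sqX t) k (ChowOps.cl α hα))
  refine ⟨mapHom (fX (f := f) t) _ t.δX' β, mapHom_mem _ hβ, pushOp_cl hX hY hδ c t hα hβ he.symm, ?_⟩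
  have hsq := isPullback_up (f := f) s t h' w₃
  have : IsProper (upMap (f := f) s t h' w₃) := MorphismProperty.of_isPullback hsq inferInstance
  have h1 := push_rep hX c (sqX s) (sqX t) h (upMap (f := f) s t h' w₃) w₁ (upMap_f' s t h h' w₂ w₃)
    (upMap_snd s t h' w₃) hα hβ he.symm
  refine (pushOp_cl hX hY hδ c s _ _ h1).trans (Bivar.cl_congr ?_ _ _)
  rw [mapHom_apply, mapHom_apply, Div89.map_map (upMap (f := f) s t h' w₃) (fX (f := f) s) ?_
    (deltaCompat_fX hδ s), Div89.map_map (fX (f := f) t) h' (deltaCompat_fX hδ t) (deltaCompat_h' s t h' w₃)]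
  · simp only [upMap_fst]
  · exact deltaCompat_h' (sqX (δX := δX) (f := f) s) (sqX t) _ (upMap_snd s t h' w₃)

include hX hY hδ in
lemma pull (s t : Bivar.Sq g δY δZ) (h : t.Y' ⟶ s.Y') [Flat h] (h' : t.X' ⟶ s.X') [Flat h'] (q : ℕ)
    (hq : Cyc.HasRelDim h q) (hq' : Cyc.HasRelDim h' q)
    (w₁ : h ≫ s.g = t.g) (w₂ : h' ≫ s.f' = t.f' ≫ h) (w₃ : h' ≫ s.g' = t.g') (k : ℤ) :
    Bivar.PullOK s.δY' s.δX' t.δY' t.δX' h h' (q : ℤ) (pushOp hX hY hδ c s k)
      (pushOp hX hY hδ c t (k + q)) := by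
  intro α hα
  obtain ⟨β, hβ, he⟩ := Bivar.exists_rep (c.op (sqX s) k (ChowOps.cl α hα))
  refine ⟨mapHom (fX (f := f) s) _ s.δX' β, mapHom_mem _ hβ, pushOp_cl hX hY hδ c s hα hβ he.symm,
    fun α₁ he₁ hα₁ => ?_⟩
  have hsq := isPullback_up (f := f) s t h' w₃
  have hsqX := isPullback_top (sqX (δX := δX) (f := f) s) (sqX t) h (upMap (f := f) s t h' w₃) w₁
    (upMap_f' s t h h' w₂ w₃) (upMap_snd s t h' w₃)
  have : Flat (upMap (f := f) s t h' w₃) := MorphismProperty.of_isPullback hsq inferInstance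
  have := lft_h s t h w₁
  have : LocallyOfFiniteType (upMap (f := f) s t h' w₃) := MorphismProperty.of_isPullback hsqX inferInstance
  have := lft_g' t
  have : LocallyOfFiniteType (h' ≫ s.g') := by rw [w₃]; infer_instance
  have : LocallyOfFiniteType h' := locallyOfFiniteType_of_comp h' s.g'
  have hru : Cyc.HasRelDim (upMap (f := f) s t h' w₃) q := FibDim94.hasRelDim_of_isPullback hsq hq'
  have hc := shiftAt_of_hasRelDim (upMap (f := f) s t h' w₃) hru
    (deltaCompat_h' (sqX (δX := δX) (f := f) s) (sqX t) _ (upMap_snd s t h' w₃))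
  have hc' := shiftAt_of_hasRelDim h' hq' (deltaCompat_h' s t h' w₃)
  have hm : pullHom _ (isSetup_X' hX (sqX t)) hc β ∈
      Cyc.Zk _ (sqX (δX := δX) (f := f) t).δX' (k + q - p) := by
    rw [show k + (q : ℤ) - p = k - p + q by ring]; exact pullHom_mem _ _ _ hβ
  have h1 := pull_rep hX c (sqX s) (sqX t) h (upMap (f := f) s t h' w₃) q hq hru w₁
    (upMap_f' s t h h' w₂ w₃) (upMap_snd s t h' w₃) hc hα hβ he.symm α₁ he₁ hα₁ hm
  refine ⟨pullHom h' (isSetup_X' hY t) hc' (mapHom (fX (f := f) s) _ s.δX' β), ?_, rfl, ?_⟩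
  · rw [show k + (q : ℤ) - p = k - p + q by ring]; exact pullHom_mem _ _ _ (mapHom_mem _ hβ)
  have := (isSetup_X' hY t).1
  exact (pushOp_cl hX hY hδ c t hα₁ hm h1).trans (Bivar.cl_congr
    (pull_map_square hsq (isSetup_X' hY t) (isSetup_X' hX (sqX t)) (deltaCompat_fX hδ s) (deltaCompat_fX hδ t)
      hc' hc β).symm _ _)

include hX hY hZ hδ in
lemma gysin (s t : Bivar.Sq g δY δZ) (i : t.Y' ⟶ s.Y') [IsClosedImmersion i] (j : t.X' ⟶ s.X')
    [IsClosedImmersion j] (w₁ : i ≫ s.g = t.g) (w₂ : j ≫ s.f' = t.f' ≫ i) (w₃ : j ≫ s.g' = t.g')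
    (L : s.Y'.Modules) (hL : PicF.IsInvertible L) (σ : L.presheaf.obj (Opposite.op ⊤))
    (hσ : Cyc.IsZeroSchemeOf i L σ)
    (τ : ((Scheme.Modules.pullback s.f').obj L).presheaf.obj (Opposite.op ⊤))
    (hτ : Cyc.IsZeroSchemeOf j ((Scheme.Modules.pullback s.f').obj L) τ) (k : ℤ) :
    Bivar.GysinOK s.δY' t.δY' s.δX' t.δX' i L σ j ((Scheme.Modules.pullback s.f').obj L) τ
      (pushOp hX hY hδ c s k) (pushOp hX hY hδ c t (k - 1)) := by
  intro α hα
  obtain ⟨β, hβ, he⟩ := Bivar.exists_rep (c.op (sqX s) k (ChowOps.cl α hα))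
  refine ⟨mapHom (fX (f := f) s) _ s.δX' β, mapHom_mem _ hβ, pushOp_cl hX hY hδ c s hα hβ he.symm,
    fun w hw γ hγe hγ w' hw' => ?_⟩
  have hsq := isPullback_up (f := f) s t j w₃
  have : IsClosedImmersion (upMap (f := f) s t j w₃) := MorphismProperty.of_isPullback hsq inferInstance
  have hLf := Amp73.isInvertible_pullback s.f' hL
  have hLff := Amp73.isInvertible_pullback (fX (f := f) s) hLf
  obtain ⟨v, hv⟩ := exists_secFibre_family hLff
  have hν := isZeroSchemeOf_square (fX (f := f) s) hLf hτ hsq.flip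
  let e : (Scheme.Modules.pullback (fX (f := f) s)).obj ((Scheme.Modules.pullback s.f').obj L) ≅
      (Scheme.Modules.pullback (sqX (δX := δX) (f := f) s).f').obj L :=
    (Scheme.Modules.pullbackComp (fX (f := f) s) s.f').app L
  obtain ⟨hm, h1⟩ := gysin_rep hX hZ c (sqX s) (sqX t) i (upMap (f := f) s t j w₃) w₁
    (upMap_f' s t i j w₂ w₃) (upMap_snd s t j w₃) hL hσ (isZeroSchemeOf_modIso e hν) hLff e hν
    w hw v hv hα hβ he.symm γ hγe hγ
  have hS' := isSetup_X' hY s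
  refine ⟨gysHom hS' hLf τ j w' hw' (mapHom (fX (f := f) s) _ s.δX' β), ?_,
    gysHom_apply hS' hLf τ j w' hw' _,
    (pushOp_cl hX hY hδ c t hγ hm h1).trans (cl_eq_of_ratEquiv _ _ ?_)⟩
  · rw [delta_closedImmersion j (deltaCompat_h' s t j w₃)]
    exact gysHom_mem hS' hLf τ j w' hw' (by
      rw [show k - 1 - p + 1 = k - p by ring]; exact mapHom_mem _ hβ)
  · exact gys_map_cast hS' (isSetup_X' hX _) (fX (f := f) t)
      (delta_closedImmersion j (deltaCompat_h' s t j w₃))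
      (delta_closedImmersion (upMap (f := f) s t j w₃)
        (deltaCompat_h' (sqX (δX := δX) (f := f) s) (sqX t) _ (upMap_snd s t j w₃)))
      (gysin_map_square hS' (isSetup_X' hX (sqX s)) (fX (f := f) s) (deltaCompat_fX hδ s) hLf j hτ
        (fD := fX (f := f) t) (upMap (f := f) s t j w₃) hsq.flip hν w' hw' v hv (k := k - 1 - p)
        (by rw [show k - 1 - p + 1 = k - p by ring]; exact hβ))
where
  gys_map_cast {S' E S D : Scheme.{u}} {δ' : S' → ℤ} {δE : E → ℤ} {δ : S → ℤ} {δD : D → ℤ}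
      (hS : Cyc.IsSetup S δ) (_ : Cyc.IsSetup S' δ') (fD : E ⟶ D) [IsProper fD] {i : D ⟶ S}
      [IsClosedImmersion i] {j : E ⟶ S'} [IsClosedImmersion j] {k : ℤ} {A : AlgebraicCycle D ℤ}
      {B : AlgebraicCycle E ℤ} (hD : δD = fun d => δ (i d)) (hE : δE = fun e => δ' (j e))
      (h : A - mapHom fD (fun e => δ' (j e)) (fun d => δ (i d)) B ∈
        ratZ (isSetup_closedImmersion i hS) k) :
      Cyc.RatEquivZero δD k (mapHom fD δE δD B - A) := by
    subst hD hE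
    exact (mem_ratZ (isSetup_closedImmersion i hS)).1 ((ratZ _ k).sub_mem_comm_iff.1 h)

/-- The proper pushforward class. -/
def pushClass : Bivar.Cl p g δY δZ where
  op := pushOp hX hY hδ c
  push s t h _ h' _ w₁ w₂ w₃ k := push hX hY hδ c s t h h' w₁ w₂ w₃ k
  pull s t h _ h' _ q hq hq' w₁ w₂ w₃ k := pull hX hY hδ c s t h h' q hq hq' w₁ w₂ w₃ k
  gysin s t i _ j _ w₁ w₂ w₃ L hL σ hσ τ hτ k := gysin hX hY hZ hδ c s t i j w₁ w₂ w₃ L hL σ hσ τ hτ k

theorem isProperPushClass_pushClass :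
    Bivar.IsProperPushClass f g c (pushClass hX hY hZ hδ c) := by
  refine ⟨inferInstance, hδ, fun s X' f' _ gX hp δX' hX' k α hα β hβ he => ?_⟩
  show pushOp hX hY hδ c s k (ChowOps.cl α hα) = _
  have hiso : (hp.isoPullback).hom ≫ fX (f := f) s = f' := hp.isoPullback_hom_fst
  have hsnd : hp.isoPullback.hom ≫ pullback.snd s.g' f = gX := hp.isoPullback_hom_snd
  let t : Bivar.Sq (f ≫ g) δX δZ :=
    ⟨s.Y', X', s.g, f' ≫ s.f', gX, hp.paste_horiz s.isPullback, s.lft, s.δY', δX', s.compatY, hX'⟩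
  have h1 := push_rep hX c (sqX s) t (𝟙 _) hp.isoPullback.hom (Category.id_comp _)
    (show hp.isoPullback.hom ≫ fX (f := f) s ≫ s.f' = (f' ≫ s.f') ≫ 𝟙 _ by
      rw [← Category.assoc, hiso, Category.comp_id]) hsnd hα hβ he
  rw [Bivar.cl_congr (show AlgebraicCycle.map (𝟙 s.Y') s.δY' s.δY' α = α from
    AlgebraicCycle.map_id _ _) _ hα] at h1
  refine (pushOp_cl hX hY hδ c s hα _ h1).trans (Bivar.cl_congr ?_ _ _)
  rw [mapHom_apply, Div89.map_map hp.isoPullback.hom (fX (f := f) s) ?_ (deltaCompat_fX hδ s)]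
  · simp only [hiso]; rfl
  · exact deltaCompat_h' (sqX (δX := δX) (f := f) s) t _ hsnd

end Groth.Agent.E4O.BivarPush
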