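import Groth.Agent.E4O.BivarGysinLem
import Groth.Agent.Div89.RatPush

/-! The compatibilities of a bivariant class hold for every representative. -/

set_option autoImplicit false
set_option backward.isDefEq.respectTransparency.types false
universe u

open CategoryTheory AlgebraicGeometry TopologicalSpace Limits
open Groth.Agent.Cyc90 Groth.Agent.Cyc90.Dev Groth.Agent.E4O.BivarBasic Groth.Agent.E4O.BivarSquare
  Groth.Agent.E4O.BivarGysinLem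

noncomputable section

namespace Groth.Agent.E4O.BivarRep

variable {X Y : Scheme.{u}} {δX : X → ℤ} {δY : Y → ℤ} {f : X ⟶ Y} {p : ℤ}

/-- Compatibility with proper pushforward, for every representative. -/
theorem push_rep (hX : Cyc.IsSetup X δX) (c : Bivar.Cl p f δX δY) (s t : Bivar.Sq f δX δY)
    (h : t.Y' ⟶ s.Y') [IsProper h] (h' : t.X' ⟶ s.X') [IsProper h'] (w₁ : h ≫ s.g = t.g)
    (w₂ : h' ≫ s.f' = t.f' ≫ h) (w₃ : h' ≫ s.g' = t.g') {k : ℤ} {α : AlgebraicCycle t.Y' ℤ}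
    (hα : α ∈ Cyc.Zk t.Y' t.δY' k) {β : AlgebraicCycle t.X' ℤ} (hβ : β ∈ Cyc.Zk t.X' t.δX' (k - p))
    (he : c.op t k (ChowOps.cl α hα) = ChowOps.cl β hβ) :
    c.op s k (ChowOps.cl (AlgebraicCycle.map h t.δY' s.δY' α) (Bivar.cycMap_mem_Zk h _ _ k hα)) =
      ChowOps.cl (AlgebraicCycle.map h' t.δX' s.δX' β) (Bivar.cycMap_mem_Zk h' _ _ (k - p) hβ) := by
  obtain ⟨β₀, hβ₀, e₁, e₂⟩ := c.push s t h h' w₁ w₂ w₃ k α hα
  rw [e₂]
  refine cl_eq_of_ratEquiv _ _ ?_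
  rw [← mapHom_apply, ← mapHom_apply, ← map_sub]
  exact mapHom_rat h' (isSetup_X' hX t) (isSetup_X' hX s) (deltaCompat_h' s t h' w₃)
    (ratEquivZero_sub_of_cl_eq (isSetup_X' hX t) hβ₀ hβ (e₁.symm.trans he))

/-- Compatibility with flat pullback, for every representative. -/
theorem pull_rep (hX : Cyc.IsSetup X δX) (c : Bivar.Cl p f δX δY) (s t : Bivar.Sq f δX δY)
    (h : t.Y' ⟶ s.Y') [Flat h] (h' : t.X' ⟶ s.X') [Flat h'] (r : ℕ) (hr : Cyc.HasRelDim h r)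
    (hr' : Cyc.HasRelDim h' r) (w₁ : h ≫ s.g = t.g) (w₂ : h' ≫ s.f' = t.f' ≫ h) (w₃ : h' ≫ s.g' = t.g')
    (hc' : ShiftAt h' t.δX' s.δX' r) {k : ℤ} {α : AlgebraicCycle s.Y' ℤ}
    (hα : α ∈ Cyc.Zk s.Y' s.δY' k) {β : AlgebraicCycle s.X' ℤ} (hβ : β ∈ Cyc.Zk s.X' s.δX' (k - p))
    (he : c.op s k (ChowOps.cl α hα) = ChowOps.cl β hβ) (α₁ : AlgebraicCycle t.Y' ℤ)
    (he₁ : ⇑α₁ = Cyc.pullFun h t.δY' s.δY' (r : ℤ) ⇑α) (hα₁ : α₁ ∈ Cyc.Zk t.Y' t.δY' (k + r))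
    (hm : pullHom h' (isSetup_X' hX t) hc' β ∈ Cyc.Zk t.X' t.δX' (k + r - p)) :
    c.op t (k + r) (ChowOps.cl α₁ hα₁) = ChowOps.cl (pullHom h' (isSetup_X' hX t) hc' β) hm := by
  obtain ⟨β₀, hβ₀, e₁, e₂⟩ := c.pull s t h h' r hr hr' w₁ w₂ w₃ k α hα
  obtain ⟨β₁, hβ₁, e₃, e₄⟩ := e₂ α₁ he₁ hα₁
  rw [e₄]
  refine cl_eq_of_ratEquiv _ _ ?_
  obtain rfl : β₁ = pullHom h' (isSetup_X' hX t) hc' β₀ := DFunLike.coe_injective e₃
  rw [← map_sub, show k + (r : ℤ) - p = k - p + r by ring]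
  exact pullHom_rat h' _ hc' (isSetup_X' hX s)
    (ratEquivZero_sub_of_cl_eq (isSetup_X' hX s) hβ₀ hβ (e₁.symm.trans he))

/-- Compatibility with Gysin maps, for every representative. -/
theorem gysin_rep (hX : Cyc.IsSetup X δX) (hY : Cyc.IsSetup Y δY) (c : Bivar.Cl p f δX δY)
    (s t : Bivar.Sq f δX δY) (i : t.Y' ⟶ s.Y') [IsClosedImmersion i] (j : t.X' ⟶ s.X')
    [IsClosedImmersion j] (w₁ : i ≫ s.g = t.g) (w₂ : j ≫ s.f' = t.f' ≫ i) (w₃ : j ≫ s.g' = t.g')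
    {L : s.Y'.Modules} (hL : PicF.IsInvertible L) {σ : L.presheaf.obj (Opposite.op ⊤)}
    (hσ : Cyc.IsZeroSchemeOf i L σ)
    {τ : ((Scheme.Modules.pullback s.f').obj L).presheaf.obj (Opposite.op ⊤)}
    (hτ : Cyc.IsZeroSchemeOf j ((Scheme.Modules.pullback s.f').obj L) τ)
    {N : s.X'.Modules} (hN : PicF.IsInvertible N) (e : N ≅ (Scheme.Modules.pullback s.f').obj L)
    {ν : N.presheaf.obj (Opposite.op ⊤)} (hν : Cyc.IsZeroSchemeOf j N ν)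
    (w : (ξ : s.Y') → Cyc.secFibre L ξ) (hw : ∀ ξ, w ξ ≠ 0)
    (v : (ξ : s.X') → Cyc.secFibre N ξ) (hv : ∀ ξ, v ξ ≠ 0)
    {k : ℤ} {α : AlgebraicCycle s.Y' ℤ} (hα : α ∈ Cyc.Zk s.Y' s.δY' k)
    {β : AlgebraicCycle s.X' ℤ} (hβ : β ∈ Cyc.Zk s.X' s.δX' (k - p))
    (he : c.op s k (ChowOps.cl α hα) = ChowOps.cl β hβ) (γ : AlgebraicCycle t.Y' ℤ)
    (hγe : ∀ d, γ d = Cyc.c1CapFun s.δY' L ⇑α (Cyc.gysinChoice L σ w) (i d))
    (hγ : γ ∈ Cyc.Zk t.Y' t.δY' (k - 1)) :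
    ∃ hm : gysHom (isSetup_X' hX s) hN ν j v hv β ∈ Cyc.Zk t.X' t.δX' (k - 1 - p),
      c.op t (k - 1) (ChowOps.cl γ hγ) = ChowOps.cl (gysHom (isSetup_X' hX s) hN ν j v hv β) hm := by
  have hd := delta_closedImmersion j (deltaCompat_h' s t j w₃)
  have hS' := isSetup_X' hX s
  have hm : gysHom hS' hN ν j v hv β ∈ Cyc.Zk t.X' t.δX' (k - 1 - p) := by
    rw [hd]
    exact gysHom_mem hS' hN ν j v hv (by rw [show k - 1 - p + 1 = k - p by ring]; exact hβ)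
  refine ⟨hm, ?_⟩
  obtain ⟨β₀, hβ₀, e₁, e₂⟩ := c.gysin s t i j w₁ w₂ w₃ L hL σ hσ τ hτ k α hα
  have hLf := Amp73.isInvertible_pullback s.f' hL
  obtain ⟨u, hu⟩ := exists_secFibre_family hLf
  obtain ⟨ζ, hζ, e₃, e₄⟩ := e₂ w hw γ hγe hγ u hu
  rw [e₄]
  refine cl_eq_of_ratEquiv _ _ ?_
  obtain rfl : ζ = gysHom hS' hLf τ j u hu β₀ :=
    DFunLike.ext _ _ fun d => (e₃ d).trans (gysHom_apply hS' hLf τ j u hu β₀ d).symm
  have h1 : gysHom hS' hLf τ j u hu (β₀ - β) ∈ ratZ (isSetup_closedImmersion j hS') (k - 1 - p) :=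
    ratEquivZero_gysin hS' hLf j hτ (by
      rw [show k - 1 - p + 1 = k - p by ring]
      exact ratEquivZero_sub_of_cl_eq hS' hβ₀ hβ (e₁.symm.trans he)) u hu _ (gysHom_apply hS' hLf τ j u hu _)
  have h2 := gys_indep hS' j hN hLf e hν hτ v hv u hu (k := k - 1 - p)
    (by rw [show k - 1 - p + 1 = k - p by ring]; exact hβ)
  rw [map_sub] at h1
  have key := add_mem h1 h2
  rw [sub_add_sub_cancel] at key
  rw [hd]
  exact key

end Groth.Agent.E4O.BivarRep
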