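import Groth.Agent.E4O.BivarBasic
import Groth.Agent.Cyc90.Dev.CycleSquare
import Groth.Agent.FibDim94.BaseChange
import Groth.Prelude.Def_Bivar2

/-! Squares of bivariant classes and the Gysin maps in a cartesian square. -/

set_option autoImplicit false
set_option backward.isDefEq.respectTransparency.types false
universe u

open CategoryTheory AlgebraicGeometry TopologicalSpace Limits
open Groth.Agent.Cyc90 Groth.Agent.Cyc90.Dev Groth.Agent.E4O.BivarBasic

noncomputable section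

namespace Groth.Agent.E4O.BivarSquare

section Sq

variable {X Y : Scheme.{u}} {f : X ⟶ Y} {δX : X → ℤ} {δY : Y → ℤ}

lemma lft_g' (s : Bivar.Sq f δX δY) : LocallyOfFiniteType s.g' :=
  MorphismProperty.of_isPullback s.isPullback s.lft

lemma isSetup_Y' (hY : Cyc.IsSetup Y δY) (s : Bivar.Sq f δX δY) : Cyc.IsSetup s.Y' s.δY' :=
  have := s.lft
  isSetup_of_lft s.g δY hY s.δY' s.compatY

lemma isSetup_X' (hX : Cyc.IsSetup X δX) (s : Bivar.Sq f δX δY) : Cyc.IsSetup s.X' s.δX' :=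
  have := lft_g' s
  isSetup_of_lft s.g' δX hX s.δX' s.compatX

lemma lft_f' [LocallyOfFiniteType f] (s : Bivar.Sq f δX δY) : LocallyOfFiniteType s.f' :=
  MorphismProperty.of_isPullback s.isPullback.flip inferInstance

lemma deltaCompat_f' (hδ : Cyc.DeltaCompat f δX δY) (s : Bivar.Sq f δX δY) :
    Cyc.DeltaCompat s.f' s.δX' s.δY' :=
  deltaCompat_square_top s.isPullback.w hδ s.compatY s.compatX

variable (s t : Bivar.Sq f δX δY) (h : t.Y' ⟶ s.Y') (h' : t.X' ⟶ s.X')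

lemma deltaCompat_h [LocallyOfFiniteType h] (w₁ : h ≫ s.g = t.g) : Cyc.DeltaCompat h t.δY' s.δY' :=
  have := s.lft
  deltaCompat_cancel h s.g s.compatY (w₁ ▸ t.compatY)

lemma deltaCompat_h' [LocallyOfFiniteType h'] (w₃ : h' ≫ s.g' = t.g') :
    Cyc.DeltaCompat h' t.δX' s.δX' :=
  have := lft_g' s
  deltaCompat_cancel h' s.g' s.compatX (w₃ ▸ t.compatX)

lemma lft_h (w₁ : h ≫ s.g = t.g) : LocallyOfFiniteType h :=
  have := t.lft
  have : LocallyOfFiniteType (h ≫ s.g) := by rw [w₁]; infer_instance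
  locallyOfFiniteType_of_comp h s.g

lemma isPullback_top (w₁ : h ≫ s.g = t.g) (w₂ : h' ≫ s.f' = t.f' ≫ h) (w₃ : h' ≫ s.g' = t.g') :
    IsPullback t.f' h' h s.f' :=
  IsPullback.of_bot (w₁.symm ▸ w₃.symm ▸ t.isPullback) w₂.symm s.isPullback

end Sq

section Gysin

variable {S S' D E : Scheme.{u}} {δ : S → ℤ} {δ' : S' → ℤ}

/-- In a cartesian square the preimage of the zero scheme is its base change. -/
lemma isZeroSchemeOf_square (f : S' ⟶ S) {L : S.Modules} (hL : PicF.IsInvertible L)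
    {σ : L.presheaf.obj (Opposite.op ⊤)} {i : D ⟶ S} [IsClosedImmersion i] (hσ : Cyc.IsZeroSchemeOf i L σ)
    {fD : E ⟶ D} {j : E ⟶ S'} (hsq : IsPullback j fD f i) :
    Cyc.IsZeroSchemeOf j ((Scheme.Modules.pullback f).obj L) (Amp73.pullS f L ⊤ σ) := by
  have h := isZeroSchemeOf_precomp_iso (isZeroSchemeOf_pullback f hL hσ) hsq.isoPullback
  rwa [hsq.isoPullback_hom_fst] at h

lemma notMem_range_of_square {f : S' ⟶ S} {i : D ⟶ S} {fD : E ⟶ D} {j : E ⟶ S'}
    (hsq : IsPullback j fD f i) {ξ : S'} (hξ : ξ ∉ Set.range j) : f ξ ∉ Set.range i := fun hm => by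
  obtain ⟨z, hz⟩ : ξ ∈ Set.range (pullback.fst f i) := by rw [Scheme.Pullback.range_fst]; exact hm
  refine hξ ⟨hsq.isoPullback.inv z, ?_⟩
  rw [← Scheme.Hom.comp_apply, hsq.isoPullback_inv_fst, hz]

/-- Gysin maps commute with flat pullback in a cartesian square. -/
theorem gysin_pull_square (hS : Cyc.IsSetup S δ) (hS' : Cyc.IsSetup S' δ') (f : S' ⟶ S) [Flat f]
    {c : ℤ} (hc : ShiftAt f δ' δ c) {L : S.Modules} (hL : PicF.IsInvertible L)
    {σ : L.presheaf.obj (Opposite.op ⊤)} (i : D ⟶ S) [IsClosedImmersion i] (hσ : Cyc.IsZeroSchemeOf i L σ)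
    {fD : E ⟶ D} (j : E ⟶ S') [IsClosedImmersion j] (hsq : IsPullback j fD f i)
    {τ : ((Scheme.Modules.pullback f).obj L).presheaf.obj (Opposite.op ⊤)}
    (hτ : Cyc.IsZeroSchemeOf j ((Scheme.Modules.pullback f).obj L) τ)
    (w : (ξ : S) → Cyc.secFibre L ξ) (hw : ∀ ξ, w ξ ≠ 0)
    (w' : (ξ : S') → Cyc.secFibre ((Scheme.Modules.pullback f).obj L) ξ) (hw' : ∀ ξ, w' ξ ≠ 0)
    (hE : Cyc.IsSetup E (fun e => δ' (j e))) (hcD : ShiftAt fD (fun e => δ' (j e)) (fun d => δ (i d)) c)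
    {k : ℤ} {α : AlgebraicCycle S ℤ} (hα : α ∈ Cyc.Zk S δ (k + 1)) :
    gysHom hS' (Amp73.isInvertible_pullback f hL) τ j w' hw' (pullHom f hS' hc α) -
      pullHom fD hE hcD (gysHom hS hL σ i w hw α) ∈ ratZ hE (k + c) := by
  have hv := gysinChoice_ne_zero σ w hw
  have hLp := Amp73.isInvertible_pullback f hL
  refine ratEquiv_restrict_c1Cap hS' j hLp (k + c) (pullHom f hS' hc α) ?_ _ _
    (gysinChoice_ne_zero τ w' hw') (pullSec_ne_zero f hL _ hv) (fun ξ hξ x => ?_) _ _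
    (gysHom_apply hS' hLp τ j w' hw' _) (fun z => ?_)
  · rw [show k + c + 1 = k + 1 + c by ring]
    exact pullHom_mem f hS' hc hα
  · rw [gysinChoice_of_notMem hτ w' hξ,
      pullSec_eq_germ f hL _ hv σ ξ (gysinChoice_of_notMem hσ w (notMem_range_of_square hsq hξ))]
    exact secDivFun_eq_of_zeroScheme hS' hLp hτ (isZeroSchemeOf_square f hL hσ hsq) hξ x
  · have hfull : Cyc.pullFun f δ' δ c (Cyc.c1CapFun δ L ⇑α (Cyc.gysinChoice L σ w)) =
        Cyc.c1CapFun δ' ((Scheme.Modules.pullback f).obj L) (Cyc.pullFun f δ' δ c ⇑α)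
          (pullSec f hL _ hv) := pullFun_c1Cap f hS' hS hc hL α _ hv
    rw [coe_pullHom, coe_pullHom, ← hfull, pullFun_closed_square hsq hS' hc _ z]
    exact congrArg (fun a => Cyc.pullFun fD _ _ c a z) (funext (gysHom_apply hS hL σ i w hw α))

end Gysin

end Groth.Agent.E4O.BivarSquare
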