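import Groth.Agent.E4O.Unibranch
import Groth.Agent.E4O.UnibranchPoly
import Mathlib.RingTheory.TensorProduct.MvPolynomial
import Mathlib.RingTheory.AlgebraicIndependent.TranscendenceBasis
import Mathlib.RingTheory.ZariskisMainTheorem

/-!
EGA IV 14.4.4, ring form: lifting of generizations (after any polynomial extension of the base)
through a maximal point of a fibre which is not smaller than the generic fibre, over a
geometrically unibranch point.
-/

universe u

open MvPolynomial
open scoped TensorProduct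

namespace Groth.Agent.E4O

attribute [local instance] MvPolynomial.algebraMvPolynomial

/-- Geometric unibranchness passes to quotients by nil ideals. -/
theorem isGeomUnibranch_of_surjective {R R' : Type u} [CommRing R] [CommRing R'] [IsLocalRing R]
    [IsLocalRing R'] (π : R →+* R') (hπ : Function.Surjective π) (hker : RingHom.ker π ≤ nilradical R)
    (hR : CAlg2.IsGeomUnibranch R) : CAlg2.IsGeomUnibranch R' := by
  obtain ⟨⟨hdom, hloc⟩, hres⟩ := hR
  let D := CAlg2.red R
  let D' := CAlg2.normRed R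
  have hDD' : Function.Injective (algebraMap D D') := fun a b h =>
    IsFractionRing.injective D (FractionRing D) (congrArg Subtype.val h)
  have hint : Algebra.IsIntegral D D' := ⟨fun x =>
    (isIntegral_algHom_iff (integralClosure D (FractionRing D)).val Subtype.val_injective).1 x.2⟩
  have : IsFractionRing D' (FractionRing D) :=
    integralClosure.isFractionRing_of_finite_extension (A := D) (FractionRing D) (FractionRing D)
  have : IsIntegrallyClosed D' := by
    rw [isIntegrallyClosed_iff (R := D') (K := FractionRing D)]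
    intro x hx
    exact ⟨⟨x, isIntegral_trans (R := D) x hx⟩, rfl⟩
  let π' : R' →+* D := π.liftOfSurjective hπ ⟨Ideal.Quotient.mk (nilradical R),
    hker.trans Ideal.mk_ker.ge⟩
  have hπ' : ∀ r, π' (π r) = Ideal.Quotient.mk (nilradical R) r := fun r =>
    RingHom.liftOfRightInverse_comp_apply _ _ _ _ r
  refine isGeomUnibranch_of_model π' (fun d => ?_) ?_ (algebraMap D D') hDD' hint.isIntegral
    (fun c => ?_) fun c => ?_
  · obtain ⟨r, rfl⟩ := Ideal.Quotient.mk_surjective d
    exact ⟨π r, hπ' r⟩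
  · intro x hx
    obtain ⟨r, rfl⟩ := hπ x
    rw [RingHom.mem_ker, hπ', Ideal.Quotient.eq_zero_iff_mem] at hx
    exact (mem_nilradical.2 ((mem_nilradical.1 hx).map π))
  · obtain ⟨a, d, hd, hx⟩ := IsFractionRing.div_surjective (A := D) c.1
    refine ⟨a, d, nonZeroDivisors.ne_zero hd, Subtype.ext ?_⟩
    rw [MulMemClass.coe_mul, ← hx]
    exact div_mul_cancel₀ _ (IsFractionRing.to_map_ne_zero_of_mem_nonZeroDivisors hd)
  · obtain ⟨n, r, hr⟩ := hres (IsLocalRing.maximalIdeal D') (Ideal.Quotient.mk _ c)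
    refine ⟨n, Ideal.Quotient.mk (nilradical R) r, ?_⟩
    rw [← map_pow] at hr
    exact (Ideal.Quotient.eq).1 hr.symm

/-- A point of a finite type algebra whose residue extension is spanned algebraically by `t` is
isolated above its maximal position in the fibre over `A[t]`. -/
theorem eq_of_le_of_isAlgebraic_mod {A B : Type u} [CommRing A] [CommRing B] [Algebra A B]
    (q r : Ideal B) [q.IsPrime] [r.IsPrime] (hqr : q ≤ r) {ι : Type u} (t : ι → B)
    (halg : Algebra.IsAlgebraic
      (Algebra.adjoin (A ⧸ q.under A) (Set.range (Ideal.Quotient.mk q ∘ t))) (B ⧸ q))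
    (heq : r.comap (MvPolynomial.aeval (R := A) t).toRingHom ≤
      q.comap (MvPolynomial.aeval (R := A) t).toRingHom) : r = q := by
  refine le_antisymm (fun b hb => ?_) hqr
  by_contra hbq
  have hb0 : Ideal.Quotient.mk q b ≠ 0 := fun h => hbq (Ideal.Quotient.eq_zero_iff_mem.1 h)
  obtain ⟨⟨c, hc⟩, hc0, s, hs⟩ := (halg.isAlgebraic (Ideal.Quotient.mk q b)).exists_nonzero_dvd
    (mem_nonZeroDivisors_of_ne_zero hb0)
  have hs' : c = Ideal.Quotient.mk q b * s := hs
  have hle : Algebra.adjoin A (Set.range (Ideal.Quotient.mk q ∘ t)) ≤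
      ((Ideal.Quotient.mkₐ A q).comp (MvPolynomial.aeval (R := A) t)).range :=
    Algebra.adjoin_le (by
      rintro _ ⟨i, rfl⟩
      exact ⟨X i, by simp⟩)
  have hc' : c ∈ Algebra.adjoin A (Set.range (Ideal.Quotient.mk q ∘ t)) := by
    refine Algebra.adjoin_induction (fun x hx => Algebra.subset_adjoin hx) (fun a => ?_)
      (fun _ _ _ _ => add_mem) (fun _ _ _ _ => mul_mem) hc
    obtain ⟨a, rfl⟩ := Ideal.Quotient.mk_surjective a
    exact (Algebra.adjoin A _).algebraMap_mem a
  obtain ⟨g, hg⟩ := hle hc'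
  obtain ⟨s, rfl⟩ := Ideal.Quotient.mk_surjective s
  have hg' : Ideal.Quotient.mk q (MvPolynomial.aeval (R := A) t g) = Ideal.Quotient.mk q (b * s) := by
    rw [map_mul]
    exact hg.trans hs'
  have hgr : MvPolynomial.aeval (R := A) t g ∈ r := by
    have := r.add_mem (hqr (Ideal.Quotient.eq.1 hg')) (r.mul_mem_right s hb)
    rwa [sub_add_cancel] at this
  have hgq : MvPolynomial.aeval (R := A) t g ∈ q := heq hgr
  refine hc0 (Subtype.ext ?_)
  show c = 0
  rw [← Ideal.Quotient.eq_zero_iff_mem.2 hgq]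
  exact hg.symm

/-- EGA IV 14.4.4 for domains. -/
theorem exists_le_comap_map_eq_of_domain {A B : Type u} [CommRing A] [IsDomain A]
    [IsNoetherianRing A] [CommRing B] [IsDomain B] [Algebra A B] [Algebra.FiniteType A B]
    (hinj : Function.Injective (algebraMap A B)) (q : Ideal B) [q.IsPrime]
    (Ap : Type u) [CommRing Ap] [IsLocalRing Ap] [Algebra A Ap]
    [IsLocalization.AtPrime Ap (q.under A)] (hAp : CAlg2.IsGeomUnibranch Ap)
    (hmax : ∀ q' : Ideal B, q'.IsPrime → q' ≤ q → q'.under A = q.under A → q' = q)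
    (hdeg : Algebra.trdeg (A ⧸ q.under A) (B ⧸ q) ≤ Algebra.trdeg A B)
    (σ : Type u) (Q : Ideal (MvPolynomial σ B)) [Q.IsPrime] (hQ : Q.comap C = q)
    (P₁ : Ideal (MvPolynomial σ A)) [P₁.IsPrime]
    (hP₁ : P₁ ≤ Q.comap (MvPolynomial.map (algebraMap A B))) :
    ∃ Q₁ : Ideal (MvPolynomial σ B), Q₁.IsPrime ∧ Q₁ ≤ Q ∧
      Q₁.comap (MvPolynomial.map (algebraMap A B)) = P₁ := by
  have : FaithfulSMul A B := (faithfulSMul_iff_algebraMap_injective A B).2 hinj
  have : FaithfulSMul (A ⧸ q.under A) (B ⧸ q) := (faithfulSMul_iff_algebraMap_injective _ _).2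
    Ideal.algebraMap_quotient_injective
  obtain ⟨ι, x, hx⟩ := exists_isTranscendenceBasis' (A ⧸ q.under A) (B ⧸ q)
  have hcard := hx.cardinalMk_eq_trdeg
  have : Algebra.FiniteType A (B ⧸ q) :=
    Algebra.FiniteType.of_surjective (Ideal.Quotient.mkₐ A q) Ideal.Quotient.mk_surjective
  have : Algebra.FiniteType (A ⧸ q.under A) (B ⧸ q) := .of_restrictScalars_finiteType A _ _
  have : Finite ι := Cardinal.mk_lt_aleph0_iff.1 (hcard ▸ trdeg_lt_aleph0_of_finiteType)
  choose t ht using fun i => Ideal.Quotient.mk_surjective (x i)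
  have htx : Ideal.Quotient.mk q ∘ t = x := funext ht
  let T : MvPolynomial ι A →ₐ[A] B := MvPolynomial.aeval t
  algebraize [T.toRingHom]
  have : IsScalarTower A (MvPolynomial ι A) B :=
    IsScalarTower.of_algebraMap_eq fun a => (T.commutes a).symm
  have hft : Algebra.FiniteType (MvPolynomial ι A) B := .of_restrictScalars_finiteType A _ _
  let P : Ideal (MvPolynomial ι A) := q.comap T.toRingHom
  have hPA : P.comap C = q.under A := by
    rw [Ideal.comap_comap, Ideal.under_def]
    congr 1
    exact T.comp_algebraMap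
  -- `q` is isolated in its fibre over `A[t]`
  have huniq : ∀ r : Ideal B, r.IsPrime → r.comap T.toRingHom = P → (q ≤ r ∨ r ≤ q) → r = q := by
    intro r hr hrP h
    rcases h with h | h
    · exact eq_of_le_of_isAlgebraic_mod q r h t (htx.symm ▸ hx.isAlgebraic) hrP.le
    · refine hmax r hr h ?_
      rw [Ideal.under_def, ← T.comp_algebraMap, ← Ideal.comap_comap]
      exact (congrArg (Ideal.comap C) hrP).trans hPA
  have hqf : Algebra.QuasiFiniteAt (MvPolynomial ι A) q := by
    refine Algebra.QuasiFiniteAt.of_isOpen_singleton_fiber ⟨q, inferInstance⟩ ?_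
    let p' := PrimeSpectrum.comap (algebraMap (MvPolynomial ι A) B) ⟨q, inferInstance⟩
    let o := PrimeSpectrum.preimageOrderIsoFiber (MvPolynomial ι A) B p'
    let e := PrimeSpectrum.preimageHomeomorphFiber (MvPolynomial ι A) B p'
    have : IsNoetherianRing (p'.asIdeal.Fiber B) :=
      Algebra.FiniteType.isNoetherianRing p'.asIdeal.ResidueField _
    have : IsJacobsonRing (p'.asIdeal.Fiber B) :=
      isJacobsonRing_of_finiteType (A := p'.asIdeal.ResidueField)
    rw [← e.isOpen_image, Set.image_singleton]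
    refine ((PrimeSpectrum.isOpen_singleton_tfae_of_isNoetherian_of_isJacobsonRing _).out 0 2 rfl rfl).2
      ⟨?_, ?_⟩
    · rw [PrimeSpectrum.isClosed_singleton_iff_isMaximal, ← PrimeSpectrum.isMax_iff]
      intro r hr
      obtain ⟨⟨r, hr'⟩, rfl⟩ := o.surjective r
      have hle : q ≤ r.asIdeal := (o.le_iff_le (x := ⟨⟨q, inferInstance⟩, rfl⟩) (y := ⟨r, hr'⟩)).1 hr
      refine (o.le_iff_le (x := ⟨r, hr'⟩) (y := ⟨⟨q, inferInstance⟩, rfl⟩)).2 ?_
      exact (huniq r.asIdeal r.2 (congrArg PrimeSpectrum.asIdeal hr') (Or.inl hle)).le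
    · intro a r hra ha
      obtain rfl := Set.mem_singleton_iff.1 ha
      have hr := (PrimeSpectrum.le_iff_specializes _ _).2 hra
      show r = _
      refine le_antisymm hr ?_
      obtain ⟨⟨r, hr'⟩, rfl⟩ := o.surjective r
      have hle : r.asIdeal ≤ q := (o.le_iff_le (x := ⟨r, hr'⟩) (y := ⟨⟨q, inferInstance⟩, rfl⟩)).1 hr
      refine (o.le_iff_le (x := ⟨⟨q, inferInstance⟩, rfl⟩) (y := ⟨r, hr'⟩)).2 ?_
      exact (huniq r.asIdeal r.2 (congrArg PrimeSpectrum.asIdeal hr') (Or.inr hle)).ge
  -- `t` is algebraically independent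
  have halg : Algebra.IsAlgebraic (Algebra.adjoin A (Set.range t)) B := by
    obtain ⟨S', hS', r₀, hr₀q, hbij⟩ :=
      Algebra.QuasiFiniteAt.exists_fg_and_exists_notMem_and_awayMap_bijective
        (R := MvPolynomial ι A) q
    have : Module.Finite (MvPolynomial ι A) S' := ⟨(Submodule.fg_top _).mpr hS'⟩
    have hint : ∀ y ∈ S', IsIntegral (Algebra.adjoin A (Set.range t)) y := fun y hy => by
      have h1 : IsIntegral (MvPolynomial ι A) y :=
        (Algebra.IsIntegral.isIntegral (R := MvPolynomial ι A) (⟨y, hy⟩ : S')).map S'.val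
      refine h1.map_of_comp_eq (T.toRingHom.codRestrict _ fun z => ?_) (RingHom.id B) rfl
      rw [Algebra.adjoin_range_eq_range_aeval]
      exact ⟨z, rfl⟩
    refine ⟨fun β => ?_⟩
    obtain ⟨z, hz⟩ := hbij.2 (algebraMap B _ β)
    obtain ⟨n, ⟨y, hy⟩, hzy⟩ := IsLocalization.Away.surj r₀ z
    have hr0 : r₀.1 ≠ 0 := fun h => hr₀q (by show r₀.1 ∈ q; rw [h]; exact q.zero_mem)
    have key : algebraMap B (Localization.Away (S'.val.toRingHom r₀)) (β * r₀.1 ^ n) =
        algebraMap B _ y := by
      have := congrArg (Localization.awayMap S'.val.toRingHom r₀) hzy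
      rw [map_mul, map_pow, hz] at this
      simp only [Localization.awayMap, IsLocalization.Away.map, IsLocalization.map_eq] at this
      rw [map_mul, map_pow]
      exact this
    have key' : β * r₀.1 ^ n = y :=
      IsLocalization.injective (M := Submonoid.powers (S'.val.toRingHom r₀)) _
        (powers_le_nonZeroDivisors_of_noZeroDivisors hr0) key
    refine IsAlgebraic.of_mul (y := r₀.1 ^ n)
      (mem_nonZeroDivisors_of_ne_zero (pow_ne_zero n hr0)) ((hint _ r₀.2).pow n).isAlgebraic ?_
    rw [mul_comm, key']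
    exact (hint y hy).isAlgebraic
  have hTinj : Function.Injective T :=
    (Algebra.IsAlgebraic.isTranscendenceBasis_of_le_trdeg_of_finite A t (hcard ▸ hdeg)).1
  -- unibranchness after base change
  have hP : P.IsPrime := inferInstance
  let AP := Localization.AtPrime P
  have hAP : CAlg2.IsGeomUnibranch AP :=
    isGeomUnibranch_mvPolynomial (q.under A) Ap hAp ι P hPA AP
  let P₂ : Ideal (MvPolynomial σ (MvPolynomial ι A)) :=
    Q.comap (MvPolynomial.map (algebraMap (MvPolynomial ι A) B))
  have hP₂ : P₂.comap C = P := by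
    rw [Ideal.comap_comap, show (MvPolynomial.map (algebraMap (MvPolynomial ι A) B)).comp
      (C : MvPolynomial ι A →+* MvPolynomial σ (MvPolynomial ι A)) = C.comp T.toRingHom from
      RingHom.ext fun z => MvPolynomial.map_C _ z, ← Ideal.comap_comap, hQ]
  let R := Localization.AtPrime P₂
  have hR : CAlg2.IsGeomUnibranch R := isGeomUnibranch_mvPolynomial P AP hAP σ P₂ hP₂ R
  -- quasi-finiteness after base change
  let e : MvPolynomial σ (MvPolynomial ι A) ⊗[MvPolynomial ι A] B ≃ₐ[MvPolynomial σ (MvPolynomial ι A)]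
      MvPolynomial σ B := Algebra.IsPushout.equiv (MvPolynomial ι A) _ B _
  have hftσ : Algebra.FiniteType (MvPolynomial σ (MvPolynomial ι A)) (MvPolynomial σ B) :=
    Algebra.FiniteType.equiv inferInstance e
  have hqfQ : Algebra.QuasiFiniteAt (MvPolynomial σ (MvPolynomial ι A)) Q := by
    let Q' := Q.comap e.toAlgHom.toRingHom
    have hQ' : Q'.IsPrime := Ideal.IsPrime.comap _
    have hq' : q = Q'.comap
        Algebra.TensorProduct.includeRight.toRingHom := by
      rw [← hQ, Ideal.comap_comap]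
      congr 1
      exact RingHom.ext fun b => ((Algebra.IsPushout.equiv_tmul (MvPolynomial ι A)
        (MvPolynomial σ (MvPolynomial ι A)) B (MvPolynomial σ B) 1 b).trans (by rw [map_one, one_mul]; rfl)).symm
    have := Algebra.QuasiFiniteAt.baseChange q Q' hq'
    exact Algebra.QuasiFiniteAt.of_surjectiveOnStalks (R := MvPolynomial σ (MvPolynomial ι A))
      (S := MvPolynomial σ (MvPolynomial ι A) ⊗[MvPolynomial ι A] B) (T := MvPolynomial σ B) Q' e.toAlgHom
      (RingHom.surjectiveOnStalks_of_surjective e.surjective) Q rfl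
  -- lifting
  let M : MvPolynomial σ A →+* MvPolynomial σ (MvPolynomial ι A) := MvPolynomial.map C
  let c := (MvPolynomial.commAlgEquiv A σ ι).toRingEquiv
  let P₁' : Ideal (MvPolynomial σ (MvPolynomial ι A)) :=
    (P₁.map (C : MvPolynomial σ A →+* MvPolynomial ι (MvPolynomial σ A))).comap c.toRingHom
  have hMc : c.toRingHom.comp M = C := by
    refine RingHom.ext fun g => ?_
    show MvPolynomial.commAlgEquiv A σ ι (MvPolynomial.map C g) = C g
    rw [← MvPolynomial.commAlgEquiv_C]
    exact (AlgEquiv.apply_symm_apply _ _).trans rfl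
  have hprime : (P₁.map (C : MvPolynomial σ A →+* MvPolynomial ι (MvPolynomial σ A))).IsPrime := by
    rw [← Ideal.mk_ker (I := P₁), ← MvPolynomial.ker_map]
    exact RingHom.ker_isPrime _
  have hP₁M : P₁'.comap M = P₁ := by
    rw [Ideal.comap_comap, hMc, ← Ideal.mk_ker (I := P₁), ← MvPolynomial.ker_map, RingHom.comap_ker]
    ext g
    rw [RingHom.mem_ker, RingHom.mem_ker, RingHom.comp_apply, MvPolynomial.map_C]
    exact (map_eq_zero_iff _ (MvPolynomial.C_injective _ _))
  have hmapA : (MvPolynomial.map (algebraMap (MvPolynomial ι A) B)).comp M =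
      MvPolynomial.map (σ := σ) (algebraMap A B) :=
    RingHom.ext fun g => by
      rw [RingHom.comp_apply, MvPolynomial.map_map]
      congr 2
      exact (IsScalarTower.algebraMap_eq A (MvPolynomial ι A) B).symm
  have hP₁P₂ : P₁' ≤ P₂ := by
    show (P₁.map C).comap c.toRingHom ≤ P₂
    rw [show (P₁.map (C : MvPolynomial σ A →+* MvPolynomial ι (MvPolynomial σ A))) =
      P₁.map (c.toRingHom.comp M) by rw [hMc], ← Ideal.map_map]
    refine (Ideal.comap_map_of_bijective c.toRingHom c.bijective).le.trans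
      (Ideal.map_le_iff_le_comap.2 ?_)
    rw [Ideal.comap_comap, hmapA]
    exact hP₁
  have hker : RingHom.ker (algebraMap (MvPolynomial σ (MvPolynomial ι A)) (MvPolynomial σ B)) ≤
      nilradical (MvPolynomial σ (MvPolynomial ι A)) := fun z hz => by
    have hz' : z = 0 := MvPolynomial.map_injective _ hTinj (hz.trans (map_zero _).symm)
    rw [hz']; exact Submodule.zero_mem _
  have : P₁'.IsPrime := Ideal.IsPrime.comap _ (hK := hprime)
  obtain ⟨Q₁, hQ₁, hQ₁Q, hQ₁P⟩ := exists_le_comap_eq_of_quasiFiniteAt_of_isUnibranch hker Q P₂ rfl R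
    hR.1 P₁' hP₁P₂
  refine ⟨Q₁, hQ₁, hQ₁Q, ?_⟩
  rw [← hmapA, ← Ideal.comap_comap, ← hP₁M, ← hQ₁P]
  rfl

end Groth.Agent.E4O
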