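import Groth.Agent.E4O.ChevalleyOpen

/-!
EGA IV 14.4.4 (b ⇒ a) over an arbitrary base ring.
-/

universe u

open CategoryTheory AlgebraicGeometry Limits
open scoped TensorProduct

namespace Groth.Agent.E4O.Gen

section
attribute [local instance] MvPolynomial.algebraMvPolynomial

open MvPolynomial in
/-- EGA IV 14.4.4 for domains. -/
theorem exists_le_comap_map_eq_of_domain {A B : Type u} [CommRing A] [IsDomain A]
    [CommRing B] [IsDomain B] [Algebra A B] [Algebra.FiniteType A B]
    (hinj : Function.Injective (algebraMap A B)) (q : Ideal B) [q.IsPrime]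
    (Ap : Type u) [CommRing Ap] [IsLocalRing Ap] [Algebra A Ap]
    [IsLocalization.AtPrime Ap (q.under A)] (hAp : CAlg2.IsGeomUnibranch Ap)
    (hmax : ∀ q' : Ideal B, q'.IsPrime → q' ≤ q → q'.under A = q.under A → q' = q)
    (hdeg : Algebra.trdeg (A ⧸ q.under A) (B ⧸ q) ≤ Algebra.trdeg A B)
    (σ : Type u) (Q : Ideal (MvPolynomial σ B)) [Q.IsPrime] (hQ : Q.comap C = q)
    (P₁ : Ideal (MvPolynomial σ A)) [P₁.IsPrime]
    (hP₁ : P₁ ≤ Q.comap (MvPolynomial.map (algebraMap A B))) :
    ∃ Q₁ : Ideal (MvPolynomial σ B), Q₁.IsPrime ∧ Q₁ ≤ Q ∧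
      Q₁.comap (MvPolynomial.map (algebraMap A B)) = P₁ := by
  have : FaithfulSMul A B := (faithfulSMul_iff_algebraMap_injective A B).2 hinj
  have : FaithfulSMul (A ⧸ q.under A) (B ⧸ q) := (faithfulSMul_iff_algebraMap_injective _ _).2
    Ideal.algebraMap_quotient_injective
  obtain ⟨ι, x, hx⟩ := exists_isTranscendenceBasis' (A ⧸ q.under A) (B ⧸ q)
  have hcard := hx.cardinalMk_eq_trdeg
  have : Algebra.FiniteType A (B ⧸ q) :=
    Algebra.FiniteType.of_surjective (Ideal.Quotient.mkₐ A q) Ideal.Quotient.mk_surjective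
  have : Algebra.FiniteType (A ⧸ q.under A) (B ⧸ q) := .of_restrictScalars_finiteType A _ _
  have : Finite ι := Cardinal.mk_lt_aleph0_iff.1 (hcard ▸ trdeg_lt_aleph0_of_finiteType)
  choose t ht using fun i => Ideal.Quotient.mk_surjective (x i)
  have htx : Ideal.Quotient.mk q ∘ t = x := funext ht
  let T : MvPolynomial ι A →ₐ[A] B := MvPolynomial.aeval t
  algebraize [T.toRingHom]
  have : IsScalarTower A (MvPolynomial ι A) B :=
    IsScalarTower.of_algebraMap_eq fun a => (T.commutes a).symm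
  have hft : Algebra.FiniteType (MvPolynomial ι A) B := .of_restrictScalars_finiteType A _ _
  let P : Ideal (MvPolynomial ι A) := q.comap T.toRingHom
  have hPA : P.comap C = q.under A := by
    rw [Ideal.comap_comap, Ideal.under_def]
    congr 1
    exact T.comp_algebraMap
  -- `q` is isolated in its fibre over `A[t]`
  have huniq : ∀ r : Ideal B, r.IsPrime → r.comap T.toRingHom = P → (q ≤ r ∨ r ≤ q) → r = q := by
    intro r hr hrP h
    rcases h with h | h
    · exact eq_of_le_of_isAlgebraic_mod q r h t (htx.symm ▸ hx.isAlgebraic) hrP.le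
    · refine hmax r hr h ?_
      rw [Ideal.under_def, ← T.comp_algebraMap, ← Ideal.comap_comap]
      exact (congrArg (Ideal.comap C) hrP).trans hPA
  have hqf : Algebra.QuasiFiniteAt (MvPolynomial ι A) q := by
    refine Algebra.QuasiFiniteAt.of_isOpen_singleton_fiber ⟨q, inferInstance⟩ ?_
    let p' := PrimeSpectrum.comap (algebraMap (MvPolynomial ι A) B) ⟨q, inferInstance⟩
    let o := PrimeSpectrum.preimageOrderIsoFiber (MvPolynomial ι A) B p'
    let e := PrimeSpectrum.preimageHomeomorphFiber (MvPolynomial ι A) B p'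
    have : IsNoetherianRing (p'.asIdeal.Fiber B) :=
      Algebra.FiniteType.isNoetherianRing p'.asIdeal.ResidueField _
    have : IsJacobsonRing (p'.asIdeal.Fiber B) :=
      isJacobsonRing_of_finiteType (A := p'.asIdeal.ResidueField)
    rw [← e.isOpen_image, Set.image_singleton]
    refine ((PrimeSpectrum.isOpen_singleton_tfae_of_isNoetherian_of_isJacobsonRing _).out 0 2 rfl rfl).2
      ⟨?_, ?_⟩
    · rw [PrimeSpectrum.isClosed_singleton_iff_isMaximal, ← PrimeSpectrum.isMax_iff]
      intro r hr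
      obtain ⟨⟨r, hr'⟩, rfl⟩ := o.surjective r
      have hle : q ≤ r.asIdeal := (o.le_iff_le (x := ⟨⟨q, inferInstance⟩, rfl⟩) (y := ⟨r, hr'⟩)).1 hr
      refine (o.le_iff_le (x := ⟨r, hr'⟩) (y := ⟨⟨q, inferInstance⟩, rfl⟩)).2 ?_
      exact (huniq r.asIdeal r.2 (congrArg PrimeSpectrum.asIdeal hr') (Or.inl hle)).le
    · intro a r hra ha
      obtain rfl := Set.mem_singleton_iff.1 ha
      have hr := (PrimeSpectrum.le_iff_specializes _ _).2 hra
      show r = _
      refine le_antisymm hr ?_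
      obtain ⟨⟨r, hr'⟩, rfl⟩ := o.surjective r
      have hle : r.asIdeal ≤ q := (o.le_iff_le (x := ⟨r, hr'⟩) (y := ⟨⟨q, inferInstance⟩, rfl⟩)).1 hr
      refine (o.le_iff_le (x := ⟨⟨q, inferInstance⟩, rfl⟩) (y := ⟨r, hr'⟩)).2 ?_
      exact (huniq r.asIdeal r.2 (congrArg PrimeSpectrum.asIdeal hr') (Or.inr hle)).ge
  -- `t` is algebraically independent
  have halg : Algebra.IsAlgebraic (Algebra.adjoin A (Set.range t)) B := by
    obtain ⟨S', hS', r₀, hr₀q, hbij⟩ :=
      Algebra.QuasiFiniteAt.exists_fg_and_exists_notMem_and_awayMap_bijective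
        (R := MvPolynomial ι A) q
    have : Module.Finite (MvPolynomial ι A) S' := ⟨(Submodule.fg_top _).mpr hS'⟩
    have hint : ∀ y ∈ S', IsIntegral (Algebra.adjoin A (Set.range t)) y := fun y hy => by
      have h1 : IsIntegral (MvPolynomial ι A) y :=
        (Algebra.IsIntegral.isIntegral (R := MvPolynomial ι A) (⟨y, hy⟩ : S')).map S'.val
      refine h1.map_of_comp_eq (T.toRingHom.codRestrict _ fun z => ?_) (RingHom.id B) rfl
      rw [Algebra.adjoin_range_eq_range_aeval]
      exact ⟨z, rfl⟩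
    refine ⟨fun β => ?_⟩
    obtain ⟨z, hz⟩ := hbij.2 (algebraMap B _ β)
    obtain ⟨n, ⟨y, hy⟩, hzy⟩ := IsLocalization.Away.surj r₀ z
    have hr0 : r₀.1 ≠ 0 := fun h => hr₀q (by show r₀.1 ∈ q; rw [h]; exact q.zero_mem)
    have key : algebraMap B (Localization.Away (S'.val.toRingHom r₀)) (β * r₀.1 ^ n) =
        algebraMap B _ y := by
      have := congrArg (Localization.awayMap S'.val.toRingHom r₀) hzy
      rw [map_mul, map_pow, hz] at this
      simp only [Localization.awayMap, IsLocalization.Away.map, IsLocalization.map_eq] at this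
      rw [map_mul, map_pow]
      exact this
    have key' : β * r₀.1 ^ n = y :=
      IsLocalization.injective (M := Submonoid.powers (S'.val.toRingHom r₀)) _
        (powers_le_nonZeroDivisors_of_noZeroDivisors hr0) key
    refine IsAlgebraic.of_mul (y := r₀.1 ^ n)
      (mem_nonZeroDivisors_of_ne_zero (pow_ne_zero n hr0)) ((hint _ r₀.2).pow n).isAlgebraic ?_
    rw [mul_comm, key']
    exact (hint y hy).isAlgebraic
  have hTinj : Function.Injective T :=
    (Algebra.IsAlgebraic.isTranscendenceBasis_of_le_trdeg_of_finite A t (hcard ▸ hdeg)).1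
  -- unibranchness after base change
  have hP : P.IsPrime := inferInstance
  let AP := Localization.AtPrime P
  have hAP : CAlg2.IsGeomUnibranch AP :=
    isGeomUnibranch_mvPolynomial (q.under A) Ap hAp ι P hPA AP
  let P₂ : Ideal (MvPolynomial σ (MvPolynomial ι A)) :=
    Q.comap (MvPolynomial.map (algebraMap (MvPolynomial ι A) B))
  have hP₂ : P₂.comap C = P := by
    rw [Ideal.comap_comap, show (MvPolynomial.map (algebraMap (MvPolynomial ι A) B)).comp
      (C : MvPolynomial ι A →+* MvPolynomial σ (MvPolynomial ι A)) = C.comp T.toRingHom from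
      RingHom.ext fun z => MvPolynomial.map_C _ z, ← Ideal.comap_comap, hQ]
  let R := Localization.AtPrime P₂
  have hR : CAlg2.IsGeomUnibranch R := isGeomUnibranch_mvPolynomial P AP hAP σ P₂ hP₂ R
  -- quasi-finiteness after base change
  let e : MvPolynomial σ (MvPolynomial ι A) ⊗[MvPolynomial ι A] B ≃ₐ[MvPolynomial σ (MvPolynomial ι A)]
      MvPolynomial σ B := Algebra.IsPushout.equiv (MvPolynomial ι A) _ B _
  have hftσ : Algebra.FiniteType (MvPolynomial σ (MvPolynomial ι A)) (MvPolynomial σ B) :=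
    Algebra.FiniteType.equiv inferInstance e
  have hqfQ : Algebra.QuasiFiniteAt (MvPolynomial σ (MvPolynomial ι A)) Q := by
    let Q' := Q.comap e.toAlgHom.toRingHom
    have hQ' : Q'.IsPrime := Ideal.IsPrime.comap _
    have hq' : q = Q'.comap
        Algebra.TensorProduct.includeRight.toRingHom := by
      rw [← hQ, Ideal.comap_comap]
      congr 1
      exact RingHom.ext fun b => ((Algebra.IsPushout.equiv_tmul (MvPolynomial ι A)
        (MvPolynomial σ (MvPolynomial ι A)) B (MvPolynomial σ B) 1 b).trans (by rw [map_one, one_mul]; rfl)).symm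
    have := Algebra.QuasiFiniteAt.baseChange q Q' hq'
    exact Algebra.QuasiFiniteAt.of_surjectiveOnStalks (R := MvPolynomial σ (MvPolynomial ι A))
      (S := MvPolynomial σ (MvPolynomial ι A) ⊗[MvPolynomial ι A] B) (T := MvPolynomial σ B) Q' e.toAlgHom
      (RingHom.surjectiveOnStalks_of_surjective e.surjective) Q rfl
  -- lifting
  let M : MvPolynomial σ A →+* MvPolynomial σ (MvPolynomial ι A) := MvPolynomial.map C
  let c := (MvPolynomial.commAlgEquiv A σ ι).toRingEquiv
  let P₁' : Ideal (MvPolynomial σ (MvPolynomial ι A)) :=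
    (P₁.map (C : MvPolynomial σ A →+* MvPolynomial ι (MvPolynomial σ A))).comap c.toRingHom
  have hMc : c.toRingHom.comp M = C := by
    refine RingHom.ext fun g => ?_
    show MvPolynomial.commAlgEquiv A σ ι (MvPolynomial.map C g) = C g
    rw [← MvPolynomial.commAlgEquiv_C]
    exact (AlgEquiv.apply_symm_apply _ _).trans rfl
  have hprime : (P₁.map (C : MvPolynomial σ A →+* MvPolynomial ι (MvPolynomial σ A))).IsPrime := by
    rw [← Ideal.mk_ker (I := P₁), ← MvPolynomial.ker_map]
    exact RingHom.ker_isPrime _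
  have hP₁M : P₁'.comap M = P₁ := by
    rw [Ideal.comap_comap, hMc, ← Ideal.mk_ker (I := P₁), ← MvPolynomial.ker_map, RingHom.comap_ker]
    ext g
    rw [RingHom.mem_ker, RingHom.mem_ker, RingHom.comp_apply, MvPolynomial.map_C]
    exact (map_eq_zero_iff _ (MvPolynomial.C_injective _ _))
  have hmapA : (MvPolynomial.map (algebraMap (MvPolynomial ι A) B)).comp M =
      MvPolynomial.map (σ := σ) (algebraMap A B) :=
    RingHom.ext fun g => by
      rw [RingHom.comp_apply, MvPolynomial.map_map]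
      congr 2
      exact (IsScalarTower.algebraMap_eq A (MvPolynomial ι A) B).symm
  have hP₁P₂ : P₁' ≤ P₂ := by
    show (P₁.map C).comap c.toRingHom ≤ P₂
    rw [show (P₁.map (C : MvPolynomial σ A →+* MvPolynomial ι (MvPolynomial σ A))) =
      P₁.map (c.toRingHom.comp M) by rw [hMc], ← Ideal.map_map]
    refine (Ideal.comap_map_of_bijective c.toRingHom c.bijective).le.trans
      (Ideal.map_le_iff_le_comap.2 ?_)
    rw [Ideal.comap_comap, hmapA]
    exact hP₁
  have hker : RingHom.ker (algebraMap (MvPolynomial σ (MvPolynomial ι A)) (MvPolynomial σ B)) ≤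
      nilradical (MvPolynomial σ (MvPolynomial ι A)) := fun z hz => by
    have hz' : z = 0 := MvPolynomial.map_injective _ hTinj (hz.trans (map_zero _).symm)
    rw [hz']; exact Submodule.zero_mem _
  have : P₁'.IsPrime := Ideal.IsPrime.comap _ (hK := hprime)
  obtain ⟨Q₁, hQ₁, hQ₁Q, hQ₁P⟩ := exists_le_comap_eq_of_quasiFiniteAt_of_isUnibranch hker Q P₂ rfl R
    hR.1 P₁' hP₁P₂
  refine ⟨Q₁, hQ₁, hQ₁Q, ?_⟩
  rw [← hmapA, ← Ideal.comap_comap, ← hP₁M, ← hQ₁P]
  rfl


end

open MvPolynomial in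
/-- EGA IV 14.4.4, ring form. -/
theorem exists_le_map_eq_of_geomUnibranch {A B : Type u} [CommRing A] 
    [CommRing B] [Algebra A B] [Algebra.FiniteType A B] (q₀ q : Ideal B) [q₀.IsPrime] [q.IsPrime]
    (hle : q₀ ≤ q) (Ap : Type u) [CommRing Ap] [IsLocalRing Ap] [Algebra A Ap]
    [IsLocalization.AtPrime Ap (q.under A)] (hAp : CAlg2.IsGeomUnibranch Ap)
    (hmin : ∀ p' : Ideal A, p'.IsPrime → p' ≤ q.under A → q₀.under A ≤ p')
    (hmax : ∀ q' : Ideal B, q'.IsPrime → q' ≤ q → q'.under A = q.under A → q' = q)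
    (hdeg : Algebra.trdeg (A ⧸ q.under A) (B ⧸ q) ≤ Algebra.trdeg (A ⧸ q₀.under A) (B ⧸ q₀))
    (σ : Type u) (Q : Ideal (MvPolynomial σ B)) [Q.IsPrime] (hQ : Q.comap C = q)
    (P₁ : Ideal (MvPolynomial σ A)) [P₁.IsPrime]
    (hP₁ : P₁ ≤ Q.comap (MvPolynomial.map (algebraMap A B))) :
    ∃ Q₁ : Ideal (MvPolynomial σ B), Q₁.IsPrime ∧ Q₁ ≤ Q ∧
      Q₁.comap (MvPolynomial.map (algebraMap A B)) = P₁ := by
  let p₀ := q₀.under A
  let mA : A →+* A ⧸ p₀ := Ideal.Quotient.mk p₀
  let mB : B →+* B ⧸ q₀ := Ideal.Quotient.mk q₀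
  have hsq : mB.comp (algebraMap A B) = (algebraMap (A ⧸ p₀) (B ⧸ q₀)).comp mA := rfl
  have hqb : (q.map mB).IsPrime :=
    Ideal.map_isPrime_of_surjective Ideal.Quotient.mk_surjective (Ideal.mk_ker.le.trans hle)
  have hqbc : (q.map mB).comap mB = q := by
    rw [Ideal.comap_map_of_surjective mB Ideal.Quotient.mk_surjective, ← RingHom.ker_eq_comap_bot,
      Ideal.mk_ker]
    exact sup_eq_left.2 hle
  have hpb : ((q.map mB).under (A ⧸ p₀)).comap mA = q.under A := by
    rw [Ideal.under_def, Ideal.comap_comap, ← hsq, ← Ideal.comap_comap, hqbc]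
  let Ap' := Localization.AtPrime ((q.map mB).under (A ⧸ p₀))
  let π : Ap →+* Ap' := IsLocalization.map (M := (q.under A).primeCompl)
    (T := ((q.map mB).under (A ⧸ p₀)).primeCompl) Ap' mA fun a ha h => ha (hpb.le h)
  have hπ : Function.Surjective π := by
    intro x
    obtain ⟨a, ⟨s, hs⟩, rfl⟩ :=
      IsLocalization.exists_mk'_eq ((q.map mB).under (A ⧸ p₀)).primeCompl x
    obtain ⟨a, rfl⟩ := Ideal.Quotient.mk_surjective a
    obtain ⟨s, rfl⟩ := Ideal.Quotient.mk_surjective s
    refine ⟨IsLocalization.mk' Ap a (⟨s, fun h => hs (hpb.ge h)⟩ : (q.under A).primeCompl), ?_⟩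
    exact IsLocalization.map_mk' _ _ _
  have hker : RingHom.ker π ≤ nilradical Ap := by
    intro x hx
    obtain ⟨a, s, rfl⟩ := IsLocalization.exists_mk'_eq (q.under A).primeCompl x
    rw [RingHom.mem_ker, IsLocalization.map_mk', IsLocalization.mk'_eq_zero_iff] at hx
    obtain ⟨⟨t, ht⟩, hta⟩ := hx
    have ha : a ∈ p₀ := by
      rcases mul_eq_zero.1 hta with h | h
      · exact absurd (by rw [show t = 0 from h]; exact Ideal.zero_mem _) ht
      · exact Ideal.Quotient.eq_zero_iff_mem.1 h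
    rw [IsLocalization.mk'_eq_mul_mk'_one]
    refine Ideal.mul_mem_right _ _ ?_
    rw [nilradical_eq_sInf, Ideal.mem_sInf]
    intro P hP
    have hdisj : Disjoint ((q.under A).primeCompl : Set A) (P.comap (algebraMap A Ap)) :=
      ((IsLocalization.isPrime_iff_isPrime_disjoint (q.under A).primeCompl Ap P).1 hP).2
    exact hmin (P.comap (algebraMap A Ap)) (hP.comap _)
      (fun y hy => by_contra fun hy' => Set.disjoint_left.1 hdisj hy' hy) ha
  -- the prime upstairs and the prime downstairs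
  let μB : MvPolynomial σ B →+* MvPolynomial σ (B ⧸ q₀) := MvPolynomial.map mB
  let μA : MvPolynomial σ A →+* MvPolynomial σ (A ⧸ p₀) := MvPolynomial.map mA
  have hμB : Function.Surjective μB := MvPolynomial.map_surjective _ Ideal.Quotient.mk_surjective
  have hμA : Function.Surjective μA := MvPolynomial.map_surjective _ Ideal.Quotient.mk_surjective
  have hkB : RingHom.ker μB ≤ Q := by
    rw [MvPolynomial.ker_map, Ideal.mk_ker, Ideal.map_le_iff_le_comap, hQ]
    exact hle
  have hkA : RingHom.ker μA ≤ P₁ := by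
    rw [MvPolynomial.ker_map, Ideal.mk_ker, Ideal.map_le_iff_le_comap]
    refine hmin _ inferInstance fun a ha => ?_
    have h := hP₁ ha
    rw [Ideal.mem_comap, MvPolynomial.map_C] at h
    exact hQ.le h
  have hQb : (Q.map μB).IsPrime := Ideal.map_isPrime_of_surjective hμB hkB
  have hPb : (P₁.map μA).IsPrime := Ideal.map_isPrime_of_surjective hμA hkA
  have hQbc : (Q.map μB).comap μB = Q := by
    rw [Ideal.comap_map_of_surjective μB hμB, ← RingHom.ker_eq_comap_bot]
    exact sup_eq_left.2 hkB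
  have hPbc : (P₁.map μA).comap μA = P₁ := by
    rw [Ideal.comap_map_of_surjective μA hμA, ← RingHom.ker_eq_comap_bot]
    exact sup_eq_left.2 hkA
  have hcomm : μB.comp (MvPolynomial.map (algebraMap A B)) =
      (MvPolynomial.map (algebraMap (A ⧸ p₀) (B ⧸ q₀))).comp μA := by
    refine RingHom.ext fun g => ?_
    simp only [RingHom.comp_apply, μA, μB, MvPolynomial.map_map, hsq]
  have hQbC : (Q.map μB).comap C = q.map mB := by
    refine Ideal.comap_injective_of_surjective mB Ideal.Quotient.mk_surjective ?_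
    rw [hqbc, Ideal.comap_comap, show (C : B ⧸ q₀ →+* MvPolynomial σ (B ⧸ q₀)).comp mB = μB.comp C from
      RingHom.ext fun b => (MvPolynomial.map_C _ b).symm, ← Ideal.comap_comap, hQbc, hQ]
  have : Algebra.FiniteType A (B ⧸ q₀) :=
    Algebra.FiniteType.of_surjective (Ideal.Quotient.mkₐ A q₀) Ideal.Quotient.mk_surjective
  have : Algebra.FiniteType (A ⧸ p₀) (B ⧸ q₀) := .of_restrictScalars_finiteType A _ _
  obtain ⟨Q₁, hQ₁, hQ₁Q, hQ₁P⟩ := exists_le_comap_map_eq_of_domain (A := A ⧸ p₀) (B := B ⧸ q₀)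
    Ideal.algebraMap_quotient_injective (q.map mB) Ap' (isGeomUnibranch_of_surjective π hπ hker hAp)
    (fun q' hq' hq'le hu => by
      have h1 : q'.comap mB = q := hmax _ (hq'.comap _) (fun b hb => hqbc.le (hq'le hb)) (by
        rw [Ideal.under_def, Ideal.comap_comap, hsq, ← Ideal.comap_comap]
        exact (congrArg (Ideal.comap mA) hu).trans hpb)
      rw [← h1, Ideal.map_comap_of_surjective mB Ideal.Quotient.mk_surjective])
    (by
      refine le_trans (le_of_eq ?_) hdeg
      let eR : (A ⧸ p₀) ⧸ (q.map mB).under (A ⧸ p₀) ≃+* A ⧸ q.under A :=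
        (Ideal.quotEquivOfEq (by
          rw [← hpb, Ideal.map_comap_of_surjective mA Ideal.Quotient.mk_surjective] :
          (q.map mB).under (A ⧸ p₀) = (q.under A).map mA)).trans
          (DoubleQuot.quotQuotEquivQuotOfLE (fun a ha => hle ha))
      refine trdeg_eq_of_ringEquiv eR (DoubleQuot.quotQuotEquivQuotOfLE hle) ?_
      refine Ideal.Quotient.ringHom_ext (Ideal.Quotient.ringHom_ext (RingHom.ext fun a => ?_))
      rfl)
    σ (Q.map μB) hQbC (P₁.map μA) (by
      rw [Ideal.map_le_iff_le_comap, Ideal.comap_comap, ← hcomm, ← Ideal.comap_comap, hQbc]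
      exact hP₁)
  refine ⟨Q₁.comap μB, hQ₁.comap _, fun g hg => hQbc.le (hQ₁Q hg), ?_⟩
  rw [Ideal.comap_comap, hcomm, ← Ideal.comap_comap, hQ₁P, hPbc]

open MvPolynomial in
/-- EGA IV 14.4.4: lifting of generizations after a finite type base change. -/
theorem exists_le_tensor_of_geomUnibranch {A B A' : Type u} [CommRing A] 
    [CommRing B] [Algebra A B] [Algebra.FiniteType A B] [CommRing A'] [Algebra A A']
    [Algebra.FiniteType A A'] (q₀ q : Ideal B) [q₀.IsPrime] [q.IsPrime]
    (hle : q₀ ≤ q) (Ap : Type u) [CommRing Ap] [IsLocalRing Ap] [Algebra A Ap]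
    [IsLocalization.AtPrime Ap (q.under A)] (hAp : CAlg2.IsGeomUnibranch Ap)
    (hmin : ∀ p' : Ideal A, p'.IsPrime → p' ≤ q.under A → q₀.under A ≤ p')
    (hmax : ∀ q' : Ideal B, q'.IsPrime → q' ≤ q → q'.under A = q.under A → q' = q)
    (hdeg : Algebra.trdeg (A ⧸ q.under A) (B ⧸ q) ≤ Algebra.trdeg (A ⧸ q₀.under A) (B ⧸ q₀))
    (z : Ideal (B ⊗[A] A')) [z.IsPrime]
    (hz : z.comap Algebra.TensorProduct.includeLeftRingHom = q) (w' : Ideal A') [w'.IsPrime]
    (hw : w' ≤ z.comap (Algebra.TensorProduct.includeRight : A' →ₐ[A] B ⊗[A] A').toRingHom) :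
    ∃ z' : Ideal (B ⊗[A] A'), z'.IsPrime ∧ z' ≤ z ∧
      z'.comap (Algebra.TensorProduct.includeRight : A' →ₐ[A] B ⊗[A] A').toRingHom = w' := by
  obtain ⟨σ, _, π, hπ⟩ := Algebra.FiniteType.iff_quotient_mvPolynomial'.1 ‹Algebra.FiniteType A A'›
  let ψ : MvPolynomial σ B →ₐ[B] B ⊗[A] A' := MvPolynomial.aeval fun i => 1 ⊗ₜ[A] π (X i)
  have hψC : ψ.toRingHom.comp C = Algebra.TensorProduct.includeLeftRingHom :=
    RingHom.ext fun b => MvPolynomial.aeval_C _ b
  have hψπ : ψ.toRingHom.comp (MvPolynomial.map (algebraMap A B)) =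
      (Algebra.TensorProduct.includeRight : A' →ₐ[A] B ⊗[A] A').toRingHom.comp π.toRingHom := by
    refine MvPolynomial.ringHom_ext (fun a => ?_) fun i => ?_
    · simp [ψ]
    · simp [ψ]
  obtain ⟨Q₁, hQ₁, hQ₁Q, hQ₁P⟩ := exists_le_map_eq_of_geomUnibranch q₀ q hle Ap hAp hmin hmax hdeg σ
    (z.comap ψ.toRingHom) (by rw [Ideal.comap_comap, hψC, hz]) (w'.comap π.toRingHom) (by
      rw [Ideal.comap_comap, hψπ, ← Ideal.comap_comap]
      exact Ideal.comap_mono hw)
  let mQ : MvPolynomial σ B →+* MvPolynomial σ B ⧸ Q₁ := Ideal.Quotient.mk Q₁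
  let g : MvPolynomial σ A →+* MvPolynomial σ B ⧸ Q₁ := mQ.comp (MvPolynomial.map (algebraMap A B))
  have hg : RingHom.ker π.toRingHom ≤ RingHom.ker g := fun a ha => by
    have : a ∈ Q₁.comap (MvPolynomial.map (algebraMap A B)) := by
      rw [hQ₁P, Ideal.mem_comap, RingHom.mem_ker.1 ha]
      exact Ideal.zero_mem _
    exact Ideal.Quotient.eq_zero_iff_mem.2 this
  let θ₂ : A' →+* MvPolynomial σ B ⧸ Q₁ := π.toRingHom.liftOfSurjective hπ ⟨g, hg⟩
  have hθ₂ : ∀ a, θ₂ (π a) = g a := fun a => RingHom.liftOfRightInverse_comp_apply _ _ _ _ a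
  let θ₁ : B →ₐ[A] MvPolynomial σ B ⧸ Q₁ :=
    ((Ideal.Quotient.mkₐ B Q₁).comp (Algebra.ofId B _)).restrictScalars A
  have hθA : ∀ a, θ₂ (algebraMap A A' a) = algebraMap A (MvPolynomial σ B ⧸ Q₁) a := fun a => by
    rw [← π.commutes a, hθ₂]
    show mQ (MvPolynomial.map (algebraMap A B) (C a)) = _
    rw [MvPolynomial.map_C]
    rfl
  let θ₂' : A' →ₐ[A] MvPolynomial σ B ⧸ Q₁ := ⟨θ₂, hθA⟩
  let θ := Algebra.TensorProduct.lift θ₁ θ₂' fun _ _ => Commute.all _ _
  have hθψ : θ.toRingHom.comp ψ.toRingHom = mQ := by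
    refine MvPolynomial.ringHom_ext (fun b => ?_) fun i => ?_
    · show θ (ψ (C b)) = _
      rw [MvPolynomial.aeval_C]
      show θ (b ⊗ₜ[A] 1) = _
      rw [Algebra.TensorProduct.lift_tmul, map_one, mul_one]
      rfl
    · show θ (ψ (X i)) = _
      rw [MvPolynomial.aeval_X, Algebra.TensorProduct.lift_tmul, map_one, one_mul]
      show θ₂ (π (X i)) = _
      rw [hθ₂]
      exact congrArg mQ (MvPolynomial.map_X _ i)
  have hψs : ∀ x : B ⊗[A] A', ∃ y, ψ y = x := by
    intro x
    induction x using TensorProduct.induction_on with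
    | zero => exact ⟨0, map_zero _⟩
    | tmul b a =>
      obtain ⟨a, rfl⟩ := hπ a
      refine ⟨C b * MvPolynomial.map (algebraMap A B) a, ?_⟩
      rw [map_mul, MvPolynomial.aeval_C,
        show ψ (MvPolynomial.map (algebraMap A B) a) = 1 ⊗ₜ[A] π a from congr($hψπ a)]
      show b ⊗ₜ[A] 1 * 1 ⊗ₜ[A] π a = _
      rw [Algebra.TensorProduct.tmul_mul_tmul, mul_one, one_mul]
    | add x y hx hy =>
      obtain ⟨u, rfl⟩ := hx
      obtain ⟨v, rfl⟩ := hy
      exact ⟨u + v, map_add _ _ _⟩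
  refine ⟨RingHom.ker θ.toRingHom, RingHom.ker_isPrime _, fun x hx => ?_, ?_⟩
  · obtain ⟨y, rfl⟩ := hψs x
    have : mQ y = 0 := (congr($hθψ y)).symm.trans hx
    exact hQ₁Q (Ideal.Quotient.eq_zero_iff_mem.1 this)
  · refine Ideal.comap_injective_of_surjective π.toRingHom hπ ?_
    rw [← hQ₁P, Ideal.comap_comap, ← hψπ, ← Ideal.comap_comap, RingHom.comap_ker, hθψ, Ideal.mk_ker]

end Groth.Agent.E4O.Gen
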