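import Groth.Agent.E4O.Subscheme
import Groth.Agent.E4O.ChartDim

/-!
Codimension of closed subsets through a point of equidimensionality (EGA IV 13.3).
-/

universe u

open CategoryTheory AlgebraicGeometry TopologicalSpace Topology

namespace Groth.Agent.E4O

variable {X Y : Scheme.{u}}

/-- If `ξ ⤳ x` has codimension at most `n` and cuts the fibre of `x` in dimension at most `e - n`,
then both are equalities and `ξ` lies over a generic point of the base. -/
theorem codim_eq_of_isEquidimAt [IsLocallyNoetherian Y] (f : X ⟶ Y) [LocallyOfFiniteType f]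
    {x ξ : X} {n e : ℕ} (hf : EGA43.IsEquidimAt f x) (he : FlatMor.fibreDimAt f x = (e : ℕ))
    (hξ : ξ ⤳ x) (hh : ringKrullDim (X.presheaf.stalk ξ) ≤ n)
    (h : ∀ z, ξ ⤳ z → z ⤳ x → f z = f x → fdeg f z + n ≤ e) :
    ringKrullDim (X.presheaf.stalk ξ) = n ∧ fdeg f ξ + n = e ∧
      closure {f ξ} ∈ irreducibleComponents (Y : Type u) := by
  obtain ⟨e', he', -, hgen⟩ := exists_of_isEquidimAt f hf
  rw [he] at he'
  obtain rfl : e = e' := by exact_mod_cast he'
  obtain ⟨C, ⟨q, rfl⟩, hC⟩ := exists_chart f x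
  have := hC ‹_›
  have : IsNoetherianRing C.B := Algebra.FiniteType.isNoetherianRing C.A _
  obtain ⟨q₀, rfl⟩ := hξ.mem_open C.isOpenEmbedding_pt.isOpen_range ⟨q, rfl⟩
  obtain ⟨ω, hω, hfω, hωmax, -, -⟩ := exists_isFibreMax_specializes f (C.pt q₀)
  obtain ⟨t, rfl⟩ := hω.mem_open C.isOpenEmbedding_pt.isOpen_range ⟨q₀, rfl⟩
  -- the maximal point of the fibre has degree `e`
  have hωe : fdeg f (C.pt t) = e := by
    refine le_antisymm ?_ ?_
    · have h1 := fdeg_le_fibreDimAt_of_specializes (f := f) (hω.trans hξ)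
      rw [he] at h1
      exact_mod_cast h1
    · obtain ⟨m, hm, hmt⟩ := Ideal.exists_minimalPrimes_le (I := ⊥) (J := t.asIdeal) bot_le
      let m' : PrimeSpectrum C.B := ⟨m, Ideal.minimalPrimes_isPrime hm⟩
      have hmin : IsMin m' := PrimeSpectrum.isMin_iff.2 hm
      have hsp : C.pt m' ⤳ C.pt t := (C.specializes_iff _ _).2 hmt
      have h1 := fdeg_le_fibreDimAt_of_specializes (f := f) hsp
      rw [fibreDimAt_eq_fdeg hωmax,
        (hgen _ ((hsp.trans hω).trans hξ) ((C.isMin_iff m').1 hmin)).1] at h1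
      exact_mod_cast h1
  have htq : t ≤ q₀ := (C.specializes_iff _ _).1 hω
  have h1 := C.fdeg_le_relHeight_add t q₀ htq
    (C.isOpenEmbedding_ptY.injective (by rw [← C.apply, ← C.apply]; exact hfω))
  rw [hωe] at h1
  have h2 := relHeight_add_le_height htq
  have h3 : q₀.asIdeal.height ≤ (n : ℕ∞) := by
    rw [C.ringKrullDim_stalk] at hh
    exact_mod_cast hh
  obtain ⟨z, hξz, hzx, hfz, hdeg⟩ := exists_fdeg_ge_between f hξ
  have h4 : fdeg f (C.pt q₀) + n ≤ e := (Nat.add_le_add_right hdeg n).trans (h z hξz hzx hfz)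
  obtain ⟨a, ha⟩ := ENat.ne_top_iff_exists.1 (Ideal.height_ne_top (I := q₀.asIdeal) q₀.2.ne_top)
  obtain ⟨b, hb⟩ := ENat.ne_top_iff_exists.1 (Ideal.height_ne_top (I := t.asIdeal) t.2.ne_top)
  rw [← ha] at h2 h3
  rw [← hb] at h2
  obtain ⟨c, hc⟩ := ENat.ne_top_iff_exists.1
    (ne_top_of_le_ne_top (ENat.natCast_ne_top a) (le_add_self.trans h2))
  rw [← hc] at h1 h2
  norm_cast at h1 h2 h3
  refine ⟨?_, by omega, ?_⟩
  · rw [C.ringKrullDim_stalk, ← ha]
    exact_mod_cast (by omega : a = n)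
  · have hb0 : t.asIdeal.height = 0 := by
      rw [← hb]; exact_mod_cast (by omega : b = 0)
    have hmin : IsMin t := PrimeSpectrum.isMin_iff.2 (Ideal.height_eq_zero_iff.1 hb0)
    rw [← hfω]
    exact (hgen _ (hω.trans hξ) ((C.isMin_iff t).1 hmin)).2

end Groth.Agent.E4O
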