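import Groth.Agent.E4O.SectionCompDvr

/-!
Connected components of the fibres as clopen subsets.
-/

set_option autoImplicit false
set_option linter.style.haveILetI false

universe u

open CategoryTheory CategoryTheory.Limits AlgebraicGeometry TopologicalSpace Topology

namespace Groth.Agent.E4O

/-- The component of a fibre through a point is clopen in the fibre. -/
theorem isClopen_fiberι_preimage_component {X Y : Scheme.{u}} (f : X ⟶ Y) [LocallyOfFiniteType f] {y : Y}
    {x : X} (hx : f x = y) : IsClopen ((f.fiberι y) ⁻¹' connectedComponentIn (f ⁻¹' {y}) x) := by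
  obtain ⟨w, rfl⟩ := (f.range_fiberι y).ge hx
  haveI : LocallyOfFiniteType (f.fiberToSpecResidueField y) :=
    MorphismProperty.pullback_snd (P := @LocallyOfFiniteType) _ _ inferInstance
  haveI : IsLocallyNoetherian (f.fiber y) :=
    LocallyOfFiniteType.isLocallyNoetherian (f.fiberToSpecResidueField y)
  haveI := locallyConnectedSpace_of_isLocallyNoetherian (f.fiber y)
  have e : (f.fiberι y) ⁻¹' connectedComponentIn (f ⁻¹' {y}) (f.fiberι y w) = connectedComponent w := by
    refine Set.Subset.antisymm ?_ fun v hv => ?_
    · refine IsPreconnected.subset_connectedComponent ?_ (mem_connectedComponentIn (show f.fiberι y w ∈ _ from hx))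
      rw [← (f.fiberι y).isEmbedding.isInducing.isPreconnected_image, Set.image_preimage_eq_inter_range,
        f.range_fiberι, Set.inter_eq_left.2 (connectedComponentIn_subset _ _)]
      exact isPreconnected_connectedComponentIn
    · refine IsPreconnected.subset_connectedComponentIn
        (isPreconnected_connectedComponent.image (f.fiberι y) (f.fiberι y).continuous.continuousOn)
        ⟨w, mem_connectedComponent, rfl⟩ ?_ ⟨v, hv, rfl⟩
      exact (Set.image_subset_range _ _).trans (f.range_fiberι y).le
  rw [e]
  exact ⟨isClosed_connectedComponent, isOpen_connectedComponent⟩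

end Groth.Agent.E4O
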