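import Groth.Agent.E4O.SectionCompDim
import Groth.Agent.E4O.GenOpen
import Groth.Agent.E4O.OpenMapDims
import Groth.Agent.E4O.DvrCrit
import Groth.Agent.FibDim94.BaseChange
import Groth.Prelude.Def_FDesc

/-!
EGA IV 15.6.2–15.6.5: irreducible section components. Their dimension is the fibre dimension at the
section, so it is upper semicontinuous; where it is locally constant the morphism is universally open.
-/

set_option autoImplicit false
set_option linter.style.haveILetI false
universe u

open CategoryTheory CategoryTheory.Limits AlgebraicGeometry TopologicalSpace Topology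

namespace Groth.Agent.E4O

variable {X Y : Scheme.{u}}

theorem dim_component_eq_fibreDimAt (f : X ⟶ Y) [LocallyOfFiniteType f] (g : Y ⟶ X) (hg : g ≫ f = 𝟙 Y)
    {y : Y} (hirr : IsIrreducible (connectedComponentIn (f ⁻¹' {y}) (g y))) :
    topologicalKrullDim ↥(connectedComponentIn (f ⁻¹' {y}) (g y)) = FlatMor.fibreDimAt f (g y) := by
  have hgy := section_apply f g hg y
  have hm : g y ∈ connectedComponentIn (f ⁻¹' {y}) (g y) := mem_connectedComponentIn hgy
  obtain ⟨z, hzy, hfz, -, hd, -⟩ := exists_isFibreMax_specializes f (g y)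
  obtain ⟨z₀, hz₀, hC⟩ := exists_generic_component f hirr
  rw [hgy] at hfz
  refine le_antisymm ?_ (hd ▸ fdeg_le_dim_component f (mem_connectedComponentIn_of_specializes f hm hzy hfz))
  rw [hC, dim_closure_inter_fibre f hz₀]
  exact fdeg_le_fibreDimAt (specializes_iff_mem_closure.mpr (hC.le hm).1) (hz₀.trans hgy.symm)

theorem isOpen_dim_component_lt (f : X ⟶ Y) [LocallyOfFiniteType f] (g : Y ⟶ X) (hg : g ≫ f = 𝟙 Y)
    (hirr : ∀ y, IsIrreducible (connectedComponentIn (f ⁻¹' {y}) (g y))) (c : WithBot ℕ∞) :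
    IsOpen {y : Y | topologicalKrullDim ↥(connectedComponentIn (f ⁻¹' {y}) (g y)) < c} := by
  simp only [dim_component_eq_fibreDimAt f g hg (hirr _)]
  exact (isOpen_fibreDimAt_lt f c).preimage g.continuous

theorem upperSemicontinuous_dim_component (f : X ⟶ Y) [LocallyOfFiniteType f] (g : Y ⟶ X) (hg : g ≫ f = 𝟙 Y)
    (hirr : ∀ y, IsIrreducible (connectedComponentIn (f ⁻¹' {y}) (g y))) :
    UpperSemicontinuous (fun y : Y => topologicalKrullDim ↥(connectedComponentIn (f ⁻¹' {y}) (g y))) :=
  fun _ c hc => (isOpen_dim_component_lt f g hg hirr c).mem_nhds hc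

/-- Where the dimension is constant along generisations, components specialise to components. -/
theorem component_subset_closure (f : X ⟶ Y) [LocallyOfFiniteType f] (g : Y ⟶ X) (hg : g ≫ f = 𝟙 Y)
    {y y' : Y} (hy : y' ⤳ y) (hirr : IsIrreducible (connectedComponentIn (f ⁻¹' {y}) (g y)))
    (hirr' : IsIrreducible (connectedComponentIn (f ⁻¹' {y'}) (g y')))
    (hd : topologicalKrullDim ↥(connectedComponentIn (f ⁻¹' {y}) (g y)) ≤
      topologicalKrullDim ↥(connectedComponentIn (f ⁻¹' {y'}) (g y'))) :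
    connectedComponentIn (f ⁻¹' {y}) (g y) ⊆ closure (connectedComponentIn (f ⁻¹' {y'}) (g y')) :=
  (dim_component_ge_of_generization f g hg hy (connectedComponentIn_subset _ _) hirr'
    (fun _ h hy' hsub => Set.Subset.antisymm
      (h.isConnected.isPreconnected.subset_connectedComponentIn
        (hsub (mem_connectedComponentIn (section_apply f g hg y'))) hy') hsub)
    (mem_connectedComponentIn (section_apply f g hg y'))).2 hirr hd

theorem dim_component_mono (f : X ⟶ Y) [LocallyOfFiniteType f] (g : Y ⟶ X) (hg : g ≫ f = 𝟙 Y)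
    {y y' : Y} (hy : y' ⤳ y) (hirr' : IsIrreducible (connectedComponentIn (f ⁻¹' {y'}) (g y'))) :
    topologicalKrullDim ↥(connectedComponentIn (f ⁻¹' {y'}) (g y')) ≤
      topologicalKrullDim ↥(connectedComponentIn (f ⁻¹' {y}) (g y)) :=
  (dim_component_ge_of_generization f g hg hy (connectedComponentIn_subset _ _) hirr'
    (fun _ h hy' hsub => Set.Subset.antisymm
      (h.isConnected.isPreconnected.subset_connectedComponentIn
        (hsub (mem_connectedComponentIn (section_apply f g hg y'))) hy') hsub)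
    (mem_connectedComponentIn (section_apply f g hg y'))).1

/-- Section components are geometrically irreducible. -/
def GeomIrredComp (f : X ⟶ Y) (g : Y ⟶ X) (y : Y) : Prop :=
  ∀ (K : Type u) [Field K] [Algebra (IsLocalRing.ResidueField (Y.presheaf.stalk y)) K],
    IsIrreducible ((FBase.bcπ (f.fiberToSpecResidueField y) K ≫ f.fiberι y).base ⁻¹'
      connectedComponentIn (f.base ⁻¹' {y}) (g.base y))

theorem GeomIrredComp.isIrreducible {f : X ⟶ Y} {g : Y ⟶ X} {y : Y} (h : GeomIrredComp f g y) :
    IsIrreducible (connectedComponentIn (f ⁻¹' {y}) (g y)) := by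
  have hK := h (IsLocalRing.ResidueField (Y.presheaf.stalk y))
  have hs : Function.Surjective
      (FBase.bcπ (f.fiberToSpecResidueField y) (IsLocalRing.ResidueField (Y.presheaf.stalk y))) := by
    have : IsIso (Spec.map (CommRingCat.ofHom (algebraMap (IsLocalRing.ResidueField (Y.presheaf.stalk y))
        (IsLocalRing.ResidueField (Y.presheaf.stalk y))))) := by
      rw [show algebraMap (IsLocalRing.ResidueField (Y.presheaf.stalk y)) _ = RingHom.id _ from rfl,
        CommRingCat.ofHom_id, Spec.map_id]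
      infer_instance
    have : IsIso (FBase.bcπ (f.fiberToSpecResidueField y) (IsLocalRing.ResidueField (Y.presheaf.stalk y))) := by
      unfold FBase.bcπ
      exact MorphismProperty.pullback_fst (P := MorphismProperty.isomorphisms Scheme) _ _ ‹IsIso _›
    exact (Scheme.Hom.homeomorph _).surjective
  have e := hK.image _ (FBase.bcπ (f.fiberToSpecResidueField y)
    (IsLocalRing.ResidueField (Y.presheaf.stalk y)) ≫ f.fiberι y).continuous.continuousOn
  rw [Set.image_preimage_eq_inter_range] at e
  convert e using 1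
  refine (Set.inter_eq_left.mpr fun x hx => ?_).symm
  obtain ⟨w, hw⟩ := (f.range_fiberι y).ge (connectedComponentIn_subset (f ⁻¹' {y}) (g y) hx)
  obtain ⟨v, rfl⟩ := hs w
  exact ⟨v, hw⟩

theorem GeomIrredComp.isIrreducible_baseChange {f : X ⟶ Y} {g : Y ⟶ X} (hg : g ≫ f = 𝟙 Y) {X' Y' : Scheme.{u}}
    {f' : X' ⟶ Y'} {p : X' ⟶ X} {h : Y' ⟶ Y} (hsq : IsPullback p f' f h) {g' : Y' ⟶ X'}
    (hg' : g' ≫ f' = 𝟙 Y') (hgp : g' ≫ p = h ≫ g) {y' : Y'} (hirr : GeomIrredComp f g (h y')) :
    IsIrreducible (connectedComponentIn (f' ⁻¹' {y'}) (g' y')) := by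
  let σ := Spec.map (h.residueFieldMap y')
  have hσ : σ ≫ Y.fromSpecResidueField (h y') = Y'.fromSpecResidueField y' ≫ h :=
    Scheme.Hom.SpecMap_residueFieldMap_fromSpecResidueField _ _
  let t := f.fiberToSpecResidueField (h y')
  let m : f'.fiber y' ⟶ f.fiber (h y') := pullback.lift (f'.fiberι y' ≫ p) (f'.fiberToSpecResidueField y' ≫ σ) (by
    rw [Category.assoc, hsq.w, ← Category.assoc, Scheme.Hom.fiber_fac, Category.assoc, Category.assoc, hσ])
  have hm1 : m ≫ f.fiberι (h y') = f'.fiberι y' ≫ p := pullback.lift_fst _ _ _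
  have hm2 : m ≫ t = f'.fiberToSpecResidueField y' ≫ σ := pullback.lift_snd _ _ _
  have H : IsPullback m (f'.fiberToSpecResidueField y') t σ := by
    refine IsPullback.of_right (h₁₂ := f.fiberι (h y')) (v₁₃ := f) (h₂₂ := Y.fromSpecResidueField (h y'))
      ?_ hm2 (IsPullback.of_hasPullback f (Y.fromSpecResidueField (h y')))
    rw [hm1, hσ]
    exact (IsPullback.of_hasPullback f' (Y'.fromSpecResidueField y')).paste_horiz hsq
  letI : Algebra (IsLocalRing.ResidueField (Y.presheaf.stalk (h y'))) (Y'.residueField y') :=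
    (h.residueFieldMap y').hom.toAlgebra
  have hK := hirr (Y'.residueField y')
  have e : f'.fiberι y' ⁻¹' connectedComponentIn (f' ⁻¹' {y'}) (g' y') =
      Scheme.Hom.homeomorph H.isoPullback.hom ⁻¹'
        ((pullback.fst t σ ≫ f.fiberι (h y')) ⁻¹' connectedComponentIn (f ⁻¹' {h y'}) (g (h y'))) := by
    ext w
    rw [Set.mem_preimage,
      GeomCount24.preimage_connectedComponent_fibre f g hg f' p h hsq g' hg' hgp y' _ (apply_fiberι f' y' w),
      Set.mem_preimage, Set.mem_preimage, ← Scheme.Hom.comp_apply (f'.fiberι y') p, ← hm1]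
    conv_lhs => rw [Scheme.Hom.comp_apply]
    rw [show m w = pullback.fst t σ (H.isoPullback.hom w) by rw [← Scheme.Hom.comp_apply, H.isoPullback_hom_fst]]
    rfl
  have hirr' : IsIrreducible (f'.fiberι y' ⁻¹' connectedComponentIn (f' ⁻¹' {y'}) (g' y')) := by
    rw [e, ← Homeomorph.image_symm]
    exact hK.image _ (Homeomorph.continuous _).continuousOn
  have := hirr'.image _ (f'.fiberι y').continuous.continuousOn
  rwa [Set.image_preimage_eq_inter_range, f'.range_fiberι,
    Set.inter_eq_left.mpr (connectedComponentIn_subset _ _)] at this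

theorem isOpenAt_of_dim_component_const (f : X ⟶ Y) [LocallyOfFinitePresentation f] (g : Y ⟶ X)
    (hg : g ≫ f = 𝟙 Y) {y : Y} {x : X} (hx : x ∈ connectedComponentIn (f ⁻¹' {y}) (g y))
    (hirr : ∀ z, z ⤳ y → IsIrreducible (connectedComponentIn (f ⁻¹' {z}) (g z)))
    (hd : ∀ z, z ⤳ y → FlatMor.fibreDimAt f (g y) ≤ FlatMor.fibreDimAt f (g z)) :
    EGA43.IsOpenAt f x := by
  have hxy : f x = y := connectedComponentIn_subset (f ⁻¹' {y}) (g y) hx
  rw [isOpenAt_iff_forall_exists_specializes]
  intro y' hy'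
  rw [hxy] at hy'
  have hsub := component_subset_closure f g hg hy' (hirr y specializes_rfl) (hirr y' hy') (by
    rw [dim_component_eq_fibreDimAt f g hg (hirr y specializes_rfl),
      dim_component_eq_fibreDimAt f g hg (hirr y' hy')]
    exact hd y' hy')
  obtain ⟨z, hz, hC⟩ := exists_generic_component f (hirr y' hy')
  refine ⟨z, hz, specializes_iff_mem_closure.mpr ?_⟩
  have hsub' := hsub hx
  rw [hC] at hsub'
  exact closure_minimal Set.inter_subset_left isClosed_closure hsub'

/-- EGA IV 15.6.3: universal openness where the dimension of the component is locally constant. -/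
theorem isUnivOpenAt_of_dim_component_const (f : X ⟶ Y) [LocallyOfFinitePresentation f] (g : Y ⟶ X)
    (hg : g ≫ f = 𝟙 Y) {y : Y} {x : X} (hx : x ∈ connectedComponentIn (f ⁻¹' {y}) (g y))
    (hirr : ∀ z, z ⤳ y → GeomIrredComp f g z)
    (hd : ∀ z, z ⤳ y → FlatMor.fibreDimAt f (g y) ≤ FlatMor.fibreDimAt f (g z)) :
    EGA43.IsUnivOpenAt f x := by
  intro Y' h x' hx'
  let f' := pullback.snd f h
  let p := pullback.fst f h
  have hsq : IsPullback p f' f h := IsPullback.of_hasPullback f h
  let g' : Y' ⟶ pullback f h := pullback.lift (h ≫ g) (𝟙 _) (by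
    rw [Category.assoc, hg, Category.comp_id, Category.id_comp])
  have hg' : g' ≫ f' = 𝟙 _ := pullback.lift_snd _ _ _
  have hgp : g' ≫ p = h ≫ g := pullback.lift_fst _ _ _
  have hxy : f x = y := connectedComponentIn_subset (f ⁻¹' {y}) (g y) hx
  have hy' : h (f' x') = y := by
    rw [← Scheme.Hom.comp_apply, ← hsq.w, Scheme.Hom.comp_apply, hx', hxy]
  have hgpt : ∀ z, p (g' z) = g (h z) := fun z => by
    rw [← Scheme.Hom.comp_apply, hgp, Scheme.Hom.comp_apply]
  refine isOpenAt_of_dim_component_const f' g' hg' (y := f' x') ?_ (fun z hz => ?_) (fun z hz => ?_)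
  · rw [GeomCount24.preimage_connectedComponent_fibre f g hg f' p h hsq g' hg' hgp _ _ rfl, hy',
      show p x' = x from hx']
    exact hx
  · refine GeomIrredComp.isIrreducible_baseChange hg hsq hg' hgp (hirr _ ?_)
    rw [← hy']; exact hz.map h.continuous
  · rw [FibDim94.fibreDimAt_eq_of_isPullback hsq, FibDim94.fibreDimAt_eq_of_isPullback hsq, hgpt, hgpt, hy']
    refine hd _ ?_
    rw [← hy']; exact hz.map h.continuous

theorem fibreDimAt_le_of_dim_component_const (f : X ⟶ Y) [LocallyOfFiniteType f] (g : Y ⟶ X)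
    (hg : g ≫ f = 𝟙 Y) (hirr : ∀ y, IsIrreducible (connectedComponentIn (f ⁻¹' {y}) (g y))) {y₀ y : Y}
    {V : Set Y} (hV : ∀ z ∈ V, topologicalKrullDim ↥(connectedComponentIn (f ⁻¹' {z}) (g z)) =
      topologicalKrullDim ↥(connectedComponentIn (f ⁻¹' {y₀}) (g y₀)))
    (hy : y ∈ interior V) : ∀ z, z ⤳ y → FlatMor.fibreDimAt f (g y) ≤ FlatMor.fibreDimAt f (g z) := by
  intro z hz
  rw [← dim_component_eq_fibreDimAt f g hg (hirr y), ← dim_component_eq_fibreDimAt f g hg (hirr z),
    hV y (interior_subset hy), hV z (interior_subset (hz.mem_open isOpen_interior hy))]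

end Groth.Agent.E4O
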