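import Mathlib.RingTheory.Flat.TorsionFree
import Mathlib.RingTheory.DiscreteValuationRing.Basic
import Mathlib.RingTheory.Filtration
import Mathlib.RingTheory.Ideal.MinimalPrime.Localization
import Mathlib.RingTheory.Ideal.Quotient.Nilpotent

/-!
Flatness over a discrete valuation ring from a reduced special fibre without components of the
total space.
-/

universe u

namespace Groth.Agent.E4O

/-- In a Noetherian local ring whose maximal ideal is generated by `π` and is not minimal, `π` is
a nonzerodivisor. -/
theorem eq_zero_of_mul_eq_zero_of_maximalIdeal_eq_span {S : Type u} [CommRing S] [IsLocalRing S]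
    [IsNoetherianRing S] {π : S} (hm : IsLocalRing.maximalIdeal S = Ideal.span {π})
    (hnil : ¬ IsNilpotent π) {c : S} (hc : π * c = 0) : c = 0 := by
  by_contra hne
  have hex : ∃ n, c ∉ IsLocalRing.maximalIdeal S ^ n := by
    by_contra h
    push Not at h
    have : c ∈ ⨅ n, IsLocalRing.maximalIdeal S ^ n := Submodule.mem_iInf _ |>.2 h
    rw [Ideal.iInf_pow_eq_bot_of_isLocalRing _ (IsLocalRing.maximalIdeal.isMaximal S).ne_top] at this
    exact hne this
  classical
  set N := Nat.find hex with hN
  have hspec := Nat.find_spec hex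
  have hpos : N ≠ 0 := fun h0 => hspec (by rw [← hN, h0, pow_zero, Ideal.one_eq_top]; trivial)
  obtain ⟨M, hM⟩ := Nat.exists_eq_succ_of_ne_zero hpos
  have hmem : c ∈ IsLocalRing.maximalIdeal S ^ M := by
    by_contra h
    exact absurd (Nat.find_min' hex h) (by omega)
  rw [hm, Ideal.span_singleton_pow, Ideal.mem_span_singleton] at hmem
  obtain ⟨d, rfl⟩ := hmem
  by_cases hd : IsUnit d
  · refine hnil ⟨M + 1, ?_⟩
    have : π ^ (M + 1) * d = 0 := by rw [pow_succ]; linear_combination hc
    exact (hd.mul_left_eq_zero).1 this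
  · have hdm : d ∈ IsLocalRing.maximalIdeal S := hd
    rw [hm, Ideal.mem_span_singleton] at hdm
    obtain ⟨t, rfl⟩ := hdm
    apply hspec
    rw [← hN, hM, hm, Ideal.span_singleton_pow, Ideal.mem_span_singleton]
    exact ⟨t, by rw [pow_succ]; ring⟩

/-- If `B/πB` is reduced and no minimal prime over `πB` is minimal in `B`, then `π` is a
nonzerodivisor. -/
theorem eq_zero_of_mul_eq_zero_of_reduced_quotient {B : Type u} [CommRing B] [IsLocalRing B]
    [IsNoetherianRing B] {π : B} (hπ : π ∈ IsLocalRing.maximalIdeal B)
    (hred : IsReduced (B ⧸ Ideal.span {π}))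
    (hmin : ∀ P ∈ (Ideal.span {π}).minimalPrimes, ∃ P' : Ideal B, P'.IsPrime ∧ P' < P)
    {b : B} (hb : π * b = 0) : b = 0 := by
  have hrad : (Ideal.span {π}).IsRadical := (Ideal.isRadical_iff_quotient_reduced _).2 hred
  have step : ∀ (m : ℕ) (c : B), π ^ m * c = 0 → ∀ P ∈ (Ideal.span {π}).minimalPrimes,
      ∃ s ∉ P, s * c = 0 := by
    intro m c hc P hP
    have hPp : P.IsPrime := hP.1.1
    let S := Localization.AtPrime P
    have : IsNoetherianRing S := IsLocalization.isNoetherianRing P.primeCompl S inferInstance
    have hm : IsLocalRing.maximalIdeal S = Ideal.span {algebraMap B S π} := by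
      rw [← Set.image_singleton, ← Ideal.map_span]
      have hrad' : ((Ideal.span {π}).map (algebraMap B S)).IsRadical := by
        rw [← Ideal.radical_eq_iff, ← IsLocalization.map_radical P.primeCompl S, hrad.radical]
      have hmins : ((Ideal.span {π}).map (algebraMap B S)).minimalPrimes =
          {IsLocalRing.maximalIdeal S} := by
        rw [IsLocalization.minimalPrimes_map P.primeCompl S]
        refine Set.eq_singleton_iff_unique_mem.2 ⟨?_, fun Q hQ => ?_⟩
        · rw [Set.mem_preimage, IsLocalization.AtPrime.under_maximalIdeal S P]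
          exact hP
        · rw [Set.mem_preimage] at hQ
          have hQp : Q.IsPrime := ((IsLocalization.isPrime_iff_isPrime_disjoint P.primeCompl S Q).2
            ⟨hQ.1.1, ?_⟩)
          · have hQle := IsLocalRing.le_maximalIdeal hQp.ne_top
            refine le_antisymm hQle ?_
            have h2 := Ideal.comap_mono (f := algebraMap B S) hQle
            have h3 : (IsLocalRing.maximalIdeal S).comap (algebraMap B S) = P :=
              IsLocalization.AtPrime.under_maximalIdeal S P
            rw [h3] at h2
            have h4 : Q.comap (algebraMap B S) = P := le_antisymm h2 (hP.2 hQ.1 h2)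
            rw [← IsLocalization.map_under P.primeCompl S (IsLocalRing.maximalIdeal S),
              ← IsLocalization.map_under P.primeCompl S Q, Ideal.under_def, Ideal.under_def, h3, h4]
          · rw [Set.disjoint_left]
            intro x hx hxQ
            have hu : IsUnit (algebraMap B S x) := IsLocalization.map_units S ⟨x, hx⟩
            have htop : Q = ⊤ := Ideal.eq_top_of_isUnit_mem Q hxQ hu
            exact hQ.1.1.ne_top (by rw [htop, Ideal.under_def, Ideal.comap_top])
      rw [← hrad'.radical, ← Ideal.sInf_minimalPrimes, hmins, sInf_singleton]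
    have hnil : ¬ IsNilpotent (algebraMap B S π) := by
      rintro ⟨k, hk⟩
      obtain ⟨P', hP', hlt⟩ := hmin P hP
      rw [← map_pow, IsLocalization.map_eq_zero_iff P.primeCompl] at hk
      obtain ⟨⟨s, hs⟩, hs'⟩ := hk
      have h0 : s * π ^ k ∈ P' := by rw [hs']; exact P'.zero_mem
      rcases hP'.mem_or_mem h0 with h | h
      · exact hs (hlt.le h)
      · exact hlt.not_ge (hP.2 ⟨hP', (Ideal.span_singleton_le_iff_mem _).2
          (hP'.mem_of_pow_mem k h)⟩ hlt.le)
    have hreg : ∀ m (x : S), algebraMap B S π ^ m * x = 0 → x = 0 := by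
      intro m
      induction m with
      | zero => intro x hx; simpa using hx
      | succ m ih =>
        intro x hx
        refine ih x (eq_zero_of_mul_eq_zero_of_maximalIdeal_eq_span hm hnil ?_)
        rw [← mul_assoc, ← pow_succ']
        exact hx
    have h1 := hreg m (algebraMap B S c) (by rw [← map_pow, ← map_mul, hc, map_zero])
    rw [IsLocalization.map_eq_zero_iff P.primeCompl] at h1
    obtain ⟨⟨s, hs⟩, hs'⟩ := h1
    exact ⟨s, hs, hs'⟩
  have key : ∀ k, ∃ c, b = π ^ k * c ∧ π ^ (k + 1) * c = 0 := by
    intro k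
    induction k with
    | zero => exact ⟨b, by ring, by simpa using hb⟩
    | succ k ih =>
      obtain ⟨c, hbc, hc⟩ := ih
      have hcI : c ∈ Ideal.span {π} := by
        rw [← hrad.radical, ← Ideal.sInf_minimalPrimes, Submodule.mem_sInf]
        intro P hP
        obtain ⟨s, hs, hs'⟩ := step (k + 1) c hc P hP
        have := hP.1.1
        exact (this.mem_or_mem (show s * c ∈ P by rw [hs']; exact P.zero_mem)).resolve_left hs
      obtain ⟨d, rfl⟩ := Ideal.mem_span_singleton.1 hcI
      exact ⟨d, by rw [hbc]; ring, by rw [← hc]; ring⟩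
  have hall : b ∈ ⨅ k, IsLocalRing.maximalIdeal B ^ k := by
    refine (Submodule.mem_iInf _).2 fun k => ?_
    obtain ⟨c, rfl, -⟩ := key k
    exact Ideal.mul_mem_right _ _ (Ideal.pow_mem_pow hπ k)
  rw [Ideal.iInf_pow_eq_bot_of_isLocalRing _ (IsLocalRing.maximalIdeal.isMaximal B).ne_top] at hall
  exact hall

end Groth.Agent.E4O
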