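import Groth.Agent.E4O.SectionCompPoint
import Groth.Agent.E4O.SectionCompIrred
import Groth.Agent.E4O.GeomRedBC
import Groth.Agent.E4O.ValuationLift
import Groth.Agent.E4O.OpenMapDims
import Groth.Agent.SchBasics.TopNoeth
import Groth.Agent.SchBasics.Local
import Groth.Agent.S4948

/-!
Section components along a discrete valuation ring (EGA IV 15.6.4, 15.6.6).
-/

set_option autoImplicit false
set_option linter.style.haveILetI false
universe u

open CategoryTheory CategoryTheory.Limits AlgebraicGeometry TopologicalSpace Topology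

namespace Groth.Agent.E4O

variable {X Y : Scheme.{u}}

theorem locallyConnectedSpace_of_isLocallyNoetherian (X : Scheme.{u}) [IsLocallyNoetherian X] :
    LocallyConnectedSpace X :=
  SchBasics.locallyConnectedSpace_of_locally_noetherian (SchBasics.locally_noetherianSpace X)

theorem exists_dvr_of_specializes [IsLocallyNoetherian Y] {y y' : Y} (h : y' ⤳ y) (hne : y' ≠ y) :
    ∃ (A : Type u) (_ : CommRing A) (_ : IsDomain A) (_ : IsDiscreteValuationRing A)
      (j : Spec (CommRingCat.of A) ⟶ Y),
      j (IsLocalRing.closedPoint A) = y ∧ j (genericPoint (Spec (CommRingCat.of A))) = y' := by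
  have hfg : (⊤ : IntermediateField (Y.residueField y') (Y.residueField y')).FG :=
    ⟨∅, by rw [Finset.coe_empty, IntermediateField.adjoin_empty]
           exact (eq_top_iff.mpr fun x _ => IntermediateField.mem_bot.mpr ⟨x, rfl⟩)⟩
  obtain ⟨V, hV, j, h1, h2, -⟩ := exists_dvr_hom h hne (Y.residueField y') hfg
  exact ⟨V, inferInstance, inferInstance, hV, j, h1, h2⟩

/-- Over a discrete valuation ring: if the fibre is reduced and `f` is flat along the special section
component, the generic section component contains all generic generisations of its points. -/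
theorem mem_component_of_flat_dvr {A : Type u} [CommRing A] [IsDomain A] [IsDiscreteValuationRing A]
    (f : X ⟶ Spec (CommRingCat.of A)) [LocallyOfFiniteType f] (σ : Spec (CommRingCat.of A) ⟶ X)
    (hσ : σ ≫ f = 𝟙 _)
    (hC : ∀ c ∈ connectedComponentIn (f ⁻¹' {IsLocalRing.closedPoint A}) (σ (IsLocalRing.closedPoint A)),
      (f.stalkMap c).hom.Flat ∧ _root_.IsReduced ((f.fiber (f c)).presheaf.stalk (f.asFiber c)))
    {x w : X} (hx : x ∈ connectedComponentIn (f ⁻¹' {IsLocalRing.closedPoint A}) (σ (IsLocalRing.closedPoint A)))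
    (hw : w ⤳ x) (hfw : f w = genericPoint (Spec (CommRingCat.of A))) :
    w ∈ connectedComponentIn (f ⁻¹' {genericPoint (Spec (CommRingCat.of A))})
      (σ (genericPoint (Spec (CommRingCat.of A)))) := by
  have : IsLocallyNoetherian X := LocallyOfFiniteType.isLocallyNoetherian f
  have := locallyConnectedSpace_of_isLocallyNoetherian X
  let η := genericPoint (Spec (CommRingCat.of A))
  let s := IsLocalRing.closedPoint A
  have hgen : IsOpen (f ⁻¹' {η}) := by
    have e : (f ⁻¹' {η}) = (f ⁻¹' {s})ᶜ := by
      ext z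
      constructor
      · intro hz hz'
        exact genericPoint_ne_closedPoint (hz.symm.trans hz')
      · exact fun hz => (eq_closedPoint_or_eq_genericPoint (f z)).resolve_left hz
    rw [e]
    exact ((IsLocalRing.isClosed_singleton_closedPoint A).preimage f.continuous).isOpen_compl
  let P := connectedComponentIn (f ⁻¹' {η}) (σ η)
  let Q := f ⁻¹' {η} \ P
  have hQo : IsOpen Q := by
    refine isOpen_iff_forall_mem_open.mpr fun z hz => ?_
    refine ⟨connectedComponentIn (f ⁻¹' {η}) z, fun v hv => ⟨connectedComponentIn_subset _ _ hv, fun hvP => hz.2 ?_⟩,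
      hgen.connectedComponentIn, mem_connectedComponentIn hz.1⟩
    show z ∈ connectedComponentIn _ _
    rw [connectedComponentIn_eq hvP, ← connectedComponentIn_eq hv]
    exact mem_connectedComponentIn hz.1
  have hclo : ∀ {O : Set X}, IsOpen O → ∀ {c}, c ∈ closure O → ∃ v ∈ O, v ⤳ c := fun hO _ hc =>
    exists_specializes_of_mem_closure_isLocallyConstructible (isLocallyConstructible_of_isOpen' hO) hc
  let C := connectedComponentIn (f ⁻¹' {s}) (σ s)
  have hcs : ∀ c ∈ C, f c = s := fun c hc => connectedComponentIn_subset (f ⁻¹' {s}) (σ s) hc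
  have hexcl : ∀ c ∈ C, c ∈ closure P → c ∉ closure Q := by
    intro c hc hcP hcQ
    obtain ⟨v, hv, hvc⟩ := hclo hgen.connectedComponentIn hcP
    obtain ⟨v', hv', hvc'⟩ := hclo hQo hcQ
    exact hv'.2 (mem_component_of_generisations f c (hcs c hc) (hC c hc).1 (hC c hc).2 hvc' hvc rfl
      hv'.1 (connectedComponentIn_subset (f ⁻¹' {η}) (σ η) hv) hv)
  have hσs : σ s ∈ closure P := by
    refine specializes_iff_mem_closure.mp ?_ |> fun h => closure_mono (Set.singleton_subset_iff.mpr
      (show σ η ∈ P from mem_connectedComponentIn (section_apply f σ hσ η))) h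
    exact ((genericPoint_spec (Spec (CommRingCat.of A))).specializes trivial).map σ.continuous
  have hcov : C ⊆ closure P ∪ closure Q := by
    intro c hc
    obtain ⟨v, hvc, hv⟩ : ∃ v, v ⤳ c ∧ f v = η := by
      letI : Algebra ((Spec (CommRingCat.of A)).presheaf.stalk (f c)) (X.presheaf.stalk c) :=
        (f.stalkMap c).hom.toAlgebra
      haveI : Module.Flat ((Spec (CommRingCat.of A)).presheaf.stalk (f c)) (X.presheaf.stalk c) := (hC c hc).1
      have hη : η ⤳ f c := (genericPoint_spec (Spec (CommRingCat.of A))).specializes trivial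
      obtain ⟨P₀, hP₀⟩ : η ∈ Set.range ((Spec (CommRingCat.of A)).fromSpecStalk (f c)) := by
        rw [Scheme.range_fromSpecStalk]; exact hη
      haveI : IsLocalHom (algebraMap ((Spec (CommRingCat.of A)).presheaf.stalk (f c)) (X.presheaf.stalk c)) :=
        f.toLRSHom.prop c
      haveI : Module.FaithfullyFlat ((Spec (CommRingCat.of A)).presheaf.stalk (f c)) (X.presheaf.stalk c) :=
        Module.FaithfullyFlat.of_flat_of_isLocalHom
      obtain ⟨Q₀, hQ₀⟩ := PrimeSpectrum.comap_surjective_of_faithfullyFlat
        (A := (Spec (CommRingCat.of A)).presheaf.stalk (f c)) (B := X.presheaf.stalk c) P₀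
      have hm : X.fromSpecStalk c Q₀ ∈ Set.range (X.fromSpecStalk c) := ⟨Q₀, rfl⟩
      rw [Scheme.range_fromSpecStalk] at hm
      refine ⟨X.fromSpecStalk c Q₀, hm, ?_⟩
      refine (Scheme.Hom.comp_apply (X.fromSpecStalk c) f Q₀).symm.trans ?_
      rw [← Scheme.SpecMap_stalkMap_fromSpecStalk, ← hP₀, ← hQ₀]
      rfl
    by_cases hvP : v ∈ P
    · exact Or.inl (closure_mono (Set.singleton_subset_iff.mpr hvP) (specializes_iff_mem_closure.mp hvc))
    · exact Or.inr (closure_mono ((Set.singleton_subset_iff (s := Q)).mpr ⟨hv, hvP⟩)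
        (specializes_iff_mem_closure.mp hvc))
  have hsub : C ⊆ closure P := by
    rcases isPreconnected_iff_subset_of_disjoint_closed.mp isPreconnected_connectedComponentIn
      (closure P) (closure Q) isClosed_closure isClosed_closure hcov
      (Set.eq_empty_iff_forall_notMem.mpr fun c hc => hexcl c hc.1 hc.2.1 hc.2.2) with h | h
    · exact h
    · exact absurd (h (mem_connectedComponentIn (section_apply f σ hσ s)))
        (hexcl _ (mem_connectedComponentIn (section_apply f σ hσ s)) hσs)
  by_contra hwP
  exact hexcl x hx (hsub hx) (closure_mono ((Set.singleton_subset_iff (s := Q)).mpr ⟨hfw, hwP⟩)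
    (specializes_iff_mem_closure.mp hw))

/-- Test hypothesis: flat along the section component after every base change to a DVR through it. -/
def FlatAlongComp (f : X ⟶ Y) (g : Y ⟶ X) (y : Y) : Prop :=
  ∀ (A : Type u) [CommRing A] [IsDomain A] [IsDiscreteValuationRing A] (h : Spec (CommRingCat.of A) ⟶ Y),
    h (IsLocalRing.closedPoint A) = y → ∀ c : ↥(pullback f h),
      pullback.snd f h c = IsLocalRing.closedPoint A →
      pullback.fst f h c ∈ connectedComponentIn (f ⁻¹' {y}) (g y) →
      ((pullback.snd f h).stalkMap c).hom.Flat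

theorem mem_sectionComponents_of_specializes [IsLocallyNoetherian Y] (f : X ⟶ Y) [LocallyOfFiniteType f]
    (g : Y ⟶ X) (hg : g ≫ f = 𝟙 Y) {y : Y}
    (hred : ∀ c ∈ connectedComponentIn (f ⁻¹' {y}) (g y),
      FBase.IsGeomReducedAt (f.fiberToSpecResidueField (f c)) (f.asFiber c))
    (hflat : FlatAlongComp f g y) {x w : X} (hx : x ∈ connectedComponentIn (f ⁻¹' {y}) (g y))
    (hw : w ⤳ x) : w ∈ MoreMor.sectionComponents f g := by
  have hxy : f x = y := connectedComponentIn_subset (f ⁻¹' {y}) (g y) hx
  show w ∈ connectedComponentIn (f ⁻¹' {f w}) (g (f w))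
  by_cases hwy : f w = y
  · rw [hwy]; exact mem_connectedComponentIn_of_specializes f hx hw hwy
  have : IsLocallyNoetherian X := LocallyOfFiniteType.isLocallyNoetherian f
  obtain ⟨A, _, _, _, k, hks, hkη⟩ := exists_dvr_of_specializes hw (fun e => hwy (e ▸ hxy))
  let h := k ≫ f
  let p := pullback.fst f h
  let q := pullback.snd f h
  have hsq : IsPullback p q f h := IsPullback.of_hasPullback f h
  let t : Spec (CommRingCat.of A) ⟶ pullback f h := pullback.lift k (𝟙 _) (by rw [Category.id_comp])
  let σ : Spec (CommRingCat.of A) ⟶ pullback f h := pullback.lift (h ≫ g) (𝟙 _) (by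
    rw [Category.assoc, hg, Category.comp_id, Category.id_comp])
  have hσ : σ ≫ q = 𝟙 _ := pullback.lift_snd _ _ _
  have hσp : σ ≫ p = h ≫ g := pullback.lift_fst _ _ _
  have htq : ∀ a, q (t a) = a := section_apply q t (pullback.lift_snd _ _ _)
  have htp : ∀ a, p (t a) = k a := fun a => by
    rw [← Scheme.Hom.comp_apply, show t ≫ p = k from pullback.lift_fst _ _ _]
  have hh : h (IsLocalRing.closedPoint A) = y := by
    show (k ≫ f) _ = y
    rw [Scheme.Hom.comp_apply, hks, hxy]
  have hhη : h (genericPoint (Spec (CommRingCat.of A))) = f w := by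
    show (k ≫ f) _ = f w
    rw [Scheme.Hom.comp_apply, hkη]
  have hpre := fun a c hc => GeomCount24.preimage_connectedComponent_fibre f g hg q p h hsq σ hσ hσp a c hc
  have := mem_component_of_flat_dvr q σ hσ (x := t (IsLocalRing.closedPoint A))
    (w := t (genericPoint (Spec (CommRingCat.of A)))) (fun c hc => by
      have hcs : q c = IsLocalRing.closedPoint A := connectedComponentIn_subset (q ⁻¹' {_}) _ hc
      have hpc : p c ∈ connectedComponentIn (f ⁻¹' {y}) (g y) := by
        rw [← hh]; exact (hpre _ c hcs).mp hc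
      exact ⟨hflat A h hh c hcs hpc, isReduced_fibre_stalk_of_isGeomReducedAt q
        ((isGeomReducedAt_fibre_iff_of_isPullback hsq c).2 (hred _ hpc))⟩)
    ((hpre _ _ (htq _)).mpr (by rw [htp, hks, hh]; exact hx))
    (((genericPoint_spec (Spec (CommRingCat.of A))).specializes trivial).map t.continuous) (htq _)
  have := (hpre _ _ (htq _)).mp this
  rwa [htp, hkη, hhη] at this

theorem flatAlongComp_of_flat (f : X ⟶ Y) [Flat f] (g : Y ⟶ X) (y : Y) : FlatAlongComp f g y :=
  fun _ _ _ _ h _ c _ _ => Flat.stalkMap (pullback.snd f h) c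

theorem flatAlongComp_of_isUnivOpenAt (f : X ⟶ Y) [LocallyOfFiniteType f] (g : Y ⟶ X) {y : Y}
    (h : ∀ c ∈ connectedComponentIn (f ⁻¹' {y}) (g y), EGA43.IsUnivOpenAt f c ∧
      FBase.IsGeomReducedAt (f.fiberToSpecResidueField (f c)) (f.asFiber c)) :
    FlatAlongComp f g y := by
  intro A _ _ _ j hj c hcs hpc
  let q := pullback.snd f j
  let p := pullback.fst f j
  have hsq : IsPullback p q f j := IsPullback.of_hasPullback f j
  refine S4948.result q c hcs (fun z hz _ => ?_)
    (isReduced_fibre_stalk_of_isGeomReducedAt q ((isGeomReducedAt_fibre_iff_of_isPullback hsq c).2 (h _ hpc).2))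
  have hzc : q.fiberι (q c) z ⤳ c := by
    have := (specializes_iff_mem_closure.mpr hz).map (q.fiberι (q c)).continuous
    rwa [q.fiberι_asFiber] at this
  refine isOpenAt_of_isPullback (h _ (mem_connectedComponentIn_of_specializes f hpc (hzc.map p.continuous) ?_)).1
    hsq _ rfl
  rw [← Scheme.Hom.comp_apply p f, hsq.w, Scheme.Hom.comp_apply, apply_fiberι, hcs, hj]

/-- EGA IV 15.6.6 (α): a universally open, geometrically reduced irreducible component keeps its
dimension under generisation. -/
theorem fdeg_le_dim_component_of_geomReduced [IsLocallyNoetherian Y] (f : X ⟶ Y) [LocallyOfFiniteType f]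
    (g : Y ⟶ X) (hg : g ≫ f = 𝟙 Y) {y y' : Y} {ξ : X} (hy : y' ⤳ y) (hξy : f ξ = y)
    (hC : connectedComponentIn (f ⁻¹' {y}) (g y) = closure {ξ} ∩ f ⁻¹' {y})
    (hopen : EGA43.IsUnivOpenAt f ξ)
    (hred : FBase.IsGeomReducedAt (f.fiberToSpecResidueField (f (g y))) (f.asFiber (g y))) :
    ((fdeg f ξ : ℕ) : WithBot ℕ∞) ≤ topologicalKrullDim ↥(connectedComponentIn (f ⁻¹' {y'}) (g y')) := by
  by_cases hne : y' = y
  · subst hne
    rw [hC, dim_closure_inter_fibre f hξy]
  obtain ⟨A, _, _, _, h, hhs, hhη⟩ := exists_dvr_of_specializes hy hne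
  let p := pullback.fst f h
  let q := pullback.snd f h
  have hsq : IsPullback p q f h := IsPullback.of_hasPullback f h
  let σ : Spec (CommRingCat.of A) ⟶ pullback f h := pullback.lift (h ≫ g) (𝟙 _) (by
    rw [Category.assoc, hg, Category.comp_id, Category.id_comp])
  have hσ : σ ≫ q = 𝟙 _ := pullback.lift_snd _ _ _
  have hσp : σ ≫ p = h ≫ g := pullback.lift_fst _ _ _
  let s := IsLocalRing.closedPoint A
  let η := genericPoint (Spec (CommRingCat.of A))
  have hps : p (σ s) = g y := by rw [← Scheme.Hom.comp_apply, hσp, Scheme.Hom.comp_apply, hhs]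
  have hqs : q (σ s) = s := section_apply q σ hσ s
  have hgy : g y ∈ connectedComponentIn (f ⁻¹' {y}) (g y) := mem_connectedComponentIn (section_apply f g hg y)
  have hmaxξ : ∀ z, q z = s → z ⤳ σ s → IsFibreMax q z → p z = ξ := by
    intro z hz hzs hmax
    have hfy : f (p z) = y := by rw [← Scheme.Hom.comp_apply, hsq.w, Scheme.Hom.comp_apply, hz, hhs]
    have hm := mem_connectedComponentIn_of_specializes f hgy (hps ▸ hzs.map p.continuous) hfy
    rw [hC] at hm
    exact (FibDim94.isFibreMax_image hsq hmax ξ (specializes_iff_mem_closure.mpr hm.1) (hξy.trans hfy.symm)).symm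
  have hflat : (q.stalkMap (σ s)).hom.Flat := by
    refine S4948.result q (σ s) hqs (fun z hz hmax => ?_)
      (isReduced_fibre_stalk_of_isGeomReducedAt q ((isGeomReducedAt_fibre_iff_of_isPullback hsq _).2 (by
        rw [hps]; exact hred)))
    have hzs : q.fiberι (q (σ s)) z ⤳ σ s := by
      have := (specializes_iff_mem_closure.mpr hz).map (q.fiberι (q (σ s))).continuous
      rwa [q.fiberι_asFiber] at this
    refine isOpenAt_of_isPullback hopen hsq _ (hmaxξ _ ((apply_fiberι q _ z).trans hqs) hzs ?_)
    exact (isFibreMax_fiberι_iff q _ z).2 fun z' hz' => hmax z' (specializes_iff_mem_closure.mp hz')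
  obtain ⟨z, hzs, hqz, hmax, -, -⟩ := exists_isFibreMax_specializes q (σ s)
  have hpz := hmaxξ z (hqz.trans hqs) hzs hmax
  have hzdeg : fdeg q z = fdeg f ξ := by rw [FibDim94.fdeg_eq_of_isFibreMax hsq hmax, hpz]
  obtain ⟨w, hw, hwz, hle⟩ := exists_fdeg_ge_of_isUnivOpenAt q (isUnivOpenAt_of_isPullback hopen hsq z hpz)
    (y' := η) ((genericPoint_spec (Spec (CommRingCat.of A))).specializes trivial)
  have hmem : w ∈ connectedComponentIn (q ⁻¹' {η}) (σ η) :=
    mem_component_of_generisations q (σ s) hqs hflat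
      (isReduced_fibre_stalk_of_isGeomReducedAt q ((isGeomReducedAt_fibre_iff_of_isPullback hsq _).2 (by
        rw [hps]; exact hred)))
      (hwz.trans hzs) (((genericPoint_spec (Spec (CommRingCat.of A))).specializes trivial).map σ.continuous)
      rfl hw (section_apply q σ hσ η) (mem_connectedComponentIn (section_apply q σ hσ η))
  rw [GeomCount24.preimage_connectedComponent_fibre f g hg q p h hsq σ hσ hσp η w hw, hhη] at hmem
  refine le_trans ?_ (fdeg_le_dim_component f hmem)
  rw [← hzdeg]
  exact_mod_cast hle.trans (fdeg_le_of_isPullback hsq w)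

end Groth.Agent.E4O
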