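import Groth.Agent.E4O.ProperAtDvr
import Groth.Agent.SchBasics.Reduced

/-!
EGA IV 15.7.5: a closure is proper over a neighbourhood of a point iff sections extend over discrete
valuation rings centred at that point.
-/

set_option autoImplicit false
set_option linter.style.haveILetI false

universe u

open CategoryTheory CategoryTheory.Limits AlgebraicGeometry TopologicalSpace

namespace Groth.Agent.E4O.ProperAt

/-- A residue field mapping to the fraction field of a domain compatibly with the domain surjects. -/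
theorem surjective_of_fromSpec_eq {A : Type u} [CommRing A] {L : Type u} [Field L] [Algebra A L]
    [IsFractionRing A L] {t : Spec (CommRingCat.of A)}
    (φ : (Spec (CommRingCat.of A)).residueField t ⟶ CommRingCat.of L)
    (h : Spec.map φ ≫ (Spec (CommRingCat.of A)).fromSpecResidueField t =
      Spec.map (CommRingCat.ofHom (algebraMap A L))) :
    Function.Surjective φ.hom := by
  obtain ⟨α, hα⟩ := Spec.map_surjective ((Spec (CommRingCat.of A)).fromSpecResidueField t)
  rw [← hα, ← Spec.map_comp] at h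
  have h' : ∀ a, φ (α a) = algebraMap A L a := fun a => ConcreteCategory.congr_hom (Spec.map_injective h) a
  intro z
  obtain ⟨a, b, -, rfl⟩ := IsFractionRing.div_surjective A z
  exact ⟨α a / α b, by rw [map_div₀, ← h' a, ← h' b]⟩

/-- Two field points over the same point agree as soon as they agree below, if the residue field
extension is trivial. -/
theorem hom_ext_of_residueField {P T : Scheme.{u}} (p : P ⟶ T) {L : Type u} [Field L]
    (a b : Spec (CommRingCat.of L) ⟶ P) (x : P) (ha : a (IsLocalRing.closedPoint L) = x)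
    (hb : b (IsLocalRing.closedPoint L) = x) (hx : Function.Surjective (p.residueFieldMap x).hom)
    (h : a ≫ p = b ≫ p) : a = b := by
  obtain ⟨⟨xa, ψa⟩, rfl⟩ := (Scheme.SpecToEquivOfField L P).symm.surjective a
  obtain ⟨⟨xb, ψb⟩, rfl⟩ := (Scheme.SpecToEquivOfField L P).symm.surjective b
  rw [Scheme.SpecToEquivOfField_symm_apply] at ha hb h
  rw [Scheme.Hom.comp_apply, Scheme.fromSpecResidueField_apply] at ha hb
  dsimp only at ha hb
  subst ha
  subst hb
  rw [Scheme.SpecToEquivOfField_symm_apply, Scheme.SpecToEquivOfField_symm_apply]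
  rw [Scheme.SpecToEquivOfField_symm_apply] at h
  simp only [Category.assoc, ← Scheme.Hom.SpecMap_residueFieldMap_fromSpecResidueField, ← Spec.map_comp_assoc,
    cancel_mono] at h
  have h' := Spec.map_injective h
  congr 2
  ext z
  obtain ⟨w, rfl⟩ := hx z
  exact ConcreteCategory.congr_hom h' w

/-- The section criterion implies properness over a neighbourhood. -/
theorem proper_nhd_of_sections {X Y : Scheme.{u}} [IsLocallyNoetherian Y] (f : X ⟶ Y) [IsSeparated f]
    [LocallyOfFiniteType f] [QuasiCompact f] (Z : Set X)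
    (hZ : ∀ z ∈ closure Z, (∀ z' ∈ closure Z, z ∈ closure {z'} → z' = z) → z ∈ Z) (y : Y)
    (H : ∀ (A' : Type u) [CommRing A'] [IsDomain A'] [IsDiscreteValuationRing A'] (g : Spec (CommRingCat.of A') ⟶ Y),
        g (IsLocalRing.closedPoint A') = y →
        ∀ x' : ↥(pullback f g), pullback.fst f g x' ∈ Z →
          pullback.snd f g x' = genericPoint (Spec (CommRingCat.of A')) →
          Function.Bijective ((pullback.snd f g).residueFieldMap x').hom →
          ∃ s : Spec (CommRingCat.of A') ⟶ pullback f g, s ≫ pullback.snd f g = 𝟙 _ ∧ x' ∈ Set.range s) :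
    ∃ U : Y.Opens, y ∈ U ∧ ∃ hC : IsClosed ((f ⁻¹ᵁ U).ι ⁻¹' closure Z),
      IsProper ((Scheme.IdealSheafData.vanishingIdeal
        (⟨(f ⁻¹ᵁ U).ι ⁻¹' closure Z, hC⟩ : Closeds ↥(f ⁻¹ᵁ U))).subschemeι ≫ (f ∣_ U)) := by
  let CZ : Closeds X := ⟨closure Z, isClosed_closure⟩
  let ι := (Scheme.IdealSheafData.vanishingIdeal CZ).subschemeι
  haveI := SchBasics.isReduced_vanishingIdeal_subscheme CZ
  have hι : Set.range ι = closure Z := by
    rw [Scheme.IdealSheafData.range_subschemeι, Scheme.IdealSheafData.coe_support_vanishingIdeal]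
    rfl
  have hlifts : LiftsAt (ι ≫ f) y := by
    intro η hη L _ A hA g k hg hk hkg
    have hηZ : ι η ∈ Z := by
      refine hZ _ (hι ▸ Set.mem_range_self _) fun z' hz' hsp => ?_
      obtain ⟨w, rfl⟩ : z' ∈ Set.range ι := hι.symm ▸ hz'
      have hw : w ⤳ η := ι.isClosedEmbedding.isInducing.specializes_iff.1 (specializes_iff_mem_closure.2 hsp)
      rw [hη w hw]
    let a := Spec.map (CommRingCat.ofHom (algebraMap A L))
    let σ : Spec (CommRingCat.of L) ⟶ pullback f g := pullback.lift (k ≫ ι) a (by rw [Category.assoc, hkg])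
    obtain ⟨⟨x', ψ⟩, hσ⟩ := (Scheme.SpecToEquivOfField L _).symm.surjective σ
    rw [Scheme.SpecToEquivOfField_symm_apply] at hσ
    have hσx : σ (IsLocalRing.closedPoint L) = x' := by
      rw [← hσ, Scheme.Hom.comp_apply]
      exact Scheme.fromSpecResidueField_apply _ _
    have h1 : pullback.fst f g x' ∈ Z := by
      rw [← hσx, ← Scheme.Hom.comp_apply, pullback.lift_fst, Scheme.Hom.comp_apply, hk]
      exact hηZ
    have h2 : pullback.snd f g x' = genericPoint (Spec (CommRingCat.of A)) := by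
      rw [← hσx, ← Scheme.Hom.comp_apply, pullback.lift_snd]
      exact genericPoint_eq_map_fractionRing _
    have h3 : Function.Bijective ((pullback.snd f g).residueFieldMap x').hom := by
      refine ⟨((pullback.snd f g).residueFieldMap x').hom.injective, ?_⟩
      have hs : Function.Surjective ((pullback.snd f g).residueFieldMap x' ≫ ψ).hom := by
        refine surjective_of_fromSpec_eq (A := A) _ ?_
        rw [Spec.map_comp, Category.assoc, Scheme.Hom.SpecMap_residueFieldMap_fromSpecResidueField,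
          ← Category.assoc]
        exact (congrArg (· ≫ pullback.snd f g) hσ).trans (pullback.lift_snd _ _ _)
      intro z
      obtain ⟨w, hw⟩ := hs (ψ z)
      exact ⟨w, ψ.hom.injective hw⟩
    obtain ⟨s, hs, hxs⟩ := H A g hg x' h1 h2 h3
    obtain ⟨p, hp⟩ := hxs
    have hp' : p = genericPoint (Spec (CommRingCat.of A)) := by
      rw [← h2, ← hp, ← Scheme.Hom.comp_apply, hs]
      rfl
    have hap : a (IsLocalRing.closedPoint L) = p := by rw [hp']; exact genericPoint_eq_map_fractionRing _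
    have has : a ≫ s = σ := hom_ext_of_residueField (pullback.snd f g) _ _ x'
      (by rw [Scheme.Hom.comp_apply, hap, hp]) hσx h3.2
      (by rw [Category.assoc, hs, Category.comp_id, pullback.lift_snd])
    have hrange : Set.range (s ≫ pullback.fst f g) ⊆ Set.range ι := by
      rw [hι]
      rintro _ ⟨q, rfl⟩
      have hgen : p ⤳ q := hp'.symm ▸ genericPoint_specializes _
      refine closure_minimal (Set.singleton_subset_iff.2 (subset_closure h1)) isClosed_closure ?_
      have := (hgen.map (s ≫ pullback.fst f g).continuous).mem_closure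
      rwa [Scheme.Hom.comp_apply s (pullback.fst f g) p, hp] at this
    obtain ⟨l, hl⟩ := exists_lift_reduced ι _ hrange
    refine ⟨l, ?_, ?_⟩
    · rw [reassoc_of% hl, pullback.condition, reassoc_of% hs]
    · rw [← cancel_mono ι, Category.assoc, hl, reassoc_of% has, pullback.lift_fst]
  obtain ⟨U, hy, hprop⟩ := exists_nhd (ι ≫ f) y hlifts
  have hC : IsClosed ((f ⁻¹ᵁ U).ι ⁻¹' closure Z) := isClosed_closure.preimage (f ⁻¹ᵁ U).ι.continuous
  refine ⟨U, hy, hC, ?_⟩
  let i := (Scheme.IdealSheafData.vanishingIdeal (X := ((f ⁻¹ᵁ U : X.Opens) : Scheme.{u}))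
        (⟨(f ⁻¹ᵁ U).ι ⁻¹' closure Z, hC⟩ : Closeds ↥(f ⁻¹ᵁ U))).subschemeι
  have hi : Set.range i = (f ⁻¹ᵁ U).ι ⁻¹' closure Z := by
    rw [Scheme.IdealSheafData.range_subschemeι, Scheme.IdealSheafData.coe_support_vanishingIdeal]
    rfl
  have hr : Set.range (ι ∣_ (f ⁻¹ᵁ U)) = (f ⁻¹ᵁ U).ι ⁻¹' closure Z := by
    ext p
    constructor
    · rintro ⟨z, rfl⟩
      rw [Set.mem_preimage, ← hι, ← Scheme.Hom.comp_apply, morphismRestrict_ι, Scheme.Hom.comp_apply]
      exact Set.mem_range_self _
    · intro h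
      rw [Set.mem_preimage, ← hι] at h
      obtain ⟨z, hz⟩ := h
      refine ⟨⟨z, show ι z ∈ f ⁻¹ᵁ U from hz ▸ p.2⟩, Subtype.ext ?_⟩
      exact (morphismRestrict_base_coe ι (f ⁻¹ᵁ U) _).trans hz
  obtain ⟨h, hh⟩ := exists_lift_reduced i (ι ∣_ (f ⁻¹ᵁ U)) (by rw [hi, hr])
  haveI : Surjective h := ⟨fun q => by
    obtain ⟨z, hz⟩ : i q ∈ Set.range (ι ∣_ (f ⁻¹ᵁ U)) := by rw [hr, ← hi]; exact Set.mem_range_self _
    refine ⟨z, i.isClosedEmbedding.injective ?_⟩
    rw [← Scheme.Hom.comp_apply, hh, hz]⟩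
  haveI : UniversallyClosed (h ≫ i ≫ (f ∣_ U)) := by
    rw [reassoc_of% hh, ← morphismRestrict_comp]
    exact hprop.toUniversallyClosed
  haveI : UniversallyClosed (i ≫ (f ∣_ U)) := UniversallyClosed.of_comp_surjective h _
  exact { }

/-- Properness over a neighbourhood gives the sections. -/
theorem sections_of_proper_nhd {X Y : Scheme.{u}} (f : X ⟶ Y) (Z : Set X) (y : Y) (U : Y.Opens) (hy : y ∈ U)
    (hC : IsClosed ((f ⁻¹ᵁ U).ι ⁻¹' closure Z))
    (hprop : IsProper ((Scheme.IdealSheafData.vanishingIdeal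
        (⟨(f ⁻¹ᵁ U).ι ⁻¹' closure Z, hC⟩ : Closeds ↥(f ⁻¹ᵁ U))).subschemeι ≫ (f ∣_ U)))
    (A' : Type u) [CommRing A'] [IsDomain A'] [IsDiscreteValuationRing A'] (g : Spec (CommRingCat.of A') ⟶ Y)
    (hg : g (IsLocalRing.closedPoint A') = y) (x' : ↥(pullback f g)) (h1 : pullback.fst f g x' ∈ Z)
    (h2 : pullback.snd f g x' = genericPoint (Spec (CommRingCat.of A')))
    (h3 : Function.Bijective ((pullback.snd f g).residueFieldMap x').hom) :
    ∃ s : Spec (CommRingCat.of A') ⟶ pullback f g, s ≫ pullback.snd f g = 𝟙 _ ∧ x' ∈ Set.range s := by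
  let i := (Scheme.IdealSheafData.vanishingIdeal (X := ((f ⁻¹ᵁ U : X.Opens) : Scheme.{u}))
        (⟨(f ⁻¹ᵁ U).ι ⁻¹' closure Z, hC⟩ : Closeds ↥(f ⁻¹ᵁ U))).subschemeι
  have hi : Set.range i = (f ⁻¹ᵁ U).ι ⁻¹' closure Z := by
    rw [Scheme.IdealSheafData.range_subschemeι, Scheme.IdealSheafData.coe_support_vanishingIdeal]
    rfl
  let K := FractionRing A'
  let a := Spec.map (CommRingCat.ofHom (algebraMap A' K))
  obtain ⟨⟨t, φ⟩, ha⟩ := (Scheme.SpecToEquivOfField K (Spec (CommRingCat.of A'))).symm.surjective a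
  rw [Scheme.SpecToEquivOfField_symm_apply] at ha
  have ht : t = pullback.snd f g x' := by
    rw [h2, ← genericPoint_eq_map_fractionRing (A := A') (L := K) (IsLocalRing.closedPoint K)]
    show t = a _
    rw [← ha, Scheme.Hom.comp_apply]
    exact (Scheme.fromSpecResidueField_apply _ _).symm
  subst ht
  haveI : IsIso ((pullback.snd f g).residueFieldMap x') := (ConcreteCategory.isIso_iff_bijective _).2 h3
  let σ : Spec (CommRingCat.of K) ⟶ pullback f g :=
    Spec.map φ ≫ inv (Spec.map ((pullback.snd f g).residueFieldMap x')) ≫ (pullback f g).fromSpecResidueField x'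
  have hσ : σ ≫ pullback.snd f g = a := by
    show (Spec.map φ ≫ inv (Spec.map ((pullback.snd f g).residueFieldMap x')) ≫
      (pullback f g).fromSpecResidueField x') ≫ pullback.snd f g = a
    rw [Category.assoc, Category.assoc, ← Scheme.Hom.SpecMap_residueFieldMap_fromSpecResidueField,
      IsIso.inv_hom_id_assoc, ha]
  have hσx : σ (IsLocalRing.closedPoint K) = x' := by
    show (Spec.map φ ≫ inv (Spec.map ((pullback.snd f g).residueFieldMap x')) ≫
      (pullback f g).fromSpecResidueField x') _ = x'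
    rw [Scheme.Hom.comp_apply, Scheme.Hom.comp_apply]
    exact Scheme.fromSpecResidueField_apply _ _
  have hgU : Set.range g ⊆ U := range_subset_opens g (hg.symm ▸ hy)
  have hr : Set.range (σ ≫ pullback.fst f g) ⊆ Set.range (i ≫ (f ⁻¹ᵁ U).ι) := by
    rintro _ ⟨q, rfl⟩
    rw [Subsingleton.elim q (IsLocalRing.closedPoint K), Scheme.Hom.comp_apply, hσx]
    have hmem : pullback.fst f g x' ∈ f ⁻¹ᵁ U := by
      show f (pullback.fst f g x') ∈ U
      rw [← Scheme.Hom.comp_apply, pullback.condition, Scheme.Hom.comp_apply]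
      exact hgU (Set.mem_range_self _)
    obtain ⟨w, hw⟩ : (⟨_, hmem⟩ : ↥(f ⁻¹ᵁ U)) ∈ Set.range i := by
      rw [hi]
      exact subset_closure h1
    exact ⟨w, by rw [Scheme.Hom.comp_apply, hw]; rfl⟩
  obtain ⟨m, hm⟩ := exists_lift_reduced (i ≫ (f ⁻¹ᵁ U).ι) _ hr
  have hgU' : Set.range g ⊆ Set.range U.ι := by rwa [Scheme.Opens.range_ι]
  let gU := IsOpenImmersion.lift U.ι g hgU'
  have hgU'' : gU ≫ U.ι = g := IsOpenImmersion.lift_fac _ _ _
  have hsq : m ≫ (i ≫ (f ∣_ U)) = a ≫ gU := by
    rw [← cancel_mono U.ι, Category.assoc, Category.assoc, Category.assoc, morphismRestrict_ι, hgU'']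
    rw [← Category.assoc i]
    exact (Category.assoc m _ f).symm.trans ((congrArg (· ≫ f) hm).trans
      ((Category.assoc _ _ _).trans ((congrArg (σ ≫ ·) pullback.condition).trans
        ((Category.assoc _ _ _).symm.trans (congrArg (· ≫ g) hσ)))))
  have hex : ValuativeCriterion.Existence (i ≫ (f ∣_ U)) := by
    have h : UniversallyClosed (i ≫ (f ∣_ U)) := hprop.toUniversallyClosed
    rw [UniversallyClosed.eq_valuativeCriterion] at h
    exact h.1
  obtain ⟨⟨⟨l, hl1, hl2⟩⟩⟩ := hex { R := A', K := K, i₁ := m, i₂ := gU, commSq := ⟨hsq⟩ }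
  let s : Spec (CommRingCat.of A') ⟶ pullback f g := pullback.lift (l ≫ i ≫ (f ⁻¹ᵁ U).ι) (𝟙 _) (by
    rw [Category.assoc, Category.assoc, ← morphismRestrict_ι, Category.id_comp,
      ← Category.assoc i]
    exact (Category.assoc l _ U.ι).symm.trans ((congrArg (· ≫ U.ι) hl2).trans hgU''))
  have hs : a ≫ s = σ := by
    apply pullback.hom_ext
    · rw [Category.assoc, pullback.lift_fst]
      exact (Category.assoc _ _ _).symm.trans ((congrArg (· ≫ i ≫ (f ⁻¹ᵁ U).ι) hl1).trans hm)
    · rw [Category.assoc, pullback.lift_snd, Category.comp_id, hσ]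
  exact ⟨s, pullback.lift_snd _ _ _, a (IsLocalRing.closedPoint K), by
    rw [← Scheme.Hom.comp_apply, hs, hσx]⟩

end Groth.Agent.E4O.ProperAt
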