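import Groth.Agent.E4O.DvrCrit
import Groth.Agent.E4O.ProperAtSections
import Mathlib.RingTheory.Valuation.ValuationRing

/-!
A rational point of the generic fibre over a DVR which specialises to the closed fibre extends to a section.
-/

set_option autoImplicit false
set_option linter.style.haveILetI false
universe u

open CategoryTheory CategoryTheory.Limits AlgebraicGeometry IsLocalRing

namespace Groth.Agent.E4O

theorem exists_section_of_specializes {A : Type u} [CommRing A] [IsDomain A] [IsDiscreteValuationRing A]
    {X : Scheme.{u}} (q : X ⟶ Spec (CommRingCat.of A)) {x t : X}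
    (hx : q x = genericPoint (Spec (CommRingCat.of A)))
    (hbij : Function.Bijective (q.residueFieldMap x).hom)
    (ht : q t = closedPoint A) (h : x ⤳ t) :
    ∃ s : Spec (CommRingCat.of A) ⟶ X, s ≫ q = 𝟙 _ ∧ x ∈ Set.range s := by
  let K := FractionRing A
  let j : Spec (CommRingCat.of K) ⟶ Spec (CommRingCat.of A) := Spec.map (CommRingCat.ofHom (algebraMap A K))
  obtain ⟨⟨η, χ⟩, hj⟩ := (Scheme.SpecToEquivOfField K (Spec (CommRingCat.of A))).symm.surjective j
  rw [Scheme.SpecToEquivOfField_symm_apply] at hj
  have hη : η = q x := by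
    rw [hx, ← genericPoint_eq_map_fractionRing (L := K) (closedPoint K)]
    show η = j (closedPoint K)
    rw [← hj, Scheme.Hom.comp_apply, Scheme.fromSpecResidueField_apply]
  subst hη
  haveI : IsIso (q.residueFieldMap x) := (ConcreteCategory.isIso_iff_bijective _).2 hbij
  let k : Spec (CommRingCat.of K) ⟶ X :=
    Spec.map (inv (q.residueFieldMap x) ≫ χ) ≫ X.fromSpecResidueField x
  have hk : k ≫ q = j := by
    show (Spec.map _ ≫ _) ≫ q = j
    rw [Category.assoc, ← Scheme.Hom.SpecMap_residueFieldMap_fromSpecResidueField, ← Category.assoc,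
      ← Spec.map_comp, IsIso.hom_inv_id_assoc]
    exact hj
  let θ : X.presheaf.stalk t ⟶ CommRingCat.of K :=
    X.presheaf.stalkSpecializes h ≫ X.residue x ≫ inv (q.residueFieldMap x) ≫ χ
  have hθ : Spec.map θ ≫ X.fromSpecStalk t = k := by
    show Spec.map (X.presheaf.stalkSpecializes h ≫ _) ≫ _ = _
    rw [Spec.map_comp, Category.assoc, Scheme.SpecMap_stalkSpecializes_fromSpecStalk, Spec.map_comp,
      Category.assoc]
    rfl
  obtain ⟨α, hα⟩ := Spec.map_surjective (X.fromSpecStalk t ≫ q)
  have hαθ : ∀ a, θ (α a) = algebraMap A K a := by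
    have : α ≫ θ = CommRingCat.ofHom (algebraMap A K) := Spec.map_injective (by
      rw [Spec.map_comp, hα, reassoc_of% hθ, hk])
    exact fun a => ConcreteCategory.congr_hom this a
  have hloc : ∀ a : A, a ∈ maximalIdeal A → α a ∈ maximalIdeal (X.presheaf.stalk t) := by
    intro a ha
    have : (Spec.map α) (closedPoint (X.presheaf.stalk t)) = closedPoint A := by
      rw [hα, Scheme.Hom.comp_apply, Scheme.fromSpecStalk_closedPoint, ht]
    exact (congrArg PrimeSpectrum.asIdeal this).ge ha
  have hrange : ∀ r, ∃ a : A, algebraMap A K a = θ r := by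
    intro r
    rcases ValuationRing.isInteger_or_isInteger A (θ r) with ⟨a, ha⟩ | ⟨a, ha⟩
    · exact ⟨a, ha⟩
    · by_cases hu : IsUnit a
      · obtain ⟨b, hb⟩ := hu.exists_left_inv
        refine ⟨b, ?_⟩
        have h1 : algebraMap A K b * algebraMap A K a = 1 := by rw [← map_mul, hb, map_one]
        have h2 : algebraMap A K a = (θ r)⁻¹ := ha
        rw [eq_comm, ← inv_inv (θ r), ← h2]
        exact (eq_inv_of_mul_eq_one_left h1).symm
      · by_cases hr : θ r = 0
        · exact ⟨0, by rw [hr, map_zero]⟩
        exfalso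
        have hm : α a ∈ maximalIdeal (X.presheaf.stalk t) := hloc a hu
        have hu' : IsUnit (1 - α a * r) := IsLocalRing.isUnit_one_sub_self_of_mem_nonunits _
          (Ideal.mul_mem_right r _ hm)
        have := hu'.map θ.hom
        rw [map_sub, map_one, map_mul, hαθ, show algebraMap A K a = (θ r)⁻¹ from ha, inv_mul_cancel₀ hr,
          sub_self] at this
        exact not_isUnit_zero this
  choose φ hφ using hrange
  have hinj := IsFractionRing.injective A K
  let φ' : X.presheaf.stalk t →+* A :=
    { toFun := φ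
      map_one' := hinj (by rw [hφ, map_one, map_one])
      map_mul' := fun a b => hinj (by rw [hφ, map_mul, map_mul, hφ, hφ])
      map_zero' := hinj (by rw [hφ, map_zero, map_zero])
      map_add' := fun a b => hinj (by rw [hφ, map_add, map_add, hφ, hφ]) }
  let s : Spec (CommRingCat.of A) ⟶ X := Spec.map (CommRingCat.ofHom φ') ≫ X.fromSpecStalk t
  refine ⟨s, ?_, genericPoint (Spec (CommRingCat.of A)), ?_⟩
  · have e : α ≫ CommRingCat.ofHom φ' = 𝟙 _ := by
      ext a
      exact hinj ((hφ (α a)).trans (hαθ a))
    show (Spec.map _ ≫ _) ≫ q = _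
    rw [Category.assoc, ← hα, ← Spec.map_comp]
    exact (congrArg Spec.map e).trans (Spec.map_id _)
  · have e : CommRingCat.ofHom φ' ≫ CommRingCat.ofHom (algebraMap A K) = θ := by
      ext r
      exact hφ r
    have e' : j ≫ s = k := by
      show j ≫ Spec.map _ ≫ _ = k
      rw [← Category.assoc, ← Spec.map_comp, e, hθ]
    rw [← genericPoint_eq_map_fractionRing (L := K) (closedPoint K)]
    show s (j (closedPoint K)) = x
    rw [← Scheme.Hom.comp_apply, e']
    show (Spec.map _ ≫ _) _ = _
    rw [Scheme.Hom.comp_apply, Scheme.fromSpecResidueField_apply]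

end Groth.Agent.E4O
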