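import Groth.Agent.E4O.ProperOver
import Groth.Agent.E4O.ProperPart
import Groth.Agent.E4O.SectionExtend
import Groth.Agent.E4O.SectionCompDvr
import Groth.Agent.FlatMor68.CompleteDVR
import Groth.Agent.EGA4H10.CMCompletion
import Mathlib.RingTheory.AdicCompletion.LocalRing
import Mathlib.RingTheory.AdicCompletion.AsTensorProduct
import Mathlib.AlgebraicGeometry.Morphisms.FinitePresentation

/-!
EGA IV 15.6.7 and 15.7.11: a fibrewise component which is proper over a point is proper over a neighbourhood.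
-/

set_option autoImplicit false
set_option linter.style.haveILetI false

universe u

open CategoryTheory CategoryTheory.Limits AlgebraicGeometry TopologicalSpace Topology IsLocalRing

namespace Groth.Agent.E4O

/-- A discrete valuation ring maps to a henselian one, closed point to closed point. -/
theorem exists_henselian_dvr (A : Type u) [CommRing A] [IsDomain A] [IsDiscreteValuationRing A] :
    ∃ (B : Type u) (_ : CommRing B) (_ : IsDomain B) (_ : IsDiscreteValuationRing B)
      (_ : HenselianRing B (maximalIdeal B)) (j : Spec (CommRingCat.of B) ⟶ Spec (CommRingCat.of A)),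
      j (closedPoint B) = closedPoint A ∧
      j (genericPoint (Spec (CommRingCat.of B))) = genericPoint (Spec (CommRingCat.of A)) := by
  let B := EGA4.Cpl A
  haveI : IsNoetherianRing B := EGA4H10.isNoetherianRing_cpl (A := A)
  haveI : IsAdicComplete (maximalIdeal B) B := by
    rw [AdicCompletion.maximalIdeal_eq_map]
    exact AdicCompletion.isAdicComplete_self _ (IsNoetherian.noetherian _)
  haveI : IsLocalHom (algebraMap A B) :=
    ((IsLocalRing.local_hom_TFAE _).out 2 0 rfl rfl).mp AdicCompletion.maximalIdeal_eq_map.symm.le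
  haveI : Module.FaithfullyFlat A B := Module.FaithfullyFlat.of_flat_of_isLocalHom
  have hinj : Function.Injective (algebraMap A B) := FaithfulSMul.algebraMap_injective A B
  obtain ⟨ϖ, hϖ⟩ := IsDiscreteValuationRing.exists_irreducible A
  have hm : maximalIdeal B = Ideal.span {algebraMap A B ϖ} := by
    rw [AdicCompletion.maximalIdeal_eq_map]
    refine (congrArg (Ideal.map (algebraMap A B)) hϖ.maximalIdeal_eq).trans ?_
    rw [Ideal.map_span, Set.image_singleton]
  obtain ⟨hd, hdvr⟩ := FlatMor68.CompleteDVR.isDVR_of_complete B (algebraMap A B ϖ) hm fun n e => by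
    rw [← map_pow, ← map_zero (algebraMap A B)] at e
    exact pow_ne_zero n hϖ.ne_zero (hinj e)
  refine ⟨B, inferInstance, hd, hdvr, inferInstance, Spec.map (CommRingCat.ofHom (algebraMap A B)),
    IsLocalRing.comap_closedPoint (algebraMap A B), ?_⟩
  rw [genericPoint_eq_bot_of_affine, genericPoint_eq_bot_of_affine]
  refine PrimeSpectrum.ext ?_
  show Ideal.comap (algebraMap A B) ⊥ = ⊥
  exact Ideal.comap_bot_of_injective _ hinj

variable {X Y : Scheme.{u}}

/-- The hypotheses making `Z` a component of the fibres near `y`: connected generic fibres over discrete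
valuation rings, clopen traces, and generic points near the special trace. -/
structure ComponentHyp (f : X ⟶ Y) (Z : Set X) (y : Y) : Prop where
  clopen : ∀ y' : Y, y' ⤳ y → IsClopen ((f.fiberι y') ⁻¹' Z)
  conn : ∀ (A : Type u) [CommRing A] [IsDomain A] [IsDiscreteValuationRing A]
    (g : Spec (CommRingCat.of A) ⟶ Y), g (closedPoint A) ⤳ y →
    _root_.IsPreconnected (pullback.fst f g ⁻¹' Z ∩
      pullback.snd f g ⁻¹' {genericPoint (Spec (CommRingCat.of A))})
  meet : ∀ (A : Type u) [CommRing A] [IsDomain A] [IsDiscreteValuationRing A]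
    (g : Spec (CommRingCat.of A) ⟶ Y), g (closedPoint A) ⤳ y → ∀ P : Set ↥(pullback f g), IsOpen P →
    P ∩ pullback.snd f g ⁻¹' {closedPoint A} = pullback.fst f g ⁻¹' Z ∩ pullback.snd f g ⁻¹' {closedPoint A} →
    (pullback.fst f g ⁻¹' Z ∩ pullback.snd f g ⁻¹' {genericPoint (Spec (CommRingCat.of A))}).Nonempty →
    (P ∩ (pullback.fst f g ⁻¹' Z ∩
      pullback.snd f g ⁻¹' {genericPoint (Spec (CommRingCat.of A))})).Nonempty

/-- Over a henselian trait, the component is contained in a clopen proper part. -/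
theorem ComponentHyp.exists_clopen {f : X ⟶ Y} [IsSeparated f] [LocallyOfFiniteType f] [QuasiCompact f]
    {Z : Set X} {y : Y} (H : ComponentHyp f Z y) {y' : Y} (hy' : y' ⤳ y) (hT : ProperTrace f Z y')
    (B : Type u) [CommRing B] [IsDomain B] [IsDiscreteValuationRing B] [HenselianRing B (maximalIdeal B)]
    (g : Spec (CommRingCat.of B) ⟶ Y) (hg : g (closedPoint B) = y') :
    ∃ P : (pullback f g).Opens, IsClosed (P : Set ↥(pullback f g)) ∧ IsProper (P.ι ≫ pullback.snd f g) ∧
      (P : Set ↥(pullback f g)) ∩ pullback.snd f g ⁻¹' {closedPoint B} =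
        pullback.fst f g ⁻¹' Z ∩ pullback.snd f g ⁻¹' {closedPoint B} ∧
      pullback.fst f g ⁻¹' Z ∩ pullback.snd f g ⁻¹' {genericPoint (Spec (CommRingCat.of B))} ⊆ P := by
  let q := pullback.snd f g
  let p := pullback.fst f g
  obtain ⟨T, a, b, hb, hab, hr⟩ := hT.baseChange (IsPullback.of_hasPullback f g) hg
  obtain ⟨O, hO, hOZ⟩ := ((f.fiberι y').isEmbedding.isInducing.isOpen_iff).1 (H.clopen y' hy').isOpen
  haveI : IsClosedImmersion ((Spec (CommRingCat.of B)).fromSpecResidueField (closedPoint B)) :=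
    IsClosedImmersion.of_isPreimmersion _ (by
      rw [Scheme.range_fromSpecResidueField]; exact IsLocalRing.isClosed_singleton_closedPoint B)
  haveI : IsProper (a ≫ q) := by
    rw [hab]; infer_instance
  have hz : PrimeSpectrum.zeroLocus (maximalIdeal B : Set B) = ({closedPoint B} : Set (PrimeSpectrum B)) := by
    rw [← range_clPt_ideal]
    exact FBase64.ProperNhd.range_clPt
  have hZO : ∀ x : X, f x = y' → (x ∈ Z ↔ x ∈ O) := by
    intro x hx
    obtain ⟨w, rfl⟩ := (f.range_fiberι y').ge hx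
    exact (Set.ext_iff.1 hOZ w).symm
  have hsq : ∀ x, q x = closedPoint B → f (p x) = y' := fun x hx => by
    rw [← Scheme.Hom.comp_apply, pullback.condition, Scheme.Hom.comp_apply, hx, hg]
  have hrange : Set.range a = p ⁻¹' O ∩ q ⁻¹' PrimeSpectrum.zeroLocus (maximalIdeal B : Set B) := by
    rw [hr, hz]
    ext x
    constructor
    · exact fun h => ⟨(hZO _ (hsq x h.2)).1 h.1, h.2⟩
    · exact fun h => ⟨(hZO _ (hsq x h.2)).2 h.1, h.2⟩
  obtain ⟨P, hPc, hPp, hP⟩ := exists_clopen_proper_part (maximalIdeal B) q a (hO.preimage p.continuous) hrange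
  rw [hz, hr] at hP
  refine ⟨P, hPc, hPp, hP, fun x hx => ?_⟩
  have hgy : g (closedPoint B) ⤳ y := by rw [hg]; exact hy'
  obtain ⟨x₀, hx₀P, hx₀⟩ := H.meet B g hgy P P.2 hP ⟨x, hx⟩
  exact (H.conn B g hgy).subset_isClopen ⟨hPc, P.2⟩ ⟨x₀, hx₀, hx₀P⟩ hx

/-- Rational generic points of the component specialise to the closed fibre. -/
theorem ComponentHyp.exists_section {f : X ⟶ Y} [IsSeparated f] [LocallyOfFiniteType f] [QuasiCompact f]
    {Z : Set X} {y : Y} (H : ComponentHyp f Z y) (hT : ProperTrace f Z y) (A : Type u) [CommRing A]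
    [IsDomain A] [IsDiscreteValuationRing A] (g : Spec (CommRingCat.of A) ⟶ Y) (hg : g (closedPoint A) = y)
    (x' : ↥(pullback f g)) (hxZ : pullback.fst f g x' ∈ Z)
    (hx : pullback.snd f g x' = genericPoint (Spec (CommRingCat.of A)))
    (hbij : Function.Bijective ((pullback.snd f g).residueFieldMap x').hom) :
    ∃ s : Spec (CommRingCat.of A) ⟶ pullback f g, s ≫ pullback.snd f g = 𝟙 _ ∧ x' ∈ Set.range s := by
  obtain ⟨B, _, _, _, _, j, hjc, hjg⟩ := exists_henselian_dvr A
  obtain ⟨P, hPc, hPp, -, hZP⟩ := H.exists_clopen specializes_rfl hT B (j ≫ g)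
    (by rw [Scheme.Hom.comp_apply, hjc, hg])
  let q := pullback.snd f (j ≫ g)
  let p := pullback.fst f (j ≫ g)
  let e : pullback f (j ≫ g) ⟶ pullback f g := pullback.lift p (q ≫ j)
    (by rw [Category.assoc]; exact pullback.condition)
  have he₁ : e ≫ pullback.fst f g = p := pullback.lift_fst _ _ _
  have he₂ : e ≫ pullback.snd f g = q ≫ j := pullback.lift_snd _ _ _
  have hsq : IsPullback e q (pullback.snd f g) j :=
    IsPullback.of_right (by rw [he₁]; exact IsPullback.of_hasPullback f (j ≫ g)) he₂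
      (IsPullback.of_hasPullback f g)
  obtain ⟨x, hex, hqx⟩ := Scheme.exists_preimage_of_isPullback hsq x' (genericPoint (Spec (CommRingCat.of B)))
    (by rw [hx, hjg])
  have hxP : x ∈ P := hZP ⟨by
    show p x ∈ Z
    rw [← he₁, Scheme.Hom.comp_apply, hex]; exact hxZ, hqx⟩
  have hcl : ∃ t : P, x ⤳ P.ι t ∧ q (P.ι t) = closedPoint B := by
    by_contra hne
    haveI := hPp
    have := eq_empty_of_disjoint_zeroLocus (maximalIdeal B) (Ideal.jacobson_bot (R := B) ▸ IsLocalRing.maximalIdeal_le_jacobson ⊥) (P.ι ≫ q)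
      (isClosed_closure (s := {(⟨x, hxP⟩ : P)})) fun t ht hmem => hne ⟨t, ?_, ?_⟩
    · exact this.le (subset_closure rfl)
    · exact (specializes_iff_mem_closure.2 ht).map P.ι.continuous
    · rw [← Scheme.Hom.comp_apply]
      exact (PrimeSpectrum.zeroLocus_eq_singleton (maximalIdeal B)).le hmem
  obtain ⟨t, hxt, hqt⟩ := hcl
  refine exists_section_of_specializes (pullback.snd f g) hx hbij (t := e (P.ι t)) ?_ ?_
  · rw [← Scheme.Hom.comp_apply, he₂, Scheme.Hom.comp_apply, hqt, hjc]
  · rw [← hex]; exact hxt.map e.continuous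

/-- Specialisations into the fibre at a point with proper trace stay in the component. -/
theorem ComponentHyp.mem_of_specializes [IsLocallyNoetherian Y] {f : X ⟶ Y} [IsSeparated f]
    [LocallyOfFiniteType f] [QuasiCompact f]
    {Z : Set X} {y : Y} (H : ComponentHyp f Z y) {y' : Y} (hy' : y' ⤳ y) (hT : ProperTrace f Z y')
    {w z : X} (hw : w ∈ Z) (hwz : w ⤳ z) (hz : f z = y') : z ∈ Z := by
  haveI : IsLocallyNoetherian X := LocallyOfFiniteType.isLocallyNoetherian f
  by_cases hne : w = z
  · exact hne ▸ hw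
  by_cases hfw : f w = y'
  · obtain ⟨w₀, rfl⟩ := (f.range_fiberι y').ge hfw
    obtain ⟨z₀, rfl⟩ := (f.range_fiberι y').ge hz
    exact ((f.fiberι y').isEmbedding.isInducing.specializes_iff.1 hwz).mem_closed (H.clopen y' hy').isClosed hw
  obtain ⟨A, _, _, _, h, hhc, hhg⟩ := exists_dvr_of_specializes hwz hne
  obtain ⟨B, _, _, _, _, j, hjc, hjg⟩ := exists_henselian_dvr A
  let g := (j ≫ h) ≫ f
  obtain ⟨P, hPc, -, hP, hZP⟩ := H.exists_clopen hy' hT B g
    (by rw [Scheme.Hom.comp_apply, Scheme.Hom.comp_apply, hjc, hhc, hz])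
  let τ : Spec (CommRingCat.of B) ⟶ pullback f g := pullback.lift (j ≫ h) (𝟙 _) (Category.id_comp g).symm
  have hτ₁ : ∀ o, pullback.fst f g (τ o) = h (j o) := fun o => by
    rw [← Scheme.Hom.comp_apply, pullback.lift_fst, Scheme.Hom.comp_apply]
  have hτ₂ : ∀ o, pullback.snd f g (τ o) = o := fun o => by
    rw [← Scheme.Hom.comp_apply, pullback.lift_snd]; rfl
  have h₁ : τ (genericPoint _) ∈ P := hZP ⟨by
    show pullback.fst f g (τ (genericPoint _)) ∈ Z
    rw [hτ₁, hjg, hhg]; exact hw, hτ₂ _⟩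
  have h₂ : τ (closedPoint B) ∈ P :=
    (((genericPoint_spec (Spec (CommRingCat.of B))).specializes trivial).map τ.continuous).mem_closed hPc h₁
  have h₃ := (hP.le ⟨h₂, hτ₂ _⟩).1
  rwa [Set.mem_preimage, hτ₁, hjc, hhc] at h₃

/-- A fibrewise component with proper trace at `y` is proper over a neighbourhood of `y`. -/
theorem ComponentHyp.exists_properOn [IsLocallyNoetherian Y] {f : X ⟶ Y} [IsSeparated f]
    [LocallyOfFiniteType f] [QuasiCompact f]
    {Z : Set X} {y : Y} (H : ComponentHyp f Z y) (hT : ProperTrace f Z y)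
    (hZ : IsLocallyConstructible Z) : ∃ U : Y.Opens, y ∈ U ∧ ProperOn f Z U := by
  haveI : IsLocallyNoetherian X := LocallyOfFiniteType.isLocallyNoetherian f
  obtain ⟨U₀, hyU₀, hC, hprop⟩ := ProperAt.proper_nhd_of_sections f Z (fun z hz hmax => by
      obtain ⟨v, hv, hvz⟩ := exists_specializes_of_mem_closure_isLocallyConstructible hZ hz
      rw [← hmax v (subset_closure hv) (specializes_iff_mem_closure.1 hvz)]
      exact hv) y
    (fun A _ _ _ g hg x' h1 h2 h3 => H.exists_section hT A g hg x' h1 h2 h3)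
  have hon : ProperOn f (closure Z) U₀ := properOn_of_isProper f _ U₀ hC hprop
  let D : Set X := (closure Z \ Z) ∩ f ⁻¹' U₀
  have hcl : IsLocallyConstructible (closure Z) := by
    simpa using isLocallyConstructible_compl (isLocallyConstructible_of_isOpen' (isClosed_closure (s := Z)).isOpen_compl)
  have hD : IsLocallyConstructible D :=
    (hcl.inter (isLocallyConstructible_compl hZ)).inter
      (isLocallyConstructible_of_isOpen' (U₀.2.preimage f.continuous))
  haveI : LocallyOfFinitePresentation f := locallyOfFinitePresentation_of_isLocallyNoetherian f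
  have hy : y ∉ closure (f '' D) := by
    intro hcl
    obtain ⟨y', ⟨z, ⟨⟨hzc, hzZ⟩, hzU⟩, rfl⟩, hy'⟩ :=
      exists_specializes_of_mem_closure_isLocallyConstructible (f.isLocallyConstructible_image hD) hcl
    obtain ⟨w, hw, hwz⟩ := exists_specializes_of_mem_closure_isLocallyConstructible hZ hzc
    exact hzZ (H.mem_of_specializes hy'
      ((hon.trace hzU).of_isClosed (fun _ h => subset_closure h.1) (H.clopen _ hy').isClosed) hw hwz rfl)
  let U : Y.Opens := ⟨(U₀ : Set Y) ∩ (closure (f '' D))ᶜ, U₀.2.inter isClosed_closure.isOpen_compl⟩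
  refine ⟨U, ⟨hyU₀, hy⟩, ?_⟩
  obtain ⟨T, a, b, hb, hab, hr⟩ := hon.mono (show U ≤ U₀ from fun _ h => h.1)
  refine ⟨T, a, b, hb, hab, hr.trans (Set.ext fun x => ⟨fun h => ⟨?_, h.2⟩, fun h => ⟨subset_closure h.1, h.2⟩⟩)⟩
  by_contra hx
  exact h.2.2 (subset_closure ⟨x, ⟨⟨h.1, hx⟩, h.2.1⟩, rfl⟩)

end Groth.Agent.E4O
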