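import Groth.Agent.E4O.EndoFinite
import Groth.Agent.Approx60.ImmStage
import Groth.Agent.LimTop61.IsoDescent
import Groth.Agent.LimDesc62.Points

/-!
Radicial endomorphisms of schemes of finite presentation over an arbitrary base are surjective and finite.
-/

set_option autoImplicit false
set_option linter.style.haveILetI false
set_option backward.isDefEq.respectTransparency.types false

universe u

open CategoryTheory CategoryTheory.Limits AlgebraicGeometry

namespace Groth.Agent.E4O

/-- An endomorphism over the base of a base change is the base change of the endomorphism. -/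
theorem isPullback_endo {X X' S S' : Scheme.{u}} {q : X' ⟶ X} {b : X' ⟶ S'} {a : X ⟶ S} {π : S' ⟶ S}
    (hsq : IsPullback q b a π) {F : X ⟶ X} (hF : F ≫ a = a) {G : X' ⟶ X'} (hG : G ≫ b = b)
    (hGF : G ≫ q = q ≫ F) : IsPullback q G F q :=
  IsPullback.of_bot (by rw [hG, hF]; exact hsq) hGF.symm hsq

theorem surjective_isFinite_of_qcqs {X S : Scheme.{u}} [CompactSpace S] [QuasiSeparatedSpace S] (p : X ⟶ S)
    [LocallyOfFinitePresentation p] [QuasiCompact p] [QuasiSeparated p]
    (f : X ⟶ X) (hf : f ≫ p = p) [UniversallyInjective f] : Surjective f ∧ IsFinite f := by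
  obtain ⟨J, _, _, D, π, hD, ⟨hc⟩⟩ := Approx60.exists_approximation S
  haveI := hD.aff
  haveI := hD.compact
  haveI hqsD : ∀ i, QuasiSeparatedSpace (D.obj i) := fun i =>
    haveI := @Approx60.isLocallyNoetherian_of_lft_toZ _ (hD.lft i)
    inferInstance
  obtain ⟨i, Xi, fi, g, hlfp, hqc, hqs, hg⟩ := Approx60.S0591 D _ hc X p
  haveI : CompactSpace Xi := QuasiCompact.compactSpace_of_compactSpace fi
  haveI : QuasiSeparatedSpace Xi := quasiSeparatedSpace_of_quasiSeparated fi
  obtain ⟨j, φ, G, hG, hG'⟩ := LimTop61.exists_hom_descend D _ hc fi fi p g hg (f ≫ g)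
    (by rw [Category.assoc, hg.w, reassoc_of% hf])
  let sj : pullback fi (D.map φ) ⟶ D.obj j := pullback.snd fi (D.map φ)
  let F : pullback fi (D.map φ) ⟶ pullback fi (D.map φ) := pullback.lift G sj (hG.trans pullback.condition)
  have hFs : F ≫ sj = sj := pullback.lift_snd _ _ _
  let gj : X ⟶ pullback fi (D.map φ) :=
    pullback.lift g (p ≫ π.app j) (by rw [hg.w, Category.assoc]; exact congrArg _ ((Cone.mk S π).w φ).symm)
  have hgj : IsPullback gj p sj (π.app j) := by
    refine IsPullback.of_right ?_ (pullback.lift_snd _ _ _) (IsPullback.of_hasPullback fi (D.map φ))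
    rw [pullback.lift_fst]
    rw [show π.app j ≫ D.map φ = π.app i from (Cone.mk S π).w φ]
    exact hg
  have hfgj : f ≫ gj = gj ≫ F := by
    apply pullback.hom_ext
    · simp only [gj, F, Category.assoc, pullback.lift_fst]
      exact hG'.symm
    · simp only [gj, F, sj, Category.assoc, pullback.lift_snd]
      rw [reassoc_of% hf]
  haveI : LocallyOfFinitePresentation sj := MorphismProperty.pullback_snd _ _ hlfp
  haveI : QuasiCompact sj := MorphismProperty.pullback_snd _ _ hqc
  haveI : QuasiSeparated sj := MorphismProperty.pullback_snd _ _ hqs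
  haveI : CompactSpace ↥(pullback fi (D.map φ)) := QuasiCompact.compactSpace_of_compactSpace sj
  haveI : QuasiSeparatedSpace ↥(pullback fi (D.map φ)) := quasiSeparatedSpace_of_quasiSeparated sj
  haveI : LocallyOfFiniteType F := by
    haveI : LocallyOfFiniteType (F ≫ sj) := by rw [hFs]; infer_instance
    exact locallyOfFiniteType_of_comp F sj
  haveI : QuasiCompact F := by
    haveI : QuasiCompact (F ≫ sj) := by rw [hFs]; infer_instance
    exact QuasiCompact.of_comp F sj
  haveI : QuasiSeparated F := by
    haveI : QuasiSeparated (F ≫ sj) := by rw [hFs]; infer_instance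
    exact QuasiSeparated.of_comp F sj
  have hfj := isPullback_endo hgj hFs hf hfgj
  have hUI : UniversallyInjective (pullback.snd F (pullback.fst sj (π.app j))) := by
    have hq : IsPullback gj (f ≫ hgj.isoPullback.hom) F (pullback.fst sj (π.app j)) :=
      hfj.of_iso (Iso.refl _) (Iso.refl _) hgj.isoPullback (Iso.refl _) (by simp) (by simp) (by simp) (by simp)
    exact (LimDesc62.prop_iff_of_isPullback hq).mp (MorphismProperty.comp_mem _ _ _ ‹_› inferInstance : UniversallyInjective (f ≫ hgj.isoPullback.hom))
  obtain ⟨k, ψ, hk⟩ := LimDesc62.descProp_universallyInjective.rel D _ hc j sj F ‹_› hUI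
  let q := pullback.fst sj (D.map ψ)
  let sk := pullback.snd sj (D.map ψ)
  let Φ : pullback sj (D.map ψ) ⟶ pullback sj (D.map ψ) := pullback.lift (q ≫ F) sk
    (by rw [Category.assoc, hFs]; exact pullback.condition)
  have hΦs : Φ ≫ sk = sk := pullback.lift_snd _ _ _
  have hΦq : Φ ≫ q = q ≫ F := pullback.lift_fst _ _ _
  haveI : UniversallyInjective Φ :=
    (LimDesc62.prop_iff_of_isPullback (isPullback_endo (IsPullback.of_hasPullback sj (D.map ψ)) hFs hΦs hΦq)).mpr hk
  let gk : X ⟶ pullback sj (D.map ψ) :=
    pullback.lift gj (p ≫ π.app k) (by rw [hgj.w, Category.assoc]; exact congrArg _ ((Cone.mk S π).w ψ).symm)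
  have hgk : IsPullback gk p sk (π.app k) := by
    refine IsPullback.of_right ?_ (pullback.lift_snd _ _ _) (IsPullback.of_hasPullback sj (D.map ψ))
    rw [pullback.lift_fst]
    rw [show π.app k ≫ D.map ψ = π.app j from (Cone.mk S π).w ψ]
    exact hgj
  have hfgk : f ≫ gk = gk ≫ Φ := by
    apply pullback.hom_ext
    · simp only [gk, Φ, q, Category.assoc, pullback.lift_fst, pullback.lift_fst_assoc]
      exact hfgj
    · simp only [gk, Φ, sk, Category.assoc, pullback.lift_snd]
      rw [reassoc_of% hf]
  haveI : LocallyOfFiniteType (Approx60.toZ (D.obj k)) := hD.lft k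
  haveI : QuasiCompact (Approx60.toZ (D.obj k)) := by
    haveI := hD.compact k
    exact quasiCompact_iff_compactSpace (f := Approx60.toZ (D.obj k)) |>.mpr inferInstance
  haveI : LocallyOfFiniteType sk := inferInstance
  haveI : QuasiCompact sk := inferInstance
  obtain ⟨hbij, hfin⟩ := bijective_isFinite_of_finiteType_int (sk ≫ Approx60.toZ (D.obj k)) Φ
  haveI : Surjective Φ := ⟨hbij.2⟩
  have hfk := isPullback_endo hgk hΦs hf hfgk
  exact ⟨MorphismProperty.of_isPullback (P := @Surjective) hfk ‹_›,
    MorphismProperty.of_isPullback (P := @IsFinite) hfk hfin⟩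

/-- A radicial endomorphism of a scheme of finite presentation is bijective and finite. -/
theorem bijective_isFinite_of_universallyInjective {X S : Scheme.{u}} (p : X ⟶ S)
    [LocallyOfFinitePresentation p] [QuasiCompact p] [QuasiSeparated p]
    (f : X ⟶ X) (hf : f ≫ p = p) [UniversallyInjective f] : Function.Bijective ⇑f.base ∧ IsFinite f := by
  let 𝒰 := S.affineCover
  let 𝒱 := 𝒰.pullback₁ p
  have key : ∀ i, Surjective (pullback.snd f (𝒱.f i)) ∧ IsFinite (pullback.snd f (𝒱.f i)) := by
    intro i
    let q := pullback.fst p (𝒰.f i)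
    let b := pullback.snd p (𝒰.f i)
    haveI : IsAffine (𝒰.X i) := inferInstanceAs (IsAffine (S.affineCover.X i))
    let G : pullback p (𝒰.f i) ⟶ pullback p (𝒰.f i) := pullback.lift (q ≫ f) b
      (by rw [Category.assoc, hf]; exact pullback.condition)
    have hG : G ≫ b = b := pullback.lift_snd _ _ _
    have hsq := isPullback_endo (IsPullback.of_hasPullback p (𝒰.f i)) hf hG (pullback.lift_fst _ _ _)
    haveI : UniversallyInjective G := MorphismProperty.of_isPullback hsq ‹_›
    haveI : LocallyOfFinitePresentation b := MorphismProperty.pullback_snd _ _ ‹_›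
    obtain ⟨h1, h2⟩ := surjective_isFinite_of_qcqs b G hG
    exact ⟨(LimDesc62.prop_iff_of_isPullback hsq).mp h1, (LimDesc62.prop_iff_of_isPullback hsq).mp h2⟩
  haveI : Surjective f := IsZariskiLocalAtTarget.of_openCover 𝒱 fun i => (key i).1
  exact ⟨⟨f.injective, f.surjective⟩, IsZariskiLocalAtTarget.of_openCover 𝒱 fun i => (key i).2⟩

end Groth.Agent.E4O
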