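import Groth.Agent.E4O.LocalFinite
import Groth.Agent.CAlg4.FormalFibreFinite
import Groth.Agent.EGA4H10.GRingLoc
import Groth.Agent.Hens22.CompletionUnrAdic
import Mathlib.RingTheory.Ideal.GoingDown
import Mathlib.RingTheory.Henselian

/-!
An open part of a finite algebra over a local ring which is universally injective over the base and has a
point with the same local ring as the base is closed.
-/

set_option autoImplicit false
set_option linter.style.haveILetI false

universe u

open IsLocalRing TensorProduct TopologicalSpace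

namespace Groth.Agent.E4O

/-- A Noetherian space embeds only onto itself as a closed subspace. -/
theorem surjective_of_isClosedEmbedding_self {S : Type*} [TopologicalSpace S] [NoetherianSpace S] (h : S → S)
    (hh : Topology.IsClosedEmbedding h) : Function.Surjective h := by
  have hc : ∀ n, IsClosed (Set.range h^[n]) := fun n => by
    induction n with
    | zero => simp
    | succ n ih => rw [Function.iterate_succ', Set.range_comp]; exact hh.isClosedMap _ ih
  let c : ℕ →o (Closeds S)ᵒᵈ := ⟨fun n => OrderDual.toDual ⟨Set.range h^[n], hc n⟩, fun a b hab => by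
    show Set.range h^[b] ⊆ Set.range h^[a]
    obtain ⟨k, rfl⟩ := Nat.exists_eq_add_of_le hab
    rw [Function.iterate_add]
    exact Set.range_comp_subset_range _ _⟩
  obtain ⟨n, hn⟩ := WellFoundedGT.monotone_chain_condition (α := (Closeds S)ᵒᵈ) c
  intro s
  have e : Set.range h^[n + 1] = Set.range h^[n] :=
    (congrArg (fun t => ((OrderDual.ofDual t : Closeds S) : Set S)) (hn (n + 1) (Nat.le_succ n))).symm
  obtain ⟨t, ht⟩ := e.ge ⟨s, rfl⟩
  rw [Function.iterate_succ_apply] at ht
  exact ⟨t, hh.injective.iterate n ht⟩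

variable {A C : Type u} [CommRing A] [IsLocalRing A] [IsNoetherianRing A] [CommRing C] [Algebra A C]
  [Module.Finite A C]

theorem isClosed_of_injOn_completion (U : Set (PrimeSpectrum C)) (hU : IsOpen U)
    (hinj : Set.InjOn (PrimeSpectrum.comap (Algebra.TensorProduct.includeRight :
        EGA4.Cpl A →ₐ[A] C ⊗[A] EGA4.Cpl A).toRingHom)
      (PrimeSpectrum.comap (algebraMap C (C ⊗[A] EGA4.Cpl A)) ⁻¹' U))
    (q : PrimeSpectrum C) (hq : q ∈ U) (hqm : q.asIdeal.IsMaximal)
    (e : Nonempty (Localization.AtPrime q.asIdeal ≃+* A)) : IsClosed U := by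
  haveI : IsNoetherianRing C := IsNoetherianRing.of_finite A C
  suffices key : ∀ w ∈ U, ∀ 𝔐 : PrimeSpectrum C, 𝔐.asIdeal.IsMaximal → w.asIdeal ≤ 𝔐.asIdeal → 𝔐 ∈ U by
    have hUeq : U = ⋃ w ∈ {w ∈ U | w.asIdeal ∈ minimalPrimes C}, PrimeSpectrum.zeroLocus (w.asIdeal : Set C) := by
      ext p
      simp only [Set.mem_iUnion, Set.mem_ofPred_eq, PrimeSpectrum.mem_zeroLocus, SetLike.coe_subset_coe]
      constructor
      · intro hp
        obtain ⟨w, hw, hwp⟩ := Ideal.exists_minimalPrimes_le (I := ⊥) (J := p.asIdeal) bot_le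
        exact ⟨⟨w, hw.1.1⟩, ⟨((PrimeSpectrum.le_iff_specializes ⟨w, hw.1.1⟩ p).mp hwp).mem_open hU hp, hw⟩, hwp⟩
      · rintro ⟨w, ⟨hw, -⟩, hwp⟩
        obtain ⟨M, hM, hpM⟩ := p.asIdeal.exists_le_maximal p.isPrime.ne_top
        exact ((PrimeSpectrum.le_iff_specializes p ⟨M, hM.isPrime⟩).mp hpM).mem_open hU
          (key w hw ⟨M, hM.isPrime⟩ hM (hwp.trans hpM))
    rw [hUeq]
    refine Set.Finite.isClosed_biUnion ?_ fun w _ => PrimeSpectrum.isClosed_zeroLocus _
    exact ((minimalPrimes.finite_of_isNoetherianRing C).preimage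
      (fun a _ b _ h => PrimeSpectrum.ext h)).subset fun w hw => hw.2
  intro w hw 𝔐 h𝔐 hle
  by_contra h𝔐U
  let H := EGA4.Cpl A
  let T := C ⊗[A] H
  have hcompl := Hens22.isCompl'_adic A
  haveI : IsNoetherianRing H := hcompl.noetherian
  haveI : IsAdicComplete (maximalIdeal H) H := hcompl.complete
  haveI : Module.Flat A H := hcompl.flat
  haveI : IsLocalHom (algebraMap A H) :=
    ((IsLocalRing.local_hom_TFAE (algebraMap A H)).out 0 2).mpr hcompl.map_eq.le
  haveI : Module.FaithfullyFlat A H := Module.FaithfullyFlat.of_flat_of_isLocalHom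
  let iH : H →+* T := (Algebra.TensorProduct.includeRight : H →ₐ[A] T).toRingHom
  letI : Algebra H T := Algebra.TensorProduct.rightAlgebra
  haveI : Module.Finite H T := Module.Finite.equiv (Algebra.TensorProduct.commRight A H C).toLinearEquiv
  haveI : Algebra.IsIntegral H T := inferInstance
  haveI : IsNoetherianRing T := IsNoetherianRing.of_finite H T
  -- a prime of `T` lies below only one maximal ideal
  haveI : HenselianRing H (maximalIdeal H) := inferInstance
  have huniq : ∀ r : Ideal T, r.IsPrime → ∀ M₁ M₂ : Ideal T, M₁.IsMaximal → M₂.IsMaximal → r ≤ M₁ → r ≤ M₂ →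
      M₁ = M₂ := by
    intro r hr M₁ M₂ h₁ h₂ hr₁ hr₂
    haveI : Module.Finite H (T ⧸ r) := Module.Finite.quotient H r
    haveI : IsDomain (T ⧸ r) := Ideal.Quotient.isDomain r
    haveI : IsLocalRing (T ⧸ r) := isLocalRing_of_finite_henselian (A := H) (B := T ⧸ r)
    have hmap : ∀ M' : Ideal T, M'.IsMaximal → r ≤ M' → M'.map (Ideal.Quotient.mk r) = maximalIdeal (T ⧸ r) := by
      intro M' hM' hrM'
      rcases Ideal.map_eq_top_or_isMaximal_of_surjective (Ideal.Quotient.mk r) Ideal.Quotient.mk_surjective hM' with h | h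
      · exfalso
        have := congrArg (Ideal.comap (Ideal.Quotient.mk r)) h
        rw [Ideal.comap_map_of_surjective' _ Ideal.Quotient.mk_surjective, Ideal.mk_ker, sup_eq_left.mpr hrM',
          Ideal.comap_top] at this
        exact hM'.ne_top this
      · exact @IsLocalRing.eq_maximalIdeal (T ⧸ r) _ _ _ h
    have := congrArg (Ideal.comap (Ideal.Quotient.mk r)) ((hmap M₁ h₁ hr₁).trans (hmap M₂ h₂ hr₂).symm)
    rwa [Ideal.comap_map_of_surjective' _ Ideal.Quotient.mk_surjective,
      Ideal.comap_map_of_surjective' _ Ideal.Quotient.mk_surjective, Ideal.mk_ker, sup_eq_left.mpr hr₁,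
      sup_eq_left.mpr hr₂] at this
  -- maximal ideals of `T` over a given maximal ideal of `C`
  have hover : ∀ p : PrimeSpectrum C, p.asIdeal.IsMaximal →
      ∃ M : PrimeSpectrum T, M.asIdeal.IsMaximal ∧ PrimeSpectrum.comap (algebraMap C T) M = p := by
    intro p hp
    obtain ⟨M₀, hM₀⟩ := PrimeSpectrum.comap_surjective_of_faithfullyFlat (A := C) (B := T) p
    obtain ⟨M, hM, hMle⟩ := M₀.asIdeal.exists_le_maximal M₀.isPrime.ne_top
    refine ⟨⟨M, hM.isPrime⟩, hM, PrimeSpectrum.ext (hp.eq_of_le ?_ ?_).symm⟩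
    · exact (Ideal.comap_isPrime (algebraMap C T) M).ne_top
    · rw [← hM₀]
      exact Ideal.comap_mono hMle
  obtain ⟨M, hM, hMc⟩ := hover 𝔐 h𝔐
  obtain ⟨N, hN, hNc⟩ := hover q hqm
  have hNM : N.asIdeal ≠ M.asIdeal := fun h => h𝔐U (hMc ▸ PrimeSpectrum.ext h ▸ hNc.symm ▸ hq)
  -- a prime below `M` lying over `w`
  haveI : M.asIdeal.LiesOver 𝔐.asIdeal := ⟨(congrArg PrimeSpectrum.asIdeal hMc).symm⟩
  obtain ⟨P, hPM, hP, hPw⟩ := Ideal.exists_ideal_le_liesOver_of_le (p := w.asIdeal) (q := 𝔐.asIdeal) M.asIdeal hle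
  -- the primes below `N` surject onto `Spec H`
  let TN := Localization.AtPrime N.asIdeal
  let π : PrimeSpectrum TN → PrimeSpectrum H := fun p =>
    PrimeSpectrum.comap iH (PrimeSpectrum.comap (algebraMap T TN) p)
  haveI : q.asIdeal.IsMaximal := hqm
  haveI : N.asIdeal.IsMaximal := hN
  obtain ⟨ε⟩ := CAlg4.FormalFibreFinite.exists_cpl_equiv A C N.asIdeal
  obtain ⟨e⟩ := e
  have hNq : N.asIdeal.comap (algebraMap C T) = q.asIdeal := congrArg PrimeSpectrum.asIdeal hNc
  obtain ⟨e'⟩ : Nonempty (Localization.AtPrime (N.asIdeal.comap (algebraMap C T)) ≃+* A) :=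
    ⟨(Localization.localRingEquiv (N.asIdeal.comap (algebraMap C T)) q.asIdeal (RingEquiv.refl C)
      (by rw [hNq]; exact (Ideal.comap_id _).symm)).trans e⟩
  haveI : IsNoetherianRing (Localization.AtPrime (N.asIdeal.comap (algebraMap C T))) :=
    IsLocalization.isNoetherianRing (N.asIdeal.comap (algebraMap C T)).primeCompl _ inferInstance
  obtain ⟨ε', -⟩ := EGA4H10.exists_cpl_equiv e'
  let θ : PrimeSpectrum H ≃ₜ PrimeSpectrum TN :=
    PrimeSpectrum.homeomorphOfRingEquiv (ε'.symm.trans ε.toRingEquiv)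
  have hleN : ∀ p : PrimeSpectrum TN, (PrimeSpectrum.comap (algebraMap T TN) p).asIdeal ≤ N.asIdeal := fun p =>
    (Ideal.comap_mono (IsLocalRing.le_maximalIdeal p.isPrime.ne_top)).trans
      (IsLocalization.AtPrime.under_maximalIdeal TN N.asIdeal).le
  have hgen : ∀ p : PrimeSpectrum TN, PrimeSpectrum.comap (algebraMap C T)
      (PrimeSpectrum.comap (algebraMap T TN) p) ∈ U := fun p => by
    have h1 := hleN p
    exact ((PrimeSpectrum.le_iff_specializes _ q).mp (hNc ▸ Ideal.comap_mono h1)).mem_open hU hq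
  have hinjπ : Function.Injective π := fun a b hab =>
    PrimeSpectrum.localization_comap_injective TN N.asIdeal.primeCompl (hinj (hgen a) (hgen b) hab)
  have hcl : IsClosedMap π := by
    have hrange : Topology.IsClosedEmbedding (PrimeSpectrum.comap (algebraMap T TN)) := by
      refine ⟨PrimeSpectrum.localization_comap_isEmbedding TN N.asIdeal.primeCompl, ?_⟩
      rw [PrimeSpectrum.localization_comap_range TN N.asIdeal.primeCompl]
      have : {p : PrimeSpectrum T | Disjoint (N.asIdeal.primeCompl : Set T) p.asIdeal} =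
          ⋃ r ∈ {r : Ideal T | r ∈ minimalPrimes T ∧ r ≤ N.asIdeal}, PrimeSpectrum.zeroLocus (r : Set T) := by
        ext p
        simp only [Set.mem_ofPred_eq, Set.mem_iUnion, PrimeSpectrum.mem_zeroLocus, SetLike.coe_subset_coe]
        constructor
        · intro hd
          have hpN : p.asIdeal ≤ N.asIdeal := fun x hx => not_not.mp fun hxN => Set.disjoint_left.mp hd hxN hx
          obtain ⟨r, hr, hrp⟩ := Ideal.exists_minimalPrimes_le (I := ⊥) (J := p.asIdeal) bot_le
          exact ⟨r, ⟨hr, hrp.trans hpN⟩, hrp⟩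
        · rintro ⟨r, ⟨hr, hrN⟩, hrp⟩
          obtain ⟨M', hM', hpM'⟩ := p.asIdeal.exists_le_maximal p.isPrime.ne_top
          rw [Set.disjoint_left]
          intro x hxN hxp
          exact hxN (huniq r hr.1.1 M' N.asIdeal hM' hN (hrp.trans hpM') hrN ▸ hpM' hxp)
      rw [this]
      exact Set.Finite.isClosed_biUnion ((minimalPrimes.finite_of_isNoetherianRing T).subset fun r hr => hr.1)
        fun r _ => PrimeSpectrum.isClosed_zeroLocus _
    exact (PrimeSpectrum.isClosedMap_comap_of_isIntegral iH (algebraMap_isIntegral_iff.mpr inferInstance)).comp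
      hrange.isClosedMap
  haveI : NoetherianSpace (PrimeSpectrum H) := inferInstance
  have hsurj : Function.Surjective (π ∘ θ) := by
    refine surjective_of_isClosedEmbedding_self _ ?_
    refine (Topology.IsClosedEmbedding.of_continuous_injective_isClosedMap ?_ hinjπ hcl).comp θ.isClosedEmbedding
    exact (PrimeSpectrum.continuous_comap _).comp (PrimeSpectrum.continuous_comap _)
  obtain ⟨s, hs⟩ := hsurj (PrimeSpectrum.comap iH ⟨P, hP⟩)
  have hPU : PrimeSpectrum.comap (algebraMap C T) ⟨P, hP⟩ ∈ U := by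
    rwa [show PrimeSpectrum.comap (algebraMap C T) ⟨P, hP⟩ = w from PrimeSpectrum.ext hPw.over.symm]
  have hPeq : PrimeSpectrum.comap (algebraMap T TN) (θ s) = ⟨P, hP⟩ := hinj (hgen _) hPU hs
  have hPN : P ≤ N.asIdeal := by
    rw [← show (PrimeSpectrum.comap (algebraMap T TN) (θ s)).asIdeal = P from congrArg PrimeSpectrum.asIdeal hPeq]
    exact hleN (θ s)
  exact hNM (huniq P hP N.asIdeal M.asIdeal hN hM hPN hPM)

end Groth.Agent.E4O
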