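import Groth.Agent.E4O.FibreSets
import Mathlib.AlgebraicGeometry.Morphisms.UniversallyOpen

/-! Universal openness from universal openness at every point. -/

universe u

open CategoryTheory AlgebraicGeometry Limits

namespace Groth.Agent.E4O

theorem universallyOpen_of_forall_isUnivOpenAt {X Y : Scheme.{u}} (f : X ⟶ Y)
    (h : ∀ x, EGA43.IsUnivOpenAt f x) : UniversallyOpen f := by
  refine ⟨fun X' Y' i₁ i₂ f' hpb => ?_⟩
  intro U hU
  rw [isOpen_iff_mem_nhds]
  rintro _ ⟨a, ha, rfl⟩
  exact isOpenAt_of_isPullback (h _) hpb.flip a rfl U (hU.mem_nhds ha)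

end Groth.Agent.E4O
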