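import Groth.Agent.E4O.EndoClosed
import Groth.Agent.FBase64.Chart
import Groth.Agent.Open62.FiniteTestScheme
import Groth.Agent.Zeta30.Sum
import Groth.Agent.FlatMor67.GenericFibre
import Groth.Agent.SchBasics.Closure

/-!
Radicial endomorphisms of schemes of finite type over `ℤ` are bijective and finite.
-/

set_option autoImplicit false
set_option linter.style.haveILetI false
set_option backward.isDefEq.respectTransparency.types false

universe u

open CategoryTheory CategoryTheory.Limits AlgebraicGeometry TensorProduct IsLocalRing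

namespace Groth.Agent.E4O

theorem isSeparated_of_universallyInjective {X Y : Scheme.{u}} (f : X ⟶ Y) [UniversallyInjective f] :
    IsSeparated f := by
  haveI : Surjective (pullback.diagonal f) := (UniversallyInjective.iff_diagonal f).mp ‹_›
  exact ⟨IsClosedImmersion.of_isPreimmersion _ (by
    rw [(pullback.diagonal f).surjective.range_eq]; exact isClosed_univ)⟩

/-- The `n`-th iterate of an endomorphism. -/
noncomputable def endPow {X : Scheme.{u}} (f : X ⟶ X) : ℕ → (X ⟶ X)
  | 0 => 𝟙 X
  | n + 1 => f ≫ endPow f n

theorem endPow_succ' {X : Scheme.{u}} (f : X ⟶ X) (n : ℕ) : endPow f (n + 1) = endPow f n ≫ f := by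
  induction n with
  | zero => simp [endPow]
  | succ n ih =>
    rw [show endPow f (n + 1 + 1) = f ≫ endPow f (n + 1) from rfl, ih, ← Category.assoc, ← ih]
    rfl

theorem endPow_add {X : Scheme.{u}} (f : X ⟶ X) (a b : ℕ) : endPow f (a + b) = endPow f a ≫ endPow f b := by
  induction a with
  | zero => rw [zero_add]; exact (Category.id_comp _).symm
  | succ a ih =>
    rw [show a + 1 + b = (a + b) + 1 from by omega, show endPow f (a + b + 1) = f ≫ endPow f (a + b) from rfl, ih,
      ← Category.assoc]
    rfl

instance universallyInjective_endPow {X : Scheme.{u}} (f : X ⟶ X) [UniversallyInjective f] (n : ℕ) :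
    UniversallyInjective (endPow f n) := by
  induction n with
  | zero => exact inferInstanceAs (UniversallyInjective (𝟙 X))
  | succ n ih => exact MorphismProperty.comp_mem _ _ _ ‹_› ih

/-- Closed points of a scheme of finite type over `ℤ` are periodic under radicial endomorphisms. -/
theorem exists_endPow_apply_eq {X : Scheme.{u}} (sX : X ⟶ Spec (CommRingCat.of (ULift.{u} ℤ)))
    [LocallyOfFiniteType sX] [QuasiCompact sX] (f : X ⟶ X) [UniversallyInjective f] (x : X)
    (hx : IsClosed ({x} : Set X)) : ∃ N, endPow f (N + 1) x = x := by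
  haveI := Zeta30.finite_residueField sX ⟨x, hx⟩
  haveI := Zeta30.finite_points sX (X.residueField x)
  have hinj : Function.Injective fun g : Spec (CommRingCat.of (X.residueField x)) ⟶ X => g ≫ f := by
    have h := ((tfae_universallyInjective f).out 0 1 : UniversallyInjective f ↔
      ∀ (K : Type u) [Field K], Function.Injective fun g : Spec (CommRingCat.of K) ⟶ X => g ≫ f)
    exact h.mp ‹_› _
  let g₀ : Spec (CommRingCat.of (X.residueField x)) ⟶ X := X.fromSpecResidueField x
  let F := fun g : Spec (CommRingCat.of (X.residueField x)) ⟶ X => g ≫ f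
  have hF : ∀ n g, F^[n] g = g ≫ endPow f n := by
    intro n g
    induction n generalizing g with
    | zero => exact (Category.comp_id g).symm
    | succ n ih => rw [Function.iterate_succ_apply, ih]; exact Category.assoc _ _ _
  obtain ⟨a, b, hab, he⟩ : ∃ a b : ℕ, a < b ∧ F^[a] g₀ = F^[b] g₀ := by
    obtain ⟨a, b, hne, he⟩ := Finite.exists_ne_map_eq_of_infinite fun n : ℕ => F^[n] g₀
    rcases hne.lt_or_gt with h | h
    exacts [⟨a, b, h, he⟩, ⟨b, a, h, he.symm⟩]
  obtain ⟨N, rfl⟩ := Nat.exists_eq_add_of_lt hab
  rw [add_assoc, Function.iterate_add_apply] at he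
  have h1 : g₀ = F^[N + 1] g₀ := hinj.iterate a he
  refine ⟨N, ?_⟩
  have h2 := congrArg (fun g : Spec (CommRingCat.of (X.residueField x)) ⟶ X => g (closedPoint (X.residueField x)))
    (h1.trans (hF _ g₀))
  simp only [Scheme.Hom.comp_apply] at h2
  rw [Scheme.fromSpecResidueField_apply] at h2
  exact h2.symm

/-- A separated universally injective morphism of finite type, sending a point to a point with the same local
ring, is finite over the local ring at the latter when that point is fixed. -/
theorem isFinite_snd_fromSpecStalk_of_fixed {X : Scheme.{u}} [IsLocallyNoetherian X] (g : X ⟶ X)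
    [UniversallyInjective g] [LocallyOfFiniteType g] [QuasiCompact g] (u₀ : X) (hu : g u₀ = u₀) :
    IsFinite (pullback.snd g (X.fromSpecStalk u₀)) := by
  let A := X.presheaf.stalk u₀
  let p := pullback.snd g (X.fromSpecStalk u₀)
  haveI : IsSeparated g := isSeparated_of_universallyInjective g
  haveI : UniversallyInjective p := MorphismProperty.pullback_snd _ _ ‹_›
  haveI : IsSeparated p := inferInstance
  haveI : IsNoetherian (Spec A) := inferInstance
  obtain ⟨Y₁, h, i, _, _, hih⟩ := Open62.FiniteTest.exists_finite_extension p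
  haveI : IsAffine Y₁ := isAffine_of_isAffineHom h
  let C := Γ(Y₁, ⊤)
  obtain ⟨ψ, hψ⟩ := Spec.map_surjective (Y₁.isoSpec.inv ≫ h)
  haveI hfin : IsFinite (Spec.map ψ) := hψ ▸ inferInstance
  letI : Algebra A C := ψ.hom.toAlgebra
  haveI : Module.Finite A C := (IsFinite.SpecMap_iff ψ).mp hfin
  let j : pullback g (X.fromSpecStalk u₀) ⟶ Spec C := i ≫ Y₁.isoSpec.hom
  have hj : j ≫ Spec.map ψ = p := by rw [hψ, Category.assoc, Iso.hom_inv_id_assoc, hih]
  obtain ⟨x₀, hx₁, hx₂⟩ := Scheme.Pullback.exists_preimage_pullback (f := g) (g := X.fromSpecStalk u₀) u₀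
    (closedPoint A) (hu.trans (Scheme.fromSpecStalk_closedPoint (X := X) (x := u₀)).symm)
  let q : PrimeSpectrum C := j x₀
  have hUcl : IsClosed (Set.range j) := by
    refine isClosed_of_injOn_completion (A := A) (C := C) (Set.range j) j.isOpenEmbedding.isOpen_range ?_ q
      ⟨x₀, rfl⟩ ?_ ?_
    · let η := Spec.map (CommRingCat.ofHom (algebraMap A (EGA4.Cpl A)))
      let k : pullback (j ≫ Spec.map ψ) η ⟶ pullback (Spec.map ψ) η :=
        pullback.map _ _ _ _ j (𝟙 _) (𝟙 _) (Category.comp_id _) (by simp)
      haveI : UniversallyInjective (pullback.snd (j ≫ Spec.map ψ) η) := by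
        refine MorphismProperty.pullback_snd _ _ ?_
        rw [hj]; assumption
      intro P₁ hP₁ P₂ hP₂ heq
      let e := pullbackSpecIso A C (EGA4.Cpl A)
      have hlift : ∀ P : PrimeSpectrum (C ⊗[A] EGA4.Cpl A),
          PrimeSpectrum.comap (algebraMap C (C ⊗[A] EGA4.Cpl A)) P ∈ Set.range j →
          ∃ y, k y = e.inv P := by
        intro P hP
        have : e.inv P ∈ Set.range k := by
          rw [Scheme.Pullback.range_map]
          refine ⟨?_, by simp⟩
          show pullback.fst (Spec.map ψ) η (e.inv P) ∈ Set.range j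
          rw [← Scheme.Hom.comp_apply]
          erw [pullbackSpecIso_inv_fst]
          exact hP
        exact this
      obtain ⟨y₁, hy₁⟩ := hlift P₁ hP₁
      obtain ⟨y₂, hy₂⟩ := hlift P₂ hP₂
      have hs : ∀ y P, k y = e.inv P → pullback.snd (j ≫ Spec.map ψ) η y =
          PrimeSpectrum.comap (Algebra.TensorProduct.includeRight :
            EGA4.Cpl A →ₐ[A] C ⊗[A] EGA4.Cpl A).toRingHom P := by
        intro y P hy
        have h1 := congrArg (fun z => pullback.snd (Spec.map ψ) η z) hy
        rw [← Scheme.Hom.comp_apply, pullback.lift_snd, Category.comp_id, ← Scheme.Hom.comp_apply] at h1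
        rw [h1]
        erw [pullbackSpecIso_inv_snd]
        rfl
      have hy : y₁ = y₂ := (pullback.snd (j ≫ Spec.map ψ) η).injective (by rw [hs _ _ hy₁, hs _ _ hy₂, heq])
      exact e.inv.homeomorph.injective (by subst hy; exact hy₁.symm.trans hy₂)
    · have hq : PrimeSpectrum.comap (algebraMap A C) q = closedPoint A := by
        show (Spec.map ψ) (j x₀) = closedPoint A
        rw [← Scheme.Hom.comp_apply, hj]
        exact hx₂
      haveI : (q.asIdeal.comap (algebraMap A C)).IsMaximal := by
        rw [show q.asIdeal.comap (algebraMap A C) = maximalIdeal A from congrArg PrimeSpectrum.asIdeal hq]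
        infer_instance
      exact Ideal.isMaximal_of_isIntegral_of_isMaximal_comap (R := A) q.asIdeal inferInstance
    · obtain ⟨e₁⟩ := FBase64.nonempty_stalkEquiv (𝟙 (Spec C)) q
      have e₂ := (asIso (j.stalkMap x₀)).commRingCatIsoToRingEquiv
      haveI : Flat (X.fromSpecStalk u₀) := inferInstance
      haveI : Flat (pullback.fst g (X.fromSpecStalk u₀)) := inferInstance
      haveI : IsPreimmersion (pullback.fst g (X.fromSpecStalk u₀)) := inferInstance
      let φ := (pullback.fst g (X.fromSpecStalk u₀)).stalkMap x₀
      have hbij : Function.Bijective φ := by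
        refine ⟨?_, (pullback.fst g (X.fromSpecStalk u₀)).stalkMap_surjective x₀⟩
        letI := φ.hom.toAlgebra
        haveI : Module.Flat (X.presheaf.stalk (pullback.fst g (X.fromSpecStalk u₀) x₀))
            ((pullback g (X.fromSpecStalk u₀)).presheaf.stalk x₀) := Flat.stalkMap _ x₀
        haveI : IsLocalHom (algebraMap (X.presheaf.stalk (pullback.fst g (X.fromSpecStalk u₀) x₀))
            ((pullback g (X.fromSpecStalk u₀)).presheaf.stalk x₀)) :=
          (pullback.fst g (X.fromSpecStalk u₀)).toLRSHom.prop x₀
        haveI : Module.FaithfullyFlat (X.presheaf.stalk (pullback.fst g (X.fromSpecStalk u₀) x₀))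
            ((pullback g (X.fromSpecStalk u₀)).presheaf.stalk x₀) :=
          Module.FaithfullyFlat.of_flat_of_isLocalHom
        exact RingHom.FaithfullyFlat.injective (f := φ.hom) (RingHom.faithfullyFlat_algebraMap_iff.mpr inferInstance)
      exact ⟨((e₁.symm.trans e₂).trans (RingEquiv.ofBijective φ.hom hbij).symm).trans
        ((X.presheaf.stalkCongr (.of_eq hx₁)).commRingCatIsoToRingEquiv)⟩
  haveI : IsClosedImmersion j := IsClosedImmersion.of_isPreimmersion j hUcl
  show IsFinite p
  rw [← hj]
  infer_instance

/-- A radicial endomorphism of a scheme of finite type over `ℤ` is bijective and finite. -/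
theorem bijective_isFinite_of_finiteType_int {X : Scheme.{u}} (sX : X ⟶ Spec (CommRingCat.of (ULift.{u} ℤ)))
    [LocallyOfFiniteType sX] [QuasiCompact sX] (f : X ⟶ X) [UniversallyInjective f] :
    Function.Bijective ⇑f.base ∧ IsFinite f := by
  haveI : IsNoetherianRing (ULift.{u} ℤ) := isNoetherianRing_of_ringEquiv ℤ ULift.ringEquiv.symm
  haveI : IsLocallyNoetherian (Spec (CommRingCat.of (ULift.{u} ℤ))) := inferInstance
  haveI : IsLocallyNoetherian X := LocallyOfFiniteType.isLocallyNoetherian sX
  haveI : CompactSpace X := QuasiCompact.compactSpace_of_compactSpace sX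
  haveI : IsNoetherian X := {}
  haveI : IsSeparated f := isSeparated_of_universallyInjective f
  haveI : LocallyOfFiniteType f := by
    haveI : LocallyOfFiniteType (f ≫ sX) := by
      rw [specULiftZIsTerminal.hom_ext (f ≫ sX) sX]; infer_instance
    exact locallyOfFiniteType_of_comp f sX
  haveI : QuasiCompact f := inferInstance
  haveI : JacobsonSpace X := by
    haveI : IsJacobsonRing (ULift.{u} ℤ) := by
      haveI : IsJacobsonRing ℤ := S9612.result
      exact (isJacobsonRing_iso (ULift.ringEquiv.symm : ℤ ≃+* ULift.{u} ℤ)).mp inferInstance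
    exact LocallyOfFiniteType.jacobsonSpace sX
  have hper := fun x hx => exists_endPow_apply_eq sX f x hx
  haveI : ∀ n, LocallyOfFiniteType (endPow f n) := fun n => by
    induction n with
    | zero => exact inferInstanceAs (LocallyOfFiniteType (𝟙 X))
    | succ n ih => exact MorphismProperty.comp_mem _ _ _ ‹_› ih
  -- finiteness over the local rings at closed points
  have hloc : ∀ z : X, IsClosed ({z} : Set X) → IsFinite (pullback.snd f (X.fromSpecStalk z)) := by
    intro z hz
    obtain ⟨N, hN⟩ := hper z hz
    let P := endPow f N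
    let g := f ≫ P
    have hg : endPow f (N + 1) = g := rfl
    let su := X.fromSpecStalk (P z)
    have hu : g (P z) = P z := by
      have e : P ≫ g = g ≫ P := by
        rw [← hg, ← endPow_add, ← endPow_add, add_comm]
      rw [← Scheme.Hom.comp_apply, e, Scheme.Hom.comp_apply, ← hg, hN]
    haveI : UniversallyInjective g := hg ▸ inferInstance
    haveI : LocallyOfFiniteType g := hg ▸ inferInstance
    haveI := isFinite_snd_fromSpecStalk_of_fixed g (P z) hu
    haveI : IsSeparated P := isSeparated_of_universallyInjective P
    let e := pullbackRightPullbackFstIso P su f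
    haveI : IsFinite (pullback.snd f (pullback.fst P su) ≫ pullback.snd P su) := by
      rw [← pullbackRightPullbackFstIso_hom_snd]
      infer_instance
    haveI : IsFinite (pullback.snd f (pullback.fst P su)) :=
      IsFinite.of_comp _ (pullback.snd P su)
    let l : Spec (X.presheaf.stalk z) ⟶ pullback P su := pullback.lift (X.fromSpecStalk z)
      (Spec.map (P.stalkMap z)) (Scheme.SpecMap_stalkMap_fromSpecStalk P).symm
    have hl : l ≫ pullback.fst P su = X.fromSpecStalk z := pullback.lift_fst _ _ _
    haveI : IsFinite (pullback.snd f (l ≫ pullback.fst P su)) := by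
      rw [← Iso.inv_hom_id_assoc (pullbackLeftPullbackSndIso f (pullback.fst P su) l)
        (pullback.snd f (l ≫ pullback.fst P su)), pullbackLeftPullbackSndIso_hom_snd]
      infer_instance
    rw [← hl]
    assumption
  -- finiteness
  haveI hfin : IsFinite f := by
    obtain ⟨Y₁, h, i, _, _, hih⟩ := Open62.FiniteTest.exists_finite_extension f
    haveI : IsLocallyNoetherian Y₁ := LocallyOfFiniteType.isLocallyNoetherian h
    haveI : CompactSpace Y₁ := QuasiCompact.compactSpace_of_compactSpace h
    haveI : IsNoetherian Y₁ := {}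
    haveI : JacobsonSpace Y₁ := LocallyOfFiniteType.jacobsonSpace h
    haveI : QuasiCompact i := inferInstance
    suffices hcl : IsClosed (Set.range i) by
      haveI : IsClosedImmersion i := IsClosedImmersion.of_isPreimmersion i hcl
      rw [← hih]
      infer_instance
    by_contra hns
    have hne : (closure (Set.range i) \ Set.range i).Nonempty :=
      Set.sdiff_nonempty.mpr fun hsub => hns (closure_eq_iff_isClosed.mp (hsub.antisymm subset_closure))
    obtain ⟨w'', ⟨hw1, hw2⟩, hw3⟩ := nonempty_inter_closedPoints hne
      (isClosed_closure.isLocallyClosed.inter i.isOpenEmbedding.isOpen_range.isClosed_compl.isLocallyClosed)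
    obtain ⟨x, hxw⟩ := SchBasics.exists_specializes_of_mem_closure_range i hw1
    let z := h w''
    haveI : IsFinite (pullback.snd f (X.fromSpecStalk z)) :=
      hloc z (by simpa using h.isClosedMap _ hw3)
    let sz := X.fromSpecStalk z
    let k : pullback (i ≫ h) sz ⟶ pullback h sz :=
      pullback.map _ _ _ _ i (𝟙 _) (𝟙 _) (Category.comp_id _) (by simp)
    haveI : IsFinite (k ≫ pullback.snd h sz) := by
      rw [pullback.lift_snd, Category.comp_id]
      convert (inferInstance : IsFinite (pullback.snd f sz))
    haveI : IsFinite k := IsFinite.of_comp k (pullback.snd h sz)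
    have hzx : h (i x) ⤳ z := hxw.map h.continuous
    obtain ⟨p₁, hp₁⟩ : h (i x) ∈ Set.range sz := by
      rw [Scheme.range_fromSpecStalk]; exact hzx
    obtain ⟨a, ha, -⟩ := Scheme.Pullback.exists_preimage_pullback (f := h) (g := sz) (i x) p₁ hp₁.symm
    obtain ⟨b, hb, -⟩ := Scheme.Pullback.exists_preimage_pullback (f := h) (g := sz) w'' (closedPoint _)
      Scheme.fromSpecStalk_closedPoint.symm
    have hab : a ⤳ b := (pullback.fst h sz).isEmbedding.isInducing.specializes_iff.mp (by rw [ha, hb]; exact hxw)
    have hmem : a ∈ Set.range k := by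
      rw [Scheme.Pullback.range_map]
      exact ⟨show pullback.fst h sz a ∈ Set.range i from ha ▸ ⟨x, rfl⟩, by simp⟩
    have := hab.mem_closed k.isClosedMap.isClosed_range hmem
    rw [Scheme.Pullback.range_map] at this
    exact hw2 (hb ▸ this.1)
  refine ⟨⟨f.injective, ?_⟩, hfin⟩
  have hcl : IsClosed (Set.range f) := f.isClosedMap.isClosed_range
  rw [← Set.range_eq_univ]
  by_contra hns
  obtain ⟨w, hw1, hw2⟩ := nonempty_inter_closedPoints (Set.nonempty_compl.mpr hns) hcl.isOpen_compl.isLocallyClosed
  obtain ⟨N, hN⟩ := hper w hw2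
  rw [endPow_succ', Scheme.Hom.comp_apply] at hN
  exact hw1 ⟨_, hN⟩

end Groth.Agent.E4O
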