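import Groth.Agent.E4O.FibModChart

/-!
Depth plus degree and support dimension plus degree of a module on the fibres, affine case.
-/

set_option autoImplicit false
set_option synthInstance.maxHeartbeats 200000
set_option maxHeartbeats 1000000
set_option linter.style.haveILetI false

universe u

open CategoryTheory AlgebraicGeometry IsLocalRing TensorProduct

namespace Groth.Agent.E4O.FibMod

open Sk62

variable {A B : Type u} [CommRing A] [CommRing B] [Algebra A B] {N : ℕ}
  [Algebra (MvPolynomial (ULift.{u} (Fin N)) A) B] [IsScalarTower A (MvPolynomial (ULift.{u} (Fin N)) A) B]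

/-- On the support: depth plus degree is `N` minus the projective dimension, and dimension plus degree is
the fibre dimension of the support. -/
theorem fibreMod_invariants (hs : Function.Surjective (algebraMap (MvPolynomial (ULift.{u} (Fin N)) A) B))
    (M : Type u) [AddCommGroup M] [Module B M] [Module (MvPolynomial (ULift.{u} (Fin N)) A) M]
    [IsScalarTower (MvPolynomial (ULift.{u} (Fin N)) A) B M] [Module.Finite B M] [Algebra.FiniteType A B]
    (qb : PrimeSpectrum (B ⧸ Module.annihilator B M)) :
    ∃ k n e : ℕ,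
      Module.supportDim (RelPd52.fibreRing A (PrimeSpectrum.comap (algebraMap B (B ⧸ Module.annihilator B M)) qb))
        (fibreMod A M (PrimeSpectrum.comap (algebraMap B (B ⧸ Module.annihilator B M)) qb)) = (k : ℕ) ∧
      LocCoh.depth (RelPd52.fibreRing A (PrimeSpectrum.comap (algebraMap B (B ⧸ Module.annihilator B M)) qb))
        (fibreMod A M (PrimeSpectrum.comap (algebraMap B (B ⧸ Module.annihilator B M)) qb)) = (n : ℕ∞) ∧
      RelPd52.fibrePd A M (PrimeSpectrum.comap (algebraMap (MvPolynomial (ULift.{u} (Fin N)) A) B)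
        (PrimeSpectrum.comap (algebraMap B (B ⧸ Module.annihilator B M)) qb)) = (e : WithBot ℕ∞) ∧
      n ≤ k ∧
      n + E4O.fdeg (Spec.map (CommRingCat.ofHom (algebraMap A B)))
        (PrimeSpectrum.comap (algebraMap B (B ⧸ Module.annihilator B M)) qb) + e = N ∧
      FlatMor.fibreDimAt (Spec.map (CommRingCat.ofHom (algebraMap A (B ⧸ Module.annihilator B M)))) qb =
        ((k + E4O.fdeg (Spec.map (CommRingCat.ofHom (algebraMap A B)))
          (PrimeSpectrum.comap (algebraMap B (B ⧸ Module.annihilator B M)) qb) : ℕ) : WithBot ℕ∞) := by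
  let q := PrimeSpectrum.comap (algebraMap B (B ⧸ Module.annihilator B M)) qb
  let Q := PrimeSpectrum.comap (algebraMap (MvPolynomial (ULift.{u} (Fin N)) A) B) q
  let R := RelPd52.fibreRing A Q
  let C := RelPd52.fibreRing A q
  obtain ⟨hreg, d', hd', hsum⟩ := polynomial_data A N Q
  obtain ⟨k, hk, hD⟩ := supportDim_fibreMod (A := A) M qb
  obtain ⟨φ, hφ, ⟨E⟩⟩ := exists_fibreMod_equiv (A := A) hs M q
  let _ : Algebra R C := φ.toAlgebra
  let _ : Module R (fibreMod A M q) := Module.compHom _ φ
  have : Module.Finite R C := Module.Finite.of_surjective (Algebra.linearMap R C) hφ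
  have : IsLocalHom (algebraMap R C) := IsLocalHom.of_surjective _ hφ
  have : IsNoetherianRing C := isNoetherianRing_of_surjective R C φ hφ
  have : IsScalarTower R C (fibreMod A M q) := IsScalarTower.of_algebraMap_smul fun r z => rfl
  have : Module.Finite R (fibreMod A M q) := Module.Finite.trans C _
  have hne : Nontrivial (fibreMod A M q) := by
    rw [← not_subsingleton_iff_nontrivial, subsingleton_fibreMod_iff, not_not,
      Module.support_eq_zeroLocus, PrimeSpectrum.mem_zeroLocus]
    intro x hx
    show algebraMap B (B ⧸ Module.annihilator B M) x ∈ qb.asIdeal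
    rw [show algebraMap B (B ⧸ Module.annihilator B M) x = 0 from Ideal.Quotient.eq_zero_iff_mem.2 hx]
    exact zero_mem _
  obtain ⟨d, e, n, hd, hn, he, hne'⟩ := Groth.Agent.E4O.depth_add_pd_eq_dim R (fibreMod A M q)
  have hdd : d = d' := by exact_mod_cast hd.symm.trans hd'
  let π := 𝔸(ULift.{u} (Fin N); Spec (CommRingCat.of A)) ↘ Spec (CommRingCat.of A)
  let h := Spec.map (CommRingCat.ofHom (algebraMap A B))
  let i : Spec (CommRingCat.of B) ⟶ 𝔸(ULift.{u} (Fin N); Spec (CommRingCat.of A)) :=
    Spec.map (CommRingCat.ofHom (algebraMap (MvPolynomial (ULift.{u} (Fin N)) A) B)) ≫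
      (AffineSpace.SpecIso (ULift.{u} (Fin N)) (CommRingCat.of A)).inv
  have : IsClosedImmersion
      (Spec.map (CommRingCat.ofHom (algebraMap (MvPolynomial (ULift.{u} (Fin N)) A) B))) :=
    IsClosedImmersion.spec_of_surjective _ hs
  have : IsClosedImmersion i := inferInstance
  have hih : i ≫ π = h := by
    simp only [i, π, h, Category.assoc, AffineSpace.SpecIso_inv_over, ← Spec.map_comp]
    congr 1
    ext a
    exact (IsScalarTower.algebraMap_apply A (MvPolynomial (ULift.{u} (Fin N)) A) B a).symm
  have hdeg : E4O.fdeg h q = E4O.fdeg π (i q) := by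
    rw [← hih]
    exact AffNorm62.fdeg_comp_eq_of_quasiFiniteAt i π q (i.quasiFiniteAt q)
  have hsum' : d' + E4O.fdeg π (i q) = N := hsum
  have hdep : LocCoh.depth C (fibreMod A M q) = n :=
    (EGA4Alg4.depth_eq_of_finite (A := R) (B := C) (fibreMod A M q)).symm.trans hn
  have hle : n ≤ k := by
    have h1 := EGA4Alg4.depth_le_supportDim (A := C) (M := fibreMod A M q)
    rw [hdep, hk] at h1
    exact_mod_cast h1
  refine ⟨k, n, e, hk, hdep, ?_, hle, ?_, hD⟩
  · rw [← he]
    exact projectiveDimension_eq_of_iso E.toModuleIso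
  · show n + E4O.fdeg h q + e = N
    omega

end Groth.Agent.E4O.FibMod
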