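import Groth.Agent.Sk62.CMModScheme
import Groth.Agent.FBase64.AssFibre.Dim
import Groth.Agent.CAlg1.Sk

/-!
Depth and support dimension of the stalks of a module on the fibres, in an affine chart.
-/

set_option autoImplicit false
set_option backward.isDefEq.respectTransparency.types false
set_option synthInstance.maxHeartbeats 200000
set_option maxHeartbeats 1000000
set_option linter.style.haveILetI false

universe u

open CategoryTheory CategoryTheory.Limits AlgebraicGeometry TopologicalSpace IsLocalRing TensorProduct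

namespace Groth.Agent.E4O.FibMod

open Sk62

variable {X Y : Scheme.{u}}

/-- Depth and support dimension pass along semilinear isomorphisms. -/
theorem invariants_of_semilinear {R S : Type u} [CommRing R] [IsLocalRing R] [IsNoetherianRing R]
    [CommRing S] [IsLocalRing S] [IsNoetherianRing S] (e : R ≃+* S) (M N : Type u)
    [AddCommGroup M] [Module R M] [Module.Finite R M] [AddCommGroup N] [Module S N]
    (f : M ≃+ N) (hf : ∀ (r : R) (m : M), f (r • m) = e r • f m) :
    LocCoh.depth R M = LocCoh.depth S N ∧ Module.supportDim R M = Module.supportDim S N := by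
  let _ : Algebra R S := e.toRingHom.toAlgebra
  let _ : Module R N := Module.compHom N e.toRingHom
  have : IsScalarTower R S N := IsScalarTower.of_algebraMap_smul fun r n => rfl
  let f' : M ≃ₗ[R] N := { f with map_smul' := hf }
  have : Module.Finite R N := Module.Finite.equiv f'
  have : Module.Finite S N := Module.Finite.of_restrictScalars_finite R S N
  have : Module.Finite R S := Module.Finite.of_surjective (Algebra.linearMap R S) e.surjective
  have : IsLocalHom (algebraMap R S) := IsLocalHom.of_surjective _ e.surjective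
  have hdepth : LocCoh.depth R M = LocCoh.depth S N :=
    (EGA4Alg4.depth_eq_of_equiv f').trans (EGA4Alg4.depth_eq_of_finite (A := R) (B := S) N)
  refine ⟨hdepth, ?_⟩
  show Module.supportDim R M = Module.supportDim S N
  have hdim : Module.supportDim R M = Module.supportDim S N := by
    rw [Module.supportDim_eq_of_equiv f', Module.supportDim_eq_ringKrullDim_quotient_annihilator,
      Module.supportDim_eq_ringKrullDim_quotient_annihilator]
    refine ringKrullDim_eq_of_ringEquiv (Ideal.quotientEquiv _ _ e ?_)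
    ext s
    obtain ⟨r, rfl⟩ := e.surjective s
    show _ ↔ e r ∈ _
    rw [Module.mem_annihilator]
    refine Iff.trans ?_ (Ideal.mem_map_iff_of_surjective (↑e : R →+* S) e.surjective).symm
    constructor
    · exact fun h => ⟨r, Module.mem_annihilator.2 h, rfl⟩
    · rintro ⟨r', hr', he⟩
      rw [← e.injective he]
      exact Module.mem_annihilator.1 hr'
  exact hdim

/-- The stalk of the module on the fibre over `y`. -/
noncomputable abbrev fstalk (f : X ⟶ Y) (F : X.Modules) (y : Y) (z : ↥(f.fiber y)) : Type u :=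
  ((Scheme.Modules.pullback (f.fiberι y)).obj F).presheaf.stalk z

/-- Depth of the stalk of the module on the fibre. -/
noncomputable def fdepthM (f : X ⟶ Y) (F : X.Modules) (y : Y) (z : ↥(f.fiber y)) : ℕ∞ :=
  LocCoh.depth ((f.fiber y).presheaf.stalk z) (((Scheme.Modules.pullback (f.fiberι y)).obj F).presheaf.stalk z)

/-- Dimension of the support of the stalk of the module on the fibre. -/
noncomputable def fdimM (f : X ⟶ Y) (F : X.Modules) (y : Y) (z : ↥(f.fiber y)) : WithBot ℕ∞ :=
  Module.supportDim ((f.fiber y).presheaf.stalk z)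
    (((Scheme.Modules.pullback (f.fiberι y)).obj F).presheaf.stalk z)

/-- Depth at a point of the fibre through it. -/
noncomputable def mdepth (f : X ⟶ Y) (F : X.Modules) (x : X) : ℕ∞ := fdepthM f F (f x) (f.asFiber x)

/-- Support dimension at a point of the fibre through it. -/
noncomputable def mdim (f : X ⟶ Y) (F : X.Modules) (x : X) : WithBot ℕ∞ := fdimM f F (f x) (f.asFiber x)

/-- The points at which the module on the fibre has nonzero stalk. -/
def msupp (f : X ⟶ Y) (F : X.Modules) : Set X :=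
  {x | Nontrivial (((Scheme.Modules.pullback (f.fiberι (f x))).obj F).presheaf.stalk (f.asFiber x))}

theorem invariants_asFiber (f : X ⟶ Y) (F : X.Modules) (y : Y) (z : ↥(f.fiber y)) :
    fdepthM f F y z = mdepth f F (f.fiberι y z) ∧ fdimM f F y z = mdim f F (f.fiberι y z) ∧
      (Nontrivial (((Scheme.Modules.pullback (f.fiberι y)).obj F).presheaf.stalk z) ↔ f.fiberι y z ∈ msupp f F) := by
  have key : ∀ (y : Y) (x : X) (hy : f x = y) (w : ↥(f.fiber y)) (hw : f.fiberι y w = x),
      fdepthM f F y w = mdepth f F x ∧ fdimM f F y w = mdim f F x ∧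
      (Nontrivial (((Scheme.Modules.pullback (f.fiberι y)).obj F).presheaf.stalk w) ↔ x ∈ msupp f F) := by
    intro y x hy w hw
    subst hy
    have : w = f.asFiber x :=
      (E4O.isEmbedding_fiberι f (f x)).injective (hw.trans (f.fiberι_asFiber x).symm)
    rw [this]
    exact ⟨rfl, rfl, Iff.rfl⟩
  exact key y _ (E4O.apply_fiberι f y z) z rfl

/-- The invariants in a chart. -/
theorem invariants_sections (f : X ⟶ Y) [LocallyOfFiniteType f] (F : X.Modules) [CohB1.IsFP F]
    {V : Y.Opens} (hV : IsAffineOpen V) {W : X.Opens} (hW : IsAffineOpen W) (hle : W ≤ f ⁻¹ᵁ V)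
    (y : Y) (z : ↥(f.fiber y)) (hz : f.fiberι y z ∈ W) :
    (letI := (f.appLE V W hle).hom.toAlgebra
     fdepthM f F y z = LocCoh.depth (RelPd52.fibreRing Γ(Y, V) (hW.primeIdealOf ⟨f.fiberι y z, hz⟩))
        (fibreMod Γ(Y, V) Γ(F, W) (hW.primeIdealOf ⟨f.fiberι y z, hz⟩)) ∧
     fdimM f F y z = Module.supportDim (RelPd52.fibreRing Γ(Y, V) (hW.primeIdealOf ⟨f.fiberι y z, hz⟩))
        (fibreMod Γ(Y, V) Γ(F, W) (hW.primeIdealOf ⟨f.fiberι y z, hz⟩)) ∧
     (Nontrivial (((Scheme.Modules.pullback (f.fiberι y)).obj F).presheaf.stalk z) ↔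
        Nontrivial (fibreMod Γ(Y, V) Γ(F, W) (hW.primeIdealOf ⟨f.fiberι y z, hz⟩)))) := by
  let x := f.fiberι y z
  let q := hW.primeIdealOf ⟨x, hz⟩
  let p := hV.primeIdealOf ⟨f x, hle hz⟩
  letI : Algebra Γ(Y, V) Γ(X, W) := (f.appLE V W hle).hom.toAlgebra
  have hqp : q.asIdeal.under Γ(Y, V) = p.asIdeal :=
    congrArg PrimeSpectrum.asIdeal (IsAffineOpen.comap_primeIdealOf_appLE V hV W hW hle hz)
  let O := X.presheaf.stalk x
  let C' := (f.fiber y).presheaf.stalk z
  letI : Algebra O C' := ((f.fiberι y).stalkMap z).hom.toAlgebra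
  letI : Algebra Γ(X, W) O := (X.presheaf.germ W x hz).hom.toAlgebra
  letI : Algebra Γ(X, W) C' := ((algebraMap O C').comp (algebraMap Γ(X, W) O)).toAlgebra
  haveI : IsScalarTower Γ(X, W) O C' := IsScalarTower.of_algebraMap_eq fun _ => rfl
  haveI : IsLocalization.AtPrime O q.asIdeal := hW.isLocalization_stalk ⟨x, hz⟩
  letI : Algebra Γ(Y, V) (Y.presheaf.stalk (f x)) := (Y.presheaf.germ V (f x) (hle hz)).hom.toAlgebra
  haveI : IsLocalization.AtPrime (Y.presheaf.stalk (f x)) p.asIdeal := hV.isLocalization_stalk ⟨f x, hle hz⟩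
  let L := Localization.AtPrime q.asIdeal
  let ψ : L ≃ₐ[Γ(X, W)] O := IsLocalization.algEquiv q.asIdeal.primeCompl L O
  let φ : L →ₐ[Γ(X, W)] C' := (IsScalarTower.toAlgHom Γ(X, W) O C').comp ψ.toAlgHom
  have hφ : Function.Surjective φ :=
    (FlatMor68.FibreStalk.fiberι_stalkMap_surjective f y z).comp ψ.surjective
  have hker : RingHom.ker φ = (q.asIdeal.under Γ(Y, V)).map (algebraMap Γ(Y, V) L) := by
    have h1 : RingHom.ker φ = ((maximalIdeal (Y.presheaf.stalk (f x))).map (f.stalkMap x).hom).comap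
        ψ.toRingEquiv.toRingHom := by
      rw [← FlatMor68.FibreStalk.ker_fiberι_stalkMap f y z]
      rfl
    rw [h1, hqp, ← IsLocalization.AtPrime.map_eq_maximalIdeal p.asIdeal (Y.presheaf.stalk (f x))]
    refine Eq.trans (congrArg (Ideal.comap ψ.toRingEquiv.toRingHom) (?_ : _ =
      (p.asIdeal.map (algebraMap Γ(Y, V) L)).map ψ.toRingEquiv.toRingHom))
      (Ideal.comap_map_of_bijective _ ψ.bijective)
    rw [Ideal.map_map, Ideal.map_map]
    congr 1
    refine RingHom.ext fun a => ?_
    show (f.stalkMap x).hom (Y.presheaf.germ V (f x) (hle hz) a) = ψ (algebraMap Γ(Y, V) L a)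
    rw [IsScalarTower.algebraMap_apply Γ(Y, V) Γ(X, W) L, ψ.commutes,
      FlatMor68.FlatSections.stalkMap_germ_appLE f hle hz a]
    rfl
  let C := RelPd52.fibreRing Γ(Y, V) q
  let e : C ≃ₐ[Γ(X, W)] C' := (Ideal.quotientEquivAlgOfEq Γ(X, W) hker.symm).trans
    (Ideal.quotientKerAlgEquivOfSurjective hφ)
  -- the modules
  let M := Γ(F, W)
  letI := QC70.stalkModule F hz
  haveI : IsScalarTower Γ(X, W) O (F.presheaf.stalk x) := IsScalarTower.of_algebraMap_smul fun _ _ => rfl
  haveI := QC70.isLocalizedModule_germ (QC70.isLocAt_of_isQuasicoherent F hW) hW hz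
  let E₁ : O ⊗[Γ(X, W)] M ≃ₗ[O] F.presheaf.stalk x := (IsLocalizedModule.isBaseChange
    q.asIdeal.primeCompl O (QC70.germLinear F hz)).equiv
  obtain ⟨E₀⟩ := FlatMor68.PullbackStalk.nonempty_stalkPullbackEquiv (f.fiberι y) F z
  let E₂ : ((Scheme.Modules.pullback (f.fiberι y)).obj F).presheaf.stalk z ≃ₗ[C'] C' ⊗[Γ(X, W)] M :=
    E₀ ≪≫ₗ LinearEquiv.baseChange O C' _ _ E₁.symm ≪≫ₗ
      AlgebraTensorModule.cancelBaseChange Γ(X, W) O C' C' M
  let E₃ : fibreMod Γ(Y, V) M q ≃ₗ[Γ(X, W)] C' ⊗[Γ(X, W)] M :=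
    TensorProduct.congr e.toLinearEquiv (LinearEquiv.refl _ _)
  let E : fibreMod Γ(Y, V) M q ≃+ ((Scheme.Modules.pullback (f.fiberι y)).obj F).presheaf.stalk z :=
    E₃.toAddEquiv.trans E₂.symm.toAddEquiv
  have hE : ∀ (r : C) (m : fibreMod Γ(Y, V) M q), E (r • m) = e r • E m := fun r m => by
    show E₂.symm (E₃ (r • m)) = e r • E₂.symm (E₃ m)
    rw [← E₂.symm.map_smul]
    congr 1
    induction m using TensorProduct.induction_on with
    | zero => simp
    | add a b ha hb => simp only [smul_add, map_add, ha, hb]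
    | tmul c m => simp [E₃, TensorProduct.smul_tmul']
  haveI : LocallyOfFiniteType (f.fiberToSpecResidueField y) :=
    MorphismProperty.of_isPullback (P := @LocallyOfFiniteType)
      (IsPullback.of_hasPullback f (Y.fromSpecResidueField y)) ‹_›
  haveI : IsLocallyNoetherian (f.fiber y) :=
    LocallyOfFiniteType.isLocallyNoetherian (f.fiberToSpecResidueField y)
  haveI : IsNoetherianRing C := isNoetherianRing_of_ringEquiv C' e.toRingEquiv.symm
  haveI : Module.FinitePresentation Γ(X, W) M := Props58.LocFree.finitePresentation_sections F hW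
  obtain ⟨h1, h2⟩ := invariants_of_semilinear e.toRingEquiv _ _ E hE
  exact ⟨h1.symm, h2.symm, E.toEquiv.nontrivial_congr.symm⟩

end Groth.Agent.E4O.FibMod
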