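import Groth.Agent.E4O.FibModAffine

/-!
For a flat finitely presented module: depth plus degree on the fibres is lower semicontinuous, support
dimension plus degree is upper semicontinuous, and the support is closed.
-/

set_option autoImplicit false
set_option backward.isDefEq.respectTransparency.types false
set_option synthInstance.maxHeartbeats 200000
set_option maxHeartbeats 1000000
set_option linter.style.haveILetI false

universe u

open CategoryTheory CategoryTheory.Limits AlgebraicGeometry TopologicalSpace IsLocalRing TensorProduct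

namespace Groth.Agent.E4O.FibMod

open Sk62

variable {X Y : Scheme.{u}}

theorem depth_of_subsingleton (R : Type u) [CommRing R] [IsLocalRing R] [IsNoetherianRing R] (M : Type u)
    [AddCommGroup M] [Module R M] [Subsingleton M] :
    LocCoh.depth R M = ⊤ ∧ Module.supportDim R M = ⊥ := by
  exact ⟨EGA4Alg4.depth_of_subsingleton, (Module.supportDim_eq_bot_iff_subsingleton R M).2 inferInstance⟩

theorem semicontinuous (f : X ⟶ Y) [LocallyOfFinitePresentation f] (F : X.Modules) (hF : CohB1.IsFP F)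
    (hflat : FlatMod.IsFlatOver f F) (x : X) :
    ∃ W : X.Opens, x ∈ W ∧ (∀ d : ℕ, IsOpen {a : X | a ∈ W ∧ (d : ℕ∞) ≤ mdepth f F a + (E4O.fdeg f a : ℕ∞)}) ∧
      (∀ D : ℕ, IsOpen {a : X | a ∈ W ∧ mdim f F a + (E4O.fdeg f a : ℕ) ≤ (D : ℕ)}) ∧
      IsOpen {a : X | a ∈ W ∧ a ∉ msupp f F} ∧
      (∀ a ∈ W, a ∈ msupp f F → ∃ k n : ℕ, mdim f F a = (k : ℕ) ∧ mdepth f F a = (n : ℕ∞) ∧ n ≤ k) ∧
      (∀ a ∈ W, a ∉ msupp f F → mdim f F a = ⊥ ∧ mdepth f F a = ⊤) := by
  haveI := hF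
  obtain ⟨V, hV, hyV, -⟩ := exists_isAffineOpen_mem_and_subset (X := Y) (x := f x) (U := ⊤) trivial
  obtain ⟨W, hW, hxW, hWV⟩ := exists_isAffineOpen_mem_and_subset (X := X) (x := x) (U := f ⁻¹ᵁ V) hyV
  have hle : W ≤ f ⁻¹ᵁ V := fun a ha => hWV ha
  let φ := f.appLE V W hle
  algebraize [φ.hom]
  have hfp : Algebra.FinitePresentation Γ(Y, V) Γ(X, W) :=
    LocallyOfFinitePresentation.finitePresentation_appLE f hV hW hle
  let M := Γ(F, W)
  haveI : Module.FinitePresentation Γ(X, W) M := Props58.LocFree.finitePresentation_sections F hW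
  letI : Module Γ(Y, V) M := Module.compHom _ φ.hom
  haveI : IsScalarTower Γ(Y, V) Γ(X, W) M := IsScalarTower.of_algebraMap_smul fun _ _ => rfl
  haveI : Module.Flat Γ(Y, V) M := FlatMor68.FlatSections.flat_sections f hle hW hV
    (QC70.isLocAt_of_isQuasicoherent F hW) fun a _ => hflat a
  obtain ⟨(ι : Type u), _, π, hπ, hker⟩ := (Algebra.FinitePresentation.iff_quotient_mvPolynomial'
    (R := Γ(Y, V)) (A := Γ(X, W))).1 hfp
  let N := Fintype.card ι
  let σ : ULift.{u} (Fin N) ≃ ι := Equiv.ulift.trans (Fintype.equivFin ι).symm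
  let π' : MvPolynomial (ULift.{u} (Fin N)) Γ(Y, V) →ₐ[Γ(Y, V)] Γ(X, W) :=
    π.comp (MvPolynomial.renameEquiv Γ(Y, V) σ).toAlgHom
  let _ := π'.toRingHom.toAlgebra
  have : IsScalarTower Γ(Y, V) (MvPolynomial (ULift.{u} (Fin N)) Γ(Y, V)) Γ(X, W) :=
    IsScalarTower.of_algebraMap_eq fun a => (π'.commutes a).symm
  have hs : Function.Surjective (algebraMap (MvPolynomial (ULift.{u} (Fin N)) Γ(Y, V)) Γ(X, W)) :=
    hπ.comp (MvPolynomial.renameEquiv Γ(Y, V) σ).surjective
  have : Module.FinitePresentation (MvPolynomial (ULift.{u} (Fin N)) Γ(Y, V)) Γ(X, W) := by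
    refine Module.finitePresentation_of_surjective
      (Algebra.linearMap (MvPolynomial (ULift.{u} (Fin N)) Γ(Y, V)) Γ(X, W)) hs ?_
    exact Algebra.FinitePresentation.ker_fG_of_surjective π' hs
  letI : Module (MvPolynomial (ULift.{u} (Fin N)) Γ(Y, V)) M := Module.compHom _ π'.toRingHom
  haveI : IsScalarTower (MvPolynomial (ULift.{u} (Fin N)) Γ(Y, V)) Γ(X, W) M :=
    IsScalarTower.of_algebraMap_smul fun _ _ => rfl
  haveI : IsScalarTower Γ(Y, V) (MvPolynomial (ULift.{u} (Fin N)) Γ(Y, V)) M :=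
    IsScalarTower.of_algebraMap_smul fun a m => by
      show π' (algebraMap Γ(Y, V) _ a) • m = φ.hom a • m
      rw [π'.commutes]
      rfl
  haveI : Module.FinitePresentation (MvPolynomial (ULift.{u} (Fin N)) Γ(Y, V)) M :=
    Module.FinitePresentation.trans (MvPolynomial (ULift.{u} (Fin N)) Γ(Y, V)) M Γ(X, W)
  let A := Γ(Y, V)
  let B := Γ(X, W)
  let K := Module.annihilator B M
  let g := Spec.map (CommRingCat.ofHom (algebraMap A (B ⧸ K)))
  let h := Spec.map (CommRingCat.ofHom (algebraMap A B))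
  let c := PrimeSpectrum.comap (algebraMap B (B ⧸ K))
  let cP := PrimeSpectrum.comap (algebraMap (MvPolynomial (ULift.{u} (Fin N)) A) B)
  have hce : Topology.IsClosedEmbedding c :=
    PrimeSpectrum.isClosedEmbedding_comap_of_surjective _ _ Ideal.Quotient.mk_surjective
  have hrange : Set.range c = Module.support B M := by
    rw [show c = PrimeSpectrum.comap (Ideal.Quotient.mk K) from rfl,
      range_comap_of_surjective _ _ Ideal.Quotient.mk_surjective, Module.support_eq_zeroLocus, Ideal.mk_ker]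
  have : LocallyOfFiniteType g := (HasRingHomProperty.Spec_iff (P := @LocallyOfFiniteType)).2
    (RingHom.finiteType_algebraMap.2 (Algebra.FiniteType.of_surjective
      (Ideal.Quotient.mkₐ A K) Ideal.Quotient.mk_surjective))
  have : LocallyOfFiniteType h := (HasRingHomProperty.Spec_iff (P := @LocallyOfFiniteType)).2
    (RingHom.finiteType_algebraMap.2 inferInstance)
  have := hW.isOpenImmersion_fromSpec
  have := hV.isOpenImmersion_fromSpec
  have comm : h ≫ hV.fromSpec = hW.fromSpec ≫ f := IsAffineOpen.SpecMap_appLE_fromSpec f hV hW hle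
  have hdeg : ∀ q : PrimeSpectrum B, E4O.fdeg f (hW.fromSpec q) = E4O.fdeg h q := fun q =>
    calc E4O.fdeg f (hW.fromSpec q) = E4O.fdeg (hW.fromSpec ≫ f) q := (E4O.fdeg_comp_openImmersion hW.fromSpec f q).symm
      _ = E4O.fdeg (h ≫ hV.fromSpec) q := by rw [comm]
      _ = E4O.fdeg h q := AffNorm62.fdeg_comp_right_openImmersion h hV.fromSpec q
  have hinv : ∀ q : PrimeSpectrum B,
      mdepth f F (hW.fromSpec q) = LocCoh.depth (RelPd52.fibreRing A q) (fibreMod A M q) ∧
      mdim f F (hW.fromSpec q) = Module.supportDim (RelPd52.fibreRing A q) (fibreMod A M q) ∧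
      (hW.fromSpec q ∈ msupp f F ↔ q ∈ Module.support B M) ∧ IsNoetherianRing (RelPd52.fibreRing A q) := by
    intro q
    let a := hW.fromSpec q
    have ha' : a ∈ W := hW.range_fromSpec.le ⟨q, rfl⟩
    have ha : f.fiberι (f a) (f.asFiber a) ∈ W := by rw [f.fiberι_asFiber]; exact ha'
    have hq : hW.primeIdealOf ⟨f.fiberι (f a) (f.asFiber a), ha⟩ = q :=
      hW.fromSpec.isOpenEmbedding.injective ((hW.fromSpec_primeIdealOf _).trans (f.fiberι_asFiber a))
    obtain ⟨-, -, ⟨eq⟩⟩ := fibreRing_data f hW.fromSpec hV.fromSpec comm q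
    obtain ⟨h1, h2, h3⟩ := invariants_sections f F hV hW hle (f a) (f.asFiber a) ha
    rw [hq] at h1 h2 h3
    have := isLocalRing_noetherian_fibre f a
    refine ⟨h1, h2, h3.trans ?_, isNoetherianRing_of_ringEquiv _ eq.symm⟩
    rw [← not_subsingleton_iff_nontrivial, subsingleton_fibreMod_iff, not_not]
  have hsupp : ∀ t : PrimeSpectrum (B ⧸ K), ∃ k n e : ℕ, mdim f F (hW.fromSpec (c t)) = (k : ℕ) ∧
      mdepth f F (hW.fromSpec (c t)) = (n : ℕ∞) ∧ n ≤ k ∧
      RelPd52.fibrePd A M (cP (c t)) = (e : WithBot ℕ∞) ∧ n + E4O.fdeg f (hW.fromSpec (c t)) + e = N ∧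
      FlatMor.fibreDimAt g t = ((k + E4O.fdeg f (hW.fromSpec (c t)) : ℕ) : WithBot ℕ∞) := by
    intro t
    obtain ⟨k, n, e, hk, hn, he, hnk, hsum, hD⟩ := fibreMod_invariants (A := A) hs M t
    obtain ⟨h1, h2, -, -⟩ := hinv (c t)
    refine ⟨k, n, e, h2.trans hk, h1.trans hn, hnk, he, ?_, ?_⟩
    · rw [hdeg]; exact hsum
    · rw [hdeg]; exact hD
  have hzero : ∀ q : PrimeSpectrum B, q ∉ Module.support B M →
      mdim f F (hW.fromSpec q) = ⊥ ∧ mdepth f F (hW.fromSpec q) = ⊤ := by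
    intro q hq
    obtain ⟨h1, h2, -, hN⟩ := hinv q
    haveI := hN
    haveI := (subsingleton_fibreMod_iff (A := A) M q).2 hq
    obtain ⟨h3, h4⟩ := depth_of_subsingleton (RelPd52.fibreRing A q) (fibreMod A M q)
    exact ⟨h2.trans h4, h1.trans h3⟩
  have hsuppc : IsClosed (Module.support B M) := hrange ▸ hce.isClosed_range
  refine ⟨W, hxW, fun d => ?_, fun D => ?_, ?_, fun a ha has => ?_, fun a ha has => ?_⟩
  · let O : Set (PrimeSpectrum B) := (Module.support B M)ᶜ ∪ cP ⁻¹' {Q | RelPd52.fibrePd A M Q < ((N + 1 - d : ℕ) : WithBot ℕ∞)}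
    have hO : IsOpen O := hsuppc.isOpen_compl.union
      ((RelPd52.isOpen_fibrePd_lt (N + 1 - d) M).preimage (PrimeSpectrum.continuous_comap _))
    convert hW.fromSpec.isOpenEmbedding.isOpenMap _ hO using 1
    ext a
    constructor
    · rintro ⟨ha, had⟩
      obtain ⟨q, rfl⟩ := hW.range_fromSpec.ge ha
      refine ⟨q, ?_, rfl⟩
      by_cases hq : q ∈ Module.support B M
      · obtain ⟨t, rfl⟩ := hrange.ge hq
        obtain ⟨k, n, e, -, hn, -, he, hsum, -⟩ := hsupp t
        refine Or.inr ?_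
        show RelPd52.fibrePd A M (cP (c t)) < _
        rw [hn, ← Nat.cast_add, Nat.cast_le] at had
        rw [he, Nat.cast_lt]
        omega
      · exact Or.inl hq
    · rintro ⟨q, hq, rfl⟩
      refine ⟨hW.range_fromSpec.le ⟨q, rfl⟩, ?_⟩
      by_cases hq' : q ∈ Module.support B M
      · obtain ⟨t, rfl⟩ := hrange.ge hq'
        obtain ⟨k, n, e, -, hn, -, he, hsum, -⟩ := hsupp t
        have hlt : RelPd52.fibrePd A M (cP (c t)) < ((N + 1 - d : ℕ) : WithBot ℕ∞) :=
          hq.resolve_left (fun h => h hq')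
        rw [he, Nat.cast_lt] at hlt
        rw [hn, ← Nat.cast_add, Nat.cast_le]
        omega
      · rw [(hzero q hq').2, top_add]
        exact le_top
  · let L : Set (PrimeSpectrum (B ⧸ K)) := {t | FlatMor.fibreDimAt g t ≤ (D : ℕ)}
    have hL : IsOpen L := S0402.result g D
    convert hW.fromSpec.isOpenEmbedding.isOpenMap _ (hce.isClosedMap _ hL.isClosed_compl).isOpen_compl using 1
    ext a
    constructor
    · rintro ⟨ha, had⟩
      obtain ⟨q, rfl⟩ := hW.range_fromSpec.ge ha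
      refine ⟨q, ?_, rfl⟩
      rintro ⟨t, ht, rfl⟩
      obtain ⟨k, n, e, hk, -, -, -, -, hfd⟩ := hsupp t
      refine ht (?_ : FlatMor.fibreDimAt g t ≤ _)
      rw [hfd]
      rw [hk] at had
      exact_mod_cast had
    · rintro ⟨q, hq, rfl⟩
      refine ⟨hW.range_fromSpec.le ⟨q, rfl⟩, ?_⟩
      by_cases hq' : q ∈ Module.support B M
      · obtain ⟨t, rfl⟩ := hrange.ge hq'
        obtain ⟨k, n, e, hk, -, -, -, -, hfd⟩ := hsupp t
        have htL : FlatMor.fibreDimAt g t ≤ ((D : ℕ) : WithBot ℕ∞) := by_contra fun h => hq ⟨t, h, rfl⟩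
        rw [hfd] at htL
        rw [hk]
        exact_mod_cast htL
      · rw [(hzero q hq').1, WithBot.bot_add]
        exact bot_le
  · convert hW.fromSpec.isOpenEmbedding.isOpenMap _ hsuppc.isOpen_compl using 1
    ext a
    constructor
    · rintro ⟨ha, has⟩
      obtain ⟨q, rfl⟩ := hW.range_fromSpec.ge ha
      exact ⟨q, fun hq => has ((hinv q).2.2.1.2 hq), rfl⟩
    · rintro ⟨q, hq, rfl⟩
      exact ⟨hW.range_fromSpec.le ⟨q, rfl⟩, fun h => hq ((hinv q).2.2.1.1 h)⟩
  · obtain ⟨q, rfl⟩ := hW.range_fromSpec.ge ha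
    obtain ⟨t, rfl⟩ := hrange.ge ((hinv q).2.2.1.1 has)
    obtain ⟨k, n, e, hk, hn, hnk, -⟩ := hsupp t
    exact ⟨k, n, hk, hn, hnk⟩
  · obtain ⟨q, rfl⟩ := hW.range_fromSpec.ge ha
    exact hzero q fun h => has ((hinv q).2.2.1.2 h)

variable (f : X ⟶ Y) [LocallyOfFinitePresentation f] (F : X.Modules)

theorem isOpen_of_local {P : X → Prop}
    (h : ∀ x : X, ∃ W : X.Opens, x ∈ W ∧ IsOpen {a : X | a ∈ W ∧ P a}) : IsOpen {a : X | P a} := by
  rw [isOpen_iff_forall_mem_open]
  intro x hx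
  obtain ⟨W, hxW, hW⟩ := h x
  exact ⟨_, fun a ha => ha.2, hW, hxW, hx⟩

theorem isOpen_le_mdepth_add (hF : CohB1.IsFP F) (hflat : FlatMod.IsFlatOver f F) (d : ℕ) :
    IsOpen {x : X | (d : ℕ∞) ≤ mdepth f F x + (E4O.fdeg f x : ℕ∞)} :=
  isOpen_of_local fun x => by
    obtain ⟨W, hxW, h, -⟩ := semicontinuous f F hF hflat x
    exact ⟨W, hxW, h d⟩

theorem isOpen_mdim_add_le (hF : CohB1.IsFP F) (hflat : FlatMod.IsFlatOver f F) (D : ℕ) :
    IsOpen {x : X | mdim f F x + (E4O.fdeg f x : ℕ) ≤ (D : ℕ)} :=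
  isOpen_of_local fun x => by
    obtain ⟨W, hxW, -, h, -⟩ := semicontinuous f F hF hflat x
    exact ⟨W, hxW, h D⟩

theorem isClosed_msupp (hF : CohB1.IsFP F) (hflat : FlatMod.IsFlatOver f F) : IsClosed (msupp f F) :=
  isOpen_compl_iff.1 (isOpen_of_local fun x => by
    obtain ⟨W, hxW, -, -, h, -⟩ := semicontinuous f F hF hflat x
    exact ⟨W, hxW, h⟩)

theorem exists_of_mem_msupp (hF : CohB1.IsFP F) (hflat : FlatMod.IsFlatOver f F) {x : X} (hx : x ∈ msupp f F) :
    ∃ k n : ℕ, mdim f F x = (k : ℕ) ∧ mdepth f F x = (n : ℕ∞) ∧ n ≤ k := by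
  obtain ⟨W, hxW, -, -, -, h, -⟩ := semicontinuous f F hF hflat x
  exact h x hxW hx

theorem of_not_mem_msupp (hF : CohB1.IsFP F) (hflat : FlatMod.IsFlatOver f F) {x : X} (hx : x ∉ msupp f F) :
    mdim f F x = ⊥ ∧ mdepth f F x = ⊤ := by
  obtain ⟨W, hxW, -, -, -, -, h⟩ := semicontinuous f F hF hflat x
  exact h x hxW hx

/-- The codepth on the fibres is upper semicontinuous. -/
theorem isOpen_codepth_le (hF : CohB1.IsFP F) (hflat : FlatMod.IsFlatOver f F) (c : ℕ) :
    IsOpen {x : X | mdim f F x ≤ ((mdepth f F x : ℕ∞) : WithBot ℕ∞) + (c : ℕ)} := by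
  rw [isOpen_iff_forall_mem_open]
  intro x hx
  by_cases hxs : x ∈ msupp f F
  · obtain ⟨k, n, hk, hn, -⟩ := exists_of_mem_msupp f F hF hflat hxs
    have hkn : k ≤ n + c := by
      have : mdim f F x ≤ ((mdepth f F x : ℕ∞) : WithBot ℕ∞) + (c : ℕ) := hx
      rw [hk, hn] at this
      exact_mod_cast this
    let d := E4O.fdeg f x
    refine ⟨{a | mdim f F a + (E4O.fdeg f a : ℕ) ≤ ((k + d : ℕ) : WithBot ℕ∞)} ∩
      {a | ((n + d : ℕ) : ℕ∞) ≤ mdepth f F a + (E4O.fdeg f a : ℕ∞)}, ?_,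
      (isOpen_mdim_add_le f F hF hflat (k + d)).inter (isOpen_le_mdepth_add f F hF hflat (n + d)), ?_, ?_⟩
    · rintro a ⟨ha, hb⟩
      show mdim f F a ≤ _
      by_cases has : a ∈ msupp f F
      · obtain ⟨k', n', hk', hn', -⟩ := exists_of_mem_msupp f F hF hflat has
        have h1 : k' + E4O.fdeg f a ≤ k + d := by
          have ha' : mdim f F a + (E4O.fdeg f a : ℕ) ≤ ((k + d : ℕ) : WithBot ℕ∞) := ha
          rw [hk'] at ha'
          exact_mod_cast ha'
        have h2 : n + d ≤ n' + E4O.fdeg f a := by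
          have hb' : ((n + d : ℕ) : ℕ∞) ≤ mdepth f F a + (E4O.fdeg f a : ℕ∞) := hb
          rw [hn'] at hb'
          exact_mod_cast hb'
        rw [hk', hn']
        exact_mod_cast (show k' ≤ n' + c by omega)
      · rw [(of_not_mem_msupp f F hF hflat has).1]
        exact bot_le
    · show mdim f F x + _ ≤ _
      rw [hk]
      exact_mod_cast le_rfl
    · show _ ≤ mdepth f F x + _
      rw [hn, Nat.cast_add]
  · refine ⟨(msupp f F)ᶜ, fun a ha => ?_, (isClosed_msupp f F hF hflat).isOpen_compl, hxs⟩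
    show mdim f F a ≤ _
    rw [(of_not_mem_msupp f F hF hflat ha).1]
    exact bot_le

end Groth.Agent.E4O.FibMod
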