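import Groth.Agent.LC16.FibreMod
import Groth.Agent.FBase64.AssFibre.Dim

/-!
Equidimensionality of the local ring of a fibre, read off on the maximal points of the fibre.
-/

set_option autoImplicit false
set_option linter.style.haveILetI false
universe u

open CategoryTheory CategoryTheory.Limits AlgebraicGeometry Topology

namespace Groth.Agent.E4O.FibreEquidimPoints

open Sk62

variable {X Y : Scheme.{u}} (f : X ⟶ Y)

theorem ringKrullDim_quotient_add [LocallyOfFiniteType f] (y : Y) (w₀ : ↥(f.fiber y))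
    (p : PrimeSpectrum ((f.fiber y).presheaf.stalk w₀)) :
    ∃ k : ℕ, ringKrullDim ((f.fiber y).presheaf.stalk w₀ ⧸ p.asIdeal) = (k : ℕ) ∧
      k + E4O.fdeg f (f.fiberι y w₀) = E4O.fdeg f (f.fiberι y ((f.fiber y).fromSpecStalk w₀ p)) := by
  let F₀ := f.fiber y
  let w := F₀.fromSpecStalk w₀ p
  have hw : w ⤳ w₀ := F₀.range_fromSpecStalk.le ⟨p, rfl⟩
  obtain ⟨k, hk, hle, a, ha, haw, hak⟩ := LC16.FibreMod.exists_dim_generizations f y
    (K := closure {w}) isClosed_closure (w := w₀) hw.mem_closure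
  have hfib : ∀ b, f (f.fiberι y b) = y := fun b => E4O.apply_fiberι f y b
  refine ⟨k, ?_, le_antisymm ?_ (hle w (subset_closure rfl) hw)⟩
  · refine (FBase64.AssFibre.ringKrullDim_quotient_eq_of_isEmbedding _ (F₀.fromSpecStalk w₀).isEmbedding p).trans
      (Eq.trans ?_ hk)
    exact congrArg (fun S : Set ↥F₀ => topologicalKrullDim ↥(closure {w} ∩ S)) F₀.range_fromSpecStalk
  · rw [← hak]
    exact E4O.fdeg_le ((specializes_iff_mem_closure.2 ha).map (f.fiberι y).continuous)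
      ((hfib w).trans (hfib a).symm)

/-- The local ring of the fibre is equidimensional iff the maximal points of the fibre through the point all
have the same degree. -/
theorem isEquidim_iff [LocallyOfFiniteType f] (x : X) :
    EGA4.IsEquidim ((f.fiber (f x)).presheaf.stalk (f.asFiber x)) ↔
      ∃ e : ℕ, ∀ z, z ⤳ x → f z = f x → E4O.IsFibreMax f z → E4O.fdeg f z = e := by
  let F₀ := f.fiber (f x)
  let R := F₀.presheaf.stalk (f.asFiber x)
  let w := fun p : PrimeSpectrum R => f.fiberι (f x) (F₀.fromSpecStalk (f.asFiber x) p)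
  have hw : ∀ p, w p ⤳ x ∧ f (w p) = f x := fun p => by
    refine ⟨?_, E4O.apply_fiberι f _ _⟩
    have h := ((F₀.range_fromSpecStalk (x := f.asFiber x)).le ⟨p, rfl⟩).map (f.fiberι (f x)).continuous
    rwa [f.fiberι_asFiber] at h
  have hex : ∀ z, z ⤳ x → f z = f x → ∃ p, w p = z := fun z hz hfz => by
    obtain ⟨b, rfl⟩ := E4O.exists_fiberι_eq f hfz
    have hb : b ⤳ f.asFiber x := (E4O.specializes_fiberι_iff f _ _ _).1 (by rwa [f.fiberι_asFiber])
    obtain ⟨p, hp⟩ := (F₀.range_fromSpecStalk (x := f.asFiber x)).ge hb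
    exact ⟨p, congrArg _ hp⟩
  have hiff : ∀ p q, w p ⤳ w q ↔ p.asIdeal ≤ q.asIdeal := fun p q => by
    rw [E4O.specializes_fiberι_iff, (F₀.fromSpecStalk _).isEmbedding.isInducing.specializes_iff]
    exact (PrimeSpectrum.le_iff_specializes p q).symm
  have hinj : Function.Injective w :=
    (f.fiberι (f x)).isEmbedding.injective.comp (F₀.fromSpecStalk _).isEmbedding.injective
  have hmax : ∀ p, p.asIdeal ∈ minimalPrimes R ↔ E4O.IsFibreMax f (w p) := fun p => by
    constructor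
    · intro hp z hz hfz
      obtain ⟨q, rfl⟩ := hex z (hz.trans (hw p).1) (hfz.trans (hw p).2)
      exact congrArg w (PrimeSpectrum.ext (le_antisymm ((hiff q p).1 hz) (hp.2 ⟨q.isPrime, bot_le⟩ ((hiff q p).1 hz))))
    · intro h
      refine ⟨⟨p.isPrime, bot_le⟩, fun q hq hqp => ?_⟩
      have := hinj (h (w ⟨q, hq.1⟩) ((hiff ⟨q, hq.1⟩ p).2 hqp) ((hw _).2.trans (hw p).2.symm))
      exact (congrArg PrimeSpectrum.asIdeal this).ge
  have hq : ∀ p : PrimeSpectrum R, ∃ k : ℕ, ringKrullDim (R ⧸ p.asIdeal) = (k : ℕ) ∧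
      k + E4O.fdeg f x = E4O.fdeg f (w p) := fun p => by
    have := ringKrullDim_quotient_add f (f x) (f.asFiber x) p
    rwa [f.fiberι_asFiber] at this
  constructor
  · intro h
    obtain ⟨z₀, hz₀, hfz₀, hmax₀, -, -⟩ := E4O.exists_isFibreMax_specializes f x
    refine ⟨E4O.fdeg f z₀, fun z hz hfz hzmax => ?_⟩
    obtain ⟨p, rfl⟩ := hex z hz hfz
    obtain ⟨p₀, rfl⟩ := hex z₀ hz₀ hfz₀
    obtain ⟨k, hk, hks⟩ := hq p
    obtain ⟨k₀, hk₀, hks₀⟩ := hq p₀
    have := ((h _ ((hmax p).2 hzmax)).trans (h _ ((hmax p₀).2 hmax₀)).symm)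
    rw [hk, hk₀] at this
    have : k = k₀ := by exact_mod_cast this
    omega
  · rintro ⟨e, he⟩ p hp
    obtain ⟨k, hk, hks⟩ := hq ⟨p, hp.1.1⟩
    rw [he _ (hw _).1 (hw _).2 ((hmax ⟨p, hp.1.1⟩).1 hp)] at hks
    obtain ⟨d, hd, hD⟩ := CM62.exists_fibre_dim f x
    obtain ⟨z₀, hz₀, hfz₀, hmax₀, hD₀, -⟩ := E4O.exists_isFibreMax_specializes f x
    rw [hD₀, he z₀ hz₀ hfz₀ hmax₀] at hD
    have hde : e = d + E4O.fdeg f x := by exact_mod_cast hD
    rw [hk, hd]
    exact_mod_cast (show k = d by omega)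

end Groth.Agent.E4O.FibreEquidimPoints
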