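import Groth.Agent.FlatStage64.Syzygy
import Groth.Agent.TorMod7.Syzygy
import Mathlib.RingTheory.LocalRing.Module
import Mathlib.RingTheory.Flat.Localization
import Mathlib.Algebra.Category.ModuleCat.Projective
import Mathlib.CategoryTheory.Abelian.Projective.Dimension
import Mathlib.RingTheory.LocalRing.ResidueField.Fiber

/-!
Projectivity and projective dimension of a flat finitely presented module, read off on the fibres.
-/

set_option autoImplicit false
universe u

open TensorProduct CategoryTheory

namespace Groth.Agent.E4O

attribute [local instance] Algebra.TensorProduct.rightAlgebra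

variable {A B : Type u} [CommRing A] [CommRing B] [Algebra A B]

theorem lTensor_baseChange_injective (κ : Type u) [CommRing κ] [Algebra A κ] {K F M : Type u}
    [AddCommGroup K] [Module B K] [Module A K] [IsScalarTower A B K]
    [AddCommGroup F] [Module B F] [Module A F] [IsScalarTower A B F]
    [AddCommGroup M] [Module B M] [Module A M] [IsScalarTower A B M] [Module.Flat A M]
    (i : K →ₗ[B] F) (g : F →ₗ[B] M) (hi : Function.Injective i) (hg : Function.Surjective g)
    (h : Function.Exact i g) : Function.Injective (i.baseChange (B ⊗[A] κ)) := by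
  have : Algebra.IsPushout A κ B (B ⊗[A] κ) := Algebra.IsPushout.symm inferInstance
  exact FlatStage64.lTensor_injective_pushout A κ B (B ⊗[A] κ) (X := F) (X' := K) i g hi hg h

theorem exists_retraction {R K F M : Type u} [CommRing R] [AddCommGroup K] [Module R K]
    [AddCommGroup F] [Module R F] [AddCommGroup M] [Module R M] [Module.Projective R M]
    (j : K →ₗ[R] F) (g : F →ₗ[R] M) (hj : Function.Injective j) (hg : Function.Surjective g)
    (h : Function.Exact j g) : ∃ r : F →ₗ[R] K, r ∘ₗ j = LinearMap.id := by
  obtain ⟨s, hs⟩ := Module.projective_lifting_property g LinearMap.id hg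
  have hmem : ∀ x, x - s (g x) ∈ LinearMap.range j := fun x => by
    rw [← h.linearMap_ker_eq, LinearMap.mem_ker, map_sub, ← LinearMap.comp_apply g s, hs,
      LinearMap.id_apply, sub_self]
  refine ⟨(LinearEquiv.ofInjective j hj).symm.toLinearMap ∘ₗ
    ((LinearMap.id - s ∘ₗ g).codRestrict (LinearMap.range j) hmem), LinearMap.ext fun k => ?_⟩
  show (LinearEquiv.ofInjective j hj).symm _ = k
  rw [LinearEquiv.symm_apply_eq]
  exact Subtype.ext (by simp [h.apply_apply_eq_zero])

/-- A finitely presented module flat over the base with projective fibres is flat. -/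
theorem flat_of_fibrewise_projective (M : Type u) [AddCommGroup M] [Module B M] [Module A M]
    [IsScalarTower A B M] [Module.FinitePresentation B M] [Module.Flat A M]
    (h : ∀ (p : Ideal A) [p.IsPrime],
      Module.Projective (B ⊗[A] p.ResidueField) ((B ⊗[A] p.ResidueField) ⊗[B] M)) :
    Module.Flat B M := by
  refine Module.flat_of_localized_maximal M fun P _ => ?_
  let R := Localization.AtPrime P
  obtain ⟨n, g, hg⟩ := Module.Finite.exists_fin' B M
  have hfin : Module.Finite B (LinearMap.ker g) :=
    Module.Finite.iff_fg.mpr (Module.FinitePresentation.fg_ker g hg)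
  let i := (LinearMap.ker g).subtype
  have hex : Function.Exact i g := LinearMap.exact_subtype_ker_map g
  suffices Module.Free R (R ⊗[B] M) by
    have : Module.Flat B (R ⊗[B] M) := Module.Flat.trans B R (R ⊗[B] M)
    exact Module.Flat.of_linearEquiv ((LocalizedModule.equivTensorProduct P.primeCompl M).restrictScalars B)
  let p := P.under A
  let κ := p.ResidueField
  let k := IsLocalRing.ResidueField R
  let α : κ →ₐ[A] k := Ideal.ResidueField.mapₐ p P (Algebra.ofId A B) rfl
  let E := B ⊗[A] κ
  let _ : Algebra E k :=
    (Algebra.TensorProduct.lift (IsScalarTower.toAlgHom A B k) α fun _ _ => .all _ _).toRingHom.toAlgebra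
  have : IsScalarTower B E k := IsScalarTower.of_algebraMap_eq fun b => by
    show _ = Algebra.TensorProduct.lift (IsScalarTower.toAlgHom A B k) α _ (b ⊗ₜ[A] (1 : κ))
    rw [Algebra.TensorProduct.lift_tmul, map_one, mul_one]
    rfl
  have : Module.Projective E (E ⊗[B] M) := h p
  have hj : Function.Injective (i.baseChange E) :=
    lTensor_baseChange_injective κ i g Subtype.val_injective hg hex
  obtain ⟨r, hr⟩ := exists_retraction (i.baseChange E) (g.baseChange E) hj
    (LinearMap.lTensor_surjective E hg) (lTensor_exact E hex hg)
  have hk : Function.Injective (i.lTensor k) := by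
    let eK := AlgebraTensorModule.cancelBaseChange B E k k (LinearMap.ker g)
    let eF := AlgebraTensorModule.cancelBaseChange B E k k (Fin n → B)
    have hinj : Function.Injective ((i.baseChange E).lTensor k) :=
      Function.LeftInverse.injective (g := r.lTensor k) fun x => by
        rw [← LinearMap.lTensor_comp_apply, hr, LinearMap.lTensor_id, LinearMap.id_apply]
    have key : ∀ z, i.lTensor k (eK z) = eF ((i.baseChange E).lTensor k z) := by
      intro z
      induction z using TensorProduct.induction_on with
      | zero => simp
      | add a b ha hb => simp only [map_add, ha, hb]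
      | tmul a z =>
        induction z using TensorProduct.induction_on with
        | zero => simp
        | add b c hb hc => simp only [tmul_add, map_add, hb, hc]
        | tmul b x => simp [eK, eF]
    intro x y hxy
    obtain ⟨x, rfl⟩ := eK.surjective x
    obtain ⟨y, rfl⟩ := eK.surjective y
    rw [key, key] at hxy
    rw [hinj (eF.injective hxy)]
  refine Module.free_of_lTensor_residueField_injective (i.baseChange R) (g.baseChange R)
    (LinearMap.lTensor_surjective R hg) (lTensor_exact R hex hg) ?_
  let eK := AlgebraTensorModule.cancelBaseChange B R k k (LinearMap.ker g)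
  let eF := AlgebraTensorModule.cancelBaseChange B R k k (Fin n → B)
  have key : ∀ z, eF ((i.baseChange R).lTensor k z) = i.lTensor k (eK z) := by
    intro z
    induction z using TensorProduct.induction_on with
    | zero => simp
    | add a b ha hb => simp only [map_add, ha, hb]
    | tmul a z =>
      induction z using TensorProduct.induction_on with
      | zero => simp
      | add b c hb hc => simp only [tmul_add, map_add, hb, hc]
      | tmul b x => simp [eK, eF]
  intro x y hxy
  apply eK.injective
  apply hk
  rw [← key, ← key]
  exact congrArg eF hxy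

theorem subsingleton_of_fibres (M : Type u) [AddCommGroup M] [Module B M] [Module.Finite B M]
    (h : ∀ (p : Ideal A) [p.IsPrime], Subsingleton ((B ⊗[A] p.ResidueField) ⊗[B] M)) :
    Subsingleton M := by
  rw [← Module.support_eq_empty_iff (R := B), Set.eq_empty_iff_forall_notMem]
  intro P hP
  rw [Module.mem_support_iff_nontrivial_residueField_tensorProduct] at hP
  let p := P.asIdeal.under A
  let k := P.asIdeal.ResidueField
  let α : p.ResidueField →ₐ[A] k := Ideal.ResidueField.mapₐ p P.asIdeal (Algebra.ofId A B) rfl
  let E := B ⊗[A] p.ResidueField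
  let _ : Algebra E k :=
    (Algebra.TensorProduct.lift (IsScalarTower.toAlgHom A B k) α fun _ _ => .all _ _).toRingHom.toAlgebra
  have : IsScalarTower B E k := IsScalarTower.of_algebraMap_eq fun b => by
    show _ = Algebra.TensorProduct.lift (IsScalarTower.toAlgHom A B k) α _ (b ⊗ₜ[A] (1 : p.ResidueField))
    rw [Algebra.TensorProduct.lift_tmul, map_one, mul_one]
    rfl
  have := h p
  exact not_subsingleton (k ⊗[B] M)
    (AlgebraTensorModule.cancelBaseChange B E k k M).symm.toEquiv.subsingleton

section Dimension

variable [Module.Flat A B] {D B₁ : Type u} [CommRing D] [CommRing B₁] [Algebra D A] [Algebra D B₁]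
  [Algebra B₁ B] [Algebra D B] [IsScalarTower D A B] [IsScalarTower D B₁ B]
  [Algebra.IsPushout D A B₁ B] [IsNoetherianRing B₁] [Module.Flat D B₁]

theorem hasProjectiveDimensionLT_iff_fibres (d : ℕ) :
    ∀ (N : Type u) [AddCommGroup N] [Module B N] [Module A N] [IsScalarTower A B N] [Module.Flat A N],
      FlatStage64.HasModel D B₁ B N →
      (HasProjectiveDimensionLT (ModuleCat.of B N) (d + 1) ↔ ∀ p : PrimeSpectrum A,
        HasProjectiveDimensionLT (ModuleCat.of (B ⊗[A] p.asIdeal.ResidueField)
          ((B ⊗[A] p.asIdeal.ResidueField) ⊗[B] N)) (d + 1)) := by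
  induction d with
  | zero =>
    intro N _ _ _ _ _ hm
    simp only [zero_add, ← projective_iff_hasProjectiveDimensionLT_one, ← IsProjective.iff_projective]
    refine ⟨fun h p => inferInstance, fun h => ?_⟩
    have := hm.finitePresentation
    have := flat_of_fibrewise_projective (A := A) N fun p _ => h ⟨p, inferInstance⟩
    exact Module.Flat.projective_of_finitePresentation
  | succ d ih =>
    intro N _ _ _ _ _ hm
    classical
    obtain ⟨n, g, hg, hk⟩ := FlatStage64.HasModel.step D A B₁ B hm
    have : Module.Flat A (Fin n → B) := Module.Flat.of_linearEquiv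
      ((Finsupp.linearEquivFunOnFinite A B (Fin n)).symm ≪≫ₗ finsuppLequivDFinsupp A)
    have : Module.Flat A (LinearMap.ker g) := WE24.flat_ker (g.restrictScalars A) hg
    let i := (LinearMap.ker g).subtype
    have hex : Function.Exact i g := LinearMap.exact_subtype_ker_map g
    let S : ShortComplex (ModuleCat.{u} B) :=
      ShortComplex.mk (ModuleCat.ofHom i) (ModuleCat.ofHom g)
        (ModuleCat.hom_ext (LinearMap.ext fun x => x.2))
    have hS : S.ShortExact := ModuleCat.shortComplex_shortExact _ hex Subtype.val_injective hg
    have : Projective S.X₂ := (IsProjective.iff_projective (R := B) (Fin n → B)).1 inferInstance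
    rw [show HasProjectiveDimensionLT (ModuleCat.of B N) (d + 1 + 1) ↔
        HasProjectiveDimensionLT (ModuleCat.of B (LinearMap.ker g)) (d + 1) from
      hS.hasProjectiveDimensionLT_X₃_iff d this, ih _ hk]
    refine forall_congr' fun p => ?_
    let E := B ⊗[A] p.asIdeal.ResidueField
    let T : ShortComplex (ModuleCat.{u} E) :=
      ShortComplex.mk (ModuleCat.ofHom (i.baseChange E)) (ModuleCat.ofHom (g.baseChange E))
        (ModuleCat.hom_ext (LinearMap.ext fun x =>
          (lTensor_exact E hex hg).apply_apply_eq_zero x))
    have hT : T.ShortExact := ModuleCat.shortComplex_shortExact _ (lTensor_exact E hex hg)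
      (lTensor_baseChange_injective _ i g Subtype.val_injective hg hex) (LinearMap.lTensor_surjective E hg)
    have hT₂ : Projective T.X₂ :=
      (IsProjective.iff_projective (R := E) (E ⊗[B] (Fin n → B))).1 inferInstance
    exact (hT.hasProjectiveDimensionLT_X₃_iff d hT₂).symm

end Dimension

theorem projectiveDimension_eq_iSup_fibres [Algebra.FinitePresentation A B] [Module.Flat A B]
    (M : Type u) [AddCommGroup M] [Module B M] [Module A M] [IsScalarTower A B M]
    [Module.FinitePresentation B M] [Module.Flat A M] :
    projectiveDimension (ModuleCat.of B M) = ⨆ p : PrimeSpectrum A, projectiveDimension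
      (ModuleCat.of (B ⊗[A] p.asIdeal.ResidueField) ((B ⊗[A] p.asIdeal.ResidueField) ⊗[B] M)) := by
  obtain ⟨D, B₁, _, _, _, _, _, _, _, _, hN, hfl, hp, hm⟩ := FlatStage64.exists_flat_model A B M
  refine eq_of_forall_ge_iff fun c => ?_
  rw [iSup_le_iff]
  induction c using WithBot.recBotCoe with
  | bot =>
    simp only [le_bot_iff]
    simp only [projectiveDimension_eq_bot_iff, ModuleCat.isZero_iff_subsingleton]
    exact ⟨fun h p => by
      refine subsingleton_of_forall_eq 0 fun x => ?_
      induction x using TensorProduct.induction_on with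
      | zero => rfl
      | add a b ha hb => rw [ha, hb, add_zero]
      | tmul a b => rw [@Subsingleton.elim M h b 0, tmul_zero],
      fun h => subsingleton_of_fibres (A := A) M fun p _ => h ⟨p, inferInstance⟩⟩
  | coe c =>
    induction c using ENat.recTopCoe with
    | top => exact iff_of_true le_top fun _ => le_top
    | coe n =>
      haveI := hN; haveI := hfl; haveI := hp
      change projectiveDimension _ ≤ (n : WithBot ℕ∞) ↔ ∀ p : PrimeSpectrum A, projectiveDimension _ ≤ (n : WithBot ℕ∞)
      simp only [projectiveDimension_le_iff]
      exact hasProjectiveDimensionLT_iff_fibres n M hm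

theorem exists_projectiveResolution_finite_free [Algebra.FinitePresentation A B] [Module.Flat A B]
    (M : Type u) [AddCommGroup M] [Module B M] [Module A M] [IsScalarTower A B M]
    [Module.FinitePresentation B M] [Module.Flat A M] :
    ∃ P : ProjectiveResolution (ModuleCat.of B M),
      ∀ n : ℕ, Module.Finite B (P.complex.X n) ∧ Module.Free B (P.complex.X n) := by
  classical
  obtain ⟨D, B₁, _, _, _, _, _, _, _, _, hN, hfl, hp, hm⟩ := FlatStage64.exists_flat_model A B M
  let T := {X : ModuleCat.{u} B // FlatStage64.HasModel D B₁ B X}
  have hstep : ∀ X : T, ∃ (m : ℕ) (g : (Fin m → B) →ₗ[B] X.1), Function.Surjective g ∧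
      FlatStage64.HasModel D B₁ B (LinearMap.ker g) := fun X =>
    FlatStage64.HasModel.step D A B₁ B X.2
  choose m g hg hk using hstep
  let next : T → T := fun X => ⟨ModuleCat.of B (LinearMap.ker (g X)), hk X⟩
  let K : ℕ → T := fun n => Nat.rec (⟨ModuleCat.of B M, hm⟩ : T) (fun _ X => next X) n
  let Dt : TorMod7.SyzygyData (ModuleCat.{u} B) :=
    { K := fun n => (K n).1
      P := fun n => ModuleCat.of B (Fin (m (K n)) → B)
      proj := fun n => (IsProjective.iff_projective (R := B) (P := Fin (m (K n)) → B)).1 inferInstance
      ι := fun n => ModuleCat.ofHom (LinearMap.ker (g (K n))).subtype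
      p := fun n => ModuleCat.ofHom (g (K n))
      w := fun n => ModuleCat.hom_ext (LinearMap.ext fun x => x.2)
      shortExact := fun n => ModuleCat.shortComplex_shortExact _
        (LinearMap.exact_subtype_ker_map _) (LinearMap.ker (g (K n))).injective_subtype (hg _) }
  refine ⟨Dt.resolution, fun n => ?_⟩
  show Module.Finite B (Fin (m (K n)) → B) ∧ Module.Free B (Fin (m (K n)) → B)
  exact ⟨inferInstance, inferInstance⟩

end Groth.Agent.E4O
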