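import Groth.Agent.Sk62.GeomRedFibre
import Groth.Agent.Sk62.Open
import Groth.Agent.S0386

/-!
The local rings of the fibres, and properties of them, along an open immersion into the source.
-/

set_option autoImplicit false
universe u

open CategoryTheory AlgebraicGeometry Topology

namespace Groth.Agent.E4O.FibreTransfer

open Sk62

variable {X Y U : Scheme.{u}}

theorem exists_fibreStalk_equiv (j : U ⟶ X) [IsOpenImmersion j] (f : X ⟶ Y) (x : U) :
    Nonempty ((f.fiber (f (j x))).presheaf.stalk (f.asFiber (j x)) ≃+*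
      ((j ≫ f).fiber ((j ≫ f) x)).presheaf.stalk ((j ≫ f).asFiber x)) := by
  have hbij : Function.Bijective (j.stalkMap x).hom :=
    (ConcreteCategory.isIso_iff_bijective (j.stalkMap x)).1 inferInstance
  let e : X.presheaf.stalk (j x) ≃+* U.presheaf.stalk x := RingEquiv.ofBijective _ hbij
  have hmap : ((IsLocalRing.maximalIdeal (Y.presheaf.stalk (f (j x)))).map (f.stalkMap (j x)).hom).map
      e.toRingHom =
      (IsLocalRing.maximalIdeal (Y.presheaf.stalk ((j ≫ f) x))).map ((j ≫ f).stalkMap x).hom := by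
    rw [Scheme.Hom.stalkMap_comp]
    exact Ideal.map_map _ _
  let E₀ : CM62.FibQuot f (j x) ≃+* CM62.FibQuot (j ≫ f) x := Ideal.quotientEquiv _ _ e hmap.symm
  exact ⟨(FlatMor68.FibreStalk.fibreStalkEquivAt f (j x)).symm.trans
    (E₀.trans (FlatMor68.FibreStalk.fibreStalkEquivAt (j ≫ f) x))⟩

theorem fdim_comp (j : U ⟶ X) [IsOpenImmersion j] (f : X ⟶ Y) (x : U) : fdim (j ≫ f) x = fdim f (j x) := by
  obtain ⟨e⟩ := exists_fibreStalk_equiv j f x
  exact (ringKrullDim_eq_of_ringEquiv e).symm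

theorem codepthLE_comp_iff (n : ℕ) (j : U ⟶ X) [IsOpenImmersion j] (f : X ⟶ Y) [LocallyOfFiniteType f] (x : U) :
    x ∈ locus (CodepthLE n) (j ≫ f) ↔ j x ∈ locus (CodepthLE n) f := by
  obtain ⟨e⟩ := exists_fibreStalk_equiv j f x
  have := isLocalRing_noetherian_fibre f (j x)
  have := isLocalRing_noetherian_fibre (j ≫ f) x
  exact ⟨fun h => codepthLE_of_ringEquiv n _ _ e.symm h, fun h => codepthLE_of_ringEquiv n _ _ e h⟩

theorem isGeomReducedAt_comp_iff (j : U ⟶ X) [IsOpenImmersion j] (f : X ⟶ Y) [LocallyOfFinitePresentation f]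
    (x : U) :
    FBase.IsGeomReducedAt ((j ≫ f).fiberToSpecResidueField ((j ≫ f) x)) ((j ≫ f).asFiber x) ↔
      FBase.IsGeomReducedAt (f.fiberToSpecResidueField (f (j x))) (f.asFiber (j x)) := by
  rw [isGeomReducedAt_fibre_iff, isGeomReducedAt_fibre_iff, hasSk_openImmersion_comp_iff,
    Open62.fibreSmooth_openImmersion_comp]
  refine and_congr_right fun _ => ⟨fun h z hz hfz hd => ?_, fun h z hz hfz hd => ?_⟩
  · obtain ⟨w, rfl⟩ : z ∈ Set.range j :=
      hz.mem_open j.isOpenEmbedding.isOpen_range ⟨x, rfl⟩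
    exact h w (j.isOpenEmbedding.isInducing.specializes_iff.1 hz) hfz ((fdim_comp j f w).trans hd)
  · exact h (j z) (hz.map j.continuous) hfz ((fdim_comp j f z).symm.trans hd)

theorem isOpen_flat_and {X Y : Scheme.{u}} (f : X ⟶ Y) [LocallyOfFinitePresentation f] (P : Set X)
    (h : ∀ (U : Scheme.{u}) (j : U ⟶ X) [IsOpenImmersion j] [Flat (j ≫ f)], IsOpen (j ⁻¹' P)) :
    IsOpen {x : X | (f.stalkMap x).hom.Flat ∧ x ∈ P} := by
  let U : X.Opens := ⟨{x : X | (f.stalkMap x).hom.Flat}, S0386.result f⟩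
  have : Flat (U.ι ≫ f) := Flat.of_stalkMap _ fun x => by
    rw [Scheme.Hom.stalkMap_comp]
    exact (RingHom.Flat.respectsIso.cancel_right_isIso _ _).2 x.2
  convert U.isOpen.isOpenMap_subtype_val _ (h U.toScheme U.ι) using 1
  ext x
  exact ⟨fun hx => ⟨⟨x, hx.1⟩, hx.2, rfl⟩, by rintro ⟨a, ha, rfl⟩; exact ⟨a.2, ha⟩⟩

end Groth.Agent.E4O.FibreTransfer
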