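import Groth.Agent.Open62.FiniteTest

/-!
EGA IV 14.4.3 at a point: lifting of generizations at a point maximal in its fibre may be tested on
finite base changes. The proofs are those of `Groth.Agent.Open62.FiniteTest` with the openness
hypothesis weakened to lifting of generizations at the points over the given one.
-/

universe u

open scoped TensorProduct

namespace Groth.Agent.E4O.FiniteTestAt

open Groth.Agent.Open62.FiniteTest (isGeomUnibranch_of_isIntegrallyClosed eq_of_le_of_comap_eq isIntegral_tensor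
  trdeg_quotient_eq trdeg_quotient_anti exists_fg_forall_mem_range)

/-- After every finite base change, generizations lift at the points over `q`. -/
def LiftsAfterFinite {A B : Type u} [CommRing A] [CommRing B] [Algebra A B] (q : Ideal B) : Prop :=
  ∀ (A₁ : Type u) [CommRing A₁] [Algebra A A₁] [Module.Finite A A₁] (Q : Ideal (B ⊗[A] A₁)), Q.IsPrime →
    Q.comap Algebra.TensorProduct.includeLeftRingHom = q →
    ∀ p' : Ideal A₁, p'.IsPrime →
      p' ≤ Q.comap (Algebra.TensorProduct.includeRight : A₁ →ₐ[A] B ⊗[A] A₁).toRingHom →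
      ∃ Q' : Ideal (B ⊗[A] A₁), Q'.IsPrime ∧ Q' ≤ Q ∧
        Q'.comap (Algebra.TensorProduct.includeRight : A₁ →ₐ[A] B ⊗[A] A₁).toRingHom = p'

set_option maxHeartbeats 800000 in
/-- A component of the generic fibre through `qb` of dimension at least that of the fibre at `qb`. -/
theorem exists_component {A B A₀ Ab K : Type u} [CommRing A] [IsNoetherianRing A] [CommRing B]
    [Algebra A B] [Algebra.FiniteType A B] (q : Ideal B) [CommRing A₀] [Algebra A A₀]
    (hsurj : Function.Surjective (algebraMap A A₀)) [IsDomain A₀]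
    [CommRing Ab] [IsDomain Ab] [Algebra A Ab] [Algebra.IsIntegral A Ab] [Field K] [Algebra A₀ K]
    [IsFractionRing A₀ K] [Algebra A K] [IsScalarTower A A₀ K] [Algebra Ab K]
    [IsScalarTower A Ab K] (hι : Function.Injective (algebraMap Ab K))
    (hfin : LiftsAfterFinite (A := A) q)
    (qb : Ideal (Ab ⊗[A] B)) [qb.IsPrime]
    (hqb : qb.comap (Algebra.TensorProduct.includeRight : B →ₐ[A] Ab ⊗[A] B).toRingHom = q) :
    ∃ cb : Ideal (Ab ⊗[A] B), cb.IsPrime ∧ cb ≤ qb ∧
      cb.under Ab = ⊥ ∧ Algebra.trdeg (Ab ⧸ qb.under Ab) ((Ab ⊗[A] B) ⧸ qb) ≤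
        Algebra.trdeg (Ab ⧸ cb.under Ab) ((Ab ⊗[A] B) ⧸ cb) := by
  classical
  let μ : Ab ⊗[A] B →ₐ[A] K ⊗[A] B :=
    Algebra.TensorProduct.map (IsScalarTower.toAlgHom A Ab K) (AlgHom.id A B)
  have : IsNoetherianRing (K ⊗[A] B) := Algebra.FiniteType.isNoetherianRing K _
  have hMfin : (minimalPrimes (K ⊗[A] B)).Finite := minimalPrimes.finite_of_isNoetherianRing _
  let M := {c : Ideal (K ⊗[A] B) //
    c ∈ minimalPrimes (K ⊗[A] B) ∧ ¬ c.comap μ.toRingHom ≤ qb}
  have := hMfin.to_subtype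
  have : Finite M := Finite.of_injective
    (fun c : M => (⟨c.1, c.2.1⟩ : minimalPrimes (K ⊗[A] B)))
    (fun _ _ h => Subtype.ext (Subtype.mk.inj h :))
  choose t htc htq using fun c : M => Set.not_subset.1 c.2.2
  obtain ⟨A₁, hA₁fg, ht⟩ := exists_fg_forall_mem_range t
  have hA₁i : Algebra.IsIntegral A A₁ := ⟨fun x =>
    (isIntegral_algHom_iff A₁.val Subtype.val_injective).1
      (Algebra.IsIntegral.isIntegral (A₁.val x))⟩
  have : Algebra.FiniteType A A₁ := (Subalgebra.fg_iff_finiteType A₁).1 hA₁fg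
  have : Module.Finite A A₁ := Algebra.IsIntegral.finite
  have : IsNoetherianRing A₁ := IsNoetherianRing.of_finite A A₁
  have : Algebra.IsIntegral A₁ Ab := Algebra.IsIntegral.tower_top A
  let S := A₁ ⊗[A] B
  let μ₁ : S →ₐ[A] Ab ⊗[A] B := Algebra.TensorProduct.map A₁.val (AlgHom.id A B)
  let _ : Algebra S (Ab ⊗[A] B) := μ₁.toRingHom.toAlgebra
  have : Algebra.IsIntegral S (Ab ⊗[A] B) :=
    ⟨isIntegral_tensor μ₁ fun b => ⟨(1 : A₁) ⊗ₜ b, rfl⟩⟩
  have hcomm : ∀ r : A₁, algebraMap S (Ab ⊗[A] B) (algebraMap A₁ S r) =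
      algebraMap Ab (Ab ⊗[A] B) (algebraMap A₁ Ab r) := fun r => by
    show μ₁ (r ⊗ₜ[A] 1) = (r : Ab) ⊗ₜ[A] 1
    rfl
  let q₁ := qb.under S
  have hlift : ∀ p' : Ideal A₁, p'.IsPrime → p' ≤ q₁.under A₁ →
      ∃ q' : Ideal S, q'.IsPrime ∧ q' ≤ q₁ ∧ q'.under A₁ = p' := by
    intro p' hp' hle
    let e : B ⊗[A] A₁ ≃ₐ[A] S := Algebra.TensorProduct.comm A B A₁
    have he : e.toRingEquiv.toRingHom.comp
        (Algebra.TensorProduct.includeRight : A₁ →ₐ[A] B ⊗[A] A₁).toRingHom = algebraMap A₁ S :=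
      RingHom.ext fun r => by
        show e (1 ⊗ₜ[A] r) = r ⊗ₜ[A] 1
        rfl
    obtain ⟨Q', hQ', hQ'le, hQ'u⟩ := hfin A₁ (q₁.comap e.toRingEquiv.toRingHom) inferInstance
      (by
        rw [← hqb]
        ext b
        simp only [Ideal.mem_comap, q₁, Ideal.under_def]
        rfl) p' hp' (by rw [Ideal.comap_comap, he]; exact hle)
    refine ⟨Q'.comap e.symm.toRingEquiv.toRingHom, hQ'.comap _, fun x hx => ?_, ?_⟩
    · have h' : e (e.symm x) ∈ q₁ := hQ'le hx
      simpa using h'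
    · rw [← hQ'u, Ideal.under_def, Ideal.comap_comap]
      congr 1
  obtain ⟨q₁', hq₁', hq₁le, hq₁0, hd⟩ := E4O.exists_trdeg_ge_of_lifts q₁ ⊥ bot_le hlift
  -- `q₁'` is the trace of a point of the generic fibre
  let F := q₁'.ResidueField
  let hS : S →ₐ[A] F := IsScalarTower.toAlgHom A S F
  let h₁ : A₁ →ₐ[A] F := hS.comp Algebra.TensorProduct.includeLeft
  have hh₁ : Function.Injective h₁ := (injective_iff_map_eq_zero _).2 fun x hx => by
    have : x ∈ q₁'.under A₁ := (Ideal.algebraMap_residueField_eq_zero (I := q₁')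
      (x := algebraMap A₁ S x)).1 hx
    rwa [hq₁0] at this
  have hAK : ∀ a : A, algebraMap Ab K ((algebraMap A A₁ a : A₁) : Ab) =
      algebraMap A₀ K (algebraMap A A₀ a) := fun a => by
    rw [A₁.coe_algebraMap, ← IsScalarTower.algebraMap_apply, ← IsScalarTower.algebraMap_apply]
  have hK₁ : Function.Injective fun x : A₁ => algebraMap Ab K x := hι.comp Subtype.val_injective
  let ρ : A₀ →+* F := (algebraMap A A₀).liftOfSurjective hsurj ⟨algebraMap A F, fun a ha => by
    rw [RingHom.mem_ker, ← h₁.commutes, show algebraMap A A₁ a = 0 from hK₁ (by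
      show algebraMap Ab K ((algebraMap A A₁ a : A₁) : Ab) = algebraMap Ab K ((0 : A₁) : Ab)
      rw [hAK, RingHom.mem_ker.1 ha]; simp), map_zero]⟩
  have hρA : ∀ a, ρ (algebraMap A A₀ a) = algebraMap A F a :=
    RingHom.liftOfRightInverse_comp_apply _ _ _ _
  have hρ : Function.Injective ρ := (injective_iff_map_eq_zero _).2 fun x hx => by
    obtain ⟨a, rfl⟩ := hsurj x
    rw [hρA] at hx
    have h1 := (injective_iff_map_eq_zero h₁).1 hh₁ _ ((h₁.commutes a).trans hx)
    refine IsFractionRing.injective A₀ K ?_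
    rw [map_zero, ← hAK a, h1]
    simp
  let κF : K →+* F := IsFractionRing.lift hρ
  have hκ : ∀ x : A₁, κF (algebraMap Ab K x) = h₁ x := fun x => by
    obtain ⟨⟨a, s⟩, has⟩ := IsLocalization.surj (nonZeroDivisors A₀) (algebraMap Ab K x)
    obtain ⟨a', ha'⟩ := hsurj a
    obtain ⟨s', hs'⟩ := hsurj s.1
    have he : x * algebraMap A A₁ s' = algebraMap A A₁ a' := hK₁ (by
      show algebraMap Ab K ((x * algebraMap A A₁ s' : A₁) : Ab) = _
      rw [MulMemClass.coe_mul, map_mul, hAK, hs']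
      exact has.trans (by rw [← ha', ← hAK]))
    have h1 := congrArg h₁ he
    rw [map_mul, h₁.commutes, h₁.commutes] at h1
    have h2 := congrArg κF has
    rw [map_mul, IsFractionRing.lift_algebraMap, IsFractionRing.lift_algebraMap, ← ha',
      ← hs', hρA, hρA] at h2
    refine mul_right_cancel₀ ?_ (h2.trans h1.symm)
    rw [← hρA, hs']
    exact (map_ne_zero_iff ρ hρ).2 (nonZeroDivisors.coe_ne_zero s)
  let κF' : K →ₐ[A] F := { κF with
    commutes' := fun a => by
      rw [IsScalarTower.algebraMap_apply A A₀ K]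
      exact (IsFractionRing.lift_algebraMap hρ _).trans (hρA a) }
  let gK : K ⊗[A] B →ₐ[A] F := Algebra.TensorProduct.lift κF'
    (hS.comp Algebra.TensorProduct.includeRight) fun _ _ => Commute.all _ _
  have hgK : gK.comp (μ.comp μ₁) = hS := Algebra.TensorProduct.ext'  fun x b => by
    show gK (μ (μ₁ (x ⊗ₜ[A] b))) = hS (x ⊗ₜ[A] b)
    simp only [μ, μ₁, gK, Algebra.TensorProduct.map_tmul, AlgHom.coe_id, id_eq,
      Algebra.TensorProduct.lift_tmul]
    show κF (algebraMap Ab K x) * hS (1 ⊗ₜ[A] b) = _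
    rw [hκ]
    show hS (x ⊗ₜ[A] 1) * hS (1 ⊗ₜ[A] b) = _
    rw [← map_mul, Algebra.TensorProduct.tmul_mul_tmul, mul_one, one_mul]
  have hQ : (RingHom.ker gK.toRingHom).IsPrime := RingHom.ker_isPrime _
  obtain ⟨c, hc, hcQ⟩ :=
    Ideal.exists_minimalPrimes_le (I := (⊥ : Ideal (K ⊗[A] B))) (J := RingHom.ker gK.toRingHom)
      bot_le
  have := hc.1.1
  let cb := c.comap μ.toRingHom
  have hcq₁ : cb.comap μ₁.toRingHom ≤ q₁' := fun x hx => by
    have h0 : gK (μ (μ₁ x)) = 0 := hcQ hx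
    rw [show gK (μ (μ₁ x)) = hS x from congr($hgK x)] at h0
    exact Ideal.algebraMap_residueField_eq_zero.1 h0
  have hcbq : cb ≤ qb := by
    by_contra hne
    obtain ⟨t₁, ht₁⟩ := ht ⟨c, hc, hne⟩
    refine htq ⟨c, hc, hne⟩ ?_
    rw [← ht₁]
    refine hq₁le (hcq₁ ?_)
    rw [Ideal.mem_comap]
    exact (congrArg (fun y => y ∈ cb) ht₁).mpr (htc ⟨c, hc, hne⟩)
  have hcb0 : cb.under Ab = ⊥ := by
    refine le_bot_iff.1 fun x hx => ?_
    have h0 : algebraMap K (K ⊗[A] B) (algebraMap Ab K x) ∈ c := hx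
    by_contra hx0
    exact hc.1.1.ne_top (Ideal.eq_top_of_isUnit_mem _ h0 ((isUnit_iff_ne_zero.2
      ((map_ne_zero_iff _ hι).2
        fun h => hx0 (by rw [h]; exact Ideal.zero_mem _))).map _))
  refine ⟨cb, hc.1.1.comap _, hcbq, hcb0, ?_⟩
  -- compare the transcendence degrees
  have := hc.1.1.comap μ.toRingHom
  rw [← trdeg_quotient_eq hcomm qb, ← trdeg_quotient_eq hcomm cb]
  have hcu : (cb.under S).under A₁ = ⊥ := by
    refine le_bot_iff.1 fun x hx => ?_
    have h0 : (x : Ab) ∈ cb.under Ab := by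
      change algebraMap S (Ab ⊗[A] B) (algebraMap A₁ S x) ∈ cb at hx
      rw [hcomm] at hx
      exact hx
    rw [hcb0] at h0
    exact Subtype.ext h0
  have : (cb.under S).LiesOver (⊥ : Ideal A₁) := ⟨hcu.symm⟩
  have : q₁'.LiesOver (⊥ : Ideal A₁) := ⟨hq₁0.symm⟩
  rw [E4O.trdeg_congr_under (cb.under S) ⊥ hcu]
  refine le_trans ?_ (trdeg_quotient_anti ⊥ (show cb.under S ≤ q₁' from hcq₁))
  rw [E4O.trdeg_congr_under q₁' ⊥ hq₁0] at hd
  rw [← Cardinal.cast_toNat_of_lt_aleph0
      (E4O.trdeg_quotient_lt_aleph0 A₁ S (q₁.under A₁) q₁),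
    ← Cardinal.cast_toNat_of_lt_aleph0 (E4O.trdeg_quotient_lt_aleph0 A₁ S ⊥ q₁')]
  exact Nat.cast_le.2 hd

set_option maxHeartbeats 800000 in
/-- Lifting along a normal base. -/
theorem exists_le_tensor_aux {A B A' Ab L : Type u} [CommRing A] [CommRing B] [Algebra A B]
    [Algebra.FiniteType A B] [CommRing A'] [Algebra A A'] [Algebra.FiniteType A A']
    [CommRing Ab] [IsDomain Ab] [IsIntegrallyClosed Ab] [Algebra A Ab] [Algebra.IsIntegral A Ab]
    [Field L] [Algebra A L] (q : Ideal B)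
    (hmax : ∀ q' : Ideal B, q'.IsPrime → q' ≤ q → q'.under A = q.under A → q' = q)
    (hcomp : ∀ qb : Ideal (Ab ⊗[A] B), qb.IsPrime →
      qb.comap (Algebra.TensorProduct.includeRight : B →ₐ[A] Ab ⊗[A] B).toRingHom = q → ∃ cb : Ideal (Ab ⊗[A] B), cb.IsPrime ∧ cb ≤ qb ∧
      cb.under Ab = ⊥ ∧ Algebra.trdeg (Ab ⧸ qb.under Ab) ((Ab ⊗[A] B) ⧸ qb) ≤
        Algebra.trdeg (Ab ⧸ cb.under Ab) ((Ab ⊗[A] B) ⧸ cb))
    (z : Ideal (B ⊗[A] A')) (hz : z.comap Algebra.TensorProduct.includeLeftRingHom = q)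
    (gz : B ⊗[A] A' →ₐ[A] L) (hgz : RingHom.ker gz.toRingHom = z)
    (g₂ : Ab ⊗[A] A' →ₐ[A] L)
    (hg₂ : g₂.comp (Algebra.TensorProduct.includeRight : A' →ₐ[A] Ab ⊗[A] A') =
      gz.comp Algebra.TensorProduct.includeRight)
    (wb : Ideal (Ab ⊗[A] A')) [wb.IsPrime] (hwbw₂ : wb ≤ RingHom.ker g₂.toRingHom)
    (w' : Ideal A')
    (hwb1 : wb.comap (Algebra.TensorProduct.includeRight : A' →ₐ[A] Ab ⊗[A] A').toRingHom = w') :
    ∃ z' : Ideal (B ⊗[A] A'), z'.IsPrime ∧ z' ≤ z ∧
      z'.comap (Algebra.TensorProduct.includeRight : A' →ₐ[A] B ⊗[A] A').toRingHom = w' := by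
  let f₂ : A' →ₐ[A] Ab ⊗[A] A' := Algebra.TensorProduct.includeRight
  let β : B →ₐ[A] L := gz.comp Algebra.TensorProduct.includeLeft
  let α : Ab →ₐ[A] L := g₂.comp Algebra.TensorProduct.includeLeft
  let gB : Ab ⊗[A] B →ₐ[A] L := Algebra.TensorProduct.lift α β fun _ _ => Commute.all _ _
  let qb := RingHom.ker gB.toRingHom
  have hqb : qb.IsPrime := RingHom.ker_isPrime _
  let fB : B →ₐ[A] Ab ⊗[A] B := Algebra.TensorProduct.includeRight
  have hqbB : qb.comap fB.toRingHom = q := by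
    rw [RingHom.comap_ker, show gB.toRingHom.comp fB.toRingHom = gz.toRingHom.comp
        Algebra.TensorProduct.includeLeftRingHom from RingHom.ext fun b => by
          show gB (1 ⊗ₜ[A] b) = β b
          simp [gB], ← RingHom.comap_ker, hgz, hz]
  have hfB : fB.toRingHom.IsIntegral := isIntegral_tensor fB fun b => ⟨b, rfl⟩
  have hqbA : (qb.under Ab).under A = q.under A := by
    conv_rhs => rw [← hqbB]
    ext a
    simp only [Ideal.under_def, Ideal.mem_comap, AlgHom.toRingHom_eq_coe, AlgHom.coe_toRingHom,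
      AlgHom.commutes, ← IsScalarTower.algebraMap_apply]
  have hmax' : ∀ q' : Ideal (Ab ⊗[A] B), q'.IsPrime → q' ≤ qb → q'.under Ab = qb.under Ab →
      q' = qb := by
    intro q' hq' hle hu
    refine eq_of_le_of_comap_eq fB.toRingHom hfB hle ?_
    rw [hqbB]
    refine hmax _ (hq'.comap _) (hqbB ▸ Ideal.comap_mono hle) ?_
    rw [← hqbA, ← hu]
    ext a
    simp only [Ideal.under_def, Ideal.mem_comap, AlgHom.toRingHom_eq_coe, AlgHom.coe_toRingHom,
      AlgHom.commutes, ← IsScalarTower.algebraMap_apply]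
  -- apply the criterion over the normal base
  let _ : Algebra Ab L := α.toRingHom.toAlgebra
  let gB' : Ab ⊗[A] B →ₐ[Ab] L := { gB.toRingHom with
    commutes' := fun a => by
      show gB (a ⊗ₜ[A] 1) = α a
      simp [gB] }
  let g₂'' : Ab ⊗[A] A' →ₐ[Ab] L := { g₂.toRingHom with
    commutes' := fun a => rfl }
  let T := (Ab ⊗[A] B) ⊗[Ab] (Ab ⊗[A] A')
  let gT : T →ₐ[Ab] L := Algebra.TensorProduct.lift gB' g₂'' fun _ _ => Commute.all _ _
  let zb := RingHom.ker gT.toRingHom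
  have hzb : zb.IsPrime := RingHom.ker_isPrime _
  have hzq : zb.comap Algebra.TensorProduct.includeLeftRingHom = qb := by
    rw [RingHom.comap_ker]
    congr 1
    refine RingHom.ext fun x => ?_
    show gT (x ⊗ₜ[Ab] 1) = gB x
    exact (Algebra.TensorProduct.lift_tmul _ _ _ _ _).trans (by rw [map_one, mul_one]; rfl)
  have hzw : wb ≤ zb.comap
      (Algebra.TensorProduct.includeRight : Ab ⊗[A] A' →ₐ[Ab] T).toRingHom := by
    rw [RingHom.comap_ker, show gT.toRingHom.comp
      (Algebra.TensorProduct.includeRight : Ab ⊗[A] A' →ₐ[Ab] T).toRingHom = g₂.toRingHom from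
      RingHom.ext fun x => by
        show gT (1 ⊗ₜ[Ab] x) = g₂ x
        exact (Algebra.TensorProduct.lift_tmul _ _ _ _ _).trans (by rw [map_one, one_mul]; rfl)]
    exact hwbw₂
  let Ap := Localization.AtPrime (qb.under Ab)
  have : IsIntegrallyClosed Ap := isIntegrallyClosed_of_isLocalization Ap
    (qb.under Ab).primeCompl (Ideal.primeCompl_le_nonZeroDivisors _)
  obtain ⟨cb, hcb, hcle, hc0, hdeg⟩ := hcomp qb hqb hqbB
  obtain ⟨zc, hzc, hzcz, hzcw⟩ := E4O.Gen.exists_le_tensor_of_geomUnibranch (A' := Ab ⊗[A] A')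
    cb qb hcle Ap (isGeomUnibranch_of_isIntegrallyClosed Ap)
    (fun p' _ _ => by rw [hc0]; exact bot_le) hmax' hdeg zb hzq wb hzw
  let Ψ : B ⊗[A] A' →ₐ[A] T := Algebra.TensorProduct.lift
    ((Algebra.TensorProduct.includeLeft : Ab ⊗[A] B →ₐ[A] T).comp fB)
    (((Algebra.TensorProduct.includeRight : Ab ⊗[A] A' →ₐ[Ab] T).restrictScalars A).comp f₂)
    fun _ _ => Commute.all _ _
  have l1 : ∀ x, gT (x ⊗ₜ[Ab] 1) = gB x := fun x =>
    (Algebra.TensorProduct.lift_tmul _ _ _ _ _).trans (by rw [map_one, mul_one]; rfl)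
  have l2 : ∀ x, gT (1 ⊗ₜ[Ab] x) = g₂ x := fun x =>
    (Algebra.TensorProduct.lift_tmul _ _ _ _ _).trans (by rw [map_one, one_mul]; rfl)
  have hΨ : gT.toRingHom.comp Ψ.toRingHom = gz.toRingHom := by
    refine RingHom.ext fun x => ?_
    induction x using TensorProduct.induction_on with
    | zero => simp
    | add x y hx hy => rw [map_add, map_add, hx, hy]
    | tmul b a =>
      show gT (Ψ (b ⊗ₜ[A] a)) = gz (b ⊗ₜ[A] a)
      simp only [Ψ, gT, fB, f₂, Algebra.TensorProduct.lift_tmul, AlgHom.comp_apply,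
        AlgHom.restrictScalars_apply, Algebra.TensorProduct.includeLeft_apply,
        Algebra.TensorProduct.includeRight_apply, map_mul, map_one, mul_one, one_mul]
      refine (congrArg₂ (· * ·) (l1 _) (l2 _)).trans ?_
      show gB (1 ⊗ₜ[A] b) * g₂ (f₂ a) = _
      rw [show g₂ (f₂ a) = gz (1 ⊗ₜ[A] a) from congr($hg₂ a),
        show b ⊗ₜ[A] a = (b ⊗ₜ[A] (1 : A')) * ((1 : B) ⊗ₜ[A] a) by simp, map_mul]
      simp [gB, β]
  refine ⟨zc.comap Ψ.toRingHom, hzc.comap _, ?_, ?_⟩
  · rw [← hgz, ← hΨ, ← RingHom.comap_ker]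
    exact Ideal.comap_mono hzcz
  · rw [← hwb1, ← hzcw, Ideal.comap_comap, Ideal.comap_comap]
    congr 1
    refine RingHom.ext fun a => ?_
    show Ψ (1 ⊗ₜ[A] a) = _
    simp [Ψ, f₂]
    exact one_mul _

set_option maxHeartbeats 800000 in
set_option synthInstance.maxHeartbeats 200000 in
/-- The key point, with the normal base given abstractly. -/
theorem exists_le_tensor_of_model {A B A' A₀ Ab K : Type u} [CommRing A] [IsNoetherianRing A]
    [CommRing B] [Algebra A B] [Algebra.FiniteType A B] [CommRing A'] [Algebra A A']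
    [Algebra.FiniteType A A'] [CommRing A₀] [Algebra A A₀] [IsDomain A₀]
    (hsurj : Function.Surjective (algebraMap A A₀))
    [CommRing Ab] [IsDomain Ab] [IsIntegrallyClosed Ab] [Algebra A Ab] [Algebra.IsIntegral A Ab]
    [Field K] [Algebra A₀ K] [IsFractionRing A₀ K] [Algebra A K] [IsScalarTower A A₀ K]
    [Algebra Ab K] [IsScalarTower A Ab K] (hι : Function.Injective (algebraMap Ab K))
    (q : Ideal B) [q.IsPrime]
    (hmax : ∀ q' : Ideal B, q'.IsPrime → q' ≤ q → q'.under A = q.under A → q' = q)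
    (hfin : LiftsAfterFinite (A := A) q)
    (z : Ideal (B ⊗[A] A')) [z.IsPrime]
    (hz : z.comap Algebra.TensorProduct.includeLeftRingHom = q) (w' : Ideal A') [w'.IsPrime]
    (hker : RingHom.ker (algebraMap A A₀) = w'.under A)
    (hw : w' ≤ z.comap (Algebra.TensorProduct.includeRight : A' →ₐ[A] B ⊗[A] A').toRingHom) :
    ∃ z' : Ideal (B ⊗[A] A'), z'.IsPrime ∧ z' ≤ z ∧
      z'.comap (Algebra.TensorProduct.includeRight : A' →ₐ[A] B ⊗[A] A').toRingHom = w' := by
  classical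
  let L₀ := w'.ResidueField
  let ι₀ : A₀ →+* L₀ := (algebraMap A A₀).liftOfSurjective hsurj ⟨algebraMap A L₀, fun a ha => by
    rw [RingHom.mem_ker, IsScalarTower.algebraMap_apply A A' L₀,
      Ideal.algebraMap_residueField_eq_zero]
    exact hker.le ha⟩
  have hι₀A : ∀ a, ι₀ (algebraMap A A₀ a) = algebraMap A L₀ a :=
    RingHom.liftOfRightInverse_comp_apply _ _ _ _
  have hι₀ : Function.Injective ι₀ := (injective_iff_map_eq_zero _).2 fun x hx => by
    obtain ⟨a, rfl⟩ := hsurj x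
    refine RingHom.mem_ker.1 (hker.ge ?_)
    rw [hι₀A] at hx
    rw [IsScalarTower.algebraMap_apply A A' L₀, Ideal.algebraMap_residueField_eq_zero] at hx
    exact hx
  let κ₀ : K →+* L₀ := IsFractionRing.lift hι₀
  let αw : Ab →ₐ[A] L₀ :=
    { κ₀.comp (algebraMap Ab K) with
      commutes' := fun a => by
        show κ₀ (algebraMap Ab K (algebraMap A Ab a)) = _
        rw [← IsScalarTower.algebraMap_apply A Ab K, IsScalarTower.algebraMap_apply A A₀ K,
          IsFractionRing.lift_algebraMap]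
        exact hι₀A a }
  have hαw : Function.Injective αw :=
    κ₀.injective.comp hι
  let f₂ : A' →ₐ[A] Ab ⊗[A] A' := Algebra.TensorProduct.includeRight
  let gw : Ab ⊗[A] A' →ₐ[A] L₀ :=
    Algebra.TensorProduct.lift αw (IsScalarTower.toAlgHom A A' L₀) fun _ _ => Commute.all _ _
  let wb := RingHom.ker gw.toRingHom
  have hwb : wb.IsPrime := RingHom.ker_isPrime _
  have hwb1 : wb.comap f₂.toRingHom = w' := by
    rw [RingHom.comap_ker,
      show gw.toRingHom.comp f₂.toRingHom = algebraMap A' L₀ from RingHom.ext fun a => by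
        simp [gw, f₂], Ideal.ker_algebraMap_residueField]
  let P := z.comap (Algebra.TensorProduct.includeRight : A' →ₐ[A] B ⊗[A] A').toRingHom
  have hf₂ := isIntegral_tensor f₂ fun a => ⟨a, rfl⟩
  obtain ⟨w₂, hw₂, hwbw₂, hw₂P⟩ : ∃ w₂ : Ideal (Ab ⊗[A] A'),
      w₂.IsPrime ∧ wb ≤ w₂ ∧ w₂.comap f₂.toRingHom = P := by
    let _ : Algebra A' (Ab ⊗[A] A') := f₂.toRingHom.toAlgebra
    have : Algebra.IsIntegral A' (Ab ⊗[A] A') := ⟨hf₂⟩
    obtain ⟨w₂, h1, h2, h3⟩ :=
      Ideal.exists_ideal_over_prime_of_isIntegral_of_isPrime P wb (hwb1.le.trans hw)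
    exact ⟨w₂, h2, h1, h3⟩
  -- a field over `z` and `w₂`
  let L := AlgebraicClosure z.ResidueField
  let gz : B ⊗[A] A' →ₐ[A] L :=
    (IsScalarTower.toAlgHom A z.ResidueField L).comp (IsScalarTower.toAlgHom A _ z.ResidueField)
  have hgz : RingHom.ker gz.toRingHom = z := by
    ext x
    exact (map_eq_zero_iff _ (algebraMap z.ResidueField L).injective).trans
      Ideal.algebraMap_residueField_eq_zero
  let gP : A' →+* L :=
    gz.toRingHom.comp (Algebra.TensorProduct.includeRight : A' →ₐ[A] B ⊗[A] A').toRingHom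
  have hgP : RingHom.ker gP = P := by rw [← RingHom.comap_ker, hgz]
  obtain ⟨g₂, hg₂, hg₂k⟩ : ∃ g₂ : Ab ⊗[A] A' →+* L,
      g₂.comp f₂.toRingHom = gP ∧ RingHom.ker g₂ = w₂ := by
    let E := (Ab ⊗[A] A') ⧸ w₂
    let _ : Algebra (A' ⧸ P) E := (Ideal.quotientMap w₂ f₂.toRingHom hw₂P.ge).toAlgebra
    let _ : Algebra (A' ⧸ P) L := (Ideal.Quotient.lift P gP fun a ha => hgP.ge ha).toAlgebra
    have : FaithfulSMul (A' ⧸ P) E := (faithfulSMul_iff_algebraMap_injective _ _).2
      (Ideal.quotientMap_injective' hw₂P.le)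
    have : FaithfulSMul (A' ⧸ P) L := (faithfulSMul_iff_algebraMap_injective _ _).2
      (RingHom.lift_injective_of_ker_le_ideal P _ hgP.le)
    have : Algebra.IsIntegral (A' ⧸ P) E := ⟨fun x => by
      obtain ⟨x, rfl⟩ := Ideal.Quotient.mk_surjective x
      let _ : Algebra A' (Ab ⊗[A] A') := f₂.toRingHom.toAlgebra
      exact (show IsIntegral A' x from hf₂ x).map_of_comp_eq (Ideal.Quotient.mk P)
        (Ideal.Quotient.mk w₂) rfl⟩
    let h : E →ₐ[A' ⧸ P] L := IsAlgClosed.lift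
    have hh : Function.Injective h := by
      rw [← AlgHom.coe_toRingHom, RingHom.injective_iff_ker_eq_bot]
      refine Ideal.IsIntegral.eq_bot_of_comap_eq_bot (A' ⧸ P) ?_
      rw [RingHom.comap_ker, ← RingHom.injective_iff_ker_eq_bot, h.comp_algebraMap]
      exact FaithfulSMul.algebraMap_injective _ _
    refine ⟨h.toRingHom.comp (Ideal.Quotient.mk w₂), RingHom.ext fun a => ?_, ?_⟩
    · exact h.commutes (Ideal.Quotient.mk P a)
    · rw [← RingHom.comap_ker, (RingHom.injective_iff_ker_eq_bot h.toRingHom).1 hh, ← RingHom.ker_eq_comap_bot,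
        Ideal.mk_ker]
  let g₂' : Ab ⊗[A] A' →ₐ[A] L := { g₂ with
    commutes' := fun a => by
      show g₂ (algebraMap A (Ab ⊗[A] A') a) = _
      rw [← f₂.commutes a]
      refine (congr($hg₂ (algebraMap A A' a))).trans ?_
      exact ((congrArg gz (AlgHom.commutes _ a)).trans (gz.commutes a)) }
  exact exists_le_tensor_aux q hmax
    (fun qb _ h => exists_component (A₀ := A₀) (K := K) q hsurj hι hfin qb h)
    z hz gz hgz g₂' (AlgHom.ext fun a => congr($hg₂ a)) wb (hwbw₂.trans hg₂k.ge) w' hwb1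

/-- The key point: over a Noetherian ring, if every finite base change of `Spec B → Spec A` is open,
then after a base change of finite type generizations lift to a point over `q` minimal in its
fibre. -/
theorem exists_le_tensor_of_finite {A B A' : Type u} [CommRing A] [IsNoetherianRing A] [CommRing B]
    [Algebra A B] [Algebra.FiniteType A B] [CommRing A'] [Algebra A A'] [Algebra.FiniteType A A']
    (q : Ideal B) [q.IsPrime]
    (hmax : ∀ q' : Ideal B, q'.IsPrime → q' ≤ q → q'.under A = q.under A → q' = q)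
    (hfin : LiftsAfterFinite (A := A) q)
    (z : Ideal (B ⊗[A] A')) [z.IsPrime]
    (hz : z.comap Algebra.TensorProduct.includeLeftRingHom = q) (w' : Ideal A') [w'.IsPrime]
    (hw : w' ≤ z.comap (Algebra.TensorProduct.includeRight : A' →ₐ[A] B ⊗[A] A').toRingHom) :
    ∃ z' : Ideal (B ⊗[A] A'), z'.IsPrime ∧ z' ≤ z ∧
      z'.comap (Algebra.TensorProduct.includeRight : A' →ₐ[A] B ⊗[A] A').toRingHom = w' := by
  have := Open62.FiniteTest.finiteModel (w'.under A)
  have : IsIntegrallyClosed (integralClosure (A ⧸ w'.under A) (FractionRing (A ⧸ w'.under A))) :=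
    integralClosure.isIntegrallyClosedOfFiniteExtension (FractionRing (A ⧸ w'.under A))
  exact exists_le_tensor_of_model (A₀ := A ⧸ w'.under A)
    (Ab := integralClosure (A ⧸ w'.under A) (FractionRing (A ⧸ w'.under A)))
    (K := FractionRing (A ⧸ w'.under A)) Ideal.Quotient.mk_surjective Subtype.val_injective
    q hmax hfin z hz w' Ideal.mk_ker hw

end Groth.Agent.E4O.FiniteTestAt
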