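import Groth.Agent.E4O.FiniteTestAt
import Groth.Agent.Open62.FiniteTestScheme

/-!
EGA IV 14.4.3: universal openness at a maximal point of a fibre may be tested on finite base changes.
-/

universe u

open CategoryTheory AlgebraicGeometry Limits
open scoped TensorProduct

namespace Groth.Agent.E4O

/-- Universal openness at a point maximal in its fibre follows from openness after finite base changes. -/
theorem isUnivOpenAt_of_forall_finite {X Y : Scheme.{u}} [IsNoetherian Y] (f : X ⟶ Y)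
    [LocallyOfFiniteType f] {x : X} (hmax : IsFibreMax f x)
    (h : ∀ (Y₁ : Scheme.{u}) (g : Y₁ ⟶ Y) [IsFinite g] (x' : ↥(pullback f g)), pullback.fst f g x' = x →
      EGA43.IsOpenAt (pullback.snd f g).base x') :
    EGA43.IsUnivOpenAt f x := by
  have : LocallyOfFinitePresentation f := locallyOfFinitePresentation_of_isLocallyNoetherian f
  refine isUnivOpenAt_of_forall_finiteType fun W _ w _ z hz => ?_
  rw [isOpenAt_iff_forall_exists_specializes]
  intro w' hw'
  obtain ⟨C, ⟨q, rfl⟩, hC⟩ := exists_chart f x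
  have := hC inferInstance
  have hwz : w (pullback.snd f w z) = C.ptY (PrimeSpectrum.comap (algebraMap C.A C.B) q) := by
    rw [← C.apply q, ← hz]
    simp only [← Scheme.Hom.comp_apply, pullback.condition]
  obtain ⟨_, ⟨Wa, hWa, rfl⟩, hzW, hWsub⟩ :=
    W.isBasis_affineOpens.exists_subset_of_mem_open
      (show pullback.snd f w z ∈ w ⁻¹' Set.range C.j from ⟨_, hwz.symm⟩)
      (C.j.isOpenEmbedding.isOpen_range.preimage w.continuous)
  replace hWa : IsAffineOpen Wa := hWa
  have := hWa.isOpenImmersion_fromSpec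
  let v : Spec Γ(W, Wa) ⟶ Spec (CommRingCat.of C.A) :=
    IsOpenImmersion.lift C.j (hWa.fromSpec ≫ w) (by
      rintro _ ⟨t, rfl⟩
      exact hWsub (hWa.range_fromSpec.le ⟨t, rfl⟩))
  have hv : v ≫ C.j = hWa.fromSpec ≫ w := IsOpenImmersion.lift_fac _ _ _
  obtain ⟨φ, hφ⟩ := Spec.map_surjective v
  let _ : Algebra C.A Γ(W, Wa) := φ.hom.toAlgebra
  have hftW : Algebra.FiniteType C.A Γ(W, Wa) := by
    have hft : LocallyOfFiniteType v := by
      have : LocallyOfFiniteType (v ≫ C.j) := by rw [hv]; infer_instance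
      exact locallyOfFiniteType_of_comp v C.j
    rw [← hφ, HasRingHomProperty.Spec_iff (P := @LocallyOfFiniteType)] at hft
    exact hft
  have hj : hWa.fromSpec ≫ w = Spec.map (CommRingCat.ofHom (algebraMap C.A Γ(W, Wa))) ≫ C.j := by
    rw [← hv, ← hφ]
    rfl
  obtain ⟨e, he, he1, he2, her⟩ := exists_tensor_chart f w C.e hWa.fromSpec C.j C.comm hj
  obtain ⟨zc, rfl⟩ : z ∈ Set.range e := by
    rw [her]
    exact ⟨⟨q, hz.symm⟩, by rw [Set.mem_preimage, hWa.range_fromSpec]; exact hzW⟩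
  have hsnd : ∀ t, pullback.snd f w (e t) = hWa.fromSpec (PrimeSpectrum.comap
      (Algebra.TensorProduct.includeRight : Γ(W, Wa) →ₐ[C.A] C.B ⊗[C.A] Γ(W, Wa)).toRingHom t) :=
    fun t => ((Scheme.Hom.comp_apply e (pullback.snd f w) t).symm.trans
      (congrArg (fun k : _ ⟶ W => k t) he2))
  have hfst : pullback.fst f w (e zc) =
      C.pt (PrimeSpectrum.comap Algebra.TensorProduct.includeLeftRingHom zc) :=
    (Scheme.Hom.comp_apply e (pullback.fst f w) zc).symm.trans
      (congrArg (fun k : _ ⟶ X => k zc) he1)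
  rw [hfst] at hz
  have hzq := congrArg PrimeSpectrum.asIdeal (C.isOpenEmbedding_pt.injective hz)
  rw [hsnd] at hw'
  obtain ⟨wc, rfl⟩ := hw'.mem_open hWa.fromSpec.isOpenEmbedding.isOpen_range ⟨_, rfl⟩
  have hmax' : ∀ q' : Ideal C.B, q'.IsPrime → q' ≤ q.asIdeal →
      q'.under C.A = q.asIdeal.under C.A → q' = q.asIdeal := fun q' hq' hle hu => by
    have := hmax (C.pt ⟨q', hq'⟩) ((C.specializes_iff _ _).2 hle)
      (by rw [C.apply, C.apply]; exact congrArg C.ptY (PrimeSpectrum.ext hu))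
    exact congrArg PrimeSpectrum.asIdeal (C.isOpenEmbedding_pt.injective this)
  -- generizations lift in the finite base changes of the chart
  have hfin : FiniteTestAt.LiftsAfterFinite (A := C.A) q.asIdeal := by
    intro A₁ _ _ _ Q hQ hQq p' hp' hle
    have : IsFinite (Spec.map (CommRingCat.ofHom (algebraMap C.A A₁))) :=
      (IsFinite.SpecMap_iff _).2 (RingHom.finite_algebraMap.2 ‹_›)
    have : IsNoetherianRing A₁ := IsNoetherianRing.of_finite C.A A₁
    obtain ⟨Y₁, g, i, hg, hi, hig⟩ :=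
      Open62.FiniteTest.exists_finite_extension (Spec.map (CommRingCat.ofHom (algebraMap C.A A₁)) ≫ C.j)
    have : IsLocallyNoetherian Y₁ := LocallyOfFiniteType.isLocallyNoetherian g
    obtain ⟨e₁, he₁, he₁1, he₁2, he₁r⟩ := exists_tensor_chart f g C.e i C.j C.comm hig
    have hsnd₁ : ∀ t, pullback.snd f g (e₁ t) = i (PrimeSpectrum.comap
        (Algebra.TensorProduct.includeRight : A₁ →ₐ[C.A] C.B ⊗[C.A] A₁).toRingHom t) :=
      fun t => (Scheme.Hom.comp_apply e₁ (pullback.snd f g) t).symm.trans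
        (congrArg (fun k : _ ⟶ Y₁ => k t) he₁2)
    have hfst₁ : pullback.fst f g (e₁ ⟨Q, hQ⟩) = C.pt q :=
      ((Scheme.Hom.comp_apply e₁ (pullback.fst f g) (⟨Q, hQ⟩ : PrimeSpectrum (C.B ⊗[C.A] A₁))).symm.trans
        (congrArg (fun k : _ ⟶ X => k (⟨Q, hQ⟩ : PrimeSpectrum (C.B ⊗[C.A] A₁))) he₁1)).trans
          (congrArg C.pt (PrimeSpectrum.ext hQq))
    have : LocallyOfFinitePresentation (pullback.snd f g) := inferInstance
    have hop := isOpenAt_iff_forall_exists_specializes.1 (h Y₁ g (e₁ ⟨Q, hQ⟩) hfst₁)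
    obtain ⟨z', hz', hz'Q⟩ := hop (i ⟨p', hp'⟩) (by
      rw [hsnd₁]
      exact ((PrimeSpectrum.le_iff_specializes ⟨p', hp'⟩ _).1 hle).map i.continuous)
    obtain ⟨Q', rfl⟩ := hz'Q.mem_open e₁.isOpenEmbedding.isOpen_range ⟨_, rfl⟩
    rw [hsnd₁] at hz'
    refine ⟨Q'.asIdeal, Q'.isPrime, ?_, congrArg PrimeSpectrum.asIdeal (i.isOpenEmbedding.injective hz')⟩
    exact (PrimeSpectrum.le_iff_specializes Q' ⟨Q, hQ⟩).2 (e₁.isOpenEmbedding.isInducing.specializes_iff.1 hz'Q)
  have : zc.asIdeal.IsPrime := zc.isPrime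
  have : wc.asIdeal.IsPrime := wc.isPrime
  obtain ⟨z', hz', hz'z, hz'w⟩ := FiniteTestAt.exists_le_tensor_of_finite (A' := Γ(W, Wa)) q.asIdeal hmax' hfin
    zc.asIdeal hzq wc.asIdeal ((PrimeSpectrum.le_iff_specializes _ _).2
      (hWa.fromSpec.isOpenEmbedding.isInducing.specializes_iff.1 hw'))
  refine ⟨e ⟨z', hz'⟩, ?_, ((PrimeSpectrum.le_iff_specializes ⟨z', hz'⟩ zc).1 hz'z).map e.continuous⟩
  exact (hsnd ⟨z', hz'⟩).trans (congrArg hWa.fromSpec (PrimeSpectrum.ext hz'w))

end Groth.Agent.E4O
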