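import Groth.Agent.GenFree62.Generic
import Groth.Agent.Helper62.FlatNil
import Groth.Agent.Stage62.ModuleModel
import Mathlib.RingTheory.IsTensorProduct
import Mathlib.RingTheory.Spectrum.Prime.Topology
import Mathlib.RingTheory.Ideal.Quotient.Operations
import Mathlib.RingTheory.Ideal.Quotient.Noetherian
import Mathlib.RingTheory.FiniteStability
import Mathlib.RingTheory.Noetherian.Nilpotent

/-!
EGA IV 11.4: over a base with irreducible spectrum, a finitely presented module has, generically, a
flattening ideal contained in the nilradical.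
-/

set_option autoImplicit false
set_option linter.style.haveILetI false

universe u

open TensorProduct

namespace Groth.Agent.E4O.FlatGeneric

/-- The flattening ideal over a Noetherian base with irreducible spectrum. -/
theorem exists_noetherian {R : Type u} [CommRing R] [IsNoetherianRing R] (hp : (nilradical R).IsPrime)
    {B M : Type u} [CommRing B] [Algebra R B] [Algebra.FiniteType R B] [AddCommGroup M] [Module R M]
    [Module B M] [IsScalarTower R B M] [Module.Finite B M] :
    ∃ h ∉ nilradical R, ∃ J ≤ nilradical R, ∀ (A' : Type u) [CommRing A'] [Algebra R A'],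
      IsUnit (algebraMap R A' h) → (Module.Flat A' (A' ⊗[R] M) ↔ J.map (algebraMap R A') = ⊥) := by
  classical
  haveI := hp
  let p := nilradical R
  let Q := R ⧸ p
  letI : Algebra B (Q ⊗[R] B) := Algebra.TensorProduct.rightAlgebra
  haveI : IsScalarTower R B (Q ⊗[R] B) := Algebra.TensorProduct.right_isScalarTower
  haveI : IsDomain Q := Ideal.Quotient.isDomain p
  haveI : IsNoetherianRing Q := inferInstanceAs (IsNoetherianRing (R ⧸ p))
  obtain ⟨f, hf0, hf⟩ := GenFree62.exists_freeAway (A := Q) (B := Q ⊗[R] B) (M := (Q ⊗[R] B) ⊗[B] M)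
  have hf' : GenFree62.FreeAway f (Q ⊗[R] M) :=
    hf.of_equiv (Algebra.IsPushout.cancelBaseChange R Q B (Q ⊗[R] B) M)
  obtain ⟨h, rfl⟩ := Ideal.Quotient.mk_surjective f
  have hh : h ∉ p := fun H => hf0 (Ideal.Quotient.eq_zero_iff_mem.mpr H)
  let L := Localization.Away h
  let K := p.map (algebraMap R L)
  have hK : IsNilpotent K := by
    obtain ⟨n, hn⟩ := IsNoetherianRing.isNilpotent_nilradical R
    exact ⟨n, by rw [← Ideal.map_pow, hn]; simp⟩
  letI : Algebra Q (L ⧸ K) := (Ideal.quotientMap K (algebraMap R L) Ideal.le_comap_map).toAlgebra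
  haveI : IsScalarTower R Q (L ⧸ K) := IsScalarTower.of_algebraMap_eq fun a => rfl
  have hu : IsUnit (algebraMap Q (L ⧸ K) (Ideal.Quotient.mk p h)) := by
    show IsUnit (algebraMap R (L ⧸ K) h)
    rw [IsScalarTower.algebraMap_apply R L (L ⧸ K)]
    exact (IsLocalization.Away.algebraMap_isUnit h).map _
  haveI := hf' (L ⧸ K) hu
  have hfree : Module.Free (L ⧸ K) ((L ⧸ K) ⊗[L] (L ⊗[R] M)) := Module.Free.of_equiv
    ((AlgebraTensorModule.cancelBaseChange R Q (L ⧸ K) (L ⧸ K) M) ≪≫ₗ
      (AlgebraTensorModule.cancelBaseChange R L (L ⧸ K) (L ⧸ K) M).symm)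
  obtain ⟨R₀, hR₀⟩ := FlatNil62.exists_ideal (L ⊗[R] M) hK hfree
  have hle : R₀ ≤ K := by
    have := (hR₀ (L ⧸ K)).1.mp hfree
    rwa [Ideal.map_eq_bot_iff_le_ker, Ideal.Quotient.algebraMap_eq, Ideal.mk_ker] at this
  have hmap : (R₀.comap (algebraMap R L)).map (algebraMap R L) = R₀ :=
    IsLocalization.map_comap (Submonoid.powers h) L R₀
  refine ⟨h, hh, R₀.comap (algebraMap R L), ?_, fun A' _ _ hu' => ?_⟩
  · intro a ha
    obtain ⟨x, hx⟩ := (IsLocalization.mem_map_algebraMap_iff (Submonoid.powers h) L).mp (hle ha)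
    obtain ⟨y, hy⟩ := (IsLocalization.eq_iff_exists (Submonoid.powers h) L).mp ((map_mul _ _ _).trans hx)
    have hy' : (y : R) * (a * (x.2 : R)) ∈ p := by rw [hy]; exact Ideal.mul_mem_left _ _ x.1.2
    have hout : ∀ z : Submonoid.powers h, (z : R) ∉ p := by
      rintro ⟨_, n, rfl⟩ hz
      exact hh (hp.mem_of_pow_mem n hz)
    exact (hp.mem_or_mem ((hp.mem_or_mem hy').resolve_left (hout y))).resolve_right (hout x.2)
  · letI : Algebra L A' := (IsLocalization.Away.lift h hu').toAlgebra
    haveI : IsScalarTower R L A' :=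
      IsScalarTower.of_algebraMap_eq fun a => (IsLocalization.Away.lift_eq h hu' a).symm
    let e := AlgebraTensorModule.cancelBaseChange R L A' A' M
    have he : (R₀.comap (algebraMap R L)).map (algebraMap R A') = R₀.map (algebraMap L A') := by
      rw [IsScalarTower.algebraMap_eq R L A', ← Ideal.map_map, hmap]
    rw [he, ← (hR₀ A').2]
    exact ⟨fun H => Module.Flat.of_linearEquiv e, fun H => Module.Flat.of_linearEquiv e.symm⟩

/-- The flattening ideal over an arbitrary base with irreducible spectrum. -/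
theorem exists_fp {A : Type u} [CommRing A] (hp : (nilradical A).IsPrime) (B M : Type u) [CommRing B]
    [Algebra A B] [Algebra.FinitePresentation A B] [AddCommGroup M] [Module A M] [Module B M]
    [IsScalarTower A B M] [Module.FinitePresentation B M] :
    ∃ h ∉ nilradical A, ∃ J : Ideal A, J.FG ∧ J ≤ nilradical A ∧
      ∀ (A' : Type u) [CommRing A'] [Algebra A A'],
        IsUnit (algebraMap A A' h) → (Module.Flat A' (A' ⊗[A] M) ↔ J.map (algebraMap A A') = ⊥) := by
  obtain ⟨A₀, B₀, _, _, M₀, _, _, _, _, e, hN, hfp, hfin⟩ := Stage62.exists_module_model (A := A) (B := B) (M := M)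
  have hnil : ∀ a : A₀, a ∈ nilradical A₀ ↔ (a : A) ∈ nilradical A := fun a => by
    rw [mem_nilradical, mem_nilradical]
    exact (IsNilpotent.map_iff (f := A₀.val) Subtype.val_injective).symm
  have hp₀ : (nilradical A₀).IsPrime := by
    have : nilradical A₀ = (nilradical A).comap A₀.val := Ideal.ext fun a => hnil a
    rw [this]
    exact hp.comap _
  obtain ⟨h, hh, J, hJ, H⟩ := exists_noetherian (R := A₀) hp₀ (B := B₀) (M := M₀)
  refine ⟨h, fun hc => hh ((hnil h).mpr hc), J.map (algebraMap A₀ A), Ideal.FG.map (IsNoetherian.noetherian J) _, ?_, ?_⟩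
  · rw [Ideal.map_le_iff_le_comap]
    exact fun a ha => (hnil a).mp (hJ ha)
  · intro A' _ _ hu
    let E : A' ⊗[A₀] M₀ ≃ₗ[A'] A' ⊗[A] M :=
      (AlgebraTensorModule.cancelBaseChange A₀ A A' A' M₀).symm ≪≫ₗ
        AlgebraTensorModule.congr (LinearEquiv.refl A' A') e
    rw [Ideal.map_map, ← IsScalarTower.algebraMap_eq A₀ A A', ← H A' hu]
    exact ⟨fun _ => Module.Flat.of_linearEquiv E, fun _ => Module.Flat.of_linearEquiv E.symm⟩

end Groth.Agent.E4O.FlatGeneric
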