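import Groth.Agent.E4O.FlatGeneric
import Groth.Agent.Stage62.FlatChart
import Groth.Agent.Props58.LocFree.Affine
import Mathlib.AlgebraicGeometry.Morphisms.FinitePresentation

/-!
EGA IV 11.4: the flattening ideal over an affine irreducible base, scheme form.
-/

set_option autoImplicit false
set_option backward.isDefEq.respectTransparency.types false
set_option linter.style.haveILetI false

universe u

open CategoryTheory Limits AlgebraicGeometry TopologicalSpace Opposite TensorProduct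

namespace Groth.Agent.E4O.FlatGeneric

theorem exists_scheme {A : Type u} [CommRing A] [IrreducibleSpace (PrimeSpectrum A)]
    {X : Scheme.{u}} (f : X ⟶ Spec (CommRingCat.of A))
    [LocallyOfFinitePresentation f] [QuasiCompact f]
    (F : X.Modules) [F.IsQuasicoherent] [CohB1.IsFP F] :
    ∃ h : A, ¬ IsNilpotent h ∧ ∃ J : Ideal A, J.FG ∧ J ≤ nilradical A ∧
      ∀ (A' : Type u) [CommRing A'] (ψ : A →+* A'), IsUnit (ψ h) →
        (FlatMod.IsFlatOver (pullback.snd f (Spec.map (CommRingCat.ofHom ψ)))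
          ((Scheme.Modules.pullback (pullback.fst f (Spec.map (CommRingCat.ofHom ψ)))).obj F) ↔
            J.map ψ = ⊥) := by
  classical
  let A₁ : Type u := Γ(Spec (CommRingCat.of A), ⊤)
  let e : A₁ ≃+* A := (Scheme.ΓSpecIso (CommRingCat.of A)).commRingCatIsoToRingEquiv
  have hp : (nilradical A).IsPrime := PrimeSpectrum.irreducibleSpace_iff_isPrime_nilradical.mp inferInstance
  have hnil : ∀ a : A₁, a ∈ nilradical A₁ ↔ e a ∈ nilradical A := fun a => by
    rw [mem_nilradical, mem_nilradical]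
    exact (IsNilpotent.map_iff (f := e) e.injective).symm
  have hp₁ : (nilradical A₁).IsPrime := by
    have : nilradical A₁ = (nilradical A).comap e := Ideal.ext fun a => hnil a
    rw [this]
    exact hp.comap _
  haveI : CompactSpace X := QuasiCompact.compactSpace_of_compactSpace f
  have hV : IsAffineOpen (⊤ : (Spec (CommRingCat.of A)).Opens) := isAffineOpen_top _
  obtain ⟨s, hs⟩ := isCompact_univ.elim_finite_subcover (fun U : X.affineOpens => (U.1 : Set X))
    (fun U => U.1.2) (fun x _ => by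
      obtain ⟨U, hU, hx, -⟩ := exists_isAffineOpen_mem_and_subset (X := X) (x := x) (U := ⊤) trivial
      exact Set.mem_iUnion.mpr ⟨⟨U, hU⟩, hx⟩)
  have hch : ∀ U : s, ∃ h ∉ nilradical A₁, ∃ J : Ideal A₁, J.FG ∧ J ≤ nilradical A₁ ∧
      letI : Module A₁ Γ(F, U.1.1) := Module.compHom _ (f.appLE ⊤ U.1.1 (fun _ _ => trivial)).hom
      ∀ (A' : Type u) [CommRing A'] [Algebra A₁ A'],
        IsUnit (algebraMap A₁ A' h) → (Module.Flat A' (A' ⊗[A₁] Γ(F, U.1.1)) ↔ J.map (algebraMap A₁ A') = ⊥) := by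
    intro U
    letI : Algebra A₁ Γ(X, U.1.1) := (f.appLE ⊤ U.1.1 (fun _ _ => trivial)).hom.toAlgebra
    haveI : Algebra.FinitePresentation A₁ Γ(X, U.1.1) := f.finitePresentation_appLE hV U.1.2 _
    haveI := Props58.LocFree.finitePresentation_sections F U.1.2
    letI : Module A₁ Γ(F, U.1.1) := Module.compHom _ (f.appLE ⊤ U.1.1 (fun _ _ => trivial)).hom
    haveI : IsScalarTower A₁ Γ(X, U.1.1) Γ(F, U.1.1) := IsScalarTower.of_algebraMap_smul fun _ _ => rfl
    exact exists_fp hp₁ Γ(X, U.1.1) Γ(F, U.1.1)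
  choose h hh J hJfg hJle H using hch
  refine ⟨e (∏ U : s, h U), fun hc => ?_, (⨆ U : s, J U).map e.toRingHom,
    Ideal.FG.map (Submodule.fg_iSup _ hJfg) _, ?_, ?_⟩
  · obtain ⟨U, -, hU⟩ := hp₁.prod_mem_iff.mp ((hnil _).mpr hc)
    exact hh U hU
  · rw [Ideal.map_le_iff_le_comap]
    exact iSup_le fun U a ha => (hnil a).mp (hJle U ha)
  intro A' _ ψ hu
  let g := Spec.map (CommRingCat.ofHom ψ)
  let P := pullback.fst f g
  letI : Algebra A₁ Γ(Spec (CommRingCat.of A'), g ⁻¹ᵁ ⊤) := (g.app ⊤).hom.toAlgebra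
  let e' : A' ≃+* Γ(Spec (CommRingCat.of A'), g ⁻¹ᵁ ⊤) :=
    (Scheme.ΓSpecIso (CommRingCat.of A')).symm.commRingCatIsoToRingEquiv
  have hψ : algebraMap A₁ Γ(Spec (CommRingCat.of A'), g ⁻¹ᵁ ⊤) = e'.toRingHom.comp (ψ.comp e.toRingHom) := by
    refine RingHom.ext fun a => ?_
    have := ConcreteCategory.congr_hom (Scheme.ΓSpecIso_inv_naturality (CommRingCat.ofHom ψ))
      ((Scheme.ΓSpecIso (CommRingCat.of A)).hom a)
    refine Eq.trans ?_ this.symm
    show (g.app ⊤) a = (g.app ⊤) ((Scheme.ΓSpecIso (CommRingCat.of A)).inv ((Scheme.ΓSpecIso (CommRingCat.of A)).hom a))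
    exact congrArg (fun t => (g.app ⊤) t) (Iso.hom_inv_id_apply (Scheme.ΓSpecIso (CommRingCat.of A)) a).symm
  have hP : IsPullback P (pullback.snd f g) f g := IsPullback.of_hasPullback f g
  have hunit : ∀ U : s, IsUnit (algebraMap A₁ Γ(Spec (CommRingCat.of A'), g ⁻¹ᵁ ⊤) (h U)) := by
    intro U
    have h1 : IsUnit (∏ U : s, ψ (e (h U))) := by rwa [← map_prod, ← map_prod]
    rw [hψ]
    exact (IsUnit.prod_iff.mp h1 U (Finset.mem_univ U)).map e'.toRingHom
  have hflat : FlatMod.IsFlatOver (pullback.snd f g) ((Scheme.Modules.pullback P).obj F) ↔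
      ∀ U : s, (J U).map (algebraMap A₁ Γ(Spec (CommRingCat.of A'), g ⁻¹ᵁ ⊤)) = ⊥ := by
    constructor
    · intro hf U
      letI : Module A₁ Γ(F, U.1.1) := Module.compHom _ (f.appLE ⊤ U.1.1 (fun _ _ => trivial)).hom
      exact (H U _ (hunit U)).mp ((Stage62.flatOn_chart_iff hP F hV U.1.2 _).mp fun x' _ => hf x')
    · intro hf x'
      obtain ⟨U, hU, hx⟩ := Set.mem_iUnion₂.mp (hs (Set.mem_univ (P x')))
      letI : Module A₁ Γ(F, U.1) := Module.compHom _ (f.appLE ⊤ U.1 (fun _ _ => trivial)).hom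
      exact (Stage62.flatOn_chart_iff hP F hV U.2 _).mpr ((H ⟨U, hU⟩ _ (hunit ⟨U, hU⟩)).mpr (hf ⟨U, hU⟩)) x' hx
  rw [hflat, Ideal.map_map, Ideal.map_iSup, iSup_eq_bot]
  refine forall_congr' fun U => ?_
  rw [hψ, ← Ideal.map_map]
  exact Ideal.map_eq_bot_iff_of_injective (f := e'.toRingHom) e'.injective

end Groth.Agent.E4O.FlatGeneric
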