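import Groth.Agent.E4O.InjCokerStageScheme
import Groth.Agent.Stage62.NoethDescent
import Groth.Agent.QC70.Colim
import Groth.Agent.QC70.Closure
import Groth.Agent.LimTop61.Diag

/-!
EGA IV 11.2.6: flatness of a module at a point descends to a stage of a limit.
-/

set_option autoImplicit false
set_option backward.isDefEq.respectTransparency.types false
set_option linter.style.haveILetI false

universe u

open CategoryTheory Limits AlgebraicGeometry TopologicalSpace Opposite

namespace Groth.Agent.E4O.InjStage

theorem subsingleton_sections_of_isZero {X : Scheme.{u}} {M : X.Modules} (h : IsZero M) (U : X.Opens) :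
    Subsingleton Γ(M, U) :=
  subsingleton_of_forall_eq 0 fun x => by
    have : (𝟙 M : M ⟶ M).app U x = (0 : M ⟶ M).app U x := by rw [h.eq_of_src (𝟙 M) 0]
    exact this

theorem subsingleton_stalk_of_isZero {X : Scheme.{u}} {M : X.Modules} (h : IsZero M) (x : X) :
    Subsingleton (M.presheaf.stalk x) :=
  subsingleton_of_forall_eq 0 fun s => by
    obtain ⟨U, hxU, t, rfl⟩ := TopCat.Presheaf.exists_germ_eq (F := M.presheaf) s
    haveI := subsingleton_sections_of_isZero h U
    rw [Subsingleton.elim t 0, map_zero]

theorem isFP_of_isZero {X : Scheme.{u}} {M : X.Modules} (h : IsZero M) : CohB1.IsFP M := by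
  haveI := QC70.isQuasicoherent_of_isZero h
  refine Props58.LocFree.isFP_of_sections M (fun U : X.affineOpens => U.1)
    (IsOpenCover.mk (iSup_affineOpens_eq_top X)) (fun U => U.2) fun U => ?_
  haveI := subsingleton_sections_of_isZero h U.1
  infer_instance

/-- The two conditions for a morphism out of a zero module are just flatness of the target. -/
theorem inj_coker_iff_of_isZero {X₀ X Y : Scheme.{u}} (q : X ⟶ X₀) (f : X ⟶ Y) {Z F₀ : X₀.Modules}
    (hZ : IsZero Z) (h₀ : Z ⟶ F₀) (x : X) :
    (Function.Injective ((TopCat.Presheaf.stalkFunctor Ab x).map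
        (Scheme.Modules.Hom.mapPresheaf ((Scheme.Modules.pullback q).map h₀))) ∧
      FlatMod.IsFlatOverAt f (cokernel ((Scheme.Modules.pullback q).map h₀)) x) ↔
      FlatMod.IsFlatOverAt f ((Scheme.Modules.pullback q).obj F₀) x := by
  have hz : IsZero ((Scheme.Modules.pullback q).obj Z) := Functor.map_isZero _ hZ
  have h0 : (Scheme.Modules.pullback q).map h₀ = 0 := hz.eq_of_src _ _
  let e : cokernel ((Scheme.Modules.pullback q).map h₀) ≅ (Scheme.Modules.pullback q).obj F₀ :=
    cokernelIsoOfEq h0 ≪≫ cokernelZeroIsoTarget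
  haveI := subsingleton_stalk_of_isZero hz x
  refine ⟨fun h => Stage62.isFlatOverAt_of_iso f e x h.2, fun h => ⟨?_, Stage62.isFlatOverAt_of_iso f e.symm x h⟩⟩
  intro a b _
  exact Subsingleton.elim (α := ((Scheme.Modules.pullback q).obj Z).presheaf.stalk x) a b

end Groth.Agent.E4O.InjStage
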