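import Groth.Agent.E4O.FibreSets

/-!
Large fibres in every neighbourhood give a large generization; no Noetherian hypothesis on the base.
-/

universe u

open CategoryTheory AlgebraicGeometry TopologicalSpace Topology

namespace Groth.Agent.E4O

/-- If every neighbourhood of `x` meets the fibre over `θ` in dimension at least `fdeg f x`, then a
generization of `x` over `θ`, maximal in its fibre, is at least as large. -/
theorem exists_fdeg_ge_of_forall_opens' {X Y : Scheme.{u}} (f : X ⟶ Y) [LocallyOfFiniteType f]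
    {x : X} {θ : Y} (hθ : θ ⤳ f x)
    (h : ∀ U : X.Opens, x ∈ U → ((fdeg f x : ℕ) : WithBot ℕ∞) ≤
      topologicalKrullDim ↥((U : Set X) ∩ f ⁻¹' {θ})) :
    ∃ ξ : X, f ξ = θ ∧ ξ ⤳ x ∧ fdeg f x ≤ fdeg f ξ := by
  classical
  obtain ⟨C, ⟨q, rfl⟩, -⟩ := exists_chart f x
  rw [C.apply] at hθ
  obtain ⟨p₀, rfl⟩ := hθ.mem_open C.isOpenEmbedding_ptY.isOpen_range ⟨_, rfl⟩
  by_contra hne
  push Not at hne
  let o := PrimeSpectrum.preimageOrderIsoFiber C.A C.B p₀
  have : IsNoetherianRing (p₀.asIdeal.Fiber C.B) :=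
    Algebra.FiniteType.isNoetherianRing p₀.asIdeal.ResidueField _
  let φ : PrimeSpectrum (p₀.asIdeal.Fiber C.B) → X := fun t => C.pt (o.symm t).1
  let bad : Set (PrimeSpectrum (p₀.asIdeal.Fiber C.B)) := {m | IsMin m ∧ ¬ φ m ⤳ C.pt q}
  have hbad : bad.Finite :=
    ((minimalPrimes.finite_of_isNoetherianRing (p₀.asIdeal.Fiber C.B)).preimage
      (fun a _ b _ h => PrimeSpectrum.ext h)).subset fun m hm => PrimeSpectrum.isMin_iff.1 hm.1
  let U : X.Opens :=
    ⟨Set.range C.pt ∩ (⋃ m ∈ bad, closure {φ m})ᶜ,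
      C.isOpen_range.inter (hbad.isClosed_biUnion fun _ _ => isClosed_closure).isOpen_compl⟩
  have hxU : C.pt q ∈ U := by
    refine ⟨⟨q, rfl⟩, fun hmem => ?_⟩
    obtain ⟨m, hm, hxm⟩ := Set.mem_iUnion₂.1 hmem
    exact hm.2 (specializes_iff_mem_closure.2 hxm)
  have hlt : ∀ t ∈ U, f t = C.ptY p₀ → fdeg f t < fdeg f (C.pt q) := by
    rintro _ ⟨⟨r, rfl⟩, hnot⟩ hfr
    rw [C.apply] at hfr
    let R := o ⟨r, C.isOpenEmbedding_ptY.injective hfr⟩
    obtain ⟨m, hm, hmr⟩ := Ideal.exists_minimalPrimes_le (I := ⊥) (J := R.asIdeal) bot_le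
    let M : PrimeSpectrum (p₀.asIdeal.Fiber C.B) := ⟨m, Ideal.minimalPrimes_isPrime hm⟩
    have hspec : φ M ⤳ C.pt r := by
      refine (C.specializes_iff _ _).2 ?_
      have := o.symm.monotone (show M ≤ R from hmr)
      rw [o.symm_apply_apply] at this
      exact this
    have hMθ : f (φ M) = C.ptY p₀ := (C.apply _).trans (congrArg C.ptY (o.symm M).2)
    have hMx : φ M ⤳ C.pt q := by
      by_contra hc
      exact hnot (Set.mem_iUnion₂.2 ⟨M, ⟨PrimeSpectrum.isMin_iff.2 hm, hc⟩,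
        specializes_iff_mem_closure.1 hspec⟩)
    exact (fdeg_le hspec (hMθ.trans ((C.apply r).trans hfr).symm)).trans_lt (hne _ hMθ hMx)
  have h0 := h U hxU
  cases hn : fdeg f (C.pt q) with
  | zero =>
    have : IsEmpty ↥((U : Set X) ∩ f ⁻¹' {C.ptY p₀}) := ⟨fun t => by
      have := hlt t.1 t.2.1 t.2.2
      omega⟩
    have : IsEmpty (IrreducibleCloseds ↥((U : Set X) ∩ f ⁻¹' {C.ptY p₀})) :=
      ⟨fun T => IsEmpty.false T.isIrreducible.nonempty.some⟩
    rw [hn, topologicalKrullDim, Order.krullDim_eq_bot] at h0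
    exact absurd (le_bot_iff.1 h0) WithBot.coe_ne_bot
  | succ n =>
    have hle : topologicalKrullDim ↥((U : Set X) ∩ f ⁻¹' {C.ptY p₀}) ≤ (n : ℕ) :=
      (dim_inter_fibre_le_iff f U _ _).2 fun t ht hft => by
        have := hlt t ht hft
        exact_mod_cast (by omega : fdeg f t ≤ n)
    rw [hn] at h0
    have : n + 1 ≤ n := by exact_mod_cast h0.trans hle
    omega

end Groth.Agent.E4O
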