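import Groth.Agent.E4O.GeomNormalFinite
import Groth.Agent.E4O.FibreTransfer
import Groth.Agent.Unr55.EtAscent
import Groth.Agent.FBase64.Chart
import Mathlib.AlgebraicGeometry.Morphisms.Flat

/-!
Geometric normality of a fibre at a point, in a form manifestly stable under base change.
-/

set_option autoImplicit false
set_option linter.style.haveILetI false
set_option backward.isDefEq.respectTransparency.types false

universe u

open CategoryTheory CategoryTheory.Limits AlgebraicGeometry IsLocalRing TensorProduct

namespace Groth.Agent.E4O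

/-- The local ring at a point is a normal domain. -/
def NormalStalk (X : Scheme.{u}) (x : X) : Prop :=
  IsDomain (X.presheaf.stalk x) ∧ IsIntegrallyClosed (X.presheaf.stalk x)

theorem normalStalk_iff_of_isOpenImmersion {X Y : Scheme.{u}} (j : X ⟶ Y) [IsOpenImmersion j] (x : X) :
    NormalStalk Y (j x) ↔ NormalStalk X x := by
  let e := (asIso (j.stalkMap x)).commRingCatIsoToRingEquiv
  constructor
  · rintro ⟨_, _⟩
    exact ⟨e.symm.toMulEquiv.isDomain _, IsIntegrallyClosed.of_equiv e⟩
  · rintro ⟨_, _⟩
    exact ⟨e.toMulEquiv.isDomain _, IsIntegrallyClosed.of_equiv e.symm⟩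

theorem normalStalk_of_flat {X Y : Scheme.{u}} (h : X ⟶ Y) [Flat h] (x : X) (H : NormalStalk X x) :
    NormalStalk Y (h x) := by
  obtain ⟨_, _⟩ := H
  letI := (h.stalkMap x).hom.toAlgebra
  haveI : Module.Flat (Y.presheaf.stalk (h x)) (X.presheaf.stalk x) := Flat.stalkMap h x
  haveI : IsLocalHom (algebraMap (Y.presheaf.stalk (h x)) (X.presheaf.stalk x)) := h.toLRSHom.prop x
  haveI := Module.FaithfullyFlat.of_flat_of_isLocalHom (A := Y.presheaf.stalk (h x)) (B := X.presheaf.stalk x)
  exact Unr55.isNormalDomain_of_faithfullyFlat (Y.presheaf.stalk (h x)) (X.presheaf.stalk x)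

/-- The fibre through `x` is normal over every field point of the base, at the points over `x`. -/
def NG {X S : Scheme.{u}} (f : X ⟶ S) (x : X) : Prop :=
  ∀ (K : Type u) [Field K] (g : Spec (CommRingCat.of K) ⟶ S) (w : ↥(pullback f g)),
    pullback.fst f g w = x → NormalStalk (pullback f g) w

variable {X S : Scheme.{u}} (f : X ⟶ S)

theorem ng_iff_geomNormalAt [LocallyOfFinitePresentation f] (x : X) :
    NG f x ↔ GeomNormalFinite.GeomNormalAt f (f x) (f.asFiber x) := by
  have h := (Sk62.geom_normal_fibre_iff f x).trans (GeomNormalFinite.geomNormalAt_iff f x).symm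
  rw [← h]
  constructor
  · intro H K _ _ x' hx'
    let t := Spec.map (CommRingCat.ofHom (algebraMap (ResidueField (S.presheaf.stalk (f x))) K))
    let t' : Spec (CommRingCat.of K) ⟶ Spec (S.residueField (f x)) := t
    let e := pullbackLeftPullbackSndIso f (S.fromSpecResidueField (f x)) t'
    let x'' : ↥(pullback (pullback.snd f (S.fromSpecResidueField (f x))) t') := x'
    have hfst : pullback.fst f (t' ≫ S.fromSpecResidueField (f x)) (e.hom x'') = x := by
      rw [← Scheme.Hom.comp_apply, pullbackLeftPullbackSndIso_hom_fst, Scheme.Hom.comp_apply]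
      show f.fiberι (f x) ((FBase.bcπ (f.fiberToSpecResidueField (f x)) K).base x') = x
      rw [hx']
      exact f.fiberι_asFiber x
    exact (normalStalk_iff_of_isOpenImmersion e.hom x'').1 (H K _ _ hfst)
  · intro H K _ g w hw
    obtain ⟨⟨y, φ⟩, hg⟩ := (Scheme.SpecToEquivOfField K S).symm.surjective g
    rw [Scheme.SpecToEquivOfField_symm_apply] at hg
    have hy : y = f x := by
      rw [← hw, ← Scheme.Hom.comp_apply, pullback.condition, Scheme.Hom.comp_apply,
        Subsingleton.elim (pullback.snd f g w) (closedPoint K), ← hg, Scheme.Hom.comp_apply]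
      exact (Scheme.fromSpecResidueField_apply _ _).symm
    subst hy
    subst hg
    letI : Algebra (ResidueField (S.presheaf.stalk (f x))) K := φ.hom.toAlgebra
    let e := pullbackLeftPullbackSndIso f (S.fromSpecResidueField (f x)) (Spec.map φ)
    obtain ⟨x', hx'⟩ := e.hom.surjective w
    subst hx'
    have hpt : (FBase.bcπ (f.fiberToSpecResidueField (f x)) K).base x' = f.asFiber x := by
      refine (f.fiberι (f x)).isEmbedding.injective ?_
      refine Eq.trans ?_ (f.fiberι_asFiber x).symm
      refine Eq.trans ?_ hw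
      rw [← Scheme.Hom.comp_apply e.hom, pullbackLeftPullbackSndIso_hom_fst, Scheme.Hom.comp_apply]
      rfl
    exact (normalStalk_iff_of_isOpenImmersion e.hom x').2 (H K x' hpt)

/-- Geometric normality only depends on the fibre up to extension of the base field. -/
theorem ng_iff_of_isPullback {X' S' : Scheme.{u}} {f' : X' ⟶ S'} {p : X' ⟶ X} {h : S' ⟶ S}
    (hsq : IsPullback p f' f h) (x' : X') : NG f' x' ↔ NG f (p x') := by
  constructor
  · intro H K _ g w hw
    obtain ⟨z, hz₁, hz₂⟩ := Scheme.Pullback.exists_preimage_pullback (f := pullback.fst f g) (g := p) w x' hw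
    let P := pullback (pullback.fst f g) p
    let Ω := P.residueField z
    let a : Spec (CommRingCat.of Ω) ⟶ P := P.fromSpecResidueField z
    have ha : a (closedPoint Ω) = z := Scheme.fromSpecResidueField_apply _ _
    let τ : Spec (CommRingCat.of Ω) ⟶ Spec (CommRingCat.of K) := a ≫ pullback.fst _ _ ≫ pullback.snd f g
    let g' : Spec (CommRingCat.of Ω) ⟶ S' := a ≫ pullback.snd _ _ ≫ f'
    let σ : Spec (CommRingCat.of Ω) ⟶ pullback f' g' := pullback.lift (a ≫ pullback.snd _ _) (𝟙 _)
      (by rw [Category.id_comp, Category.assoc])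
    have hgh : g' ≫ h = τ ≫ g := by
      simp only [g', τ, Category.assoc]
      rw [← hsq.w, ← pullback.condition, pullback.condition_assoc]
    let m : pullback f' g' ⟶ pullback f g := pullback.lift (pullback.fst _ _ ≫ p) (pullback.snd _ _ ≫ τ) (by
      rw [Category.assoc, hsq.w, Category.assoc, ← hgh, ← Category.assoc, pullback.condition, Category.assoc])
    have hm1 : IsPullback (pullback.fst f' g' ≫ p) (pullback.snd f' g') f (g' ≫ h) :=
      (IsPullback.of_hasPullback f' g').paste_horiz hsq
    have hm : IsPullback m (pullback.snd f' g') (pullback.snd f g) τ :=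
      IsPullback.of_right (by rw [pullback.lift_fst, ← hgh]; exact hm1) (pullback.lift_snd _ _ _)
        (IsPullback.of_hasPullback f g)
    haveI : Flat τ := by
      obtain ⟨φ, hφ⟩ := Spec.map_surjective τ
      rw [← hφ, HasRingHomProperty.Spec_iff (P := @Flat)]
      algebraize [φ.hom]
      exact (RingHom.flat_algebraMap_iff (R := K) (S := Ω)).mpr inferInstance
    haveI : Flat m := MorphismProperty.of_isPullback (P := @Flat) hm.flip ‹_›
    have hσm : σ ≫ m = a ≫ pullback.fst _ _ := by
      apply pullback.hom_ext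
      · simp only [σ, m, Category.assoc, pullback.lift_fst, pullback.lift_fst_assoc]
        rw [pullback.condition]
      · simp only [σ, m, τ, Category.assoc, pullback.lift_snd, pullback.lift_snd_assoc, Category.id_comp]
    have hmw : m (σ (closedPoint Ω)) = w := by
      rw [← Scheme.Hom.comp_apply, hσm, Scheme.Hom.comp_apply, ha, hz₁]
    rw [← hmw]
    refine normalStalk_of_flat m _ (H Ω g' _ ?_)
    rw [← Scheme.Hom.comp_apply, pullback.lift_fst, Scheme.Hom.comp_apply, ha, hz₂]
  · intro H K _ g w hw
    let q : pullback f' g ⟶ pullback f (g ≫ h) := ((IsPullback.of_hasPullback f' g).paste_horiz hsq).isoPullback.hom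
    have hq : q ≫ pullback.fst f (g ≫ h) = pullback.fst f' g ≫ p := IsPullback.isoPullback_hom_fst _
    refine (normalStalk_iff_of_isOpenImmersion q w).1 (H K (g ≫ h) (q w) ?_)
    rw [← Scheme.Hom.comp_apply, hq, Scheme.Hom.comp_apply, hw]

theorem ng_comp_iff [LocallyOfFinitePresentation f] {U : Scheme.{u}} (j : U ⟶ X) [IsOpenImmersion j] (a : U) :
    NG (j ≫ f) a ↔ NG f (j a) := by
  rw [ng_iff_geomNormalAt, ng_iff_geomNormalAt, GeomNormalFinite.geomNormalAt_comp_iff]

theorem isOpen_flat_ng [LocallyOfFinitePresentation f] :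
    IsOpen {x : X | (f.stalkMap x).hom.Flat ∧ NG f x} := by
  refine FibreTransfer.isOpen_flat_and f {x : X | NG f x} fun U j _ _ => ?_
  convert GeomNormalFinite.isOpen_geomNormalAt (j ≫ f) using 1
  ext a
  exact ((ng_comp_iff f j a).symm.trans (ng_iff_geomNormalAt (j ≫ f) a))

/-- On affine schemes. -/
theorem NG.normalAt {A B : Type u} [CommRing A] [CommRing B] [Algebra A B] {q : PrimeSpectrum B}
    (H : NG (Spec.map (CommRingCat.ofHom (algebraMap A B))) q) (K : Type u) [Field K] [Algebra A K]
    (Q : Ideal (B ⊗[A] K)) [Q.IsPrime] (hQ : Q.comap (algebraMap B (B ⊗[A] K)) = q.asIdeal) :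
    IsDomain (Localization.AtPrime Q) ∧ IsIntegrallyClosed (Localization.AtPrime Q) := by
  let e := pullbackSpecIso A B K
  let P : ↥(Spec (CommRingCat.of (B ⊗[A] K))) := (⟨Q, inferInstance⟩ : PrimeSpectrum (B ⊗[A] K))
  have hfst : pullback.fst (Spec.map (CommRingCat.ofHom (algebraMap A B)))
      (Spec.map (CommRingCat.ofHom (algebraMap A K))) (e.inv P) = q := by
    rw [← Scheme.Hom.comp_apply, pullbackSpecIso_inv_fst]
    exact PrimeSpectrum.ext hQ
  obtain ⟨_, _⟩ := H K _ (e.inv P) hfst
  obtain ⟨ε⟩ := FBase64.nonempty_stalkEquiv e.inv P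
  exact ⟨ε.symm.toMulEquiv.isDomain _, IsIntegrallyClosed.of_equiv ε⟩

end Groth.Agent.E4O
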