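import Groth.Agent.Sk62.GeomLoci
import Groth.Agent.S7606
import Groth.Agent.VarGal.SmoothGeomReg
import Groth.Agent.E4O.FibreTransfer
import Mathlib.AlgebraicGeometry.Morphisms.QuasiFinite

/-!
Geometric normality of the fibres, tested on finite extensions of the residue fields, is open for flat morphisms.
-/

set_option autoImplicit false
set_option linter.style.haveILetI false
universe u

open CategoryTheory CategoryTheory.Limits AlgebraicGeometry Topology IsLocalRing

namespace Groth.Agent.E4O.GeomNormalFinite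

open Sk62

theorem eq_of_specializes_of_finite {X Y : Scheme.{u}} (f : X ⟶ Y) [IsFinite f] {a b : X} (h : a ⤳ b)
    (he : f a = f b) : a = b := by
  haveI : DiscreteTopology ↥(f ⁻¹' {f b}) := isDiscrete_iff_discreteTopology.1 (f.isDiscrete_preimage_singleton _)
  have h' : (⟨a, he⟩ : ↥(f ⁻¹' {f b})) ⤳ ⟨b, rfl⟩ := IsInducing.subtypeVal.specializes_iff.1 h
  exact congrArg Subtype.val h'.eq

theorem ringKrullDim_stalk_le_of_finite {X Y : Scheme.{u}} (f : X ⟶ Y) [IsFinite f] (a : X) :
    ringKrullDim (X.presheaf.stalk a) ≤ ringKrullDim (Y.presheaf.stalk (f a)) := by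
  rw [ringKrullDim_stalk_eq_coheight, ringKrullDim_stalk_eq_coheight, WithBot.coe_le_coe]
  refine Order.coheight_le_coheight_apply_of_strictMono (fun x => f x) (fun x y hxy => ?_) a
  have h1 : y ⤳ x := Scheme.le_iff_specializes.1 hxy.le
  refine lt_of_le_not_ge (Scheme.le_iff_specializes.2 (h1.map f.continuous)) fun h2 => ?_
  have he : f y = f x := ((h1.map f.continuous).antisymm (Scheme.le_iff_specializes.1 h2)).eq
  exact hxy.ne (eq_of_specializes_of_finite f h1 he).symm

section Field

variable {k : Type u} [Field k] {X : Scheme.{u}} (g : X ⟶ Spec (CommRingCat.of k)) [LocallyOfFinitePresentation g]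

theorem smooth_of_finite_hasRk (n : ℕ) {x z : X} (hz : z ⤳ x) (hd : ringKrullDim (X.presheaf.stalk z) ≤ (n : ℕ))
    (h : ∀ (K : Type u) [Field K] [Algebra k K], Module.Finite k K → ∀ x' : ↥(FBase.bc g K),
      (FBase.bcπ g K).base x' = x → LocCoh.HasRk n ((FBase.bc g K).presheaf.stalk x')) :
    z ∈ g.smoothLocus := by
  letI : X.Over (Spec (CommRingCat.of k)) := ⟨g⟩
  haveI : LocallyOfFinitePresentation (X ↘ Spec (CommRingCat.of k)) := ‹LocallyOfFinitePresentation g›
  haveI : IsLocallyNoetherian X := LocallyOfFiniteType.isLocallyNoetherian g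
  refine VarGal.mem_smoothLocus_of_isGeomRegularAt (k := k) z ((S7606.result k X z).1.2 ?_)
  intro K _ _ hfin _ z' hz'
  let t := Spec.map (CommRingCat.ofHom (algebraMap k K))
  let π : FBase.bc g K ⟶ X := pullback.fst g t
  haveI : IsFinite t := (IsFinite.SpecMap_iff _).2 (RingHom.finite_algebraMap.2 hfin)
  haveI : IsFinite π := MorphismProperty.of_isPullback (P := @IsFinite) (IsPullback.of_hasPullback g t).flip ‹_›
  have hz'' : π z' = z := hz'
  haveI : LocallyOfFiniteType (pullback.snd g t) :=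
    MorphismProperty.of_isPullback (P := @LocallyOfFiniteType) (IsPullback.of_hasPullback g t) (inferInstance : LocallyOfFiniteType g)
  haveI : IsLocallyNoetherian (FBase.bc g K) := (LocallyOfFiniteType.isLocallyNoetherian (pullback.snd g t) :)
  obtain ⟨x', hzx', hx'⟩ := π.isClosedMap.specializingMap (a := z') (show π z' ⤳ x by rwa [hz''])
  have hR := (hasRk_stalk_iff n x').1 (h K hfin x' hx')
  exact hR z' hzx' ((ringKrullDim_stalk_le_of_finite π z').trans (by rw [hz'']; exact hd))

end Field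

variable {X S : Scheme.{u}} (f : X ⟶ S) [LocallyOfFinitePresentation f]

/-- The points where the fibre is geometrically normal, tested on finite extensions. -/
def GeomNormalAt (y : S) (w : ↥(f.fiber y)) : Prop :=
  ∀ (K : Type u) [Field K] [Algebra (ResidueField (S.presheaf.stalk y)) K],
    Module.Finite (ResidueField (S.presheaf.stalk y)) K →
    ∀ x' : ↥(FBase.bc (f.fiberToSpecResidueField y) K),
      (FBase.bcπ (f.fiberToSpecResidueField y) K).base x' = w →
      IsDomain ((FBase.bc (f.fiberToSpecResidueField y) K).presheaf.stalk x') ∧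
        IsIntegrallyClosed ((FBase.bc (f.fiberToSpecResidueField y) K).presheaf.stalk x')

omit [LocallyOfFinitePresentation f] in
theorem geomNormalAt_iff_asFiber (y : S) (w : ↥(f.fiber y)) :
    GeomNormalAt f y w ↔ GeomNormalAt f (f (f.fiberι y w)) (f.asFiber (f.fiberι y w)) := by
  have key : ∀ (y : S) (x : X) (hy : f x = y) (w : ↥(f.fiber y)) (hw : f.fiberι y w = x),
      GeomNormalAt f y w ↔ GeomNormalAt f (f x) (f.asFiber x) := by
    intro y x hy w hw
    subst hy
    have : w = f.asFiber x :=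
      (E4O.isEmbedding_fiberι f (f x)).injective (hw.trans (f.fiberι_asFiber x).symm)
    rw [this]
  exact key y _ (E4O.apply_fiberι f y w) w rfl

theorem geomNormalAt_iff (x : X) :
    GeomNormalAt f (f x) (f.asFiber x) ↔
      (∀ z, z ⤳ x → f z = f x → fdim f z ≤ (1 : ℕ) → z ∈ Open62.fibreSmooth f) ∧
        LocCoh.HasSk 2 ((f.fiber (f x)).presheaf.stalk (f.asFiber x))
          ((f.fiber (f x)).presheaf.stalk (f.asFiber x)) := by
  constructor
  · intro h
    let κ := ResidueField (S.presheaf.stalk (f x))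
    let g : f.fiber (f x) ⟶ Spec (CommRingCat.of κ) := f.fiberToSpecResidueField (f x)
    haveI : LocallyOfFinitePresentation g :=
      inferInstanceAs (LocallyOfFinitePresentation (pullback.snd f (S.fromSpecResidueField (f x))))
    haveI hNoeth : ∀ (K : Type u) [Field K] [Algebra κ K], IsLocallyNoetherian (FBase.bc g K) := fun K _ _ => by
      let q : FBase.bc g K ⟶ Spec (CommRingCat.of K) :=
        pullback.snd g (Spec.map (CommRingCat.ofHom (algebraMap κ K)))
      haveI : LocallyOfFiniteType q :=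
        MorphismProperty.of_isPullback (IsPullback.of_hasPullback g _) (inferInstance : LocallyOfFiniteType g)
      exact LocallyOfFiniteType.isLocallyNoetherian q
    refine ⟨fun z hz hfz hd => ?_, ?_⟩
    · obtain ⟨w, rfl⟩ := E4O.exists_fiberι_eq f hfz
      have hs := smooth_of_finite_hasRk g 1 ((E4O.specializes_fiberι_iff f _ _ _).1 (by rwa [f.fiberι_asFiber]))
        ((fibre_invariants f (f x) w).1.le.trans hd)
        (fun K _ _ hK x' hx' => ((normal_iff_R1_S2 _).1 (h K hK x' hx')).1)
      have hsm : Open62.fibreSmooth g = f.fiberι (f x) ⁻¹' Open62.fibreSmooth f :=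
        Open62.fibreSmooth_of_isPullback (f' := g) (g' := f.fiberι (f x))
          (IsPullback.of_hasPullback f (S.fromSpecResidueField (f x)))
      rw [← SetLike.mem_coe, ← Open62.fibreSmooth_of_flat g, hsm] at hs
      exact hs
    · obtain ⟨x', hx'⟩ := (pullback.fst g (Spec.map (CommRingCat.ofHom (algebraMap κ κ)))).surjective (f.asFiber x)
      have h2 := (hasSk_bc_iff g 2 κ x').1 ((normal_iff_R1_S2 _).1 (h κ (Module.Finite.self κ) x' hx')).2
      rw [show (FBase.bcπ g κ).base x' = f.asFiber x from hx'] at h2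
      exact h2
  · exact fun h K _ _ _ x' hx' => (geom_normal_fibre_iff f x).2 h K x' hx'

/-- Where `(S_{n+1})` holds, the points of codimension at most `n` of the fibres avoid a closed set on an open
set. -/
theorem isOpen_hasSk_avoid [Flat f] (n : ℕ) {K : Set X} (hK : IsClosed K) :
    IsOpen {x : X | LocCoh.HasSk (n + 1) ((f.fiber (f x)).presheaf.stalk (f.asFiber x))
        ((f.fiber (f x)).presheaf.stalk (f.asFiber x)) ∧
      ∀ z, z ⤳ x → f z = f x → fdim f z ≤ (n : ℕ) → z ∉ K} := by
  let B : ℕ → Set X := fun d =>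
    {x : X | ∃ z ∈ K ∩ {z : X | ((d + n + 1 : ℕ) : ℕ∞) ≤ rdepth f z}ᶜ,
      z ⤳ x ∧ f z = f x ∧ d ≤ E4O.fdeg f z}
  have hB : ∀ d, IsClosed (B d) := fun d =>
    isClosed_exists_le_fdeg f (hK.inter (isOpen_le_rdepth f (d + n + 1)).isClosed_compl) _
  rw [isOpen_iff_forall_mem_open]
  rintro x ⟨hxS, hx⟩
  obtain ⟨z₀, -, -, hD, -, -⟩ := E4O.exists_fibreDimAt_eq f x
  let D := E4O.fdeg f z₀
  refine ⟨({a : X | FlatMor.fibreDimAt f a ≤ (D : ℕ)} ∩
      {a : X | LocCoh.HasSk (n + 1) ((f.fiber (f a)).presheaf.stalk (f.asFiber a))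
        ((f.fiber (f a)).presheaf.stalk (f.asFiber a))}) \ ⋃ d ∈ Finset.range (D + 1), B d, ?_,
    ((S0402.result f D).inter (Sk62.isOpen_hasSk f (n + 1))).sdiff
      ((Finset.range (D + 1)).finite_toSet.isClosed_biUnion fun d _ => hB d), ⟨hD.le, hxS⟩, ?_⟩
  · rintro a ⟨⟨ha, haS⟩, hnot⟩
    refine ⟨haS, fun z hza hfz hz hzK => ?_⟩
    obtain ⟨k, m, hk, hm, -⟩ := exists_invariants f z
    have hdeg : E4O.fdeg f z ≤ D := by
      exact_mod_cast (E4O.fdeg_le_fibreDimAt hza hfz).trans ha
    have hkn : k ≤ n := by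
      rw [hk] at hz
      exact_mod_cast hz
    have hmk : m ≤ k := by
      have := isLocalRing_noetherian_fibre f z
      have h := EGA4Alg4.depth_le_supportDim (A := (f.fiber (f z)).presheaf.stalk (f.asFiber z))
        (M := (f.fiber (f z)).presheaf.stalk (f.asFiber z))
      rw [Module.supportDim_self_eq_ringKrullDim] at h
      change ((fdepth f z : ℕ∞) : WithBot ℕ∞) ≤ fdim f z at h
      rw [hk, hm] at h
      exact_mod_cast h
    refine hnot (Set.mem_biUnion (x := E4O.fdeg f z) (Finset.mem_range.2 (by omega))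
      ⟨z, ⟨hzK, ?_⟩, hza, hfz, le_rfl⟩)
    show ¬ ((E4O.fdeg f z + n + 1 : ℕ) : ℕ∞) ≤ fdepth f z + (E4O.fdeg f z : ℕ∞)
    rw [hm, ← Nat.cast_add, Nat.cast_le]
    omega
  · intro hmem
    obtain ⟨d, -, z, ⟨hzK, hd⟩, hzx, hfz, hdd⟩ := Set.mem_iUnion₂.1 hmem
    obtain ⟨k, m, hk, hm, -⟩ := exists_invariants f z
    have hd' : ¬ ((d + n + 1 : ℕ) : ℕ∞) ≤ fdepth f z + (E4O.fdeg f z : ℕ∞) := hd
    rw [hm, ← Nat.cast_add, Nat.cast_le] at hd'
    have h := ((Sk62.hasSk_fibre_iff f (n + 1) x).1 hxS) z hzx hfz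
    rw [hk, hm] at h
    have h' : min (n + 1) k ≤ m := by
      rw [min_le_iff] at h ⊢
      exact h.imp (fun h => by exact_mod_cast h) fun h => by exact_mod_cast h
    exact hx z hzx hfz (by rw [hk]; exact_mod_cast (show k ≤ n by omega)) hzK

/-- Geometric `(R_n)` and `(S_{n+1})` of the fibres is open for a flat morphism. -/
theorem isOpen_geomRk_Sk [Flat f] (n : ℕ) :
    IsOpen {x : X | (∀ z, z ⤳ x → f z = f x → fdim f z ≤ (n : ℕ) → z ∈ Open62.fibreSmooth f) ∧
      LocCoh.HasSk (n + 1) ((f.fiber (f x)).presheaf.stalk (f.asFiber x))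
        ((f.fiber (f x)).presheaf.stalk (f.asFiber x))} := by
  convert isOpen_hasSk_avoid f n (K := (f.smoothLocus : Set X)ᶜ) f.smoothLocus.isOpen.isClosed_compl using 1
  ext x
  rw [Open62.fibreSmooth_of_flat f]
  simp only [Set.mem_compl_iff, not_not, Set.mem_ofPred_eq, and_comm]

theorem isOpen_geomNormalAt [Flat f] : IsOpen {x : X | GeomNormalAt f (f x) (f.asFiber x)} := by
  convert isOpen_geomRk_Sk f 1 using 1
  ext x
  exact geomNormalAt_iff f x

theorem geomNormalAt_comp_iff {U : Scheme.{u}} (j : U ⟶ X) [IsOpenImmersion j] (a : U) :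
    GeomNormalAt (j ≫ f) ((j ≫ f) a) ((j ≫ f).asFiber a) ↔ GeomNormalAt f (f (j a)) (f.asFiber (j a)) := by
  rw [geomNormalAt_iff, geomNormalAt_iff, Sk62.hasSk_openImmersion_comp_iff,
    Open62.fibreSmooth_openImmersion_comp]
  refine and_congr_left fun _ => ⟨fun h z hz hfz hd => ?_, fun h z hz hfz hd => ?_⟩
  · obtain ⟨w, rfl⟩ : z ∈ Set.range j := hz.mem_open j.isOpenEmbedding.isOpen_range ⟨a, rfl⟩
    exact h w (j.isOpenEmbedding.isInducing.specializes_iff.1 hz) hfz
      ((FibreTransfer.fdim_comp j f w).trans_le hd)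
  · exact h (j z) (hz.map j.continuous) hfz ((FibreTransfer.fdim_comp j f z).symm.trans_le hd)

end Groth.Agent.E4O.GeomNormalFinite
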