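import Groth.Agent.E4O.GeomNormalFinite
import Groth.Agent.E4O.FibreEquidimPoints
import Groth.Agent.CAlg1.Sk

/-!
Geometric `(R_n)`, equidimensionality and absence of embedded points on the fibres: open for flat morphisms.
-/

set_option autoImplicit false
set_option linter.style.haveILetI false
universe u

open CategoryTheory CategoryTheory.Limits AlgebraicGeometry Topology IsLocalRing

namespace Groth.Agent.E4O.GeomRkEquidim

open Sk62

theorem noEmbedded_iff (R : Type u) [CommRing R] [IsLocalRing R] [IsNoetherianRing R] :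
    (∀ p ∈ associatedPrimes R R, p ∈ minimalPrimes R) ↔ LocCoh.HasSk 1 R R := by
  rw [← CAlg1.noEmbedded_iff_S1,
    show Module.annihilator R R = ⊥ from Module.annihilator_eq_bot.2 inferInstance]

variable {X S : Scheme.{u}} (f : X ⟶ S) [LocallyOfFinitePresentation f]

/-- The property at a point of a fibre, with geometric `(R_n)` tested on finite extensions. -/
def Good (n : ℕ) (y : S) (w : ↥(f.fiber y)) : Prop :=
  (∀ (K : Type u) [Field K] [Algebra (ResidueField (S.presheaf.stalk y)) K],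
    Module.Finite (ResidueField (S.presheaf.stalk y)) K →
    ∀ x' : ↥(FBase.bc (f.fiberToSpecResidueField y) K),
      (FBase.bcπ (f.fiberToSpecResidueField y) K).base x' = w →
      LocCoh.HasRk n ((FBase.bc (f.fiberToSpecResidueField y) K).presheaf.stalk x')) ∧
    EGA4.IsEquidim ↑((f.fiber y).presheaf.stalk w) ∧
    (∀ p ∈ associatedPrimes ↑((f.fiber y).presheaf.stalk w) ↑((f.fiber y).presheaf.stalk w),
      p ∈ minimalPrimes ↑((f.fiber y).presheaf.stalk w))

omit [LocallyOfFinitePresentation f] in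
theorem good_iff_asFiber (n : ℕ) (y : S) (w : ↥(f.fiber y)) :
    Good f n y w ↔ Good f n (f (f.fiberι y w)) (f.asFiber (f.fiberι y w)) := by
  have key : ∀ (y : S) (x : X) (hy : f x = y) (w : ↥(f.fiber y)) (hw : f.fiberι y w = x),
      Good f n y w ↔ Good f n (f x) (f.asFiber x) := by
    intro y x hy w hw
    subst hy
    have : w = f.asFiber x :=
      (E4O.isEmbedding_fiberι f (f x)).injective (hw.trans (f.fiberι_asFiber x).symm)
    rw [this]
  exact key y _ (E4O.apply_fiberι f y w) w rfl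

theorem geomRk_iff (n : ℕ) (x : X) :
    (∀ (K : Type u) [Field K] [Algebra (ResidueField (S.presheaf.stalk (f x))) K],
      Module.Finite (ResidueField (S.presheaf.stalk (f x))) K →
      ∀ x' : ↥(FBase.bc (f.fiberToSpecResidueField (f x)) K),
        (FBase.bcπ (f.fiberToSpecResidueField (f x)) K).base x' = f.asFiber x →
        LocCoh.HasRk n ((FBase.bc (f.fiberToSpecResidueField (f x)) K).presheaf.stalk x')) ↔
      ∀ z, z ⤳ x → f z = f x → fdim f z ≤ (n : ℕ) → z ∈ Open62.fibreSmooth f := by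
  constructor
  · intro h z hz hfz hd
    let g : f.fiber (f x) ⟶ Spec (CommRingCat.of (ResidueField (S.presheaf.stalk (f x)))) :=
      f.fiberToSpecResidueField (f x)
    haveI : LocallyOfFinitePresentation g :=
      inferInstanceAs (LocallyOfFinitePresentation (pullback.snd f (S.fromSpecResidueField (f x))))
    obtain ⟨w, rfl⟩ := E4O.exists_fiberι_eq f hfz
    have hs := GeomNormalFinite.smooth_of_finite_hasRk g n
      ((E4O.specializes_fiberι_iff f _ _ _).1 (by rwa [f.fiberι_asFiber]))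
      ((fibre_invariants f (f x) w).1.le.trans hd) h
    have hsm : Open62.fibreSmooth g = f.fiberι (f x) ⁻¹' Open62.fibreSmooth f :=
      Open62.fibreSmooth_of_isPullback (f' := g) (g' := f.fiberι (f x))
        (IsPullback.of_hasPullback f (S.fromSpecResidueField (f x)))
    rw [← SetLike.mem_coe, ← Open62.fibreSmooth_of_flat g, hsm] at hs
    exact hs
  · exact fun h K _ _ _ x' hx' => (geom_hasRk_fibre_iff f n x).2 h K x' hx'

theorem good_iff (n : ℕ) (x : X) :
    Good f n (f x) (f.asFiber x) ↔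
      (∀ z, z ⤳ x → f z = f x → fdim f z ≤ (n : ℕ) → z ∈ Open62.fibreSmooth f) ∧
      (∃ e : ℕ, ∀ z, z ⤳ x → f z = f x → E4O.IsFibreMax f z → E4O.fdeg f z = e) ∧
      LocCoh.HasSk 1 ((f.fiber (f x)).presheaf.stalk (f.asFiber x))
        ((f.fiber (f x)).presheaf.stalk (f.asFiber x)) := by
  have := isLocalRing_noetherian_fibre f x
  exact and_congr (geomRk_iff f n x) (and_congr (FibreEquidimPoints.isEquidim_iff f x) (noEmbedded_iff _))

theorem depth_le_dim (z : X) {k m : ℕ} (hk : fdim f z = (k : ℕ)) (hm : fdepth f z = (m : ℕ∞)) : m ≤ k := by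
  have := isLocalRing_noetherian_fibre f z
  have h := EGA4Alg4.depth_le_supportDim (A := (f.fiber (f z)).presheaf.stalk (f.asFiber z))
    (M := (f.fiber (f z)).presheaf.stalk (f.asFiber z))
  rw [Module.supportDim_self_eq_ringKrullDim] at h
  change ((fdepth f z : ℕ∞) : WithBot ℕ∞) ≤ fdim f z at h
  rw [hk, hm] at h
  exact_mod_cast h

variable [Flat f]

/-- Equidimensional without embedded points: open. -/
theorem isOpen_good (n : ℕ) : IsOpen {x : X | Good f n (f x) (f.asFiber x)} := by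
  rw [isOpen_iff_forall_mem_open]
  intro x hx
  obtain ⟨hRx, ⟨e, he⟩, hSx⟩ := (good_iff f n x).1 hx
  let S1 := {a : X | LocCoh.HasSk 1 ((f.fiber (f a)).presheaf.stalk (f.asFiber a))
    ((f.fiber (f a)).presheaf.stalk (f.asFiber a))}
  let B : ℕ → Set X := fun d =>
    {a : X | ∃ z ∈ {z : X | ((d + 1 : ℕ) : ℕ∞) ≤ rdepth f z}ᶜ, z ⤳ a ∧ f z = f a ∧ d ≤ E4O.fdeg f z}
  let K : Set X := (f.smoothLocus : Set X)ᶜ
  let C : Set X := {a : X | ∃ z ∈ K, z ⤳ a ∧ f z = f a ∧ e - n ≤ E4O.fdeg f z}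
  have hB : ∀ d, IsClosed (B d) := fun d =>
    isClosed_exists_le_fdeg f (isOpen_le_rdepth f (d + 1)).isClosed_compl _
  have hC : IsClosed C := isClosed_exists_le_fdeg f f.smoothLocus.isOpen.isClosed_compl _
  have hs : Open62.fibreSmooth f = (f.smoothLocus : Set X) := Open62.fibreSmooth_of_flat f
  have hxD : FlatMor.fibreDimAt f x ≤ (e : ℕ) := by
    obtain ⟨z, hz, hfz, hzmax, hd, -⟩ := E4O.exists_isFibreMax_specializes f x
    rw [hd, he z hz hfz hzmax]
  refine ⟨(({a : X | FlatMor.fibreDimAt f a ≤ (e : ℕ)} ∩ S1) \ ⋃ d ∈ Finset.range e, B d) \ C, ?_,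
    ((((S0402.result f e).inter (Sk62.isOpen_hasSk f 1))).sdiff
      ((Finset.range e).finite_toSet.isClosed_biUnion fun d _ => hB d)).sdiff hC,
    ⟨⟨⟨hxD, hSx⟩, fun hmem => ?_⟩, fun hmem => ?_⟩⟩
  · rintro a ⟨⟨⟨ha, haS⟩, hnot⟩, haC⟩
    have hea : ∀ z, z ⤳ a → f z = f a → E4O.IsFibreMax f z → E4O.fdeg f z = e := by
      intro z hza hfz hmax
      have hle : E4O.fdeg f z ≤ e := by exact_mod_cast (E4O.fdeg_le_fibreDimAt hza hfz).trans ha
      by_contra hne
      obtain ⟨k, m, hk, hm, hD⟩ := exists_invariants f z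
      have hk0 : k = 0 := by
        rw [E4O.fibreDimAt_eq_fdeg fun w h h' => hmax w h h'] at hD
        have : E4O.fdeg f z = k + E4O.fdeg f z := by exact_mod_cast hD
        omega
      have hm0 : m = 0 := by
        have := depth_le_dim f z hk hm
        omega
      refine hnot (Set.mem_biUnion (x := E4O.fdeg f z) (Finset.mem_range.2 (by omega))
        ⟨z, ?_, hza, hfz, le_rfl⟩)
      show ¬ ((E4O.fdeg f z + 1 : ℕ) : ℕ∞) ≤ fdepth f z + (E4O.fdeg f z : ℕ∞)
      rw [hm, ← Nat.cast_add, Nat.cast_le]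
      omega
    refine (good_iff f n a).2 ⟨fun z hza hfz hd => ?_, ⟨e, hea⟩, haS⟩
    by_contra hns
    rw [hs] at hns
    obtain ⟨k, m, hk, -, hD⟩ := exists_invariants f z
    obtain ⟨v, hv, hfv, hvmax, hvd, -⟩ := E4O.exists_isFibreMax_specializes f z
    rw [hvd, hea v (hv.trans hza) (hfv.trans hfz) hvmax] at hD
    have h1 : e = k + E4O.fdeg f z := by exact_mod_cast hD
    have h2 : k ≤ n := by
      rw [hk] at hd
      exact_mod_cast hd
    exact haC ⟨z, hns, hza, hfz, by omega⟩
  · obtain ⟨d, hd, z, hzr, hzx, hfz, hdd⟩ := Set.mem_iUnion₂.1 hmem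
    obtain ⟨k, m, hk, hm, hD⟩ := exists_invariants f z
    have hd' : ¬ ((d + 1 : ℕ) : ℕ∞) ≤ fdepth f z + (E4O.fdeg f z : ℕ∞) := hzr
    rw [hm, ← Nat.cast_add, Nat.cast_le] at hd'
    have h := ((Sk62.hasSk_fibre_iff f 1 x).1 hSx) z hzx hfz
    rw [hk, hm] at h
    have h' : min 1 k ≤ m := by
      rw [min_le_iff] at h ⊢
      exact h.imp (fun h => by exact_mod_cast h) fun h => by exact_mod_cast h
    obtain ⟨v, hv, hfv, hvmax, hvd, -⟩ := E4O.exists_isFibreMax_specializes f z
    rw [hvd, he v (hv.trans hzx) (hfv.trans hfz) hvmax] at hD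
    have h1 : e = k + E4O.fdeg f z := by exact_mod_cast hD
    have h2 := Finset.mem_range.1 hd
    omega
  · obtain ⟨z, hns, hzx, hfz, hdeg⟩ := hmem
    obtain ⟨k, m, hk, -, hD⟩ := exists_invariants f z
    obtain ⟨v, hv, hfv, hvmax, hvd, -⟩ := E4O.exists_isFibreMax_specializes f z
    rw [hvd, he v (hv.trans hzx) (hfv.trans hfz) hvmax] at hD
    have h1 : e = k + E4O.fdeg f z := by exact_mod_cast hD
    have hmem' := hRx z hzx hfz (by rw [hk]; exact_mod_cast (show k ≤ n by omega))
    rw [hs] at hmem'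
    exact hns hmem'

end Groth.Agent.E4O.GeomRkEquidim
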