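import Groth.Agent.E4O.NormalFlatLimit
import Groth.Agent.E4O.UnibranchPoly

/-!
Geometric unibranchness ascends along flat finitely presented algebras at points where the fibre is
geometrically normal.
-/

set_option autoImplicit false
set_option linter.style.haveILetI false

universe u

open CategoryTheory CategoryTheory.Limits AlgebraicGeometry TensorProduct IsLocalRing

namespace Groth.Agent.E4O

theorem isGeomUnibranch_of_normalization {A0 B0 : Type u} [CommRing A0] [CommRing B0] [Algebra A0 B0]
    [Algebra.FinitePresentation A0 B0] [Module.Flat A0 B0] (Q : Ideal B0) [Q.IsPrime]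
    (A' : Type u) [CommRing A'] [IsDomain A'] [IsLocalRing A'] [IsIntegrallyClosed A']
    (η : Localization.AtPrime (Q.comap (algebraMap A0 B0)) →+* A') (hη : η.IsIntegral)
    (hker : RingHom.ker η ≤ nilradical _) (hfrac : ∀ a, ∃ n d, η d ≠ 0 ∧ a * η d = η n)
    (hres : ∀ a, ∃ (n : ℕ) (x : Localization.AtPrime (Q.comap (algebraMap A0 B0))),
      a ^ (ringExpChar (ResidueField A')) ^ n - η x ∈ maximalIdeal A')
    (hQ : NG (Spec.map (CommRingCat.ofHom (algebraMap A0 B0))) (⟨Q, inferInstance⟩ : PrimeSpectrum B0)) :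
    CAlg2.IsGeomUnibranch (Localization.AtPrime Q) := by
  let P0 := Q.comap (algebraMap A0 B0)
  let A := Localization.AtPrime P0
  let R := Localization.AtPrime Q
  letI : Algebra A0 A' := (η.comp (algebraMap A0 A)).toAlgebra
  let iB : B0 →+* A' ⊗[A0] B0 := (Algebra.TensorProduct.includeRight : B0 →ₐ[A0] A' ⊗[A0] B0).toRingHom
  let S : Submonoid (A' ⊗[A0] B0) := Q.primeCompl.map iB
  let ρ : R →+* Localization S := IsLocalization.map (Localization S) iB Q.primeCompl.le_comap_map
  let α : A' →+* Localization S := algebraMap A' (Localization S)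
  have hρ : ∀ b, ρ (algebraMap B0 R b) = algebraMap _ (Localization S) (iB b) := fun b => IsLocalization.map_eq _ b
  let ψ : A →+* R := Localization.localRingHom P0 Q (algebraMap A0 B0) rfl
  have hψ : α.comp η = ρ.comp ψ := by
    refine IsLocalization.ringHom_ext P0.primeCompl (RingHom.ext fun x => ?_)
    show algebraMap A' (Localization S) (algebraMap A0 A' x) = ρ (ψ (algebraMap A0 A x))
    rw [Localization.localRingHom_to_map, hρ, IsScalarTower.algebraMap_apply A' (A' ⊗[A0] B0) (Localization S)]
    congr 1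
    show (algebraMap A0 A' x) ⊗ₜ[A0] (1 : B0) = (1 : A') ⊗ₜ[A0] algebraMap A0 B0 x
    rw [Algebra.algebraMap_eq_smul_one, Algebra.algebraMap_eq_smul_one, TensorProduct.smul_tmul]
  -- a subring containing both images is everything
  have hgen : ∀ U : Subring (Localization S), (∀ r, ρ r ∈ U) → (∀ a, α a ∈ U) → ∀ c, c ∈ U := by
    intro U hUρ hUα c
    have hB : ∀ z : A' ⊗[A0] B0, algebraMap _ (Localization S) z ∈ U := fun z => by
      induction z using TensorProduct.induction_on with
      | zero => rw [map_zero]; exact U.zero_mem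
      | tmul a b =>
        have : a ⊗ₜ[A0] b = algebraMap A' (A' ⊗[A0] B0) a * iB b := by
          show a ⊗ₜ[A0] b = (a ⊗ₜ[A0] (1 : B0)) * ((1 : A') ⊗ₜ[A0] b)
          rw [Algebra.TensorProduct.tmul_mul_tmul, mul_one, one_mul]
        rw [this, map_mul, ← IsScalarTower.algebraMap_apply, ← hρ]
        exact U.mul_mem (hUα a) (hUρ _)
      | add x y hx hy => rw [map_add]; exact U.add_mem hx hy
    obtain ⟨z, ⟨s, hs⟩, rfl⟩ := IsLocalization.exists_mk'_eq S c
    obtain ⟨t, ht, rfl⟩ := hs
    have : IsLocalization.mk' (Localization S) z (⟨iB t, ⟨t, ht, rfl⟩⟩ : S) =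
        algebraMap _ (Localization S) z * ρ (IsLocalization.mk' R 1 ⟨t, ht⟩) := by
      rw [IsLocalization.mk'_eq_iff_eq_mul, mul_assoc, ← hρ, ← map_mul, IsLocalization.mk'_spec, map_one, map_one,
        mul_one]
    rw [this]
    exact U.mul_mem (hB z) (hUρ _)
  -- integrality
  have hint : ρ.IsIntegral := by
    letI := ρ.toAlgebra
    intro c
    refine hgen (integralClosure R (Localization S)).toSubring (fun r => isIntegral_algebraMap) (fun a => ?_) c
    obtain ⟨p, hp, hp0⟩ := hη a
    refine ⟨p.map ψ, hp.map _, ?_⟩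
    rw [Polynomial.eval₂_map]
    show Polynomial.eval₂ (ρ.comp ψ) (α a) p = 0
    rw [← hψ, ← Polynomial.hom_eval₂, hp0, map_zero]
  -- every prime of `R` lifts
  have hsurj : ∀ P : Ideal R, P.IsPrime → ∃ P' : Ideal (Localization S), P'.IsPrime ∧ P'.comap ρ = P := by
    intro P _
    let Pb : PrimeSpectrum B0 := ⟨P.comap (algebraMap B0 R), inferInstance⟩
    obtain ⟨a', ha'p, ha'⟩ : ∃ a' : Ideal A', a'.IsPrime ∧ a'.comap η = P.comap ψ := by
      letI := η.toAlgebra
      haveI : Algebra.IsIntegral A A' := ⟨hη⟩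
      obtain ⟨a', -, h1, h2⟩ := Ideal.exists_ideal_over_prime_of_isIntegral (P.comap ψ) (⊥ : Ideal A')
        (hker.trans (nilradical_le_prime _))
      exact ⟨a', h1, h2⟩
    let ap : PrimeSpectrum A' := ⟨a', ha'p⟩
    let fA : Spec (CommRingCat.of A') ⟶ Spec (CommRingCat.of A0) := Spec.map (CommRingCat.ofHom (algebraMap A0 A'))
    let fB : Spec (CommRingCat.of B0) ⟶ Spec (CommRingCat.of A0) := Spec.map (CommRingCat.ofHom (algebraMap A0 B0))
    have hcomp : fA.base ap = fB.base Pb := by
      apply PrimeSpectrum.ext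
      show a'.comap (algebraMap A0 A') = (P.comap (algebraMap B0 R)).comap (algebraMap A0 B0)
      rw [show algebraMap A0 A' = η.comp (algebraMap A0 A) from rfl, ← Ideal.comap_comap, ha', Ideal.comap_comap,
        Ideal.comap_comap]
      congr 1
      exact RingHom.ext fun x => Localization.localRingHom_to_map P0 Q (algebraMap A0 B0) rfl x
    obtain ⟨w, hw1, hw2⟩ := Scheme.Pullback.exists_preimage_pullback (f := fA) (g := fB) ap Pb hcomp
    let z : PrimeSpectrum (A' ⊗[A0] B0) := (pullbackSpecIso A0 A' B0).hom w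
    have hzB : z.asIdeal.comap iB = Pb.asIdeal := by
      have h := congrArg (fun g : pullback fA fB ⟶ Spec (CommRingCat.of B0) => g.base w)
        (pullbackSpecIso_hom_snd A0 A' B0)
      exact congrArg PrimeSpectrum.asIdeal (h.trans hw2)
    have hdisj : Disjoint (S : Set (A' ⊗[A0] B0)) z.asIdeal := by
      rw [Set.disjoint_left]
      rintro _ ⟨t, ht, rfl⟩ hzt
      have : t ∈ Pb.asIdeal := hzB ▸ hzt
      exact Ideal.IsPrime.ne_top ‹P.IsPrime› (Ideal.eq_top_of_isUnit_mem P this
        (IsLocalization.map_units R (⟨t, ht⟩ : Q.primeCompl)))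
    haveI := IsLocalization.isPrime_of_isPrime_disjoint S (Localization S) z.asIdeal z.isPrime hdisj
    refine ⟨z.asIdeal.map (algebraMap _ (Localization S)), inferInstance, ?_⟩
    apply (IsLocalization.orderEmbedding Q.primeCompl R).injective
    show Ideal.comap (algebraMap B0 R) (Ideal.comap ρ _) = Pb.asIdeal
    have h := IsLocalization.under_map_of_isPrime_disjoint S (Localization S) z.isPrime hdisj
    rw [Ideal.under_def] at h
    rw [Ideal.comap_comap, show ρ.comp (algebraMap B0 R) = (algebraMap _ (Localization S)).comp iB from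
      RingHom.ext hρ, ← Ideal.comap_comap, h]
    exact hzB
  haveI : Nontrivial (Localization S) := by
    obtain ⟨P', hP', -⟩ := hsurj (maximalIdeal R) inferInstance
    exact nontrivial_of_ne 0 1 fun h => hP'.ne_top ((Ideal.eq_top_iff_one _).mpr (h ▸ P'.zero_mem))
  -- maximal ideals of `T` lie over the maximal ideal of `A'`
  have hmax : ∀ M : Ideal (Localization S), M.IsMaximal → M.comap ρ = maximalIdeal R ∧ M.comap α = maximalIdeal A' := by
    intro M _
    letI := ρ.toAlgebra
    haveI : Algebra.IsIntegral R (Localization S) := ⟨hint⟩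
    have h1 : M.comap ρ = maximalIdeal R :=
      IsLocalRing.eq_maximalIdeal (Ideal.isMaximal_comap_of_isIntegral_of_isMaximal M)
    refine ⟨h1, ?_⟩
    letI := η.toAlgebra
    haveI : Algebra.IsIntegral A A' := ⟨hη⟩
    refine IsLocalRing.eq_maximalIdeal (Ideal.isMaximal_of_isIntegral_of_isMaximal_comap (R := A) (M.comap α) ?_)
    show ((M.comap α).comap η).IsMaximal
    rw [Ideal.comap_comap, hψ, ← Ideal.comap_comap, h1, IsLocalRing.maximalIdeal_comap]
    infer_instance
  -- residue extension
  let q := ringExpChar (ResidueField A')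
  let I : Ideal (Localization S) := (maximalIdeal A').map α
  have hI : ∀ M : Ideal (Localization S), M.IsMaximal → I ≤ M := fun M hM =>
    Ideal.map_le_iff_le_comap.mpr (hmax M hM).2.ge
  haveI : Nontrivial (Localization S ⧸ I) := by
    obtain ⟨M, hM⟩ := Ideal.exists_maximal (Localization S)
    exact Ideal.Quotient.nontrivial_iff.mpr fun h => hM.ne_top (top_le_iff.mp (h ▸ hI M hM))
  haveI : ExpChar (A' ⧸ maximalIdeal A') q := ringExpChar.expChar (ResidueField A')
  letI := Ideal.Quotient.field (maximalIdeal A')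
  haveI : ExpChar (Localization S ⧸ I) q :=
    expChar_of_injective_ringHom (f := Ideal.quotientMap I α Ideal.le_comap_map) (RingHom.injective _) q
  have hrad : ∀ c : Localization S, ∃ (n : ℕ) (r : R),
      Ideal.Quotient.mk I c ^ q ^ n = Ideal.Quotient.mk I (ρ r) := by
    let U : Subring (Localization S) :=
      { carrier := {c | ∃ (n : ℕ) (r : R), Ideal.Quotient.mk I c ^ q ^ n = Ideal.Quotient.mk I (ρ r)}
        zero_mem' := ⟨0, 0, by simp⟩
        one_mem' := ⟨0, 1, by simp⟩
        mul_mem' := by
          rintro c d ⟨n, r, h⟩ ⟨m, s, h'⟩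
          refine ⟨n + m, r ^ q ^ m * s ^ q ^ n, ?_⟩
          simp only [map_mul, map_pow]
          rw [← h, ← h', ← pow_mul, ← pow_mul, ← pow_add, ← pow_add, add_comm m n]
          exact mul_pow (Ideal.Quotient.mk I c) (Ideal.Quotient.mk I d) _
        add_mem' := by
          rintro c d ⟨n, r, h⟩ ⟨m, s, h'⟩
          refine ⟨n + m, r ^ q ^ m + s ^ q ^ n, ?_⟩
          simp only [map_add, map_pow]
          rw [← h, ← h', ← pow_mul, ← pow_mul, ← pow_add, ← pow_add, add_comm m n]
          exact add_pow_expChar_pow (Ideal.Quotient.mk I c) (Ideal.Quotient.mk I d) q _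
        neg_mem' := by
          rintro c ⟨n, r, h⟩
          refine ⟨n, (-1) ^ q ^ n * r, ?_⟩
          have e : Ideal.Quotient.mk I (-c) = Ideal.Quotient.mk I (ρ (-1)) * Ideal.Quotient.mk I c := by
            rw [← map_mul, map_neg ρ, map_one]
            exact congrArg _ (neg_one_mul c).symm
          simp only [map_mul, map_pow]
          rw [e, ← h]
          exact mul_pow (Ideal.Quotient.mk I (ρ (-1))) (Ideal.Quotient.mk I c) _ }
    refine hgen U (fun r => ⟨0, r, by simp⟩) fun a => ?_
    obtain ⟨n, x, hx⟩ := hres a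
    refine ⟨n, ψ x, ?_⟩
    rw [← map_pow, Ideal.Quotient.eq, show ρ (ψ x) = α (η x) from (RingHom.congr_fun hψ x).symm, ← map_pow,
      ← map_sub]
    exact Ideal.mem_map_of_mem α hx
  -- `T` is local
  haveI hloc : IsLocalRing (Localization S) := by
    have key : ∀ (M : Ideal (Localization S)) (_ : M.IsMaximal) (c : Localization S) (n : ℕ) (r : R),
        Ideal.Quotient.mk I c ^ q ^ n = Ideal.Quotient.mk I (ρ r) → (c ∈ M ↔ r ∈ maximalIdeal R) := by
      intro M hM c n r h
      rw [← map_pow, Ideal.Quotient.eq] at h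
      rw [← (hmax M hM).1, Ideal.mem_comap, ← hM.isPrime.pow_mem_iff_mem (q ^ n)
        (pow_pos (expChar_pos (Localization S ⧸ I) q) n)]
      exact ⟨fun h' => by simpa using M.sub_mem h' (hI M hM h), fun h' => by simpa using M.add_mem (hI M hM h) h'⟩
    obtain ⟨M, hM⟩ := Ideal.exists_maximal (Localization S)
    refine IsLocalRing.of_unique_max_ideal ⟨M, hM, fun M' hM' => ?_⟩
    ext c
    obtain ⟨n, r, h⟩ := hrad c
    exact (key M' hM' c n r h).trans (key M hM c n r h).symm
  -- `T` is a normal domain
  let q' : PrimeSpectrum (A' ⊗[A0] B0) :=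
    ⟨(maximalIdeal (Localization S)).comap (algebraMap _ (Localization S)), inferInstance⟩
  have hNG : NG (Spec.map (CommRingCat.ofHom (algebraMap A' (A' ⊗[A0] B0)))) q' := by
    have hsq := isPullback_SpecMap_of_isPushout _ _ _ _ (CommRingCat.isPushout_tensorProduct A0 A' B0).flip
    refine (ng_iff_of_isPullback _ hsq q').mpr ?_
    convert hQ using 1
    apply PrimeSpectrum.ext
    show Ideal.comap iB q'.asIdeal = Q
    rw [Ideal.comap_comap, show (algebraMap _ (Localization S)).comp iB = ρ.comp (algebraMap B0 R) from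
      RingHom.ext fun b => (hρ b).symm, ← Ideal.comap_comap,
      (hmax _ inferInstance).1]
    exact IsLocalization.AtPrime.under_maximalIdeal R Q
  obtain ⟨_, _⟩ := normal_localization_of_flat_fp A' (A' ⊗[A0] B0) q' hNG
  let e₁ := (IsLocalization.localizationLocalizationAtPrimeIsoLocalization (M := S)
    (maximalIdeal (Localization S))).toRingEquiv
  let e₂ := (IsLocalization.atUnits (Localization S) (maximalIdeal (Localization S)).primeCompl
    (S := Localization.AtPrime (maximalIdeal (Localization S))) (fun x hx => notMem_maximalIdeal.mp hx)).toRingEquiv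
  let e := e₂.trans e₁.symm
  haveI : IsDomain (Localization S) := e.toMulEquiv.isDomain _
  haveI : IsIntegrallyClosed (Localization S) := IsIntegrallyClosed.of_equiv e.symm
  -- `A'` embeds in `T`
  have hα : ∀ a, a ≠ 0 → α a ≠ 0 := by
    intro a ha h
    haveI : Module.Flat A' (Localization S) := Module.Flat.trans A' (A' ⊗[A0] B0) _
    refine one_ne_zero (α := Localization S) (Module.Flat.isSMulRegular_of_nonZeroDivisors (M := Localization S)
      (mem_nonZeroDivisors_of_ne_zero ha) (?_ : a • (1 : Localization S) = a • 0))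
    rw [smul_zero, Algebra.smul_def, mul_one]
    exact h
  -- assemble
  haveI : IsDomain (R ⧸ RingHom.ker ρ) := by
    haveI := RingHom.ker_isPrime ρ
    exact Ideal.Quotient.isDomain _
  refine isGeomUnibranch_of_model (Ideal.Quotient.mk (RingHom.ker ρ)) Ideal.Quotient.mk_surjective ?_
    (RingHom.kerLift ρ) (RingHom.kerLift_injective ρ) (fun c => by
      obtain ⟨p, hp, hp0⟩ := hint c
      refine ⟨p.map (Ideal.Quotient.mk (RingHom.ker ρ)), hp.map _, ?_⟩
      rw [Polynomial.eval₂_map]
      exact hp0) ?_ ?_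
  · rw [Ideal.mk_ker, nilradical_eq_sInf]
    refine le_sInf fun P hP => ?_
    obtain ⟨P', hP', rfl⟩ := hsurj P hP
    exact fun r hr => Ideal.mem_comap.mpr ((RingHom.mem_ker.mp hr).symm ▸ P'.zero_mem)
  · let U : Subring (Localization S) :=
      { carrier := {c | ∃ a b : R, ρ b ≠ 0 ∧ c * ρ b = ρ a}
        zero_mem' := ⟨0, 1, by simp, by simp⟩
        one_mem' := ⟨1, 1, by simp, by simp⟩
        mul_mem' := by
          rintro c d ⟨a, b, hb, h⟩ ⟨a', b', hb', h'⟩
          refine ⟨a * a', b * b', by simp [hb, hb'], ?_⟩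
          simp only [map_mul]
          rw [← h, ← h']
          ring
        add_mem' := by
          rintro c d ⟨a, b, hb, h⟩ ⟨a', b', hb', h'⟩
          refine ⟨a * b' + a' * b, b * b', by simp [hb, hb'], ?_⟩
          simp only [map_add, map_mul]
          rw [← h, ← h']
          ring
        neg_mem' := by
          rintro c ⟨a, b, hb, h⟩
          refine ⟨-a, b, hb, ?_⟩
          rw [map_neg, ← h]
          ring }
    intro c
    obtain ⟨a, b, hb, h⟩ := hgen U (fun r => ⟨r, 1, by simp, by simp⟩) (fun a => by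
      obtain ⟨n, d, hd, h⟩ := hfrac a
      refine ⟨ψ n, ψ d, ?_, ?_⟩
      · rw [show ρ (ψ d) = α (η d) from (RingHom.congr_fun hψ d).symm]
        exact hα _ hd
      · rw [show ρ (ψ d) = α (η d) from (RingHom.congr_fun hψ d).symm,
          show ρ (ψ n) = α (η n) from (RingHom.congr_fun hψ n).symm, ← map_mul, h]) c
    exact ⟨Ideal.Quotient.mk _ a, Ideal.Quotient.mk _ b,
      fun h0 => hb (RingHom.mem_ker.mp (Ideal.Quotient.eq_zero_iff_mem.mp h0)), h⟩
  · intro c
    obtain ⟨n, r, hr⟩ := hrad c
    have hq : ringExpChar (ResidueField (Localization S)) = q := by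
      let χ : A' ⧸ maximalIdeal A' →+* ResidueField (Localization S) :=
        Ideal.quotientMap (maximalIdeal (Localization S)) α (hmax _ inferInstance).2.ge
      haveI : ExpChar (ResidueField (Localization S)) q :=
        expChar_of_injective_ringHom (f := χ) (RingHom.injective _) q
      exact ringExpChar.eq _ q
    refine ⟨n, Ideal.Quotient.mk _ r, ?_⟩
    rw [hq, RingHom.kerLift_mk]
    rw [← map_pow, Ideal.Quotient.eq] at hr
    exact hI _ inferInstance hr

end Groth.Agent.E4O
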