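import Groth.Agent.Helper62.FlatNilCrit
import Groth.Agent.FlatCrit65.Basic
import Groth.Agent.Frg27.FlatTrunc
import Mathlib

/-!
EGA IV 11.2: flatness of ideally separated modules from finitely many localisations.
-/

set_option autoImplicit false
set_option linter.style.haveILetI false

noncomputable section

universe u

open TensorProduct

namespace Groth.Agent.E4O.IdealSep

variable {A : Type u} [CommRing A]

/-- Flatness modulo an ideal descends to a smaller quotient of the base. -/
theorem flat_quotient_of_le {c b : Ideal A} (h : c ≤ b) (M : Type u) [AddCommGroup M] [Module A M]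
    (hM : Module.Flat (A ⧸ c) ((A ⧸ c) ⊗[A] M)) : Module.Flat (A ⧸ b) ((A ⧸ b) ⊗[A] M) := by
  have := FlatNilCrit62.flat_baseChange_quotient c M hM A b (by simpa using h)
  exact Module.Flat.of_linearEquiv (AlgebraTensorModule.congr (LinearEquiv.refl (A ⧸ b) (A ⧸ b))
    (TensorProduct.lid A M)).symm

/-- An ideally separated module flat modulo all powers of the ideal is flat. -/
theorem flat_of_forall_flat_pow [IsNoetherianRing A] (J : Ideal A) (M : Type u) [AddCommGroup M] [Module A M]
    (hsep : ∀ a : Ideal A, IsHausdorff J (↥a ⊗[A] M))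
    (h : ∀ n : ℕ, Module.Flat (A ⧸ J ^ n) ((A ⧸ J ^ n) ⊗[A] M)) : Module.Flat A M := by
  have hlex : FlatCrit65.LexQuot J M := FlatCrit65.lexQuot_of_flat fun n => h n
  rw [Module.Flat.iff_lTensor_injective]
  intro I _
  obtain ⟨c, hc⟩ := Ideal.exists_pow_inf_eq_pow_smul J (I : Submodule A A)
  rw [injective_iff_map_eq_zero]
  intro x hx
  have hk := Frg27.mem_pow_smul_of_lexQuot hlex I (c := c) (fun m => by
    rw [hc (m + c) le_add_self, Nat.add_sub_cancel]
    exact Submodule.smul_mono le_rfl inf_le_right) x hx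
  refine (TensorProduct.comm A M ↥I).injective ?_
  rw [map_zero]
  refine (hsep I).haus _ fun k => SModEq.zero.mpr ?_
  have := Submodule.mem_map_of_mem (f := (TensorProduct.comm A M ↥I).toLinearMap) (hk k)
  rw [Submodule.map_smul''] at this
  exact Submodule.smul_mono le_rfl le_top this

/-- Flatness modulo an ideal from finitely many localisations jointly detecting it. -/
theorem flat_quotient_of_local {κ : Type u} [Finite κ] (P : κ → Ideal A) [∀ i, (P i).IsPrime]
    (J c : Ideal A) (k : ℕ) (hc : J ^ (k + 1) ≤ c)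
    (hjoint : ∀ a : A, (∀ i, ∃ t ∉ P i, t * a ∈ c) → a ∈ c)
    (M : Type u) [AddCommGroup M] [Module A M] (hJ : Module.Flat (A ⧸ J) ((A ⧸ J) ⊗[A] M))
    (hP : ∀ i, Module.Flat (Localization.AtPrime (P i)) (LocalizedModule (P i).primeCompl M)) :
    Module.Flat (A ⧸ c) ((A ⧸ c) ⊗[A] M) := by
  let B : κ → Type u := fun i => (A ⧸ c) ⊗[A] Localization.AtPrime (P i)
  have hB : ∀ i, Module.Flat (Localization.AtPrime (P i)) (Localization.AtPrime (P i) ⊗[A] M) := fun i =>
    have := hP i
    Module.Flat.of_linearEquiv (LocalizedModule.equivTensorProduct (P i).primeCompl M).symm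
  refine FlatNilCrit62.flat_of_flat_family (A := A ⧸ c) k (J.map (Ideal.Quotient.mk c)) ?_ B
    (fun i => Module.Flat.baseChange A (A ⧸ c) (Localization.AtPrime (P i))) ?_ ((A ⧸ c) ⊗[A] M)
    (fun i => FlatNilCrit62.flat_tensor_algebra (A ⧸ c) (Localization.AtPrime (P i)) M (hB i))
    (FlatNilCrit62.flat_baseChange_quotient J M hJ (A ⧸ c) _ le_rfl)
  · rw [← Ideal.map_pow, Ideal.map_eq_bot_iff_le_ker, Ideal.mk_ker]
    exact hc
  · intro a ha
    obtain ⟨a, rfl⟩ := Ideal.Quotient.mk_surjective a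
    rw [Ideal.Quotient.eq_zero_iff_mem]
    refine hjoint a fun i => ?_
    have hloc : IsLocalizedModule (P i).primeCompl
        (TensorProduct.mk A (Localization.AtPrime (P i)) (A ⧸ c) 1) :=
      (isLocalizedModule_iff_isBaseChange (P i).primeCompl (Localization.AtPrime (P i)) _).2
        (TensorProduct.isBaseChange A (A ⧸ c) (Localization.AtPrime (P i)))
    have h0 : TensorProduct.mk A (Localization.AtPrime (P i)) (A ⧸ c) 1 (Ideal.Quotient.mk c a) = 0 := by
      have h := congrArg (TensorProduct.comm A (A ⧸ c) (Localization.AtPrime (P i))) (ha i)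
      rw [map_zero] at h
      exact h
    obtain ⟨t, ht⟩ := (IsLocalizedModule.eq_zero_iff (P i).primeCompl _).1 h0
    refine ⟨t.1, t.2, ?_⟩
    rw [← Ideal.Quotient.eq_zero_iff_mem, map_mul]
    exact ht

/-- Flatness from localisations at primes whose symbolic powers define the topology. -/
theorem flat_of_symbolicPowers [IsNoetherianRing A] (J : Ideal A) (M : Type u) [AddCommGroup M] [Module A M]
    (hsep : ∀ a : Ideal A, IsHausdorff J (↥a ⊗[A] M)) {κ : Type u} [Finite κ] (P : κ → Ideal A)
    [∀ i, (P i).IsPrime] (hp : ∀ i, J ≤ P i)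
    (htop : ∀ n : ℕ, ∃ m : ℕ, ⨅ i, Ideal.comap (algebraMap A (Localization.AtPrime (P i)))
      (IsLocalRing.maximalIdeal (Localization.AtPrime (P i)) ^ m) ≤ J ^ n)
    (hJ : Module.Flat (A ⧸ J) ((A ⧸ J) ⊗[A] M))
    (hP : ∀ i, Module.Flat (Localization.AtPrime (P i)) (LocalizedModule (P i).primeCompl M)) :
    Module.Flat A M := by
  refine flat_of_forall_flat_pow J M hsep fun n => ?_
  obtain ⟨m, hm⟩ := htop n
  refine flat_quotient_of_le hm M (flat_quotient_of_local P J _ m ?_ ?_ M hJ hP)
  · refine le_iInf fun i => (Ideal.pow_le_pow_right m.le_succ).trans ((Ideal.pow_right_mono (hp i) m).trans ?_)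
    rw [← Ideal.map_le_iff_le_comap, Ideal.map_pow, Localization.AtPrime.map_eq_maximalIdeal]
  · intro a ha
    rw [Ideal.mem_iInf]
    intro i
    obtain ⟨t, ht, hta⟩ := ha i
    have h := Ideal.mem_iInf.1 hta i
    rw [Ideal.mem_comap, map_mul] at h
    rw [Ideal.mem_comap]
    exact (Ideal.unit_mul_mem_iff_mem _
      (IsLocalization.map_units (Localization.AtPrime (P i)) (⟨t, ht⟩ : (P i).primeCompl))).1 h

/-- Localisations at associated primes detect membership in powers when the graded ring is flat. -/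
theorem mem_pow_of_forall_assocPrime [IsNoetherianRing A] (J : Ideal A)
    (hgr : ∀ k : ℕ, Module.Flat (A ⧸ J) ((A ⧸ J) ⊗[A] ↥(J ^ k))) (n : ℕ) (a : A)
    (ha : ∀ q : associatedPrimes A (A ⧸ J), ∃ t ∉ q.1, t * a ∈ J ^ n) : a ∈ J ^ n := by
  classical
  have : Finite (associatedPrimes A (A ⧸ J)) := (associatedPrimes.finite A (A ⧸ J)).to_subtype
  have := Fintype.ofFinite (associatedPrimes A (A ⧸ J))
  choose t ht hta using ha
  let φ : A ⧸ J →ₗ[A ⧸ J] (associatedPrimes A (A ⧸ J) → A ⧸ J) :=
    LinearMap.pi fun q => LinearMap.mulLeft (A ⧸ J) (Ideal.Quotient.mk J (t q))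
  have hφ : Function.Injective φ := by
    rw [injective_iff_map_eq_zero]
    intro x hx
    by_contra hx0
    obtain ⟨Q, hQ, hle⟩ := exists_le_isAssociatedPrime_of_isNoetherianRing A x hx0
    refine ht ⟨Q, hQ⟩ (hle (Submodule.mem_colon_singleton.mpr ?_))
    have h := congrFun hx ⟨Q, hQ⟩
    rw [Submodule.mem_bot, Algebra.smul_def]
    exact h
  suffices ∀ k ≤ n, a ∈ J ^ k from this n le_rfl
  intro k hk
  induction k with
  | zero => simp
  | succ k ih =>
    specialize ih (by omega)
    have := hgr k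
    let N := (A ⧸ J) ⊗[A] ↥(J ^ k)
    let cls : N := 1 ⊗ₜ[A] (⟨a, ih⟩ : ↥(J ^ k))
    have hcls : ∀ q, Ideal.Quotient.mk J (t q) • cls = 0 := by
      intro q
      have hmem : (⟨t q * a, (J ^ k).mul_mem_left _ ih⟩ : ↥(J ^ k)) ∈ J • (⊤ : Submodule A ↥(J ^ k)) := by
        have hm : t q * a ∈ (J • (⊤ : Submodule A ↥(J ^ k))).map (J ^ k).subtype := by
          rw [Submodule.map_smul'', Submodule.map_top, Submodule.range_subtype, smul_eq_mul, ← pow_succ']
          exact Ideal.pow_le_pow_right hk (hta q)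
        obtain ⟨z, hz, hze⟩ := hm
        obtain rfl : z = (⟨t q * a, (J ^ k).mul_mem_left _ ih⟩ : ↥(J ^ k)) := Subtype.ext hze
        exact hz
      have h0 : (1 : A ⧸ J) ⊗ₜ[A] (⟨t q * a, (J ^ k).mul_mem_left _ ih⟩ : ↥(J ^ k)) = 0 := by
        refine (TensorProduct.quotTensorEquivQuotSMul ↥(J ^ k) J).injective ?_
        rw [show (1 : A ⧸ J) = Ideal.Quotient.mk J 1 from rfl,
          TensorProduct.quotTensorEquivQuotSMul_mk_tmul, one_smul, map_zero]
        exact (Submodule.Quotient.mk_eq_zero _).2 hmem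
      rw [← h0, TensorProduct.smul_tmul', smul_eq_mul, mul_one]
      rw [show Ideal.Quotient.mk J (t q) = t q • (1 : A ⧸ J) by rw [Algebra.smul_def, mul_one]; rfl, smul_tmul]
      rfl
    have hcls0 : cls = 0 := by
      have hinj := Module.Flat.rTensor_preserves_injective_linearMap (M := N) φ hφ
      have h1 : φ.rTensor N (1 ⊗ₜ[A ⧸ J] cls) = 0 := by
        rw [LinearMap.rTensor_tmul, pi_eq_sum_univ (φ 1), TensorProduct.sum_tmul]
        refine Finset.sum_eq_zero fun q _ => ?_
        rw [TensorProduct.smul_tmul, show φ 1 q = Ideal.Quotient.mk J (t q) by simp [φ], hcls, tmul_zero]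
      have h2 := hinj (h1.trans (map_zero _).symm)
      have h3 := congrArg (TensorProduct.lid (A ⧸ J) N) h2
      simpa using h3
    have h4 := congrArg (TensorProduct.quotTensorEquivQuotSMul ↥(J ^ k) J) hcls0
    rw [map_zero, show cls = Ideal.Quotient.mk J 1 ⊗ₜ[A] (⟨a, ih⟩ : ↥(J ^ k)) from rfl,
      TensorProduct.quotTensorEquivQuotSMul_mk_tmul, one_smul, Submodule.Quotient.mk_eq_zero] at h4
    have h5 := Submodule.mem_map_of_mem (f := (J ^ k).subtype) h4
    rw [Submodule.map_smul'', Submodule.map_top, Submodule.range_subtype, smul_eq_mul, ← pow_succ'] at h5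
    exact h5

/-- Flatness from localisations at associated primes when the graded ring is flat. -/
theorem flat_of_gr_flat [IsNoetherianRing A] (J : Ideal A) (M : Type u) [AddCommGroup M] [Module A M]
    (hsep : ∀ a : Ideal A, IsHausdorff J (↥a ⊗[A] M))
    (hgr : ∀ k : ℕ, Module.Flat (A ⧸ J) ((A ⧸ J) ⊗[A] ↥(J ^ k)))
    (hJ : Module.Flat (A ⧸ J) ((A ⧸ J) ⊗[A] M))
    (hP : ∀ q : associatedPrimes A (A ⧸ J),
      haveI : q.1.IsPrime := IsAssociatedPrime.isPrime q.2
      Module.Flat (Localization.AtPrime q.1) (LocalizedModule q.1.primeCompl M)) :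
    Module.Flat A M := by
  have : Finite (associatedPrimes A (A ⧸ J)) := (associatedPrimes.finite A (A ⧸ J)).to_subtype
  haveI : ∀ q : associatedPrimes A (A ⧸ J), q.1.IsPrime := fun q => IsAssociatedPrime.isPrime q.2
  refine flat_of_forall_flat_pow J M hsep fun n => ?_
  exact flat_quotient_of_local (fun q : associatedPrimes A (A ⧸ J) => q.1) J (J ^ n) n
    (Ideal.pow_le_pow_right n.le_succ) (fun a ha => mem_pow_of_forall_assocPrime J hgr n a ha) M hJ hP

end Groth.Agent.E4O.IdealSep
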