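import Groth.Agent.FlatMor66.BCStalk
import Mathlib.AlgebraicGeometry.Morphisms.Preimmersion
import Mathlib.RingTheory.Flat.FaithfullyFlat.Algebra

/-!
Infinitesimal neighbourhoods of a fibre: stalks and flatness.
-/

set_option autoImplicit false
set_option backward.isDefEq.respectTransparency.types false
set_option linter.style.haveILetI false
universe u

open CategoryTheory Limits AlgebraicGeometry TensorProduct

namespace Groth.Agent.E4O

variable {X Y : Scheme.{u}}

/-- A preimmersion induces isomorphisms on residue fields. -/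
theorem residueFieldMap_bijective_of_preimmersion (h : X ⟶ Y) [IsPreimmersion h] (x : X) :
    Function.Bijective (h.residueFieldMap x) := by
  refine ⟨(h.residueFieldMap x).hom.injective, fun z => ?_⟩
  obtain ⟨w, rfl⟩ := X.residue_surjective x z
  obtain ⟨v, rfl⟩ := (h.stalkMap_surjective x) w
  exact ⟨Y.residue (h x) v, congr($(Scheme.residue_residueFieldMap h x) v)⟩

variable (y : Y) (I : Ideal (Y.presheaf.stalk y))

/-- The closed subscheme of the local scheme at `y` cut out by an ideal, as a `Y`-scheme. -/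
noncomputable def infNbhd : Spec (CommRingCat.of (Y.presheaf.stalk y ⧸ I)) ⟶ Y :=
  Spec.map (CommRingCat.ofHom (Ideal.Quotient.mk I)) ≫ Y.fromSpecStalk y

instance : IsPreimmersion (infNbhd y I) := by
  have : IsPreimmersion (Spec.map (CommRingCat.ofHom (Ideal.Quotient.mk I))) := by
    have := IsClosedImmersion.spec_of_surjective (CommRingCat.ofHom (Ideal.Quotient.mk I))
      Ideal.Quotient.mk_surjective
    infer_instance
  unfold infNbhd
  infer_instance

variable [IsLocalRing (Y.presheaf.stalk y ⧸ I)]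

theorem isLocalHom_mk : IsLocalHom (Ideal.Quotient.mk I) :=
  IsLocalHom.of_surjective _ Ideal.Quotient.mk_surjective

theorem infNbhd_closedPoint : infNbhd y I (IsLocalRing.closedPoint (Y.presheaf.stalk y ⧸ I)) = y := by
  haveI : IsLocalHom (CommRingCat.ofHom (Ideal.Quotient.mk I)).hom := isLocalHom_mk y I
  rw [infNbhd, Scheme.Hom.comp_apply, Spec_closedPoint, Scheme.fromSpecStalk_closedPoint]

/-- Flatness over an infinitesimal neighbourhood, for any pullback square. -/
theorem flat_quotient_tensor_of_isPullback {Z : Scheme.{u}} (f : X ⟶ Y) (F : X.Modules)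
    (hF : Coh.IsQCoh F) (x : X) (p : Z ⟶ X) (xB : Z) (hx : p xB = x)
    (I : Ideal (Y.presheaf.stalk (f x))) [IsLocalRing (Y.presheaf.stalk (f x) ⧸ I)]
    (fB : Z ⟶ Spec (CommRingCat.of (Y.presheaf.stalk (f x) ⧸ I))) (hc : IsPullback p fB f (infNbhd (f x) I))
    (h : FlatMod.IsFlatOverAt fB ((Scheme.Modules.pullback p).obj F) xB) :
    letI := FlatMod.moduleStalkOver f F x
    Module.Flat (Y.presheaf.stalk (f x) ⧸ I)
      ((Y.presheaf.stalk (f x) ⧸ I) ⊗[Y.presheaf.stalk (f x)] (F.presheaf.stalk x : Type u)) := by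
  subst hx
  let b := infNbhd (f (p xB)) I
  let O := Y.presheaf.stalk (f (p xB))
  let B := O ⧸ I
  let z := IsLocalRing.closedPoint B
  have hb : b z = f (p xB) := infNbhd_closedPoint (f (p xB)) I
  have hz : fB xB = z := b.isEmbedding.injective (by
    rw [hb, ← Scheme.Hom.comp_apply, ← hc.w, Scheme.Hom.comp_apply])
  have : F.IsQuasicoherent := hF
  obtain ⟨E⟩ := FlatMor68.PullbackStalk.nonempty_stalkPullbackEquiv p F xB
  let T := Z.presheaf.stalk xB
  haveI : IsPreimmersion p := MorphismProperty.of_isPullback hc.flip (inferInstance : IsPreimmersion b)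
  let Ox := X.presheaf.stalk (p xB)
  let C := (Spec (CommRingCat.of B)).presheaf.stalk (fB xB)
  have e₀ : b (fB xB) = f (p xB) := by
    rw [← Scheme.Hom.comp_apply, ← hc.w, Scheme.Hom.comp_apply]
  letI : Algebra O Ox := (f.stalkMap (p xB)).hom.toAlgebra
  letI : Algebra O C := ((Y.presheaf.stalkCongr (.of_eq e₀.symm)).hom ≫ b.stalkMap (fB xB)).hom.toAlgebra
  -- the local ring of the neighbourhood
  let σ : C ≃+* B := ((Spec (CommRingCat.of B)).presheaf.stalkCongr (.of_eq hz) ≪≫
    stalkClosedPointIso (CommRingCat.of B)).commRingCatIsoToRingEquiv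
  have hσ : ∀ o : O, σ (algebraMap O C o) = Ideal.Quotient.mk I o := by
    intro o
    haveI : IsLocalHom (CommRingCat.ofHom (Ideal.Quotient.mk I)).hom := isLocalHom_mk (f (p xB)) I
    obtain ⟨U, hU, o, rfl⟩ := Y.presheaf.exists_germ_eq o
    show (stalkClosedPointIso (CommRingCat.of B)).hom
      (((Spec (CommRingCat.of B)).presheaf.stalkCongr (.of_eq hz)).hom (b.stalkMap (fB xB)
        ((Y.presheaf.stalkCongr (.of_eq e₀.symm)).hom (Y.presheaf.germ U _ hU o)))) = _
    simp only [TopCat.Presheaf.stalkCongr_hom, TopCat.Presheaf.germ_stalkSpecializes_apply,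
      Scheme.Hom.germ_stalkMap_apply]
    erw [TopCat.Presheaf.germ_stalkSpecializes_apply]
    have h1 := congr($(Scheme.germ_stalkClosedPointTo_Spec_fromSpecStalk
      (CommRingCat.ofHom (Ideal.Quotient.mk I)) U (show b z ∈ U from hb.symm ▸ hU)) o)
    rw [Scheme.stalkClosedPointTo, CommRingCat.comp_apply, CommRingCat.comp_apply,
      Scheme.Hom.germ_stalkMap_apply] at h1
    exact h1
  have hsC : Function.Surjective (algebraMap O C) := fun c => by
    obtain ⟨o, ho⟩ := Ideal.Quotient.mk_surjective (σ c)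
    exact ⟨o, σ.injective ((hσ o).trans ho)⟩
  -- the local ring of the product
  obtain ⟨τ, hτ, hτB, hτC⟩ := FlatMor66.exists_tensor_stalk_flat hc xB (p xB) (fB xB)
    (f (p xB)) rfl rfl rfl e₀ (by simp [RingHom.algebraMap_toAlgebra, TopCat.Presheaf.stalkCongr_hom]) rfl
  have hs1 : ∀ t : Ox ⊗[O] C, ∃ a : Ox, t = a ⊗ₜ 1 := by
    intro t
    induction t using TensorProduct.induction_on with
    | zero => exact ⟨0, (zero_tmul _ _).symm⟩
    | add u v hu hv =>
      obtain ⟨a, rfl⟩ := hu; obtain ⟨a', rfl⟩ := hv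
      exact ⟨a + a', (add_tmul _ _ _).symm⟩
    | tmul a c =>
      obtain ⟨o, rfl⟩ := hsC c
      exact ⟨o • a, by rw [Algebra.algebraMap_eq_smul_one, tmul_smul, smul_tmul']⟩
  have hpτ : ∀ a : Ox, τ (a ⊗ₜ 1) = p.stalkMap xB a := fun a => by
    rw [hτB a]
    simp [TopCat.Presheaf.stalkCongr_hom]
  have hτs : Function.Surjective τ := fun t => by
    obtain ⟨a, rfl⟩ := p.stalkMap_surjective xB t
    exact ⟨a ⊗ₜ 1, hpτ a⟩
  haveI : Nontrivial (Ox ⊗[O] C) := by
    by_contra hne
    rw [not_nontrivial_iff_subsingleton] at hne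
    have := congrArg τ (Subsingleton.elim (1 : Ox ⊗[O] C) 0)
    rw [map_one, map_zero] at this
    exact one_ne_zero this
  haveI : IsLocalRing (Ox ⊗[O] C) := IsLocalRing.of_surjective'
    (Algebra.TensorProduct.includeLeftRingHom : Ox →+* Ox ⊗[O] C) fun t => (hs1 t).imp fun a ha => ha.symm
  have hτinj : Function.Injective τ := by
    letI : Algebra (Ox ⊗[O] C) T := τ.toAlgebra
    haveI : Module.Flat (Ox ⊗[O] C) T := hτ
    haveI : IsLocalHom (algebraMap (Ox ⊗[O] C) T) := IsLocalHom.of_surjective _ hτs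
    haveI : Module.FaithfullyFlat (Ox ⊗[O] C) T := Module.FaithfullyFlat.of_flat_of_isLocalHom
    exact FaithfulSMul.algebraMap_injective (Ox ⊗[O] C) T
  -- compare modules
  letI := FlatMod.moduleStalkOver f F (p xB)
  let M : Type u := F.presheaf.stalk (p xB)
  haveI : IsScalarTower O Ox M := IsScalarTower.of_algebraMap_smul fun _ _ => rfl
  letI : Algebra Ox T := (p.stalkMap xB).hom.toAlgebra
  letI : Algebra C T := (fB.stalkMap xB).hom.toAlgebra
  letI : Algebra C (Ox ⊗[O] C) := Algebra.TensorProduct.rightAlgebra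
  let F' := (Scheme.Modules.pullback p).obj F
  letI : Module C (F'.presheaf.stalk xB) := FlatMod.moduleStalkOver fB F' xB
  haveI : IsScalarTower C T (F'.presheaf.stalk xB) := IsScalarTower.of_algebraMap_smul fun _ _ => rfl
  haveI : Module.Flat C (F'.presheaf.stalk xB) := h
  haveI h2 : Module.Flat C (T ⊗[Ox] M) := Module.Flat.of_linearEquiv (E.symm.restrictScalars C)
  let τ' : (Ox ⊗[O] C) ≃ₐ[Ox] T :=
    { RingEquiv.ofBijective τ ⟨hτinj, hτs⟩ with commutes' := fun a => hpτ a }
  let e2 : (Ox ⊗[O] C) ⊗[Ox] M ≃ₗ[O] C ⊗[O] M :=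
    ((TensorProduct.comm Ox (Ox ⊗[O] C) M).restrictScalars O) ≪≫ₗ
      ((AlgebraTensorModule.cancelBaseChange O Ox Ox M C).restrictScalars O) ≪≫ₗ TensorProduct.comm O M C
  let σl : C ≃ₗ[O] B :=
    { σ.toAddEquiv with
      map_smul' := fun o c => by
        show σ (o • c) = o • σ c
        rw [Algebra.smul_def, map_mul, hσ, Algebra.smul_def]; rfl }
  let e3 : T ⊗[Ox] M ≃+ B ⊗[O] M :=
    ((TensorProduct.congr τ'.symm.toLinearEquiv (LinearEquiv.refl Ox M)).toAddEquiv.trans e2.toAddEquiv).trans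
      (TensorProduct.congr σl (LinearEquiv.refl O M)).toAddEquiv
  letI : Module C (B ⊗[O] M) := Module.compHom _ σ.toRingHom
  have he3 : ∀ (a : Ox) (m : M), e3 (τ (a ⊗ₜ[O] (1 : C)) ⊗ₜ[Ox] m) = (1 : B) ⊗ₜ[O] (a • m) := by
    intro a m
    show TensorProduct.congr σl (LinearEquiv.refl O M) (e2 ((τ'.symm (τ' (a ⊗ₜ[O] (1 : C)))) ⊗ₜ[Ox] m)) = _
    rw [AlgEquiv.symm_apply_apply]
    show σ 1 ⊗ₜ[O] (a • m) = _
    rw [map_one]
  have he : ∀ (c : C) (w : T ⊗[Ox] M), e3 (c • w) = c • e3 w := by
    intro c w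
    obtain ⟨o, rfl⟩ := hsC c
    induction w using TensorProduct.induction_on with
    | zero => simp
    | add u v hu hv => simp only [smul_add, map_add, hu, hv]
    | tmul t m =>
      obtain ⟨a, rfl⟩ := p.stalkMap_surjective xB t
      rw [TensorProduct.smul_tmul']
      have h3 : algebraMap O C o • p.stalkMap xB a = τ ((o • a) ⊗ₜ[O] (1 : C)) := by
        rw [Algebra.smul_def, ← hpτ a]
        show (fB.stalkMap xB).hom (algebraMap O C o) * _ = _
        have h4 : τ ((1 : Ox) ⊗ₜ[O] algebraMap O C o) = (fB.stalkMap xB).hom (algebraMap O C o) := by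
          rw [hτC]; simp [TopCat.Presheaf.stalkCongr_hom]
        rw [← h4, ← map_mul, Algebra.TensorProduct.tmul_mul_tmul, one_mul, mul_one,
          Algebra.algebraMap_eq_smul_one, tmul_smul, smul_tmul']
      show e3 ((algebraMap O C o • p.stalkMap xB a) ⊗ₜ[Ox] m) = σ (algebraMap O C o) • e3 ((p.stalkMap xB a) ⊗ₜ[Ox] m)
      rw [h3, ← hpτ a, he3, he3, hσ, TensorProduct.smul_tmul', smul_eq_mul, mul_one, smul_assoc,
        tmul_smul, smul_tmul']
      rw [Algebra.smul_def, mul_one]; rfl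
  haveI : Module.Flat C (B ⊗[O] M) := Module.Flat.of_linearEquiv
    ({ e3 with map_smul' := he } : T ⊗[Ox] M ≃ₗ[C] B ⊗[O] M).symm
  letI := σ.symm.toRingHom.toAlgebra
  haveI : IsScalarTower B C (B ⊗[O] M) := IsScalarTower.of_algebraMap_smul fun r w => by
    show σ (σ.symm r) • w = r • w
    rw [RingEquiv.apply_symm_apply]
  haveI : Module.Flat B C := RingHom.Flat.of_bijective σ.symm.bijective
  exact Module.Flat.trans B C (B ⊗[O] M)


/-- Flatness at the point over `x` of an infinitesimal neighbourhood of the fibre gives flatness of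
the reduction of the stalk. -/
theorem flat_quotient_tensor_of_isFlatOverAt (f : X ⟶ Y) (F : X.Modules) (hF : Coh.IsQCoh F) (x : X)
    (I : Ideal (Y.presheaf.stalk (f x))) [IsLocalRing (Y.presheaf.stalk (f x) ⧸ I)]
    (xB : ↥(pullback f (infNbhd (f x) I))) (hx : pullback.fst f (infNbhd (f x) I) xB = x)
    (h : FlatMod.IsFlatOverAt (pullback.snd f (infNbhd (f x) I))
      ((Scheme.Modules.pullback (pullback.fst f (infNbhd (f x) I))).obj F) xB) :
    letI := FlatMod.moduleStalkOver f F x
    Module.Flat (Y.presheaf.stalk (f x) ⧸ I)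
      ((Y.presheaf.stalk (f x) ⧸ I) ⊗[Y.presheaf.stalk (f x)] (F.presheaf.stalk x : Type u)) :=
  flat_quotient_tensor_of_isPullback f F hF x (pullback.fst f _) xB hx I (pullback.snd f _)
    (IsPullback.of_hasPullback f _) h

end Groth.Agent.E4O
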