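import Groth.Agent.E4O.ArtinDescentPoint
import Groth.Agent.E4O.InfNbhd
import Groth.Agent.CAlg7.FlatLimit
import Groth.Agent.FlatMor68.FlatDimFun
import Groth.Agent.QC70.GenIso
import Groth.Agent.QCPull72.Sections

/-!
Descent of flatness over a Noetherian base tested on infinitesimal neighbourhoods (EGA IV 11.5).
-/

set_option autoImplicit false
set_option backward.isDefEq.respectTransparency.types false
set_option linter.style.haveILetI false
universe u

open CategoryTheory Limits AlgebraicGeometry TensorProduct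

namespace Groth.Agent.E4O

theorem isArtinianRing_quotient_of_pow_le {O : Type u} [CommRing O] [IsNoetherianRing O] [IsLocalRing O]
    {I : Ideal O} (m : Ideal O) [m.IsMaximal] (M : ℕ) (h : m ^ M ≤ I) : IsArtinianRing (O ⧸ I) := by
  rw [isArtinianRing_iff_isNoetherianRing_krullDimLE_zero]
  refine ⟨inferInstance, Ring.KrullDimLE.mk₀ fun P hP => ?_⟩
  have h1 : m ≤ P.comap (Ideal.Quotient.mk I) := fun a ha =>
    (hP.comap (Ideal.Quotient.mk I)).mem_of_pow_mem M (by
      show Ideal.Quotient.mk I (a ^ M) ∈ P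
      rw [Ideal.Quotient.eq_zero_iff_mem.2 (h (Ideal.pow_mem_pow ha M))]; exact P.zero_mem)
  have h2 : m = P.comap (Ideal.Quotient.mk I) := ‹m.IsMaximal›.eq_of_le (hP.comap _).ne_top h1
  haveI : (P.comap (Ideal.Quotient.mk I)).IsMaximal := h2 ▸ ‹m.IsMaximal›
  rw [← Ideal.map_comap_of_surjective _ Ideal.Quotient.mk_surjective P]
  exact (Ideal.map_eq_top_or_isMaximal_of_surjective _ Ideal.Quotient.mk_surjective ‹_›).resolve_left
    fun htop => hP.ne_top (by rwa [Ideal.map_comap_of_surjective _ Ideal.Quotient.mk_surjective] at htop)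

theorem isCoh_pullback {X Y : Scheme.{u}} (f : Y ⟶ X) (F : X.Modules) (hF : Coh.IsCoh F) :
    Coh.IsCoh ((Scheme.Modules.pullback f).obj F) := by
  have := hF.1
  have := hF.2
  exact ⟨QCPull72.isQuasicoherent_pullback f F, QCPull72.isFiniteType_pullback f F⟩

theorem finite_stalk_of_coh {X : Scheme.{u}} [IsLocallyNoetherian X] (F : X.Modules) (hF : Coh.IsCoh F)
    (x : X) : Module.Finite (X.presheaf.stalk x) (F.presheaf.stalk x) := by
  haveI := hF.1
  haveI := hF.2
  exact QC70.finite_stalk F x

/-- An element killed at the closed point of a local ring is zero. -/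
theorem eq_zero_of_germ_closedPoint {R : Type u} [CommRing R] {S : Type u} [CommRing S] [IsLocalRing S]
    (φ : R →+* S) (a : R)
    (h : (Spec (CommRingCat.of S)).presheaf.germ ⊤ (IsLocalRing.closedPoint S) trivial
      ((Spec.map (CommRingCat.ofHom φ)).appTop ((Scheme.ΓSpecIso (CommRingCat.of R)).inv a)) = 0) :
    φ a = 0 := by
  rw [← CommRingCat.comp_apply, ← CommRingCat.comp_apply, ← Category.assoc,
    ← Scheme.ΓSpecIso_inv_naturality] at h
  have h2 := congrArg (stalkClosedPointIso (CommRingCat.of S)).hom h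
  rw [map_zero, ← CommRingCat.comp_apply, Category.assoc, Category.assoc,
    germ_stalkClosedPointIso_hom, Iso.inv_hom_id, Category.comp_id] at h2
  exact h2

/-- Primary residue extensions transfer along residue isomorphisms. -/
theorem primary_residue_transfer {X Y X' Y' : Scheme.{u}} (f : X ⟶ Y) (b : Y' ⟶ Y) (p : X' ⟶ X)
    (f' : X' ⟶ Y') (w : p ≫ f = f' ≫ b) (x' : X') (x : X) (hx : p x' = x)
    (hp : Function.Bijective (p.residueFieldMap x')) (hbb : Function.Bijective (b.residueFieldMap (f' x')))
    (hprim : letI := (f.residueFieldMap x).hom.toAlgebra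
      ∀ a : ↑(X.residueField x), IsSeparable ↑(Y.residueField (f x)) a → a ∈ (f.residueFieldMap x).hom.range) :
    letI := (f'.residueFieldMap x').hom.toAlgebra
    ∀ a : ↑(X'.residueField x'), IsSeparable ↑(Y'.residueField (f' x')) a → a ∈ (f'.residueFieldMap x').hom.range := by
  subst hx
  letI := (f'.residueFieldMap x').hom.toAlgebra
  letI := (f.residueFieldMap (p x')).hom.toAlgebra
  intro a ha
  obtain ⟨a', rfl⟩ := hp.2 a
  have hb : Function.Bijective (b.residueFieldMap (f' x')) → a' ∈ (f.residueFieldMap (p x')).hom.range →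
      p.residueFieldMap x' a' ∈ (f'.residueFieldMap x').hom.range := by
    rintro - ⟨c, rfl⟩
    have h1 := congr($(Scheme.Hom.residueFieldMap_congr w x') c)
    rw [Scheme.residueFieldMap_comp, Scheme.residueFieldMap_comp] at h1
    exact ⟨_, h1.symm⟩
  refine hb hbb (hprim a' ?_)
  let e : Y.residueField (f (p x')) →+* Y'.residueField (f' x') :=
    ((Y.residueFieldCongr (show f (p x') = b (f' x') by
      rw [← Scheme.Hom.comp_apply, w, Scheme.Hom.comp_apply])).hom ≫ b.residueFieldMap (f' x')).hom
  have he : ∀ c, f'.residueFieldMap x' (e c) = p.residueFieldMap x' (f.residueFieldMap (p x') c) := by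
    intro c
    have h1 := congr($(Scheme.Hom.residueFieldMap_congr w x') c)
    rw [Scheme.residueFieldMap_comp, Scheme.residueFieldMap_comp] at h1
    exact h1.symm
  have hes : Function.Surjective e := hbb.2.comp
    (ConcreteCategory.bijective_of_isIso (Y.residueFieldCongr _).hom).2
  obtain ⟨q, hq⟩ := Polynomial.map_surjective e hes (minpoly ↑(Y'.residueField (f' x')) (p.residueFieldMap x' a'))
  have h0 : Polynomial.aeval a' q = 0 := by
    refine hp.1 ?_
    rw [map_zero]
    have h2 := minpoly.aeval ↑(Y'.residueField (f' x')) (p.residueFieldMap x' a')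
    rw [← hq, Polynomial.aeval_def, Polynomial.eval₂_map] at h2
    rw [← h2, Polynomial.aeval_def]
    show (p.residueFieldMap x').hom _ = _
    rw [Polynomial.hom_eval₂]
    congr 1
    exact RingHom.ext fun c => (he c).symm
  refine Polynomial.Separable.of_dvd ?_ (minpoly.dvd _ _ h0)
  rw [← Polynomial.separable_map e, hq]
  exact ha

/-- A point flat over a local scheme gives one flat over a quotient, on an infinitesimal neighbourhood. -/
theorem exists_flat_point_quotient {X Y : Scheme.{u}} (f : X ⟶ Y) (F : X.Modules) (hF : Coh.IsQCoh F)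
    {y : Y} {S T : Type u} [CommRing S] [CommRing T] [IsLocalRing S] [IsLocalRing T]
    (φ : Y.presheaf.stalk y →+* S) (I : Ideal (Y.presheaf.stalk y)) (π : S →+* T)
    (ψ : Y.presheaf.stalk y ⧸ I →+* T) (hψ : ψ.comp (Ideal.Quotient.mk I) = π.comp φ) [IsLocalHom π]
    (x : X) (x' : ↥(pullback f (Spec.map (CommRingCat.ofHom φ) ≫ Y.fromSpecStalk y)))
    (hx : pullback.fst f _ x' = x) (hy : pullback.snd f _ x' = IsLocalRing.closedPoint S)
    (h : FlatMod.IsFlatOverAt (pullback.snd f (Spec.map (CommRingCat.ofHom φ) ≫ Y.fromSpecStalk y))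
      ((Scheme.Modules.pullback (pullback.fst f _)).obj F) x')
    (xB : ↥(pullback f (infNbhd y I))) (hxB : pullback.fst f (infNbhd y I) xB = x) :
    ∃ w : ↥(pullback (pullback.snd f (infNbhd y I)) (Spec.map (CommRingCat.ofHom ψ))),
      pullback.fst (pullback.snd f (infNbhd y I)) (Spec.map (CommRingCat.ofHom ψ)) w = xB ∧
      pullback.snd (pullback.snd f (infNbhd y I)) (Spec.map (CommRingCat.ofHom ψ)) w = IsLocalRing.closedPoint T ∧
      FlatMod.IsFlatOverAt (pullback.snd (pullback.snd f (infNbhd y I)) (Spec.map (CommRingCat.ofHom ψ)))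
        ((Scheme.Modules.pullback (pullback.fst (pullback.snd f (infNbhd y I)) (Spec.map (CommRingCat.ofHom ψ)))).obj
          ((Scheme.Modules.pullback (pullback.fst f (infNbhd y I))).obj F)) w := by
  let b := infNbhd y I
  let g := Spec.map (CommRingCat.ofHom φ) ≫ Y.fromSpecStalk y
  let c := Spec.map (CommRingCat.ofHom π)
  let gB := Spec.map (CommRingCat.ofHom ψ)
  have hcg : gB ≫ b = c ≫ g := by
    simp only [b, infNbhd, gB, c, g, ← Category.assoc, ← Spec.map_comp, ← CommRingCat.ofHom_comp, hψ]
  let big := (IsPullback.of_hasPullback (pullback.snd f b) gB).paste_horiz (IsPullback.of_hasPullback f b)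
  have big' : IsPullback (pullback.fst (pullback.snd f b) gB ≫ pullback.fst f b)
      (pullback.snd (pullback.snd f b) gB) f (c ≫ g) := hcg ▸ big
  let k := pullback.lift (f := f) (g := g) (pullback.fst (pullback.snd f b) gB ≫ pullback.fst f b)
    (pullback.snd (pullback.snd f b) gB ≫ c) (by rw [big'.w, Category.assoc])
  have sq : IsPullback k (pullback.snd (pullback.snd f b) gB) (pullback.snd f g) c := by
    refine IsPullback.of_right (v₁₃ := f) (h₁₂ := pullback.fst f g) ?_ (pullback.lift_snd _ _ _) (IsPullback.of_hasPullback f g)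
    rw [pullback.lift_fst]
    exact big'
  have hcz : c (IsLocalRing.closedPoint T) = IsLocalRing.closedPoint S := by
    haveI : IsLocalHom (CommRingCat.ofHom π).hom := ‹IsLocalHom π›
    exact Spec_closedPoint
  obtain ⟨w₀, hw₀x, hw₀y⟩ := Scheme.Pullback.exists_preimage_pullback (f := pullback.snd f g) (g := c)
    x' (IsLocalRing.closedPoint T) (hy.trans hcz.symm)
  let w := sq.isoPullback.inv w₀
  have hw1 : k w = x' := by
    rw [← Scheme.Hom.comp_apply, IsPullback.isoPullback_inv_fst]; exact hw₀x
  have hw2 : pullback.snd (pullback.snd f b) gB w = IsLocalRing.closedPoint T := by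
    rw [← Scheme.Hom.comp_apply, IsPullback.isoPullback_inv_snd]; exact hw₀y
  have hw3 : pullback.fst f b (pullback.fst (pullback.snd f b) gB w) = x := by
    rw [← Scheme.Hom.comp_apply, show pullback.fst (pullback.snd f b) gB ≫ pullback.fst f b =
      k ≫ pullback.fst f g from (pullback.lift_fst _ _ _).symm, Scheme.Hom.comp_apply, hw1, hx]
  haveI : IsPreimmersion (pullback.fst f b) :=
    MorphismProperty.pullback_fst _ _ (inferInstance : IsPreimmersion b)
  refine ⟨w, (pullback.fst f b).isEmbedding.injective (hw3.trans hxB.symm), hw2, ?_⟩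
  haveI : F.IsQuasicoherent := hF
  have h1 := FlatMor66.isFlatOverAt_baseChange sq ((Scheme.Modules.pullback (pullback.fst f g)).obj F)
    (QCPull72.isQuasicoherent_pullback _ F) w (hw1 ▸ h)
  exact (FlatMor68.FlatDimFun.isFlatOverAt_iff_of_iso _ ((Scheme.Modules.pullbackComp k (pullback.fst f g)).app F ≪≫
    (Scheme.Modules.pullbackCongr (pullback.lift_fst _ _ _)).app F ≪≫
    ((Scheme.Modules.pullbackComp _ (pullback.fst f b)).app F).symm) w).1 h1

/-- Flatness of reductions passes to smaller quotients. -/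
theorem flat_quot_of_flat_quot_le {O : Type u} [CommRing O] (I J : Ideal O) (hIJ : I ≤ J)
    (M : Type u) [AddCommGroup M] [Module O M] (h : Module.Flat (O ⧸ I) ((O ⧸ I) ⊗[O] M)) :
    Module.Flat (O ⧸ J) (M ⧸ (J • ⊤ : Submodule O M)) := by
  letI : Algebra (O ⧸ I) (O ⧸ J) := (Ideal.Quotient.factor hIJ).toAlgebra
  haveI : IsScalarTower O (O ⧸ I) (O ⧸ J) := IsScalarTower.of_algebraMap_eq fun a => rfl
  haveI : Module.Flat (O ⧸ J) ((O ⧸ J) ⊗[O] M) := Module.Flat.of_linearEquiv
    (AlgebraTensorModule.cancelBaseChange O (O ⧸ I) (O ⧸ J) (O ⧸ J) M).symm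
  exact Module.Flat.of_linearEquiv
    ((TensorProduct.quotTensorEquivQuotSMul M J).symm.extendScalarsOfSurjective Ideal.Quotient.mk_surjective)

end Groth.Agent.E4O
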