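import Groth.Agent.Fib62.InjCokerMain
import Groth.Agent.FlatStage64.Main
import Mathlib

/-!
EGA IV 11.2.6 / 11.3.7: injectivity with flat cokernel at a prime under base change.
-/

set_option autoImplicit false
set_option linter.style.haveILetI false

noncomputable section

universe u

open TensorProduct Groth.Agent.Fib62

namespace Groth.Agent.E4O.InjStage

attribute [local instance] Algebra.TensorProduct.rightAlgebra

/-- Injective with cokernel flat over the base, at a prime. -/
def Good (A : Type u) [CommRing A] {C : Type u} [CommRing C] [Algebra A C] {N M : Type u} [AddCommGroup N]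
    [Module C N] [AddCommGroup M] [Module C M] (u : N →ₗ[C] M) (P : PrimeSpectrum C) : Prop :=
  InjAt u P ∧ Module.Flat A (Localization.AtPrime P.asIdeal ⊗[C] (M ⧸ LinearMap.range u))

theorem isScalarTower_compHom (A C M : Type u) [CommRing A] [CommRing C] [Algebra A C] [AddCommGroup M]
    [Module C M] : letI : Module A M := Module.compHom M (algebraMap A C); IsScalarTower A C M :=
  letI : Module A M := Module.compHom M (algebraMap A C)
  IsScalarTower.of_algebraMap_smul fun _ _ => rfl

/-- Injective with flat cokernel after inverting `f` gives the property at primes avoiding `f`. -/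
theorem good_of_away {A C N M : Type u} [CommRing A] [CommRing C] [Algebra A C] [AddCommGroup N]
    [Module C N] [AddCommGroup M] [Module C M] (u : N →ₗ[C] M) (P : PrimeSpectrum C) (f : C)
    (hf : f ∉ P.asIdeal) (C' : Type u) [CommRing C'] [Algebra C C'] [IsLocalization.Away f C']
    [Algebra A C'] [IsScalarTower A C C'] (hinj : Function.Injective (u.baseChange C'))
    (hflat : Module.Flat A (C' ⊗[C] (M ⧸ LinearMap.range u))) : Good A u P := by
  refine ⟨fun x hx => ?_, ?_⟩
  · have h0 : (1 : C') ⊗ₜ[C] x = 0 := hinj (by rw [LinearMap.baseChange_tmul, hx, tmul_zero, map_zero])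
    have hloc : IsLocalizedModule (Submonoid.powers f) (TensorProduct.mk C C' N 1) :=
      (isLocalizedModule_iff_isBaseChange (Submonoid.powers f) C' _).2 (TensorProduct.isBaseChange C N C')
    obtain ⟨⟨t, n, rfl⟩, ht⟩ := (IsLocalizedModule.eq_zero_iff (Submonoid.powers f)
      (TensorProduct.mk C C' N 1)).1 h0
    exact ⟨f ^ n, fun h => hf (P.2.mem_of_pow_mem n h), ht⟩
  · let R := Localization.AtPrime P.asIdeal
    letI : Algebra C' R := (IsLocalization.Away.lift f
      (IsLocalization.map_units R (⟨f, hf⟩ : P.asIdeal.primeCompl))).toAlgebra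
    haveI : IsScalarTower C C' R := IsScalarTower.of_algebraMap_eq (R := C) (S := C') (A := R) fun c =>
      (IsLocalization.Away.lift_eq f _ c).symm
    haveI : IsScalarTower A C' R := IsScalarTower.to₁₃₄ A C C' R
    haveI : Module.Flat C' R := by
      have : Module.Flat C R := IsLocalization.flat R P.asIdeal.primeCompl
      exact (Module.flat_iff_of_isLocalization C' (Submonoid.powers f) R).mpr inferInstance
    haveI := hflat
    haveI : Module.Flat A (R ⊗[C'] (C' ⊗[C] (M ⧸ LinearMap.range u))) := flat_tensor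
    exact Module.Flat.of_linearEquiv
      ((AlgebraTensorModule.cancelBaseChange C C' R R (M ⧸ LinearMap.range u)).restrictScalars A).symm

/-- The property at a prime holds after inverting some element outside it. -/
theorem exists_away_good {A C N M : Type u} [CommRing A] [CommRing C] [Algebra A C]
    [Algebra.FinitePresentation A C] [AddCommGroup N] [Module C N] [Module.FinitePresentation C N]
    [AddCommGroup M] [Module C M] [Module.FinitePresentation C M] (u : N →ₗ[C] M) (P : PrimeSpectrum C)
    (h : Good A u P) :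
    ∃ f, f ∉ P.asIdeal ∧ Function.Injective (u.baseChange (Localization.Away f)) ∧
      Module.Flat A (Localization.Away f ⊗[C] (M ⧸ LinearMap.range u)) := by
  letI : Module A M := Module.compHom M (algebraMap A C)
  haveI : IsScalarTower A C M := IsScalarTower.of_algebraMap_smul fun _ _ => rfl
  obtain ⟨_, ⟨f, rfl⟩, hPf, hsub⟩ := PrimeSpectrum.isTopologicalBasis_basic_opens.exists_subset_of_mem_open
    (show P ∈ {Q : PrimeSpectrum C | InjAt u Q ∧
      Module.Flat A (Localization.AtPrime Q.asIdeal ⊗[C] (M ⧸ LinearMap.range u))} from h)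
    (isOpen_injAt_flat_coker (A := A) u)
  refine ⟨f, hPf, ?_, ?_⟩
  · have hloc : ∀ (L : Type u) [AddCommGroup L] [Module C L],
        IsLocalizedModule (Submonoid.powers f) (TensorProduct.mk C (Localization.Away f) L 1) := fun L _ _ =>
      (isLocalizedModule_iff_isBaseChange (Submonoid.powers f) (Localization.Away f) _).2
        (TensorProduct.isBaseChange C L (Localization.Away f))
    rw [injective_iff_map_eq_zero]
    intro z hz
    haveI := hloc N
    haveI := hloc M
    obtain ⟨⟨x, s⟩, hxs⟩ := IsLocalizedModule.surj (Submonoid.powers f)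
      (TensorProduct.mk C (Localization.Away f) N 1) z
    have h1 : (1 : Localization.Away f) ⊗ₜ[C] u x = 0 := by
      rw [← LinearMap.baseChange_tmul, ← TensorProduct.mk_apply, ← hxs]
      show u.baseChange (Localization.Away f) ((s : C) • z) = 0
      rw [← algebraMap_smul (Localization.Away f) (s : C) z, map_smul, hz, smul_zero]
    obtain ⟨⟨t, n, rfl⟩, ht⟩ := (IsLocalizedModule.eq_zero_iff (Submonoid.powers f)
      (TensorProduct.mk C (Localization.Away f) M 1)).1 h1
    rw [Submonoid.smul_def, ← map_smul] at ht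
    let I : Ideal C := LinearMap.ker (LinearMap.toSpanSingleton C N (f ^ n • x))
    have hI : f ∈ I.radical := by
      rw [← PrimeSpectrum.vanishingIdeal_zeroLocus_eq_radical, PrimeSpectrum.mem_vanishingIdeal]
      intro Q hQ
      by_contra hfQ
      obtain ⟨s, hs, hsx⟩ := (hsub hfQ).1 _ ht
      exact hs (hQ (show s • f ^ n • x = 0 from hsx))
    obtain ⟨m, hm⟩ := hI
    have h2 : (1 : Localization.Away f) ⊗ₜ[C] x = 0 :=
      (IsLocalizedModule.eq_zero_iff (Submonoid.powers f) (TensorProduct.mk C (Localization.Away f) N 1)).2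
        ⟨⟨f ^ m * f ^ n, m + n, pow_add f m n⟩, by
          show (f ^ m * f ^ n) • x = 0
          rw [mul_smul]
          exact hm⟩
    have h3 := hxs.trans h2
    exact ((IsLocalization.map_units (Localization.Away f) s).smul_eq_zero).1 (by rw [algebraMap_smul]; exact h3)
  · let C' := Localization.Away f
    let Q := M ⧸ LinearMap.range u
    refine Module.flat_of_isLocalized_maximal (R := A) C' (C' ⊗[C] Q)
      (fun m => Localization.AtPrime m ⊗[C'] (C' ⊗[C] Q))
      (fun m _ => TensorProduct.mk C' (Localization.AtPrime m) (C' ⊗[C] Q) 1) fun m _ => ?_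
    let Q₀ : PrimeSpectrum C := ⟨m.comap (algebraMap C C'), Ideal.IsPrime.comap _⟩
    have hfm : f ∉ Q₀.asIdeal := fun hf =>
      (Ideal.IsMaximal.ne_top inferInstance) (Ideal.eq_top_of_isUnit_mem m hf (IsLocalization.Away.algebraMap_isUnit (S := C') f))
    have hgood : Module.Flat A (Localization.AtPrime Q₀.asIdeal ⊗[C] Q) := (hsub hfm).2
    let R := Localization.AtPrime m
    have : IsLocalization Q₀.asIdeal.primeCompl R :=
      IsLocalization.isLocalization_isLocalization_atPrime_isLocalization (Submonoid.powers f) R m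
    let e := IsLocalization.algEquiv Q₀.asIdeal.primeCompl R (Localization.AtPrime Q₀.asIdeal)
    exact Module.Flat.of_linearEquiv
      (((AlgebraTensorModule.cancelBaseChange C C' R R Q).restrictScalars C ≪≫ₗ
        AlgebraTensorModule.congr e.toLinearEquiv (LinearEquiv.refl C _)).restrictScalars A)

/-- Injective with flat cokernel is preserved by base change. -/
theorem global_baseChange {D A C₁ C : Type u} [CommRing D] [CommRing A] [CommRing C₁] [CommRing C]
    [Algebra D A] [Algebra D C₁] [Algebra D C] [Algebra A C] [Algebra C₁ C] [IsScalarTower D A C]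
    [IsScalarTower D C₁ C] [Algebra.IsPushout D A C₁ C] {N₁ M₁ : Type u} [AddCommGroup N₁] [Module C₁ N₁]
    [AddCommGroup M₁] [Module C₁ M₁] (u₁ : N₁ →ₗ[C₁] M₁) (hinj : Function.Injective u₁)
    (hflat : Module.Flat D (C₁ ⊗[C₁] (M₁ ⧸ LinearMap.range u₁))) :
    Function.Injective (u₁.baseChange C) ∧ Module.Flat A (C ⊗[C₁] (M₁ ⧸ LinearMap.range u₁)) := by
  letI : Module D N₁ := Module.compHom N₁ (algebraMap D C₁)
  letI : Module D M₁ := Module.compHom M₁ (algebraMap D C₁)
  haveI : IsScalarTower D C₁ N₁ := isScalarTower_compHom D C₁ N₁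
  haveI : IsScalarTower D C₁ M₁ := isScalarTower_compHom D C₁ M₁
  haveI : Module.Flat D (M₁ ⧸ LinearMap.range u₁) :=
    Module.Flat.of_linearEquiv ((TensorProduct.lid C₁ (M₁ ⧸ LinearMap.range u₁)).symm.restrictScalars D)
  exact ⟨injective_lTensor_of_pushout (D := D) (A := A) u₁ hinj inferInstance,
    Module.Flat.of_linearEquiv (Algebra.IsPushout.cancelBaseChange D A C₁ C (M₁ ⧸ LinearMap.range u₁))⟩

/-- Naturality of cancelling base changes along a morphism of pushouts. -/
theorem cancelBaseChange_natural {D A A' C₁ C C' : Type u} [CommRing D] [CommRing A] [CommRing A']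
    [CommRing C₁] [CommRing C] [CommRing C'] [Algebra D A] [Algebra D A'] [Algebra D C₁] [Algebra D C]
    [Algebra D C'] [Algebra A C] [Algebra A' C'] [Algebra C₁ C] [Algebra C₁ C'] [IsScalarTower D A C]
    [IsScalarTower D A' C'] [IsScalarTower D C₁ C] [IsScalarTower D C₁ C'] [Algebra.IsPushout D A C₁ C]
    [Algebra.IsPushout D A' C₁ C'] (g : A →ₐ[D] A') (h : C →ₐ[C₁] C')
    (hgh : ∀ a, h (algebraMap A C a) = algebraMap A' C' (g a))
    {L : Type u} [AddCommGroup L] [Module C₁ L] [Module D L] [IsScalarTower D C₁ L] (z : C ⊗[C₁] L) :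
    Algebra.IsPushout.cancelBaseChange D A' C₁ C' L (h.toLinearMap.rTensor L z) =
      g.toLinearMap.rTensor L (Algebra.IsPushout.cancelBaseChange D A C₁ C L z) := by
  obtain ⟨w, rfl⟩ := (Algebra.IsPushout.cancelBaseChange D A C₁ C L).symm.surjective z
  rw [LinearEquiv.apply_symm_apply]
  induction w using TensorProduct.induction_on with
  | zero => simp
  | add a b ha hb => simp only [map_add, ha, hb]
  | tmul a l =>
    rw [Algebra.IsPushout.cancelBaseChange_symm_tmul, LinearMap.rTensor_tmul, LinearMap.rTensor_tmul,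
      AlgHom.toLinearMap_apply, AlgHom.toLinearMap_apply, hgh,
      ← Algebra.IsPushout.cancelBaseChange_symm_tmul D A' C₁ C' L,
      LinearEquiv.apply_symm_apply]

theorem ker_fg_of_isNoetherianRing {R : Type u} [CommRing R] [IsNoetherianRing R] {N M : Type u} [AddCommGroup N]
    [Module R N] [Module.Finite R N] [AddCommGroup M] [Module R M] (u : N →ₗ[R] M) : (LinearMap.ker u).FG :=
  IsNoetherian.noetherian _

/-- Iterated base change does not change injectivity. -/
theorem injective_baseChange_baseChange_iff {C₁ C' C'' : Type u} [CommRing C₁] [CommRing C'] [CommRing C'']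
    [Algebra C₁ C'] [Algebra C₁ C''] [Algebra C' C''] [IsScalarTower C₁ C' C''] {N M : Type u} [AddCommGroup N]
    [Module C₁ N] [AddCommGroup M] [Module C₁ M] (u : N →ₗ[C₁] M) :
    Function.Injective ((u.baseChange C').baseChange C'') ↔ Function.Injective (u.baseChange C'') := by
  let eN := AlgebraTensorModule.cancelBaseChange C₁ C' C'' C'' N
  let eM := AlgebraTensorModule.cancelBaseChange C₁ C' C'' C'' M
  have hsq : ∀ y, eM ((u.baseChange C').baseChange C'' y) = u.baseChange C'' (eN y) := by
    intro y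
    induction y using TensorProduct.induction_on with
    | zero => simp
    | add a b ha hb => simp only [map_add, ha, hb]
    | tmul s v =>
      induction v using TensorProduct.induction_on with
      | zero => simp
      | add a b ha hb => rw [TensorProduct.tmul_add]; simp only [map_add]; rw [ha, hb]
      | tmul t m => simp [eN, eM]
  constructor
  · intro h x y hxy
    obtain ⟨x, rfl⟩ := eN.surjective x
    obtain ⟨y, rfl⟩ := eN.surjective y
    rw [← hsq, ← hsq] at hxy
    rw [h (eM.injective hxy)]
  · intro h x y hxy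
    exact eN.injective (h (by rw [← hsq, ← hsq, hxy]))

/-- Iterated base change does not change flatness of the cokernel. -/
theorem flat_coker_baseChange_iff (A : Type u) [CommRing A] {C₁ C' C'' : Type u} [CommRing C₁] [CommRing C']
    [CommRing C''] [Algebra C₁ C'] [Algebra C₁ C''] [Algebra C' C''] [IsScalarTower C₁ C' C''] [Algebra A C'']
    {N M : Type u} [AddCommGroup N] [Module C₁ N] [AddCommGroup M] [Module C₁ M] (u : N →ₗ[C₁] M) :
    Module.Flat A (C'' ⊗[C'] ((C' ⊗[C₁] M) ⧸ LinearMap.range (u.baseChange C'))) ↔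
      Module.Flat A (C'' ⊗[C₁] (M ⧸ LinearMap.range u)) :=
  Module.Flat.equiv_iff ((AlgebraTensorModule.congr (LinearEquiv.refl C'' C'') (cokerBaseChange u C') ≪≫ₗ
    AlgebraTensorModule.cancelBaseChange C₁ C' C'' C'' (M ⧸ LinearMap.range u)).restrictScalars A)

/-- Inverting compatible elements preserves pushouts. -/
theorem isPushout_away {E A C₂ C C₃ Cf : Type u} [CommRing E] [CommRing A] [CommRing C₂] [CommRing C]
    [CommRing C₃] [CommRing Cf] [Algebra E A] [Algebra E C₂] [Algebra E C] [Algebra A C] [Algebra C₂ C]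
    [IsScalarTower E A C] [IsScalarTower E C₂ C] [Algebra.IsPushout E A C₂ C] [Algebra C₂ C₃] [Algebra E C₃]
    [IsScalarTower E C₂ C₃] [Algebra C Cf] [Algebra C₂ Cf] [IsScalarTower C₂ C Cf] [Algebra C₃ Cf]
    [IsScalarTower C₂ C₃ Cf] [Algebra A Cf] [IsScalarTower A C Cf] [Algebra E Cf] [IsScalarTower E A Cf]
    [IsScalarTower E C₃ Cf] (f₀ : C₂) [IsLocalization.Away f₀ C₃]
    [IsLocalization.Away (algebraMap C₂ C f₀) Cf] : Algebra.IsPushout E A C₃ Cf := by
  haveI : IsScalarTower E C₂ Cf := IsScalarTower.of_algebraMap_eq fun e => by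
    rw [IsScalarTower.algebraMap_apply E C₃ Cf, IsScalarTower.algebraMap_apply E C₂ C₃,
      ← IsScalarTower.algebraMap_apply C₂ C₃ Cf]
  haveI : IsLocalization (Algebra.algebraMapSubmonoid C (Submonoid.powers f₀)) Cf := by
    have : Algebra.algebraMapSubmonoid C (Submonoid.powers f₀) = Submonoid.powers (algebraMap C₂ C f₀) := by
      rw [Algebra.algebraMapSubmonoid, Submonoid.map_powers]
    rw [this]
    infer_instance
  haveI : Algebra.IsPushout C₂ C C₃ Cf := Algebra.isPushout_of_isLocalization (Submonoid.powers f₀) C₃ C Cf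
  haveI : IsScalarTower E C Cf := IsScalarTower.of_algebraMap_eq fun e => by
    rw [IsScalarTower.algebraMap_apply E A Cf, IsScalarTower.algebraMap_apply A C Cf,
      ← IsScalarTower.algebraMap_apply E A C]
  haveI : Algebra.IsPushout E C₂ A C := Algebra.IsPushout.symm inferInstance
  exact ((Algebra.IsPushout.comp_iff (R := E) (S := C₂) (T := C₃) (R' := A) (S' := C) (T' := Cf)).2
    ((Algebra.IsPushout.symm inferInstance : Algebra.IsPushout C₂ C₃ C Cf))).symm

/-- An element of the kernel over a stage which dies in the limit dies at a later stage. -/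
theorem exists_larger {D A C₁ C : Type u} [CommRing D] [CommRing A] [CommRing C₁]
    [CommRing C] [Algebra D A] [Algebra D C₁] [Algebra D C] [Algebra A C]
    [Algebra C₁ C] [IsScalarTower D A C] [IsScalarTower D C₁ C] [Algebra.IsPushout D A C₁ C]
    (E : Subalgebra D A) (hE : E.FG) {CE : Type u} [CommRing CE] [Algebra D CE] [Algebra E CE] [Algebra C₁ CE]
    [IsScalarTower D E CE] [IsScalarTower D C₁ CE] [Algebra.IsPushout D E C₁ CE] (h : CE →ₐ[C₁] C)
    (hh : ∀ e : E, h (algebraMap E CE e) = algebraMap A C (e : A)) {N₁ M₁ : Type u}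
    [AddCommGroup N₁] [Module C₁ N₁] [Module D N₁] [IsScalarTower D C₁ N₁] [AddCommGroup M₁] [Module C₁ M₁]
    (u₁ : N₁ →ₗ[C₁] M₁) (hinj : Function.Injective (u₁.baseChange C)) (z : CE ⊗[C₁] N₁)
    (hz : u₁.baseChange CE z = 0) :
    ∃ (B : Subalgebra D A) (hB : E ≤ B), B.FG ∧ (Subalgebra.inclusion hB).toLinearMap.rTensor N₁
      (Algebra.IsPushout.cancelBaseChange D E C₁ CE N₁ z) = 0 := by
  have h1 : h.toLinearMap.rTensor N₁ z = 0 := by
    refine hinj ?_
    rw [map_zero]
    show u₁.lTensor C _ = 0
    rw [← LinearMap.comp_apply, LinearMap.lTensor_comp_rTensor, ← LinearMap.rTensor_comp_lTensor,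
      LinearMap.comp_apply]
    show h.toLinearMap.rTensor M₁ (u₁.baseChange CE z) = 0
    rw [hz, map_zero]
  have h2 := cancelBaseChange_natural (D := D) (A := E) (A' := A) (C := CE) (C' := C) E.val h hh (L := N₁) z
  rw [h1, map_zero] at h2
  obtain ⟨B, hB, hBfg, hB0⟩ := TensorProduct.Algebra.eq_of_fg_of_subtype_eq hE
    (t := Algebra.IsPushout.cancelBaseChange D E C₁ CE N₁ z) (t' := 0) (by rw [map_zero]; exact h2.symm)
  exact ⟨B, hB, hBfg, by rw [hB0, map_zero]⟩

/-- If the kernel at a stage with flat cokernel dies, the map is injective at the later stage. -/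
theorem injective_of_die {D E E' C₁ CE CE' : Type u} [CommRing D] [CommRing E] [CommRing E'] [CommRing C₁]
    [CommRing CE] [CommRing CE'] [Algebra D E] [Algebra D E'] [Algebra D C₁] [Algebra D CE] [Algebra D CE']
    [Algebra E E'] [IsScalarTower D E E'] [Algebra E CE] [Algebra E' CE'] [Algebra C₁ CE] [Algebra C₁ CE']
    [IsScalarTower D E CE] [IsScalarTower D C₁ CE] [IsScalarTower D E' CE'] [IsScalarTower D C₁ CE']
    [Algebra.IsPushout D E C₁ CE] [Algebra.IsPushout D E' C₁ CE'] [Algebra CE CE'] [IsScalarTower C₁ CE CE']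
    [Algebra E CE'] [IsScalarTower E E' CE'] [IsScalarTower E CE CE'] [Algebra.IsPushout E E' CE CE']
    {N₁ M₁ : Type u} [AddCommGroup N₁] [Module C₁ N₁] [Module D N₁] [IsScalarTower D C₁ N₁]
    [AddCommGroup M₁] [Module C₁ M₁] (u₁ : N₁ →ₗ[C₁] M₁)
    (hflat : Module.Flat E (CE ⊗[C₁] (M₁ ⧸ LinearMap.range u₁)))
    (W : Set (CE ⊗[C₁] N₁)) (hW : LinearMap.ker (u₁.baseChange CE) = Submodule.span CE W)
    (hdie : ∀ z ∈ W, (IsScalarTower.toAlgHom D E E').toLinearMap.rTensor N₁
      (Algebra.IsPushout.cancelBaseChange D E C₁ CE N₁ z) = 0) :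
    Function.Injective (u₁.baseChange CE') := by
  rw [← injective_baseChange_baseChange_iff (C' := CE), injective_iff_map_eq_zero]
  intro y hy
  haveI := hflat
  have hflatE : Module.Flat E ((CE ⊗[C₁] M₁) ⧸ LinearMap.range (u₁.baseChange CE)) :=
    Module.Flat.of_linearEquiv ((cokerBaseChange u₁ CE).restrictScalars E)
  let eN := AlgebraTensorModule.cancelBaseChange C₁ CE CE' CE' N₁
  obtain ⟨k, hk⟩ := ker_baseChange_le (D := E) (A := E') (C := CE') (u₁.baseChange CE) hflatE hy
  rw [← hk]
  clear hk
  let h' : CE →ₐ[C₁] CE' := IsScalarTower.toAlgHom C₁ CE CE'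
  have hre : ∀ s : CE', ∀ z : CE ⊗[C₁] N₁, eN (s ⊗ₜ z) = s • h'.toLinearMap.rTensor N₁ z := by
    intro s z
    induction z using TensorProduct.induction_on with
    | zero => simp
    | add a b ha hb => rw [TensorProduct.tmul_add, map_add, map_add, smul_add, ha, hb]
    | tmul t m => simp [eN, h', smul_tmul', Algebra.smul_def, mul_comm]
  induction k using TensorProduct.induction_on with
  | zero => simp
  | add a b ha hb => rw [map_add, ha, hb, add_zero]
  | tmul s z =>
    obtain ⟨z, hz⟩ := z
    apply eN.injective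
    rw [map_zero]
    show eN (s ⊗ₜ z) = 0
    rw [hW] at hz
    induction hz using Submodule.span_induction generalizing s with
    | mem z hzw =>
      have h2 := cancelBaseChange_natural (D := D) (A := E) (A' := E') (C := CE) (C' := CE')
        (IsScalarTower.toAlgHom D E E') h' (fun e => by
          show algebraMap CE CE' (algebraMap E CE e) = algebraMap E' CE' (algebraMap E E' e)
          rw [← IsScalarTower.algebraMap_apply, ← IsScalarTower.algebraMap_apply]) (L := N₁) z
      rw [hdie z hzw, LinearEquiv.map_eq_zero_iff] at h2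
      rw [hre, h2, smul_zero]
    | zero => simp
    | add a b _ _ ha hb => rw [TensorProduct.tmul_add, map_add, ha, hb, add_zero]
    | smul c a _ ha =>
      rw [← TensorProduct.smul_tmul]
      exact ha (c • s)

/-- The kernel at a stage dies at a larger one. -/
theorem exists_die {D A C₁ C : Type u} [CommRing D] [CommRing A] [CommRing C₁]
    [CommRing C] [Algebra D A] [Algebra D C₁] [Algebra D C] [Algebra A C]
    [Algebra C₁ C] [IsScalarTower D A C] [IsScalarTower D C₁ C] [Algebra.IsPushout D A C₁ C]
    (E : Subalgebra D A) (hE : E.FG) {CE : Type u} [CommRing CE] [IsNoetherianRing CE] [Algebra D CE] [Algebra E CE]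
    [Algebra C₁ CE] [IsScalarTower D E CE] [IsScalarTower D C₁ CE] [Algebra.IsPushout D E C₁ CE]
    (h : CE →ₐ[C₁] C) (hh : ∀ e : E, h (algebraMap E CE e) = algebraMap A C (e : A)) {N₁ M₁ : Type u}
    [AddCommGroup N₁] [Module C₁ N₁] [Module.Finite C₁ N₁] [Module D N₁] [IsScalarTower D C₁ N₁] [AddCommGroup M₁]
    [Module C₁ M₁] (u₁ : N₁ →ₗ[C₁] M₁) (hinj : Function.Injective (u₁.baseChange C)) :
    ∃ (E' : Subalgebra D A) (hEE : E ≤ E') (W : Finset (CE ⊗[C₁] N₁)), E'.FG ∧
      LinearMap.ker (u₁.baseChange CE) = Submodule.span CE (W : Set (CE ⊗[C₁] N₁)) ∧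
      ∀ z ∈ W, (Subalgebra.inclusion hEE).toLinearMap.rTensor N₁
        (Algebra.IsPushout.cancelBaseChange D E C₁ CE N₁ z) = 0 := by
  classical
  obtain ⟨w, hw⟩ := ker_fg_of_isNoetherianRing (u₁.baseChange CE)
  choose! B hB hBfg hB0 using fun z (hz : z ∈ w) =>
    exists_larger (C := C) E hE h hh u₁ hinj z (LinearMap.mem_ker.1 (hw ▸ Submodule.subset_span hz))
  refine ⟨E ⊔ w.sup B, le_sup_left, w,
    hE.sup (Finset.sup_induction Subalgebra.fg_bot (fun a ha b hb => ha.sup hb) hBfg), hw.symm, fun z hz => ?_⟩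
  have hBE : B z ≤ E ⊔ w.sup B := (Finset.le_sup (f := B) hz).trans le_sup_right
  rw [show Subalgebra.inclusion (le_sup_left : E ≤ E ⊔ w.sup B) =
      (Subalgebra.inclusion hBE).comp (Subalgebra.inclusion (hB z hz)) from AlgHom.ext fun _ => rfl,
    AlgHom.comp_toLinearMap, LinearMap.rTensor_comp, LinearMap.comp_apply, hB0 z hz, map_zero]

end Groth.Agent.E4O.InjStage
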