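import Groth.Agent.E4O.InjCokerStage
import Groth.Agent.Fib62.InjCokerScheme
import Groth.Agent.Stage62.FlatChart
import Groth.Agent.E4O.Separating

/-!
EGA IV 11.3.7: injectivity with flat cokernel of a pulled back map, on a chart.
-/

set_option autoImplicit false
set_option backward.isDefEq.respectTransparency.types false
set_option linter.style.haveILetI false

noncomputable section

universe u

open CategoryTheory Limits AlgebraicGeometry TopologicalSpace Opposite TensorProduct
open Groth.Agent.Fib62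

namespace Groth.Agent.E4O.InjStage

/-- Invariance of the property, both ways. -/
theorem good_congr_iff {A C : Type u} [CommRing A] [CommRing C] [Algebra A C] {N M N' M' : Type u} [AddCommGroup N]
    [Module C N] [AddCommGroup M] [Module C M] [AddCommGroup N'] [Module C N'] [AddCommGroup M'] [Module C M']
    {u : N →ₗ[C] M} {u' : N' →ₗ[C] M'} (eN : N ≃ₗ[C] N') (eM : M ≃ₗ[C] M') (h : ∀ x, eM (u x) = u' (eN x))
    {P : PrimeSpectrum C} : Good A u P ↔ Good A u' P :=
  ⟨good_congr eN eM h, good_congr eN.symm eM.symm fun x => eM.injective (by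
    rw [h, eN.apply_symm_apply, eM.apply_symm_apply])⟩

/-- Iterated base change of the map does not change the property. -/
theorem good_baseChange_baseChange_iff {A C₁ C' C'' : Type u} [CommRing A] [CommRing C₁] [CommRing C']
    [CommRing C''] [Algebra C₁ C'] [Algebra C₁ C''] [Algebra C' C''] [IsScalarTower C₁ C' C''] [Algebra A C'']
    {N M : Type u} [AddCommGroup N] [Module C₁ N] [AddCommGroup M] [Module C₁ M] (u : N →ₗ[C₁] M)
    {P : PrimeSpectrum C''} :
    Good A ((u.baseChange C').baseChange C'') P ↔ Good A (u.baseChange C'') P := by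
  refine good_congr_iff (AlgebraTensorModule.cancelBaseChange C₁ C' C'' C'' N)
    (AlgebraTensorModule.cancelBaseChange C₁ C' C'' C'' M) fun y => ?_
  induction y using TensorProduct.induction_on with
  | zero => simp
  | add a b ha hb => simp only [map_add, ha, hb]
  | tmul s v =>
    induction v using TensorProduct.induction_on with
    | zero => simp
    | add a b ha hb => rw [TensorProduct.tmul_add]; simp only [map_add]; rw [ha, hb]
    | tmul t m => simp

/-- Replacing a map by a model of it. -/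
theorem good_model_iff {A B C₁ C : Type u} [CommRing A] [CommRing B] [CommRing C₁] [CommRing C] [Algebra C₁ B]
    [Algebra B C] [Algebra C₁ C] [IsScalarTower C₁ B C] [Algebra A C] {N M : Type u} [AddCommGroup N] [Module B N]
    [AddCommGroup M] [Module B M] {N₁ M₁ : Type u} [AddCommGroup N₁] [Module C₁ N₁] [AddCommGroup M₁] [Module C₁ M₁]
    {u : N →ₗ[B] M} {u₁ : N₁ →ₗ[C₁] M₁} (eN : B ⊗[C₁] N₁ ≃ₗ[B] N) (eM : B ⊗[C₁] M₁ ≃ₗ[B] M)
    (h : ∀ z, eM (u₁.baseChange B z) = u (eN z)) {P : PrimeSpectrum C} :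
    Good A (u₁.baseChange C) P ↔ Good A (u.baseChange C) P := by
  rw [← good_baseChange_baseChange_iff (C' := B)]
  refine good_congr_iff (AlgebraTensorModule.congr (LinearEquiv.refl C C) eN)
    (AlgebraTensorModule.congr (LinearEquiv.refl C C) eM) fun x => ?_
  induction x using TensorProduct.induction_on with
  | zero => simp
  | add a b ha hb => simp only [map_add, ha, hb]
  | tmul s v => simp [h]

variable {X Y X' Y' : Scheme.{u}} {f : X ⟶ Y} {g : Y' ⟶ Y} {f' : X' ⟶ Y'} {g' : X' ⟶ X}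

/-- The chart algebra maps. -/
theorem chart_le (H : IsPullback g' f' f g) {V : Y.Opens} {U : X.Opens} (hle : U ≤ f ⁻¹ᵁ V) :
    g' ⁻¹ᵁ U ≤ f' ⁻¹ᵁ g ⁻¹ᵁ V := by
  intro x hx
  show g (f' x) ∈ V
  rw [← Scheme.Hom.comp_apply, ← H.w, Scheme.Hom.comp_apply]
  exact hle hx

/-- Injectivity with flat cokernel of a pulled back map at a point of a chart. -/
theorem stalk_iff_good (H : IsPullback g' f' f g) [IsAffineHom g] {F G : X.Modules} [F.IsQuasicoherent]
    [G.IsQuasicoherent] (h : F ⟶ G) {V : Y.Opens} {U : X.Opens}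
    (hV : IsAffineOpen V) (hU : IsAffineOpen U) (hle : U ≤ f ⁻¹ᵁ V) (hU' : IsAffineOpen (g' ⁻¹ᵁ U))
    {x : X'} (hx : x ∈ g' ⁻¹ᵁ U) :
    letI := (g'.app U).hom.toAlgebra
    letI := (f'.appLE (g ⁻¹ᵁ V) (g' ⁻¹ᵁ U) (chart_le H hle)).hom.toAlgebra
    (Function.Injective ((TopCat.Presheaf.stalkFunctor Ab x).map
        (Scheme.Modules.Hom.mapPresheaf ((Scheme.Modules.pullback g').map h))) ∧
      FlatMod.IsFlatOverAt f' (cokernel ((Scheme.Modules.pullback g').map h)) x) ↔
    Good Γ(Y', g ⁻¹ᵁ V) ((appLinear h U).baseChange Γ(X', g' ⁻¹ᵁ U)) (hU'.primeIdealOf ⟨x, hx⟩) := by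
  haveI : ((Scheme.Modules.pullback g').obj F).IsQuasicoherent := QCPull72.isQuasicoherent_pullback g' F
  haveI : ((Scheme.Modules.pullback g').obj G).IsQuasicoherent := QCPull72.isQuasicoherent_pullback g' G
  obtain ⟨h1, h2, -, -⟩ := stalk_facts f' ((Scheme.Modules.pullback g').map h) (chart_le H hle) hU' (hV.preimage g)
    (QC70.isLocAt_of_isQuasicoherent _ hU') (QC70.isLocAt_of_isQuasicoherent _ hU') hx
  rw [h1, h2]
  have hhF := LimTop61.exists_baseChange_equiv g' F hU hU' (le_refl (g' ⁻¹ᵁ U))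
  have hhG := LimTop61.exists_baseChange_equiv g' G hU hU' (le_refl (g' ⁻¹ᵁ U))
  have hspan := QCPull72.span_unitSec_eq_top g' F hU hU' (le_refl (g' ⁻¹ᵁ U))
  rw [← Scheme.Hom.app_eq_appLE] at hhF hhG
  letI : Algebra Γ(X, U) Γ(X', g' ⁻¹ᵁ U) := (g'.app U).hom.toAlgebra
  letI : Algebra Γ(Y', g ⁻¹ᵁ V) Γ(X', g' ⁻¹ᵁ U) :=
    (f'.appLE (g ⁻¹ᵁ V) (g' ⁻¹ᵁ U) (chart_le H hle)).hom.toAlgebra
  obtain ⟨E, hE⟩ := hhF
  obtain ⟨E', hE'⟩ := hhG
  refine good_congr_iff E E' fun t => ?_
  have hkey : E'.toLinearMap ∘ₗ appLinear ((Scheme.Modules.pullback g').map h) (g' ⁻¹ᵁ U) =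
      ((appLinear h U).baseChange Γ(X', g' ⁻¹ᵁ U)) ∘ₗ E.toLinearMap := by
    refine LinearMap.ext_on_range hspan fun s => ?_
    show E' (((Scheme.Modules.pullback g').map h).app (g' ⁻¹ᵁ U) (QCPull72.unitSec g' F le_rfl s)) =
      (appLinear h U).baseChange Γ(X', g' ⁻¹ᵁ U) (E (QCPull72.unitSec g' F le_rfl s))
    rw [Sep.unitSec_natural, hE', hE, LinearMap.baseChange_tmul]
    rfl
  exact LinearMap.congr_fun hkey t

end Groth.Agent.E4O.InjStage
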