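import Groth.Agent.E4O.InjCokerChart
import Groth.Agent.Stage62.FlatStageScheme

/-!
EGA IV 11.2.6 / 11.3.7: injectivity with flat cokernel at a point descends to a stage of a limit.
-/

set_option autoImplicit false
set_option backward.isDefEq.respectTransparency.types false
set_option linter.style.haveILetI false

noncomputable section

universe u

open CategoryTheory Limits AlgebraicGeometry TopologicalSpace Opposite TensorProduct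
open Groth.Agent.Fib62

namespace Groth.Agent.E4O.InjStage

/-- The algebra of sections of a chart of a pulled back morphism is a pushout. -/
theorem isPushout_chart {X Y X' Y' : Scheme.{u}} {f : X ⟶ Y} {g : Y' ⟶ Y} {f' : X' ⟶ Y'} {g' : X' ⟶ X}
    [IsAffineHom g] (H : IsPullback g' f' f g) {V : Y.Opens} {U : X.Opens} (hV : IsAffineOpen V)
    (hU : IsAffineOpen U) (hle : U ≤ f ⁻¹ᵁ V)
    [Algebra Γ(Y, V) Γ(X, U)] (h1 : algebraMap Γ(Y, V) Γ(X, U) = (f.appLE V U hle).hom)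
    [Algebra Γ(Y, V) Γ(Y', g ⁻¹ᵁ V)] (h2 : algebraMap Γ(Y, V) Γ(Y', g ⁻¹ᵁ V) = (g.app V).hom) :
    letI : Algebra Γ(X, U) Γ(X', g' ⁻¹ᵁ U) := (g'.app U).hom.toAlgebra
    letI : Algebra Γ(Y', g ⁻¹ᵁ V) Γ(X', g' ⁻¹ᵁ U) :=
      (f'.appLE (g ⁻¹ᵁ V) (g' ⁻¹ᵁ U) (chart_le H hle)).hom.toAlgebra
    letI : Algebra Γ(Y, V) Γ(X', g' ⁻¹ᵁ U) := ((g'.app U).hom.comp (algebraMap Γ(Y, V) Γ(X, U))).toAlgebra
    ∃ (_ : IsScalarTower Γ(Y, V) Γ(X, U) Γ(X', g' ⁻¹ᵁ U)) (_ : IsScalarTower Γ(Y, V) Γ(Y', g ⁻¹ᵁ V) Γ(X', g' ⁻¹ᵁ U)),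
      Algebra.IsPushout Γ(Y, V) Γ(Y', g ⁻¹ᵁ V) Γ(X, U) Γ(X', g' ⁻¹ᵁ U) := by
  have hpo := Stage62.isPushout_sections H hV hU hle (chart_le H hle)
  letI : Algebra Γ(X, U) Γ(X', g' ⁻¹ᵁ U) := (g'.app U).hom.toAlgebra
  letI : Algebra Γ(Y', g ⁻¹ᵁ V) Γ(X', g' ⁻¹ᵁ U) :=
    (f'.appLE (g ⁻¹ᵁ V) (g' ⁻¹ᵁ U) (chart_le H hle)).hom.toAlgebra
  letI : Algebra Γ(Y, V) Γ(X', g' ⁻¹ᵁ U) := ((g'.app U).hom.comp (algebraMap Γ(Y, V) Γ(X, U))).toAlgebra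
  haveI t1 : IsScalarTower Γ(Y, V) Γ(X, U) Γ(X', g' ⁻¹ᵁ U) := .of_algebraMap_eq' rfl
  haveI t2 : IsScalarTower Γ(Y, V) Γ(Y', g ⁻¹ᵁ V) Γ(X', g' ⁻¹ᵁ U) := .of_algebraMap_eq' (by
    rw [RingHom.algebraMap_toAlgebra, RingHom.algebraMap_toAlgebra, h1, h2]
    exact (congrArg CommRingCat.Hom.hom hpo.w).symm)
  refine ⟨t1, t2, ?_⟩
  have e1 : CommRingCat.ofHom (algebraMap Γ(Y, V) Γ(X, U)) = f.appLE V U hle := by rw [h1]; rfl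
  have e2 : CommRingCat.ofHom (algebraMap Γ(Y, V) Γ(Y', g ⁻¹ᵁ V)) = g.app V := by rw [h2]; rfl
  rw [← e1, ← e2] at hpo
  exact (CommRingCat.isPushout_iff_isPushout).1 hpo

/-- The property descends to a stage. -/
theorem exists_stage_point {I : Type u} [SmallCategory I] [IsCofiltered I] (D : I ⥤ Scheme.{u}) (c : Cone D)
    (hc : IsLimit c) [∀ (i j : I) (φ : i ⟶ j), IsAffineHom (D.map φ)] (i₀ : I)
    {X₀ Y₀ : Scheme.{u}} (f₀ : X₀ ⟶ Y₀) (g₀ : Y₀ ⟶ D.obj i₀) [LocallyOfFinitePresentation f₀]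
    {F₀ G₀ : X₀.Modules} [F₀.IsQuasicoherent] [G₀.IsQuasicoherent] [CohB1.IsFP F₀] [CohB1.IsFP G₀] (h₀ : F₀ ⟶ G₀)
    {X Y : Scheme.{u}} (f : X ⟶ Y) (g : Y ⟶ c.pt) (qY : Y ⟶ Y₀) (qX : X ⟶ X₀)
    (hY : IsPullback qY g g₀ (c.π.app i₀)) (hX : IsPullback qX f f₀ qY) (x : X)
    (hinj : Function.Injective ((TopCat.Presheaf.stalkFunctor Ab x).map
        (Scheme.Modules.Hom.mapPresheaf ((Scheme.Modules.pullback qX).map h₀))))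
    (hflat : FlatMod.IsFlatOverAt f (cokernel ((Scheme.Modules.pullback qX).map h₀)) x) :
    ∃ (i : I) (φ : i ⟶ i₀) (Xi Yi : Scheme.{u}) (fi : Xi ⟶ Yi) (gi : Yi ⟶ D.obj i)
        (pY : Yi ⟶ Y₀) (pX : Xi ⟶ X₀) (vY : Y ⟶ Yi) (vX : X ⟶ Xi),
        IsPullback pY gi g₀ (D.map φ) ∧ IsPullback pX fi f₀ pY ∧
          vY ≫ pY = qY ∧ vY ≫ gi = g ≫ c.π.app i ∧ vX ≫ pX = qX ∧ vX ≫ fi = f ≫ vY ∧
          Function.Injective ((TopCat.Presheaf.stalkFunctor Ab (vX x)).map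
            (Scheme.Modules.Hom.mapPresheaf ((Scheme.Modules.pullback pX).map h₀))) ∧
          FlatMod.IsFlatOverAt fi (cokernel ((Scheme.Modules.pullback pX).map h₀)) (vX x) := by
  classical
  haveI : IsAffineHom (c.π.app i₀) := isAffineHom_π_app D c hc i₀
  haveI : IsAffineHom qY := MorphismProperty.of_isPullback hY.flip ‹IsAffineHom (c.π.app i₀)›
  haveI : IsAffineHom qX := MorphismProperty.of_isPullback hX.flip ‹IsAffineHom qY›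
  obtain ⟨V, hV, hxV, -⟩ := exists_isAffineOpen_mem_and_subset (X := Y₀) (x := f₀ (qX x)) (U := ⊤) trivial
  obtain ⟨U, hU, hxU, hle⟩ := exists_isAffineOpen_mem_and_subset (X := X₀) (x := qX x) (U := f₀ ⁻¹ᵁ V) hxV
  haveI : IsAffine (V : Scheme.{u}) := hV
  have hU' : IsAffineOpen (qX ⁻¹ᵁ U) := hU.preimage qX
  have hgood := (stalk_iff_good hX h₀ hV hU hle hU' (x := x) hxU).1 ⟨hinj, hflat⟩
  letI : Algebra Γ(Y₀, V) Γ(X₀, U) := (f₀.appLE V U hle).hom.toAlgebra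
  haveI : Algebra.FinitePresentation Γ(Y₀, V) Γ(X₀, U) := f₀.finitePresentation_appLE hV hU hle
  haveI := Props58.LocFree.finitePresentation_sections F₀ hU
  haveI := Props58.LocFree.finitePresentation_sections G₀ hU
  obtain ⟨D₁, C₁, _, _, _, hT, hpo₁, N₁, M₁, _, _, _, _, _, _, _, _, u₁, eN, eM, hN, hft, hfN, hfM, hcomm⟩ :=
    exists_pres_model (A := Γ(Y₀, V)) (appLinear h₀ U)
  -- rings over the limit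
  letI : Algebra Γ(Y₀, V) Γ(Y, qY ⁻¹ᵁ V) := (qY.app V).hom.toAlgebra
  letI : Algebra Γ(X₀, U) Γ(X, qX ⁻¹ᵁ U) := (qX.app U).hom.toAlgebra
  letI : Algebra Γ(Y, qY ⁻¹ᵁ V) Γ(X, qX ⁻¹ᵁ U) :=
    (f.appLE (qY ⁻¹ᵁ V) (qX ⁻¹ᵁ U) (chart_le hX hle)).hom.toAlgebra
  letI : Algebra Γ(Y₀, V) Γ(X, qX ⁻¹ᵁ U) :=
    ((qX.app U).hom.comp (algebraMap Γ(Y₀, V) Γ(X₀, U))).toAlgebra
  obtain ⟨_, _, hpo⟩ := isPushout_chart hX hV hU hle rfl rfl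
  letI : Algebra C₁ Γ(X, qX ⁻¹ᵁ U) := ((qX.app U).hom.comp (algebraMap C₁ Γ(X₀, U))).toAlgebra
  haveI : IsScalarTower C₁ Γ(X₀, U) Γ(X, qX ⁻¹ᵁ U) := .of_algebraMap_eq' rfl
  haveI : IsScalarTower D₁ Γ(X₀, U) Γ(X, qX ⁻¹ᵁ U) := IsScalarTower.to₁₃₄ D₁ Γ(Y₀, V) Γ(X₀, U) Γ(X, qX ⁻¹ᵁ U)
  haveI : IsScalarTower D₁ C₁ Γ(X, qX ⁻¹ᵁ U) := IsScalarTower.to₁₂₄ D₁ C₁ Γ(X₀, U) Γ(X, qX ⁻¹ᵁ U)
  haveI : IsScalarTower D₁ Γ(Y, qY ⁻¹ᵁ V) Γ(X, qX ⁻¹ᵁ U) :=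
    IsScalarTower.to₁₃₄ D₁ Γ(Y₀, V) Γ(Y, qY ⁻¹ᵁ V) Γ(X, qX ⁻¹ᵁ U)
  haveI : Algebra.IsPushout D₁ Γ(Y, qY ⁻¹ᵁ V) C₁ Γ(X, qX ⁻¹ᵁ U) :=
    (Algebra.IsPushout.comp_iff (R := D₁) (S := Γ(Y₀, V)) (T := Γ(Y, qY ⁻¹ᵁ V)) (R' := C₁) (S' := Γ(X₀, U))
      (T' := Γ(X, qX ⁻¹ᵁ U))).2 hpo
  have hgood₁ := (good_model_iff eN eM hcomm).2 hgood
  obtain ⟨E, hE, hEgood⟩ := exists_stage (D := D₁) u₁ _ hgood₁
  haveI : Algebra.FiniteType D₁ E := (Subalgebra.fg_iff_finiteType E).1 hE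
  haveI : Algebra.FinitePresentation D₁ E := Algebra.FinitePresentation.of_finiteType.mp inferInstance
  -- a morphism from a stage
  let a : (V : Scheme.{u}) ⟶ D.obj i₀ := V.ι ≫ g₀
  have hP : IsPullback (qY ∣_ V) ((qY ⁻¹ᵁ V).ι ≫ g) a (c.π.app i₀) :=
    (isPullback_morphismRestrict qY V).paste_vert hY
  let ec := LimTop61.bcCone D c a (qY ∣_ V) ((qY ⁻¹ᵁ V).ι ≫ g) hP.w
  have hec : IsLimit ec := LimTop61.isLimitBcCone D c hc a _ _ hP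
  let φR : CommRingCat.of D₁ ⟶ Γ(Y₀, V) := CommRingCat.ofHom (algebraMap D₁ Γ(Y₀, V))
  let fR : Spec (CommRingCat.of E) ⟶ Spec (CommRingCat.of D₁) := Spec.map (CommRingCat.ofHom (algebraMap D₁ E))
  haveI : LocallyOfFinitePresentation fR := by
    rw [HasRingHomProperty.Spec_iff (P := @LocallyOfFinitePresentation)]
    exact RingHom.finitePresentation_algebraMap.mpr inferInstance
  let t : LimTop61.bcDiagram D a ⟶ (Functor.const (Over i₀)).obj (Spec (CommRingCat.of D₁)) :=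
    { app := fun k => pullback.fst a (D.map k.hom) ≫ V.toSpecΓ ≫ Spec.map φR
      naturality := fun k l m => by
        show pullback.lift _ _ _ ≫ pullback.fst a (D.map l.hom) ≫ _ = (_ ≫ _) ≫ 𝟙 _
        rw [pullback.lift_fst_assoc, Category.comp_id] }
  let pa : (qY ⁻¹ᵁ V : Scheme.{u}) ⟶ Spec (CommRingCat.of E) :=
    (qY ⁻¹ᵁ V).toSpecΓ ≫ Spec.map (CommRingCat.ofHom E.val.toRingHom)
  have hpa : ec.π ≫ t = (Functor.const (Over i₀)).map (pa ≫ fR) := by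
    ext1
    ext1 k
    show pullback.lift (qY ∣_ V) _ _ ≫ pullback.fst a (D.map k.hom) ≫ _ = (_ ≫ _) ≫ fR
    rw [pullback.lift_fst_assoc, ← Scheme.Opens.toSpecΓ_naturality_assoc, Category.assoc, ← Spec.map_comp,
      ← Spec.map_comp]
    congr 2
  haveI : ∀ {k l : Over i₀} (m : k ⟶ l), IsAffineHom ((LimTop61.bcDiagram D a).map m) :=
    fun m => LimTop61.isAffineHom_bcDiagram_map D a m
  haveI : ∀ k, CompactSpace ((LimTop61.bcDiagram D a).obj k) := fun k => LimTop61.bcDiagram_compactSpace D a k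
  haveI : ∀ k, QuasiSeparatedSpace ((LimTop61.bcDiagram D a).obj k) := fun k =>
    LimTop61.bcDiagram_quasiSeparatedSpace D a k
  obtain ⟨k, γ₀, hγ₁', hγ₂'⟩ := Scheme.exists_π_app_comp_eq_of_locallyOfFinitePresentation
    (LimTop61.bcDiagram D a) t fR ec hec pa hpa
  let γ : pullback a (D.map k.hom) ⟶ Spec (CommRingCat.of E) := γ₀
  have hγ₂ : γ ≫ fR = pullback.fst a (D.map k.hom) ≫ V.toSpecΓ ≫ Spec.map φR := hγ₂'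
  have hγ₁ : (ec.π.app k : (qY ⁻¹ᵁ V : Scheme.{u}) ⟶ pullback a (D.map k.hom)) ≫ γ = pa := hγ₁'
  let φ := k.hom
  let pY := pullback.fst g₀ (D.map φ)
  haveI : IsAffineHom pY := MorphismProperty.pullback_fst (P := @IsAffineHom) g₀ (D.map φ) inferInstance
  haveI : IsAffine ((pY ⁻¹ᵁ V : (pullback g₀ (D.map φ)).Opens) : Scheme.{u}) := hV.preimage pY
  have hvw : qY ≫ g₀ = (g ≫ c.π.app k.left) ≫ D.map φ := by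
    rw [Category.assoc, c.w, hY.w]
  let vY : Y ⟶ pullback g₀ (D.map φ) := pullback.lift qY (g ≫ c.π.app k.left) hvw
  have hvY : vY ≫ pY = qY := pullback.lift_fst _ _ _
  let pX := pullback.fst f₀ pY
  haveI : IsAffineHom pX := MorphismProperty.pullback_fst (P := @IsAffineHom) f₀ pY inferInstance
  let fi := pullback.snd f₀ pY
  let vX : X ⟶ pullback f₀ pY := pullback.lift qX (f ≫ vY) (by rw [Category.assoc, hvY, hX.w])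
  have hvX : vX ≫ pX = qX := pullback.lift_fst _ _ _
  have hvXf : vX ≫ fi = f ≫ vY := pullback.lift_snd _ _ _
  refine ⟨k.left, φ, pullback f₀ pY, pullback g₀ (D.map φ), fi, pullback.snd g₀ (D.map φ), pY, pX, vY, vX,
    IsPullback.of_hasPullback _ _, IsPullback.of_hasPullback _ _, hvY, pullback.lift_snd _ _ _, hvX, hvXf, ?_⟩
  have hPi : IsPullback pX fi f₀ pY := IsPullback.of_hasPullback _ _
  have hxU' : vX x ∈ pX ⁻¹ᵁ U := by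
    show pX (vX x) ∈ U
    rw [← Scheme.Hom.comp_apply, hvX]
    exact hxU
  refine (stalk_iff_good hPi h₀ hV hU hle (hU.preimage pX) hxU').2 ?_
  letI : Algebra Γ(Y₀, V) Γ(pullback g₀ (D.map φ), pY ⁻¹ᵁ V) := (pY.app V).hom.toAlgebra
  letI : Algebra Γ(X₀, U) Γ(pullback f₀ pY, pX ⁻¹ᵁ U) := (pX.app U).hom.toAlgebra
  letI : Algebra Γ(pullback g₀ (D.map φ), pY ⁻¹ᵁ V) Γ(pullback f₀ pY, pX ⁻¹ᵁ U) :=
    (fi.appLE (pY ⁻¹ᵁ V) (pX ⁻¹ᵁ U) (chart_le hPi hle)).hom.toAlgebra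
  letI : Algebra Γ(Y₀, V) Γ(pullback f₀ pY, pX ⁻¹ᵁ U) :=
    ((pX.app U).hom.comp (algebraMap Γ(Y₀, V) Γ(X₀, U))).toAlgebra
  obtain ⟨_, _, hpoi⟩ := isPushout_chart hPi hV hU hle rfl rfl
  letI : Algebra C₁ Γ(pullback f₀ pY, pX ⁻¹ᵁ U) := ((pX.app U).hom.comp (algebraMap C₁ Γ(X₀, U))).toAlgebra
  haveI : IsScalarTower D₁ Γ(X₀, U) Γ(pullback f₀ pY, pX ⁻¹ᵁ U) :=
    IsScalarTower.to₁₃₄ D₁ Γ(Y₀, V) Γ(X₀, U) Γ(pullback f₀ pY, pX ⁻¹ᵁ U)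
  haveI : IsScalarTower C₁ Γ(X₀, U) Γ(pullback f₀ pY, pX ⁻¹ᵁ U) := .of_algebraMap_eq' rfl
  haveI : IsScalarTower D₁ C₁ Γ(pullback f₀ pY, pX ⁻¹ᵁ U) :=
    IsScalarTower.to₁₂₄ D₁ C₁ Γ(X₀, U) Γ(pullback f₀ pY, pX ⁻¹ᵁ U)
  haveI : IsScalarTower D₁ Γ(pullback g₀ (D.map φ), pY ⁻¹ᵁ V) Γ(pullback f₀ pY, pX ⁻¹ᵁ U) :=
    IsScalarTower.to₁₃₄ D₁ Γ(Y₀, V) Γ(pullback g₀ (D.map φ), pY ⁻¹ᵁ V) Γ(pullback f₀ pY, pX ⁻¹ᵁ U)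
  haveI : Algebra.IsPushout D₁ Γ(pullback g₀ (D.map φ), pY ⁻¹ᵁ V) C₁ Γ(pullback f₀ pY, pX ⁻¹ᵁ U) :=
    (Algebra.IsPushout.comp_iff (R := D₁) (S := Γ(Y₀, V)) (T := Γ(pullback g₀ (D.map φ), pY ⁻¹ᵁ V)) (R' := C₁)
      (S' := Γ(X₀, U)) (T' := Γ(pullback f₀ pY, pX ⁻¹ᵁ U))).2 hpoi
  -- comparison maps
  have eY : qY ⁻¹ᵁ V ≤ vY ⁻¹ᵁ (pY ⁻¹ᵁ V) := by rw [← Scheme.Hom.comp_preimage, hvY]
  have eX : qX ⁻¹ᵁ U ≤ vX ⁻¹ᵁ (pX ⁻¹ᵁ U) := by rw [← Scheme.Hom.comp_preimage, hvX]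
  have hYc : pY.app V ≫ vY.appLE (pY ⁻¹ᵁ V) (qY ⁻¹ᵁ V) eY = qY.app V := by
    rw [Scheme.Hom.app_eq_appLE, Scheme.Hom.appLE_comp_appLE, Scheme.Hom.app_eq_appLE]
    simp_rw [hvY]
  have hXc : pX.app U ≫ vX.appLE (pX ⁻¹ᵁ U) (qX ⁻¹ᵁ U) eX = qX.app U := by
    rw [Scheme.Hom.app_eq_appLE, Scheme.Hom.appLE_comp_appLE, Scheme.Hom.app_eq_appLE]
    simp_rw [hvX]
  let ρ : Γ(pullback g₀ (D.map φ), pY ⁻¹ᵁ V) →ₐ[D₁] Γ(Y, qY ⁻¹ᵁ V) :=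
    { toRingHom := (vY.appLE (pY ⁻¹ᵁ V) (qY ⁻¹ᵁ V) eY).hom
      commutes' := fun d => by
        rw [IsScalarTower.algebraMap_apply D₁ Γ(Y₀, V) Γ(Y, qY ⁻¹ᵁ V)]
        exact ConcreteCategory.congr_hom hYc (algebraMap D₁ Γ(Y₀, V) d) }
  let σ : Γ(pullback f₀ pY, pX ⁻¹ᵁ U) →ₐ[C₁] Γ(X, qX ⁻¹ᵁ U) :=
    { toRingHom := (vX.appLE (pX ⁻¹ᵁ U) (qX ⁻¹ᵁ U) eX).hom
      commutes' := fun d => ConcreteCategory.congr_hom hXc (algebraMap C₁ Γ(X₀, U) d) }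
  let m : (pY ⁻¹ᵁ V : Scheme.{u}) ⟶ pullback a (D.map k.hom) :=
    pullback.lift (pY ∣_ V) ((pY ⁻¹ᵁ V).ι ≫ pullback.snd g₀ (D.map φ)) (by
      show (pY ∣_ V) ≫ V.ι ≫ g₀ = _
      rw [← Category.assoc, morphismRestrict_ι, Category.assoc, pullback.condition, Category.assoc])
  haveI : IsIso (pY ⁻¹ᵁ V).toSpecΓ := by unfold Scheme.Opens.toSpecΓ; infer_instance
  haveI : IsAffine ((qY ⁻¹ᵁ V : Y.Opens) : Scheme.{u}) := hV.preimage qY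
  haveI : IsIso (qY ⁻¹ᵁ V).toSpecΓ := by unfold Scheme.Opens.toSpecΓ; infer_instance
  obtain ⟨χ, hχ⟩ := Spec.map_surjective (inv (pY ⁻¹ᵁ V).toSpecΓ ≫ m ≫ γ)
  have hχR : CommRingCat.ofHom (algebraMap D₁ E) ≫ χ = φR ≫ pY.app V := by
    apply Spec.map_injective
    rw [Spec.map_comp, Spec.map_comp, hχ, Category.assoc, Category.assoc, IsIso.inv_comp_eq, hγ₂,
      Scheme.Opens.toSpecΓ_naturality_assoc]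
    rw [pullback.lift_fst_assoc]
  let ψ : E →ₐ[D₁] Γ(pullback g₀ (D.map φ), pY ⁻¹ᵁ V) :=
    { χ.hom with commutes' := fun r => ConcreteCategory.congr_hom hχR r }
  have hres : vY.resLE (pY ⁻¹ᵁ V) (qY ⁻¹ᵁ V) eY ≫ m =
      (ec.π.app k : (qY ⁻¹ᵁ V : Scheme.{u}) ⟶ pullback a (D.map k.hom)) := by
    apply pullback.hom_ext
    · rw [Category.assoc, pullback.lift_fst, ← cancel_mono V.ι, Category.assoc, morphismRestrict_ι,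
        Scheme.Hom.resLE_comp_ι_assoc, hvY]
      show _ = (pullback.lift (qY ∣_ V) _ _ ≫ pullback.fst a (D.map k.hom)) ≫ V.ι
      rw [pullback.lift_fst, morphismRestrict_ι]
    · rw [Category.assoc, pullback.lift_snd, Scheme.Hom.resLE_comp_ι_assoc, pullback.lift_snd]
      show _ = pullback.lift (qY ∣_ V) _ _ ≫ pullback.snd a (D.map k.hom)
      rw [pullback.lift_snd, Category.assoc]
  have hρψ : χ ≫ vY.appLE (pY ⁻¹ᵁ V) (qY ⁻¹ᵁ V) eY = CommRingCat.ofHom E.val.toRingHom := by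
    apply Spec.map_injective
    rw [← cancel_epi (qY ⁻¹ᵁ V).toSpecΓ, Spec.map_comp, hχ,
      Scheme.Opens.toSpecΓ_SpecMap_appLE_assoc, IsIso.hom_inv_id_assoc, reassoc_of% hres]
    exact hγ₁
  have hσ : ∀ a', σ (algebraMap Γ(pullback g₀ (D.map φ), pY ⁻¹ᵁ V) Γ(pullback f₀ pY, pX ⁻¹ᵁ U) a') =
      algebraMap Γ(Y, qY ⁻¹ᵁ V) Γ(X, qX ⁻¹ᵁ U) (ρ a') := by
    intro a'
    show ((fi.appLE (pY ⁻¹ᵁ V) (pX ⁻¹ᵁ U) (chart_le hPi hle)) ≫ vX.appLE (pX ⁻¹ᵁ U) (qX ⁻¹ᵁ U) eX) a' =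
      (vY.appLE (pY ⁻¹ᵁ V) (qY ⁻¹ᵁ V) eY ≫ f.appLE (qY ⁻¹ᵁ V) (qX ⁻¹ᵁ U) (chart_le hX hle)) a'
    rw [Scheme.Hom.appLE_comp_appLE, Scheme.Hom.appLE_comp_appLE]
    simp_rw [hvXf]
  have hfin := hEgood Γ(pullback g₀ (D.map φ), pY ⁻¹ᵁ V) Γ(pullback f₀ pY, pX ⁻¹ᵁ U) ψ ρ σ
    (AlgHom.ext fun e => ConcreteCategory.congr_hom hρψ e) hσ
  have hprime : PrimeSpectrum.comap σ.toRingHom (hU'.primeIdealOf ⟨x, hxU⟩) =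
      (hU.preimage pX).primeIdealOf ⟨vX x, hxU'⟩ :=
    IsAffineOpen.comap_primeIdealOf_appLE (pX ⁻¹ᵁ U) (hU.preimage pX) (qX ⁻¹ᵁ U) hU' eX hxU
  rw [hprime] at hfin
  exact (good_model_iff eN eM hcomm).1 hfin

/-- The property at a stage passes to all later objects. -/
theorem good_of_stage_point {X₀ Y₀ X' Y' X Y : Scheme.{u}} {f₀ : X₀ ⟶ Y₀} [LocallyOfFinitePresentation f₀]
    {F₀ G₀ : X₀.Modules} [F₀.IsQuasicoherent] [G₀.IsQuasicoherent] [CohB1.IsFP F₀] [CohB1.IsFP G₀] (h₀ : F₀ ⟶ G₀)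
    {f' : X' ⟶ Y'} {pY : Y' ⟶ Y₀} {pX : X' ⟶ X₀} [IsAffineHom pY] (hp : IsPullback pX f' f₀ pY)
    {f : X ⟶ Y} {qY : Y ⟶ Y₀} {qX : X ⟶ X₀} [IsAffineHom qY] (hq : IsPullback qX f f₀ qY)
    {vY : Y ⟶ Y'} {vX : X ⟶ X'} (hvY : vY ≫ pY = qY) (hvX : vX ≫ pX = qX) (hvf : vX ≫ f' = f ≫ vY) (x : X)
    (hinj : Function.Injective ((TopCat.Presheaf.stalkFunctor Ab (vX x)).map
        (Scheme.Modules.Hom.mapPresheaf ((Scheme.Modules.pullback pX).map h₀))))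
    (hflat : FlatMod.IsFlatOverAt f' (cokernel ((Scheme.Modules.pullback pX).map h₀)) (vX x)) :
    Function.Injective ((TopCat.Presheaf.stalkFunctor Ab x).map
        (Scheme.Modules.Hom.mapPresheaf ((Scheme.Modules.pullback qX).map h₀))) ∧
      FlatMod.IsFlatOverAt f (cokernel ((Scheme.Modules.pullback qX).map h₀)) x := by
  haveI : IsAffineHom pX := MorphismProperty.of_isPullback hp.flip ‹IsAffineHom pY›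
  haveI : IsAffineHom qX := MorphismProperty.of_isPullback hq.flip ‹IsAffineHom qY›
  obtain ⟨V, hV, hxV, -⟩ := exists_isAffineOpen_mem_and_subset (X := Y₀) (x := f₀ (qX x)) (U := ⊤) trivial
  obtain ⟨U, hU, hxU, hle⟩ := exists_isAffineOpen_mem_and_subset (X := X₀) (x := qX x) (U := f₀ ⁻¹ᵁ V) hxV
  have hxU' : vX x ∈ pX ⁻¹ᵁ U := by
    show pX (vX x) ∈ U
    rw [← Scheme.Hom.comp_apply, hvX]
    exact hxU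
  have h := (stalk_iff_good hp h₀ hV hU hle (hU.preimage pX) hxU').1 ⟨hinj, hflat⟩
  refine (stalk_iff_good hq h₀ hV hU hle (hU.preimage qX) (x := x) hxU).2 ?_
  letI : Algebra Γ(Y₀, V) Γ(X₀, U) := (f₀.appLE V U hle).hom.toAlgebra
  haveI : Algebra.FinitePresentation Γ(Y₀, V) Γ(X₀, U) := f₀.finitePresentation_appLE hV hU hle
  haveI := Props58.LocFree.finitePresentation_sections F₀ hU
  haveI := Props58.LocFree.finitePresentation_sections G₀ hU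
  have eY : qY ⁻¹ᵁ V ≤ vY ⁻¹ᵁ (pY ⁻¹ᵁ V) := by rw [← Scheme.Hom.comp_preimage, hvY]
  have eX : qX ⁻¹ᵁ U ≤ vX ⁻¹ᵁ (pX ⁻¹ᵁ U) := by rw [← Scheme.Hom.comp_preimage, hvX]
  have hYc : pY.app V ≫ vY.appLE (pY ⁻¹ᵁ V) (qY ⁻¹ᵁ V) eY = qY.app V := by
    rw [Scheme.Hom.app_eq_appLE, Scheme.Hom.appLE_comp_appLE, Scheme.Hom.app_eq_appLE]
    simp_rw [hvY]
  have hXc : pX.app U ≫ vX.appLE (pX ⁻¹ᵁ U) (qX ⁻¹ᵁ U) eX = qX.app U := by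
    rw [Scheme.Hom.app_eq_appLE, Scheme.Hom.appLE_comp_appLE, Scheme.Hom.app_eq_appLE]
    simp_rw [hvX]
  have hsq : f'.appLE (pY ⁻¹ᵁ V) (pX ⁻¹ᵁ U) (chart_le hp hle) ≫ vX.appLE (pX ⁻¹ᵁ U) (qX ⁻¹ᵁ U) eX =
      vY.appLE (pY ⁻¹ᵁ V) (qY ⁻¹ᵁ V) eY ≫ f.appLE (qY ⁻¹ᵁ V) (qX ⁻¹ᵁ U) (chart_le hq hle) := by
    rw [Scheme.Hom.appLE_comp_appLE, Scheme.Hom.appLE_comp_appLE]
    simp_rw [hvf]
  letI : Algebra Γ(Y₀, V) Γ(Y', pY ⁻¹ᵁ V) := (pY.app V).hom.toAlgebra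
  letI : Algebra Γ(Y₀, V) Γ(Y, qY ⁻¹ᵁ V) := (qY.app V).hom.toAlgebra
  letI : Algebra Γ(X₀, U) Γ(X', pX ⁻¹ᵁ U) := (pX.app U).hom.toAlgebra
  letI : Algebra Γ(X₀, U) Γ(X, qX ⁻¹ᵁ U) := (qX.app U).hom.toAlgebra
  letI : Algebra Γ(Y', pY ⁻¹ᵁ V) Γ(X', pX ⁻¹ᵁ U) :=
    (f'.appLE (pY ⁻¹ᵁ V) (pX ⁻¹ᵁ U) (chart_le hp hle)).hom.toAlgebra
  letI : Algebra Γ(Y, qY ⁻¹ᵁ V) Γ(X, qX ⁻¹ᵁ U) :=
    (f.appLE (qY ⁻¹ᵁ V) (qX ⁻¹ᵁ U) (chart_le hq hle)).hom.toAlgebra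
  letI : Algebra Γ(Y₀, V) Γ(X', pX ⁻¹ᵁ U) := ((pX.app U).hom.comp (algebraMap Γ(Y₀, V) Γ(X₀, U))).toAlgebra
  letI : Algebra Γ(Y₀, V) Γ(X, qX ⁻¹ᵁ U) := ((qX.app U).hom.comp (algebraMap Γ(Y₀, V) Γ(X₀, U))).toAlgebra
  obtain ⟨_, _, hpoi⟩ := isPushout_chart hp hV hU hle rfl rfl
  obtain ⟨_, _, hpo⟩ := isPushout_chart hq hV hU hle rfl rfl
  letI : Algebra Γ(Y', pY ⁻¹ᵁ V) Γ(Y, qY ⁻¹ᵁ V) := (vY.appLE (pY ⁻¹ᵁ V) (qY ⁻¹ᵁ V) eY).hom.toAlgebra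
  letI : Algebra Γ(X', pX ⁻¹ᵁ U) Γ(X, qX ⁻¹ᵁ U) := (vX.appLE (pX ⁻¹ᵁ U) (qX ⁻¹ᵁ U) eX).hom.toAlgebra
  haveI : IsScalarTower Γ(Y₀, V) Γ(Y', pY ⁻¹ᵁ V) Γ(Y, qY ⁻¹ᵁ V) :=
    .of_algebraMap_eq fun a => (ConcreteCategory.congr_hom hYc a).symm
  haveI : IsScalarTower Γ(X₀, U) Γ(X', pX ⁻¹ᵁ U) Γ(X, qX ⁻¹ᵁ U) :=
    .of_algebraMap_eq fun a => (ConcreteCategory.congr_hom hXc a).symm
  letI : Algebra Γ(Y', pY ⁻¹ᵁ V) Γ(X, qX ⁻¹ᵁ U) :=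
    ((algebraMap Γ(X', pX ⁻¹ᵁ U) Γ(X, qX ⁻¹ᵁ U)).comp (algebraMap Γ(Y', pY ⁻¹ᵁ V) Γ(X', pX ⁻¹ᵁ U))).toAlgebra
  haveI : IsScalarTower Γ(Y', pY ⁻¹ᵁ V) Γ(X', pX ⁻¹ᵁ U) Γ(X, qX ⁻¹ᵁ U) := .of_algebraMap_eq fun _ => rfl
  haveI : IsScalarTower Γ(Y', pY ⁻¹ᵁ V) Γ(Y, qY ⁻¹ᵁ V) Γ(X, qX ⁻¹ᵁ U) :=
    .of_algebraMap_eq fun a => ConcreteCategory.congr_hom hsq a
  haveI : IsScalarTower Γ(Y₀, V) Γ(X', pX ⁻¹ᵁ U) Γ(X, qX ⁻¹ᵁ U) :=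
    IsScalarTower.to₁₃₄ Γ(Y₀, V) Γ(X₀, U) Γ(X', pX ⁻¹ᵁ U) Γ(X, qX ⁻¹ᵁ U)
  haveI : Algebra.IsPushout Γ(Y', pY ⁻¹ᵁ V) Γ(Y, qY ⁻¹ᵁ V) Γ(X', pX ⁻¹ᵁ U) Γ(X, qX ⁻¹ᵁ U) :=
    (Algebra.IsPushout.comp_iff (R := Γ(Y₀, V)) (S := Γ(Y', pY ⁻¹ᵁ V)) (T := Γ(Y, qY ⁻¹ᵁ V)) (R' := Γ(X₀, U))
      (S' := Γ(X', pX ⁻¹ᵁ U)) (T' := Γ(X, qX ⁻¹ᵁ U))).1 hpo
  haveI : Algebra.FinitePresentation Γ(Y', pY ⁻¹ᵁ V) Γ(X', pX ⁻¹ᵁ U) :=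
    Algebra.FinitePresentation.equiv (Algebra.IsPushout.equiv Γ(Y₀, V) Γ(Y', pY ⁻¹ᵁ V) Γ(X₀, U) Γ(X', pX ⁻¹ᵁ U))
  have hprime : PrimeSpectrum.comap (algebraMap Γ(X', pX ⁻¹ᵁ U) Γ(X, qX ⁻¹ᵁ U))
      ((hU.preimage qX).primeIdealOf ⟨x, hxU⟩) = (hU.preimage pX).primeIdealOf ⟨vX x, hxU'⟩ :=
    IsAffineOpen.comap_primeIdealOf_appLE (pX ⁻¹ᵁ U) (hU.preimage pX) (qX ⁻¹ᵁ U) (hU.preimage qX) eX hxU
  rw [← hprime] at h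
  exact (good_baseChange_baseChange_iff (C' := Γ(X', pX ⁻¹ᵁ U)) (appLinear h₀ U)).1
    (good_baseChange (D := Γ(Y', pY ⁻¹ᵁ V)) _ _ h)

end Groth.Agent.E4O.InjStage
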