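import Groth.Agent.E4O.JacobsonDimFun
import Groth.Agent.E4O.QuasiSectionEquidim
import Groth.Agent.Cyc90.IsDimFunLft
import Groth.Agent.Cyc90.FlatRelDim
import Groth.Agent.RatFun90.Dense
import Groth.Agent.TopDim50.Basic
import Mathlib.AlgebraicGeometry.Morphisms.Finite

/-!
Dimensions of subsets of a Jacobson scheme with a dimension function vanishing at closed points
(EGA IV 10.6).
-/

set_option autoImplicit false
set_option linter.style.haveILetI false
universe u

open CategoryTheory AlgebraicGeometry TopologicalSpace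
open Groth.Agent.Cyc90

namespace Groth.Agent.E4O

variable {X : Scheme.{u}} {δ : X → ℤ}

/-- The dimension function of a scheme locally of finite type over a Jacobson one. -/
theorem exists_dimFun_lft {S : Scheme.{u}} [JacobsonSpace S] (g : X ⟶ S) [LocallyOfFiniteType g]
    (δS : S → ℤ) (hS : Cyc.IsSetup S δS) (h0 : ∀ s : S, IsClosed ({s} : Set S) → δS s = 0) :
    ∃ δX : X → ℤ, Cyc.IsSetup X δX ∧ ∀ x : X, IsClosed ({x} : Set X) → δX x = 0 := by
  refine ⟨fun x => δS (g x) + (fdeg g x : ℤ), isSetup_of_lft g δS hS _ fun x =>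
    ⟨fdeg g x, trdeg_residueField_eq_fdeg g x, rfl⟩, fun x hx => ?_⟩
  have h1 : IsClosed ({g x} : Set S) := g.closePoints_subset_preimage_closedPoints hx
  simp only [h0 _ h1, fdeg_eq_zero_of_closed_in_fibre g fun x' _ h => h.mem_closed hx rfl,
    Nat.cast_zero, add_zero]

/-- Saturated chains between two points lie in every set containing all points between them. -/
theorem delta_sub_le_dim (h : Cyc.IsDimFun X δ) (W : Set X) {η c : X} (hηc : η ⤳ c)
    (hW : ∀ t : X, η ⤳ t → t ⤳ c → t ∈ W) :
    ((δ η - δ c).toNat : WithBot ℕ∞) ≤ topologicalKrullDim ↥W := by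
  obtain ⟨s, hs1, hs2⟩ := exists_series h hηc
  have hmem : ∀ i, ptOf (s i) ∈ W := fun i => hW _ (by
    have := ptOf_specializes_of_le (s.head_le i)
    rwa [hs1, ptOf_genPrime] at this) (fromSpecStalk_specializes _)
  have emb : Topology.IsEmbedding (Subtype.val : W → X) := Topology.IsEmbedding.subtypeVal
  let pt : Fin (s.length + 1) → W := fun i => ⟨ptOf (s i), hmem i⟩
  let c' : LTSeries (IrreducibleCloseds W) :=
    { length := s.length
      toFun := fun i => ⟨closure {pt i.rev}, isIrreducible_singleton.closure, isClosed_closure⟩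
      step := fun i => by
        have hlt : s i.succ.rev < s i.castSucc.rev :=
          s.strictMono (Fin.rev_lt_rev.mpr i.castSucc_lt_succ)
        have hsp : pt i.succ.rev ⤳ pt i.castSucc.rev :=
          emb.isInducing.specializes_iff.mp (ptOf_specializes_of_le hlt.le)
        refine ⟨hsp.closure_subset, fun hge => ?_⟩
        have hsp' : pt i.castSucc.rev ⤳ pt i.succ.rev :=
          specializes_iff_mem_closure.mpr (hge (subset_closure rfl))
        have := (Inseparable.map (hsp'.antisymm hsp) continuous_subtype_val).eq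
        exact hlt.ne (ptOf_injective c this.symm) }
  refine le_of_eq_of_le ?_ (Order.LTSeries.length_le_krullDim c')
  show _ = ((s.length : ℕ) : WithBot ℕ∞)
  congr 1
  omega

/-- The dimension of a set is bounded by the values of the dimension function at its closure. -/
theorem dim_le_of_delta (h : Cyc.IsDimFun X δ) (W : Set X) (m : ℤ) (B : WithBot ℕ∞)
    (hm : ∀ w ∈ W, m ≤ δ w)
    (hB : ∀ p ∈ closure W, (∃ w ∈ W, p ⤳ w) → ((δ p - m).toNat : WithBot ℕ∞) ≤ B) :
    topologicalKrullDim ↥W ≤ B := by
  refine iSup_le fun l => ?_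
  have hgen : ∀ Z : IrreducibleCloseds W, ∃ p : X, IsGenericPoint p (closure (Subtype.val '' (Z : Set W))) :=
    fun Z => QuasiSober.sober (Z.isIrreducible.image _ continuous_subtype_val.continuousOn).closure isClosed_closure
  choose p hp using hgen
  have hback : ∀ Z : IrreducibleCloseds W, Subtype.val ⁻¹' closure (Subtype.val '' (Z : Set W)) = (Z : Set W) :=
    fun Z => by rw [← Topology.IsEmbedding.subtypeVal.closure_eq_preimage_closure_image, Z.isClosed.closure_eq]
  have hwit : ∀ Z : IrreducibleCloseds W, p Z ∈ closure W ∧ ∃ w ∈ W, p Z ⤳ w := fun Z => by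
    obtain ⟨w, hw⟩ := Z.isIrreducible.nonempty
    exact ⟨closure_mono (Subtype.coe_image_subset W _) (hp Z).mem, w.1, w.2,
      (hp Z).specializes (subset_closure ⟨w, hw, rfl⟩)⟩
  have key : ∀ i : ℕ, ∀ hi : i < l.length + 1, m + i ≤ δ (p (l ⟨i, hi⟩)) := by
    intro i
    induction i with
    | zero =>
      intro hi
      obtain ⟨-, w, hw, hpw⟩ := hwit (l ⟨0, hi⟩)
      simpa using (hm w hw).trans (delta_le h hpw)
    | succ j ih =>
      intro hi
      have hlt : l ⟨j, by omega⟩ < l ⟨j + 1, hi⟩ := l.strictMono (Fin.mk_lt_mk.mpr (Nat.lt_succ_self j))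
      have hs := (hp (l ⟨j + 1, hi⟩)).specializes
        (closure_mono (Set.image_mono (show ((l ⟨j, by omega⟩ : IrreducibleCloseds W) : Set W) ⊆ (l ⟨j + 1, hi⟩ : Set W) from hlt.le))
          (hp (l ⟨j, by omega⟩)).mem)
      have hd := delta_lt h hs fun e => hlt.ne (IrreducibleCloseds.ext (by
        have h5 : closure (Subtype.val '' ((l ⟨j, by omega⟩ : IrreducibleCloseds W) : Set W)) =
            closure (Subtype.val '' ((l ⟨j + 1, hi⟩ : IrreducibleCloseds W) : Set W)) := by
          rw [← (hp (l ⟨j, by omega⟩)).def, ← (hp (l ⟨j + 1, hi⟩)).def, e]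
        exact (hback _).symm.trans ((congrArg (Subtype.val ⁻¹' ·) h5).trans (hback _))))
      have := ih (by omega)
      push_cast
      omega
  obtain ⟨h1, h2⟩ := hwit (l ⟨l.length, Nat.lt_succ_self _⟩)
  refine le_trans ?_ (hB _ h1 h2)
  have := key l.length (Nat.lt_succ_self _)
  exact_mod_cast (show l.length ≤ (δ (p (l ⟨l.length, Nat.lt_succ_self _⟩)) - m).toNat by omega)

/-- Every point of a closed set is a specialization of the generic point of one of its components. -/
theorem exists_component_generic_of_closed {Y : Set X} (hY : IsClosed Y) (y : ↥Y) :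
    ∃ η : ↥Y, η ⤳ y ∧ closure ({η} : Set ↥Y) ∈ irreducibleComponents ↥Y := by
  haveI : QuasiSober ↥Y := hY.isClosedEmbedding_subtypeVal.quasiSober
  obtain ⟨T, hT, hyT⟩ := exists_mem_irreducibleComponents_subset_of_isIrreducible {y} isIrreducible_singleton
  obtain ⟨η, hη⟩ := QuasiSober.sober hT.1 (isClosed_of_mem_irreducibleComponents T hT)
  exact ⟨η, hη.specializes (hyT rfl), hη.def.symm ▸ hT⟩

/-- A dense open contains every maximal point of a locally Noetherian scheme. -/
theorem mem_of_dense_of_maximal [IsLocallyNoetherian X] {U : Set X} (hU : IsOpen U) (hd : Dense U) {η : X}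
    (hη : ∀ t : X, t ⤳ η → η ⤳ t) : η ∈ U := by
  obtain ⟨V, hV, hηV, -⟩ := exists_isAffineOpen_mem_and_subset (X := X) (x := η) (U := ⊤) trivial
  haveI : IsNoetherianRing Γ(X, V) := IsLocallyNoetherian.component_noetherian ⟨V, hV⟩
  obtain ⟨p, rfl⟩ : η ∈ Set.range hV.fromSpec := hV.range_fromSpec.ge hηV
  refine RatFun90.generic_mem_of_dense (U := hV.fromSpec ⁻¹' U) NoetherianSpace.finite_irreducibleComponents
    (hU.preimage hV.fromSpec.continuous) (hd.preimage hV.fromSpec.isOpenEmbedding.isOpenMap)
    (Z := closure {p}) ⟨isIrreducible_singleton.closure, fun Z hZ hle => ?_⟩ (isGenericPoint_closure (x := p))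
  obtain ⟨ξ, hξ⟩ := QuasiSober.sober hZ.closure isClosed_closure
  have h1 : ξ ⤳ p := hξ.specializes (subset_closure (hle (subset_closure rfl)))
  have h2 : p ⤳ ξ := hV.fromSpec.isOpenEmbedding.isInducing.specializes_iff.1 (hη _ (h1.map hV.fromSpec.continuous))
  intro z hz
  exact specializes_iff_mem_closure.1 (h2.trans (hξ.specializes (subset_closure hz)))

end Groth.Agent.E4O
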