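import Groth.Agent.Cyc90.Jacobson
import Groth.Agent.EGA4H10.Catenary
import Groth.Agent.EGA4H10.CompleteUC
import Mathlib.RingTheory.Spectrum.Prime.Topology

/-!
The dimension function of a Jacobson scheme with universally catenary local rings and equidimensional
irreducible components (EGA IV 10.6).
-/

set_option autoImplicit false
set_option linter.style.haveILetI false
universe u

open CategoryTheory AlgebraicGeometry TopologicalSpace IsLocalRing
open Groth.Agent.Cyc90 Groth.Agent.EGA4H10

namespace Groth.Agent.E4O

variable {S : Scheme.{u}}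

/-- `a` immediately specializes to `b`. -/
def Immediate (a b : S) : Prop := a ⤳ b ∧ a ≠ b ∧ ∀ z : S, a ⤳ z → z ⤳ b → z = a ∨ z = b

/-- Chains of immediate specializations. -/
inductive ImmChain : ℕ → S → S → Prop
  | refl (a : S) : ImmChain 0 a a
  | cons {n : ℕ} {a b c : S} : Immediate a b → ImmChain n b c → ImmChain (n + 1) a c

theorem ImmChain.specializes {n : ℕ} {a b : S} (h : ImmChain n a b) : a ⤳ b := by
  induction h with
  | refl a => exact specializes_rfl
  | cons hi _ ih => exact hi.1.trans ih

theorem ImmChain.trans {n m : ℕ} {a b c : S} (h : ImmChain n a b) (h' : ImmChain m b c) :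
    ImmChain (n + m) a c := by
  induction h with
  | refl a => rwa [zero_add]
  | cons hi _ ih => rw [add_right_comm]; exact .cons hi (ih h')

theorem ImmChain.one {a b : S} (h : Immediate a b) : ImmChain 1 a b := .cons h (.refl b)

theorem genPrime_covBy {a b c : S} (hac : a ⤳ c) (hbc : b ⤳ c) (h : Immediate a b) :
    genPrime hac ⋖ genPrime hbc := by
  refine ⟨lt_of_le_of_ne ((genPrime_le_iff hac hbc).2 h.1) fun e => h.2.1 ((genPrime_eq_iff hac hbc).1 e),
    fun q hq1 hq2 => ?_⟩
  rw [← genPrime_fromSpecStalk q] at hq1 hq2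
  rcases h.2.2 _ ((genPrime_le_iff hac _).1 hq1.le) ((genPrime_le_iff _ hbc).1 hq2.le) with e | e
  · exact hq1.ne ((genPrime_eq_iff hac _).2 e.symm)
  · exact hq2.ne ((genPrime_eq_iff _ hbc).2 e)

/-- A chain of immediate specializations is a saturated chain of primes. -/
theorem ImmChain.exists_series {n : ℕ} {a b : S} (h : ImmChain n a b) (c : S) (hbc : b ⤳ c) :
    ∃ (s : LTSeries (PrimeSpectrum (S.presheaf.stalk c))) (hac : a ⤳ c), Saturated s ∧
      s.head = genPrime hac ∧ s.last = genPrime hbc ∧ s.length = n := by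
  induction h with
  | refl a => exact ⟨RelSeries.singleton _ (genPrime hbc), hbc, saturated_singleton _, rfl, rfl, rfl⟩
  | @cons n a a' b hi hch ih =>
    obtain ⟨s, ha'c, hs, hsh, hsl, hlen⟩ := ih hbc
    have hcov := genPrime_covBy (hi.1.trans ha'c) ha'c hi
    let t : LTSeries (PrimeSpectrum (S.presheaf.stalk c)) :=
      (RelSeries.singleton _ (genPrime (hi.1.trans ha'c))).snoc (genPrime ha'c) hcov.lt
    have ht : Saturated t := saturated_snoc (saturated_singleton _) hcov
    have he : t.last = s.head := by rw [hsh]; exact RelSeries.last_snoc _ _ _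
    refine ⟨RelSeries.smash t s he, hi.1.trans ha'c, saturated_smash ht hs he, ?_, ?_, ?_⟩
    · rw [RelSeries.head_smash]; exact RelSeries.head_snoc _ _ _
    · rw [RelSeries.last_smash, hsl]
    · rw [RelSeries.smash_length, hlen]
      show (0 + 0 + 1) + n = n + 1
      omega

/-- A saturated chain of primes is a chain of immediate specializations. -/
theorem exists_immChain_of_series {c : S} (s : LTSeries (PrimeSpectrum (S.presheaf.stalk c)))
    (hs : Saturated s) : ImmChain s.length (ptOf s.head) (ptOf s.last) := by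
  have key : ∀ j : ℕ, ∀ hj : j ≤ s.length, ImmChain j (ptOf (s ⟨s.length - j, by omega⟩)) (ptOf s.last) := by
    intro j
    induction j with
    | zero => intro _; exact .refl _
    | succ j ih =>
      intro hj
      have hcov := hs ⟨s.length - (j + 1), by omega⟩
      have e : (⟨s.length - (j + 1), by omega⟩ : Fin s.length).succ = ⟨s.length - j, by omega⟩ :=
        Fin.ext (show s.length - (j + 1) + 1 = s.length - j by omega)
      rw [e] at hcov
      refine .cons ⟨ptOf_specializes_of_le hcov.le, fun h => hcov.lt.ne (ptOf_injective c h), ?_⟩ (ih (by omega))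
      intro z hz1 hz2
      have hzc : z ⤳ c := hz2.trans (fromSpecStalk_specializes _)
      by_contra hne
      push Not at hne
      refine hcov.2 (c := genPrime hzc) (lt_of_le_of_ne ?_ fun e' => hne.1 ?_) (lt_of_le_of_ne ?_ fun e' => hne.2 ?_)
      · rw [← genPrime_fromSpecStalk (s (Fin.castSucc _))]; exact (genPrime_le_iff _ hzc).2 hz1
      · exact (ptOf_genPrime hzc).symm.trans (congrArg ptOf e'.symm)
      · rw [← genPrime_fromSpecStalk (s ⟨s.length - j, _⟩)]; exact (genPrime_le_iff hzc _).2 hz2
      · exact (ptOf_genPrime hzc).symm.trans (congrArg ptOf e')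
  have := key s.length le_rfl
  simp only [Nat.sub_self] at this
  exact this

theorem exists_immChain [IsLocallyNoetherian S] {a b : S} (h : a ⤳ b) : ∃ n, ImmChain n a b := by
  obtain ⟨s, hs, hh, hl⟩ := exists_saturated (genPrime h) (genPrime (specializes_refl b))
    ((genPrime_le_iff h _).2 h)
  have := exists_immChain_of_series s hs
  rw [hh, hl, ptOf_genPrime, ptOf_genPrime] at this
  exact ⟨_, this⟩

variable (h2 : ∀ s : S, CAlg.IsUniversallyCatenary (S.presheaf.stalk s))

include h2 in
theorem immChain_unique {n m : ℕ} {a b : S} (h : ImmChain n a b) (h' : ImmChain m a b) : n = m := by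
  obtain ⟨s, hac, hs, hsh, hsl, rfl⟩ := h.exists_series b specializes_rfl
  obtain ⟨t, hac', ht, hth, htl, rfl⟩ := h'.exists_series b specializes_rfl
  exact (isCatenary_of_universallyCatenary (h2 b)).2 s t (hsh.trans hth.symm) (hsl.trans htl.symm) hs ht

/-- The generizations of `c` in the closure of `η` form a space of dimension `dim O_c / p`. -/
theorem dim_generizations_inter {η c : S} (h : η ⤳ c) :
    topologicalKrullDim ↥{t : S | t ∈ closure ({η} : Set S) ∧ t ⤳ c} =
      ringKrullDim (S.presheaf.stalk c ⧸ (genPrime h).asIdeal) := by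
  let q := PrimeSpectrum.comap (Ideal.Quotient.mk (genPrime h).asIdeal)
  have he : Topology.IsEmbedding (S.fromSpecStalk c ∘ q) :=
    (S.fromSpecStalk c).isEmbedding.comp
      (PrimeSpectrum.isClosedEmbedding_comap_of_surjective _ _ Ideal.Quotient.mk_surjective).toIsEmbedding
  have hr : Set.range (S.fromSpecStalk c ∘ q) = {t : S | t ∈ closure ({η} : Set S) ∧ t ⤳ c} := by
    have hq : Set.range q = PrimeSpectrum.zeroLocus ((genPrime h).asIdeal : Set (S.presheaf.stalk c)) := by
      rw [range_comap_of_surjective _ _ Ideal.Quotient.mk_surjective, Ideal.mk_ker]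
    rw [Set.range_comp]
    erw [hq]
    ext t
    constructor
    · rintro ⟨p, hp, rfl⟩
      refine ⟨?_, fromSpecStalk_specializes p⟩
      rw [← specializes_iff_mem_closure]
      have := ptOf_specializes_of_le (show genPrime h ≤ p from hp)
      rwa [ptOf_genPrime] at this
    · rintro ⟨ht, htc⟩
      exact ⟨genPrime htc, (genPrime_le_iff h htc).2 (specializes_iff_mem_closure.2 ht), fromSpecStalk_genPrime htc⟩
  rw [← PrimeSpectrum.topologicalKrullDim_eq_ringKrullDim, ← hr]
  exact (IsHomeomorph.topologicalKrullDim_eq _ he.toHomeomorph.isHomeomorph).symm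

/-- Every point is a specialization of the generic point of a component. -/
theorem exists_component_generic_jac (z : S) :
    ∃ η : S, η ⤳ z ∧ closure ({η} : Set S) ∈ irreducibleComponents (S : Type u) := by
  obtain ⟨T, hT, hzT⟩ := exists_mem_irreducibleComponents_subset_of_isIrreducible {z} isIrreducible_singleton
  obtain ⟨η, hη⟩ := QuasiSober.sober hT.1 (isClosed_of_mem_irreducibleComponents T hT)
  exact ⟨η, hη.specializes (hzT rfl), hη.def.symm ▸ hT⟩

variable (h3 : ∀ S' ∈ irreducibleComponents (S : Type u), ∀ s ∈ S', IsClosed ({s} : Set S) →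
  topologicalKrullDim (↥S' : Type u) = topologicalKrullDim ↥{t : S | t ∈ S' ∧ t ⤳ s})

include h2 h3 in
theorem dim_component_eq [IsLocallyNoetherian S] {η c : S} {n : ℕ}
    (hη : closure ({η} : Set S) ∈ irreducibleComponents (S : Type u)) (hch : ImmChain n η c)
    (hc : IsClosed ({c} : Set S)) : topologicalKrullDim ↥(closure ({η} : Set S)) = (n : WithBot ℕ∞) := by
  obtain ⟨s, hηc, hs, hsh, hsl, rfl⟩ := hch.exists_series c specializes_rfl
  rw [h3 _ hη c (specializes_iff_mem_closure.1 hηc) hc, dim_generizations_inter hηc,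
    dim_quotient_eq_length (isCatenary_of_universallyCatenary (h2 c)) _ s hs hsh (hsl.trans (genPrime_refl c))]

include h2 h3 in
theorem immChain_closed_unique [IsLocallyNoetherian S] {n m : ℕ} {z c c' : S} (h : ImmChain n z c)
    (hc : IsClosed ({c} : Set S)) (h' : ImmChain m z c') (hc' : IsClosed ({c'} : Set S)) : n = m := by
  obtain ⟨η, hηz, hη⟩ := exists_component_generic_jac z
  obtain ⟨k, hk⟩ := exists_immChain hηz
  have h1 := dim_component_eq h2 h3 hη (hk.trans h) hc
  rw [dim_component_eq h2 h3 hη (hk.trans h') hc'] at h1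
  have : k + m = k + n := by exact_mod_cast h1
  omega

include h2 h3 in
/-- The dimension function vanishing at closed points. -/
theorem exists_dimFun [IsLocallyNoetherian S] [JacobsonSpace S] :
    ∃ δ : S → ℤ, Cyc.IsSetup S δ ∧ ∀ x : S, IsClosed ({x} : Set S) → δ x = 0 := by
  classical
  have hex : ∀ z : S, ∃ n c, IsClosed ({c} : Set S) ∧ ImmChain n z c := fun z => by
    obtain ⟨c, hc, hcc⟩ := exists_closed_specialization z
    obtain ⟨n, hn⟩ := exists_immChain hc
    exact ⟨n, c, hcc, hn⟩
  choose d c hc hd using hex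
  refine ⟨fun z => (d z : ℤ), ⟨inferInstance, h2, fun x y hxy hne => ?_⟩, fun x hx => ?_⟩
  · obtain ⟨k, hk⟩ := exists_immChain hxy
    have e := immChain_closed_unique h2 h3 (hk.trans (hd y)) (hc y) (hd x) (hc x)
    have hk0 : 0 < k := by
      by_contra h0
      obtain rfl : k = 0 := by omega
      cases hk
      exact hne rfl
    refine ⟨by simp only; omega, fun himm => ?_⟩
    have hk1 := immChain_unique h2 hk (ImmChain.one ⟨hxy, hne, himm⟩)
    simp only; omega
  · have := immChain_closed_unique h2 h3 (hd x) (hc x) (ImmChain.refl x) hx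
    simp only [this, Nat.cast_zero]

end Groth.Agent.E4O
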