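import Mathlib.RingTheory.Length
import Mathlib.RingTheory.Nakayama
import Mathlib.Algebra.Module.LocalizedModule.Basic
import Mathlib.RingTheory.Localization.AtPrime.Basic
import Mathlib.RingTheory.LocalRing.MaximalIdeal.Basic
import Mathlib.RingTheory.Regular.IsSMulRegular

/-!
The lengths at the minimal points of the support are bounded by the length of the quotient by a regular
element (one half of the multiplicity formula of a one-dimensional module).
-/

set_option autoImplicit false
universe u

open IsLocalRing

namespace Groth.Agent.E4O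

variable {R : Type u} [CommRing R] [IsNoetherianRing R] [IsLocalRing R] {t : R}

/-- The length of a localisation is bounded by the length of the reduction of the image. -/
theorem length_le_length_image_reduction (ht : t ∈ maximalIdeal R) {M : Type u} [AddCommGroup M] [Module R M]
    [Module.Finite R M] (S : Submonoid R) (htS : t ∈ S) {R' : Type u} [CommRing R'] [Algebra R R']
    [IsLocalization S R'] {M' : Type u} [AddCommGroup M'] [Module R M'] [Module R' M'] [IsScalarTower R R' M']
    (j : M →ₗ[R] M') [IsLocalizedModule S j] :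
    Module.length R' M' ≤
      Module.length R (M ⧸ (LinearMap.ker j ⊔ Ideal.span {t} • (⊤ : Submodule R M))) := by
  let D := LinearMap.ker j ⊔ Ideal.span {t} • (⊤ : Submodule R M)
  let Φ : Submodule R' M' → Submodule R (M ⧸ D) := fun W => ((W.restrictScalars R).comap j).map D.mkQ
  have hΦ : StrictMono Φ := by
    intro W W' hlt
    refine lt_of_le_of_ne (Submodule.map_mono (Submodule.comap_mono fun x hx => hlt.le hx)) fun he => hlt.not_ge ?_
    let A := (W'.restrictScalars R).comap j
    let B := (W.restrictScalars R).comap j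
    have hAB : A ≤ B := by
      refine Submodule.le_of_le_smul_of_le_jacobson_bot (I := Ideal.span {t}) (IsNoetherian.noetherian A) ?_ ?_
      · exact (Ideal.span_le.2 (Set.singleton_subset_iff.2 ht)).trans (maximalIdeal_le_jacobson _)
      intro x hx
      have h1 : D.mkQ x ∈ Φ W := he.ge ⟨x, hx, rfl⟩
      obtain ⟨b, hb, hbx⟩ := h1
      rw [Submodule.mkQ_apply, Submodule.mkQ_apply, Submodule.Quotient.eq] at hbx
      obtain ⟨k, hk, z, hz, hkz⟩ := Submodule.mem_sup.1 hbx
      rw [Submodule.ideal_span_singleton_smul] at hz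
      obtain ⟨m, -, rfl⟩ := (Submodule.mem_smul_pointwise_iff_exists _ _ _).1 hz
      have hjk : j k = 0 := hk
      have hB : b - k ∈ B := by
        show j (b - k) ∈ W
        rw [map_sub, hjk, sub_zero]
        exact hb
      have hx' : x = (b - k) + t • (-m) := by
        rw [smul_neg, ← sub_eq_add_neg, sub_sub, hkz, sub_sub_cancel]
      have hm : -m ∈ A := by
        have htm : t • j (-m) ∈ W' := by
          have h3 : j x - j (b - k) ∈ W' := W'.sub_mem hx (hlt.le hB)
          rw [← map_sub, hx', add_sub_cancel_left, map_smul] at h3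
          exact h3
        have hu := IsLocalization.map_units R' (⟨t, htS⟩ : S)
        have hsm := W'.smul_mem (↑(hu.unit⁻¹) : R') htm
        rwa [← algebraMap_smul R' t, smul_smul, IsUnit.val_inv_mul, one_smul] at hsm
      rw [hx']
      exact Submodule.add_mem_sup hB (Submodule.smul_mem_smul (Ideal.mem_span_singleton_self t) hm)
    intro w hw
    obtain ⟨⟨m, s⟩, hms⟩ := IsLocalizedModule.surj S j w
    have hm : j m ∈ W := hAB (show j m ∈ W' by rw [← hms, Submonoid.smul_def, ← algebraMap_smul R']; exact W'.smul_mem _ hw)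
    rw [← hms, Submonoid.smul_def, ← algebraMap_smul R'] at hm
    have hu := IsLocalization.map_units R' s
    have hsm := W.smul_mem (↑(hu.unit⁻¹) : R') hm
    rwa [smul_smul, IsUnit.val_inv_mul, one_smul] at hsm
  rw [← WithBot.coe_le_coe, Module.coe_length, Module.coe_length]
  exact Order.krullDim_le_of_strictMono Φ hΦ

/-- The sum of the lengths at finitely many incomparable minimal points of the support is at most the length
of the quotient by a regular element. -/
theorem sum_length_localized_le (ht : t ∈ maximalIdeal R) {ι : Type*} (P : ι → Ideal R) [∀ i, (P i).IsPrime]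
    (R' : ι → Type u) [∀ i, CommRing (R' i)] [∀ i, Algebra R (R' i)] [∀ i, IsLocalization.AtPrime (R' i) (P i)]
    (M' : ι → Type u) [∀ i, AddCommGroup (M' i)] [∀ i, Module R (M' i)] [∀ i, Module (R' i) (M' i)]
    [∀ i, IsScalarTower R (R' i) (M' i)] (s : Finset ι)
    (hne : ∀ i ∈ s, ∀ k ∈ s, P i ≤ P k → i = k) (htP : ∀ i ∈ s, t ∉ P i)
    (M : Type u) [AddCommGroup M] [Module R M] [Module.Finite R M] (hreg : IsSMulRegular M t)
    (hmin : ∀ i ∈ s, ∀ x : M, ∀ a ∈ P i, ∃ u ∉ P i, ∃ n : ℕ, (u * a ^ n) • x = 0)
    (j : ∀ i, M →ₗ[R] M' i) (hj : ∀ i ∈ s, IsLocalizedModule (P i).primeCompl (j i)) :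
    ∑ i ∈ s, Module.length (R' i) (M' i) ≤ Module.length R (M ⧸ Ideal.span {t} • (⊤ : Submodule R M)) := by
  classical
  induction s using Finset.induction_on generalizing M with
  | empty => simp
  | @insert i₀ s hi₀ IH =>
    haveI := hj i₀ (Finset.mem_insert_self _ _)
    let N := LinearMap.ker (j i₀)
    let I := Ideal.span {t}
    have htS : t ∈ (P i₀).primeCompl := htP i₀ (Finset.mem_insert_self _ _)
    have h1 := length_le_length_image_reduction ht (M := M) (P i₀).primeCompl htS (R' := R' i₀) (j i₀)
    -- the other points only see the kernel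
    have h2 : ∑ i ∈ s, Module.length (R' i) (M' i) ≤ Module.length R (N ⧸ I • (⊤ : Submodule R N)) := by
      refine IH (fun i hi k hk => hne i (Finset.mem_insert_of_mem hi) k (Finset.mem_insert_of_mem hk))
        (fun i hi => htP i (Finset.mem_insert_of_mem hi)) N
        (fun a b hab => Subtype.ext (hreg (congrArg Subtype.val hab))) (fun i hi x a ha => ?_)
        (fun i => (j i).comp N.subtype) (fun i hi => ?_)
      · obtain ⟨u, hu, n, hn⟩ := hmin i (Finset.mem_insert_of_mem hi) x.1 a ha
        exact ⟨u, hu, n, Subtype.ext hn⟩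
      haveI := hj i (Finset.mem_insert_of_mem hi)
      have hkill : ∀ x : M, ∃ c : (P i).primeCompl, c • x ∈ N := by
        intro x
        obtain ⟨a, ha, ha'⟩ := SetLike.not_le_iff_exists.1 fun h =>
          hi₀ ((hne i₀ (Finset.mem_insert_self _ _) i (Finset.mem_insert_of_mem hi) h) ▸ hi)
        obtain ⟨u, hu, n, hn⟩ := hmin i₀ (Finset.mem_insert_self _ _) x a ha
        refine ⟨⟨a ^ n, fun h => ha' ((inferInstance : (P i).IsPrime).mem_of_pow_mem n h)⟩, ?_⟩
        show j i₀ (a ^ n • x) = 0
        have h0 : u • j i₀ (a ^ n • x) = 0 := by rw [← map_smul, smul_smul, hn, map_zero]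
        rw [← algebraMap_smul (R' i₀) u] at h0
        exact (IsLocalization.map_units (R' i₀) (⟨u, hu⟩ : (P i₀).primeCompl)).smul_eq_zero.1 h0
      refine ⟨IsLocalizedModule.map_units (S := (P i).primeCompl) (j i), fun y => ?_, fun {a b} hab => ?_⟩
      · obtain ⟨⟨m, c⟩, hc⟩ := IsLocalizedModule.surj (P i).primeCompl (j i) y
        obtain ⟨c', hc'⟩ := hkill m
        refine ⟨(⟨c' • m, hc'⟩, c' * c), ?_⟩
        show (c' * c) • y = j i (c' • m)
        rw [mul_smul, hc, Submonoid.smul_def, Submonoid.smul_def, map_smul]
      · obtain ⟨c, hc⟩ := IsLocalizedModule.exists_of_eq (S := (P i).primeCompl) (f := j i) hab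
        exact ⟨c, Subtype.ext hc⟩
    -- additivity
    let φ : (N ⧸ I • (⊤ : Submodule R N)) →ₗ[R] M ⧸ I • (⊤ : Submodule R M) :=
      Submodule.mapQ _ _ N.subtype (Submodule.map_le_iff_le_comap.1 (by
        rw [Submodule.map_smul'']; exact Submodule.smul_mono le_rfl le_top))
    let ψ : (M ⧸ I • (⊤ : Submodule R M)) →ₗ[R] M ⧸ (N ⊔ I • (⊤ : Submodule R M)) :=
      Submodule.factor le_sup_right
    have hφ : Function.Injective φ := by
      rw [← LinearMap.ker_eq_bot, eq_bot_iff]
      intro z hz
      induction z using Submodule.Quotient.induction_on with | _ x =>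
      rw [LinearMap.mem_ker] at hz
      change Submodule.Quotient.mk (N.subtype x) = 0 at hz
      rw [Submodule.Quotient.mk_eq_zero, Submodule.ideal_span_singleton_smul] at hz
      obtain ⟨m, -, hm⟩ := (Submodule.mem_smul_pointwise_iff_exists _ _ _).1 hz
      rw [Submodule.mem_bot, Submodule.Quotient.mk_eq_zero, Submodule.ideal_span_singleton_smul]
      refine (Submodule.mem_smul_pointwise_iff_exists _ _ _).2 ⟨⟨m, ?_⟩, trivial, Subtype.ext hm⟩
      have h0 : t • j i₀ m = 0 := by rw [← map_smul, hm]; exact x.2
      rw [← algebraMap_smul (R' i₀) t] at h0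
      exact (IsLocalization.map_units (R' i₀) (⟨t, htS⟩ : (P i₀).primeCompl)).smul_eq_zero.1 h0
    have hψ : Function.Surjective ψ := Submodule.factor_surjective _
    have hex : Function.Exact φ ψ := by
      intro z
      induction z using Submodule.Quotient.induction_on with | _ x =>
      constructor
      · intro hz
        change Submodule.Quotient.mk x = 0 at hz
        rw [Submodule.Quotient.mk_eq_zero] at hz
        obtain ⟨k, hk, z, hz', rfl⟩ := Submodule.mem_sup.1 hz
        refine ⟨Submodule.Quotient.mk ⟨k, hk⟩, ?_⟩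
        show Submodule.Quotient.mk k = Submodule.Quotient.mk (k + z)
        rw [Submodule.Quotient.eq, sub_add_cancel_left]
        exact neg_mem hz'
      · rintro ⟨w, hw⟩
        induction w using Submodule.Quotient.induction_on with | _ k =>
        rw [← hw]
        show Submodule.Quotient.mk (N.subtype k) = 0
        rw [Submodule.Quotient.mk_eq_zero]
        exact Submodule.mem_sup_left k.2
    rw [Finset.sum_insert hi₀, Module.length_eq_add_of_exact φ ψ hφ hψ hex, add_comm]
    exact add_le_add h2 h1

end Groth.Agent.E4O
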