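import Groth.Agent.E4O.NormFlatGraded
import Groth.Agent.Fib62.Model

/-!
With flat pieces, membership in the normally flat locus may be tested on a fibre (over any field).
-/

set_option autoImplicit false
set_option linter.style.haveILetI false

universe u

open TensorProduct

namespace Groth.Agent.E4O.NormFlat

theorem isPushout_quotient {B B' : Type u} [CommRing B] [CommRing B'] [Algebra B B'] (J : Ideal B) :
    Algebra.IsPushout B B' (B ⧸ J) (B' ⧸ J.map (algebraMap B B')) := by
  refine Fib62.isPushout_of_equiv (Algebra.TensorProduct.quotIdealMapEquivTensorQuot B' J).symm fun x => ?_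
  obtain ⟨a, rfl⟩ := Ideal.Quotient.mk_surjective x
  rw [Algebra.TensorProduct.quotIdealMapEquivTensorQuot_symm_tmul, Algebra.smul_def, mul_one]
  rfl

variable {A B : Type u} [CommRing A] [CommRing B] [Algebra A B] [Algebra.FinitePresentation A B]
  (J : Ideal B) (M : Type u) [AddCommGroup M] [Module B M] [Module A M] [IsScalarTower A B M]
  [Module.FinitePresentation B M]

/-- Comparison with a fibre over a field. -/
theorem mem_locus_iff_of_field (K : Type u) {B' : Type u} [Field K] [CommRing B'] [Algebra A K] [Algebra K B']
    [Algebra B B'] [Algebra A B'] [IsScalarTower A K B'] [IsScalarTower A B B'] [Algebra.IsPushout A K B B']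
    (hJ : J.FG) (hflat : ∀ k, Module.Flat A (Piece J M k))
    (Q : PrimeSpectrum (B' ⧸ J.map (algebraMap B B'))) :
    PrimeSpectrum.comap (algebraMap (B ⧸ J) (B' ⧸ J.map (algebraMap B B'))) Q ∈ Locus J M ↔
      Q ∈ Locus (J.map (algebraMap B B')) (B' ⊗[B] M) := by
  have hbij := bcMap_bijective_of_pushout J M B' (A := A) (A' := K) hflat
  refine ⟨mem_locus_map J M hbij, fun hQ k => ?_⟩
  let C := B ⧸ J
  let C' := B' ⧸ J.map (algebraMap B B')
  let X := C ⊗[B] Piece J M k
  let P := PrimeSpectrum.comap (algebraMap C C') Q
  haveI : IsScalarTower B C C' := IsScalarTower.of_algebraMap_eq fun _ => rfl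
  haveI : IsScalarTower A C C' := IsScalarTower.of_algebraMap_eq fun a => by
    show _ = algebraMap C C' (Ideal.Quotient.mk J (algebraMap A B a))
    show Ideal.Quotient.mk _ (algebraMap A B' a) = Ideal.Quotient.mk _ (algebraMap B B' (algebraMap A B a))
    rw [← IsScalarTower.algebraMap_apply]
  haveI : Algebra.IsPushout A B K B' := Algebra.IsPushout.symm ‹_›
  haveI : Algebra.IsPushout B C B' C' := Algebra.IsPushout.symm (isPushout_quotient J)
  haveI : Algebra.IsPushout A K C C' :=
    Algebra.IsPushout.symm ((Algebra.IsPushout.comp_iff A B K (S' := B') (T := C) (T' := C')).2 inferInstance)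
  haveI : Algebra.FinitePresentation A C := Algebra.FinitePresentation.quotient hJ
  haveI : Algebra.FinitePresentation C C := Algebra.FinitePresentation.self C
  haveI := fp_piece J M hJ hflat k
  haveI : Module.FinitePresentation C X := inferInstance
  haveI : Module.Flat A X :=
    haveI := hflat k
    Module.Flat.of_linearEquiv ((LinearEquiv.ofBijective _ (bijective_mk_one J M k)).restrictScalars A).symm
  have hgood : Fib62.GoodAt A C X P :=
    (Fib62.goodAt_iff X K C' C' Q.asIdeal P rfl).2 ((flat_piece_iff J M k (hbij k) Q.asIdeal).1 (hQ k))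
  haveI := CAlgH2.flat_of_goodAt (A := A) (B := C) (C := C) X P hgood
  exact Module.Flat.of_linearEquiv
    ((LocalizedModule.equivTensorProduct P.asIdeal.primeCompl X).restrictScalars C)

end Groth.Agent.E4O.NormFlat
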