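import Groth.Agent.E4O.NormFlatCompare
import Groth.Agent.Cons62.Model
import Groth.Agent.ConstrTop58.Basic
import Mathlib.RingTheory.LocalRing.ResidueField.Fiber

/-!
With flat pieces the normally flat locus is constructible, hence open in `V(J)`.
-/

set_option autoImplicit false
set_option linter.style.haveILetI false

universe u

open TensorProduct Topology

attribute [local instance] Algebra.TensorProduct.rightAlgebra

namespace Groth.Agent.E4O.NormFlat

/-- The normally flat locus, as a subset of `Spec B`. -/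
def Loc {B : Type u} [CommRing B] (J : Ideal B) (M : Type u) [AddCommGroup M] [Module B M] :
    Set (PrimeSpectrum B) :=
  PrimeSpectrum.comap (Ideal.Quotient.mk J) '' Locus J M

theorem loc_congr {B : Type u} [CommRing B] (J : Ideal B) {M M' : Type u} [AddCommGroup M] [Module B M]
    [AddCommGroup M'] [Module B M'] (e : M ≃ₗ[B] M') : Loc J M = Loc J M' := by
  rw [Loc, Loc, locus_congr J e]

theorem locus_eq_preimage_loc {B : Type u} [CommRing B] (J : Ideal B) (M : Type u) [AddCommGroup M] [Module B M] :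
    Locus J M = PrimeSpectrum.comap (Ideal.Quotient.mk J) ⁻¹' Loc J M :=
  (Set.preimage_image_eq _ (PrimeSpectrum.comap_injective_of_surjective _ Ideal.Quotient.mk_surjective)).symm

theorem isConstructible_comap_preimage {R S : Type u} [CommRing R] [CommRing S] (f : R →+* S)
    {s : Set (PrimeSpectrum R)} (hs : IsConstructible s) : IsConstructible (PrimeSpectrum.comap f ⁻¹' s) := by
  obtain ⟨d, rfl⟩ := PrimeSpectrum.exists_constructibleSetData_iff.mpr hs
  rw [← PrimeSpectrum.ConstructibleSetData.toSet_map]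
  exact PrimeSpectrum.ConstructibleSetData.isConstructible_toSet _

theorem isConstructible_loc {B : Type u} [CommRing B] [IsNoetherianRing B] (J : Ideal B) (M : Type u)
    [AddCommGroup M] [Module B M] [Module.Finite B M] : IsConstructible (Loc J M) :=
  PrimeSpectrum.isConstructible_comap_image
    (RingHom.FinitePresentation.of_surjective _ Ideal.Quotient.mk_surjective (IsNoetherian.noetherian _))
    (IsRetrocompact.isConstructible (isOpen_locus J M) fun _ _ _ => TopologicalSpace.NoetherianSpace.isCompact _)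

section Compare

variable {A B : Type u} [CommRing A] [CommRing B] [Algebra A B] [Algebra.FinitePresentation A B]
  (J : Ideal B) (M : Type u) [AddCommGroup M] [Module B M] [Module A M] [IsScalarTower A B M]
  [Module.FinitePresentation B M]

theorem mem_loc_iff_of_field (K : Type u) {B' : Type u} [Field K] [CommRing B'] [Algebra A K] [Algebra K B']
    [Algebra B B'] [Algebra A B'] [IsScalarTower A K B'] [IsScalarTower A B B'] [Algebra.IsPushout A K B B']
    (hJ : J.FG) (hflat : ∀ k, Module.Flat A (Piece J M k)) (q : PrimeSpectrum B') :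
    PrimeSpectrum.comap (algebraMap B B') q ∈ Loc J M ↔ q ∈ Loc (J.map (algebraMap B B')) (B' ⊗[B] M) := by
  have key : ∀ Q : PrimeSpectrum (B' ⧸ J.map (algebraMap B B')),
      PrimeSpectrum.comap (Ideal.Quotient.mk J)
          (PrimeSpectrum.comap (algebraMap (B ⧸ J) (B' ⧸ J.map (algebraMap B B'))) Q) =
        PrimeSpectrum.comap (algebraMap B B') (PrimeSpectrum.comap (Ideal.Quotient.mk _) Q) := fun Q => rfl
  constructor
  · rintro ⟨P, hP, hPq⟩
    obtain ⟨Q, rfl⟩ : q ∈ Set.range (PrimeSpectrum.comap (Ideal.Quotient.mk (J.map (algebraMap B B')))) := by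
      rw [range_comap_of_surjective _ _ Ideal.Quotient.mk_surjective, Ideal.mk_ker]
      refine Ideal.map_le_iff_le_comap.2 fun a ha => ?_
      show a ∈ (PrimeSpectrum.comap (algebraMap B B') q).asIdeal
      rw [← hPq]
      show Ideal.Quotient.mk J a ∈ P.asIdeal
      rw [Ideal.Quotient.eq_zero_iff_mem.2 ha]
      exact zero_mem _
    obtain rfl := PrimeSpectrum.comap_injective_of_surjective _ Ideal.Quotient.mk_surjective
      (hPq.trans (key Q).symm)
    exact ⟨Q, (mem_locus_iff_of_field J M K hJ hflat Q).1 hP, rfl⟩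
  · rintro ⟨Q, hQ, rfl⟩
    exact ⟨_, (mem_locus_iff_of_field J M K hJ hflat Q).2 hQ, key Q⟩

/-- Two families with a common fibre. -/
theorem mem_loc_iff_two {R S : Type u} [CommRing R] [CommRing S] [Algebra R S] [Algebra.FinitePresentation R S]
    (I : Ideal S) (N : Type u) [AddCommGroup N] [Module S N] [Module R N] [IsScalarTower R S N]
    [Module.FinitePresentation S N]
    (K : Type u) {B' : Type u} [Field K] [CommRing B'] [Algebra K B']
    [Algebra A K] [Algebra B B'] [Algebra A B'] [IsScalarTower A K B'] [IsScalarTower A B B'] [Algebra.IsPushout A K B B']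
    [Algebra R K] [Algebra S B'] [Algebra R B'] [IsScalarTower R K B'] [IsScalarTower R S B'] [Algebra.IsPushout R K S B']
    (hJ : J.FG) (hflat : ∀ k, Module.Flat A (Piece J M k)) (hI : I.FG) (hflat' : ∀ k, Module.Flat R (Piece I N k))
    (hJI : J.map (algebraMap B B') = I.map (algebraMap S B')) (e : B' ⊗[B] M ≃ₗ[B'] B' ⊗[S] N)
    (q : PrimeSpectrum B') :
    PrimeSpectrum.comap (algebraMap B B') q ∈ Loc J M ↔ PrimeSpectrum.comap (algebraMap S B') q ∈ Loc I N := by
  rw [mem_loc_iff_of_field J M K hJ hflat q, mem_loc_iff_of_field I N K hI hflat' q, hJI, loc_congr _ e]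

end Compare

theorem injective_comap_stratum {A₀ B₀ R S : Type u} [CommRing A₀] [CommRing B₀] [CommRing R] [CommRing S]
    [Algebra A₀ R] [Algebra R S] [Algebra B₀ S] [Algebra A₀ B₀] [Algebra A₀ S] [IsScalarTower A₀ R S]
    [IsScalarTower A₀ B₀ S] [Algebra.IsPushout A₀ R B₀ S] (f : A₀) (hf : IsUnit (algebraMap A₀ R f))
    (hR : ∀ r : R, ∃ (n : ℕ) (a : A₀), algebraMap A₀ R f ^ n * r = algebraMap A₀ R a) :
    Function.Injective (PrimeSpectrum.comap (algebraMap B₀ S)) := by
  have hrep : ∀ z : S, ∃ (n : ℕ) (b : B₀), algebraMap A₀ S f ^ n * z = algebraMap B₀ S b := by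
    intro z
    obtain ⟨w, rfl⟩ := (Algebra.IsPushout.equiv A₀ R B₀ S).surjective z
    induction w using TensorProduct.induction_on with
    | zero => exact ⟨0, 0, by simp⟩
    | add x y hx hy =>
      obtain ⟨n, b, hb⟩ := hx
      obtain ⟨m, c, hc⟩ := hy
      refine ⟨n + m, algebraMap A₀ B₀ f ^ m * b + algebraMap A₀ B₀ f ^ n * c, ?_⟩
      rw [map_add, map_add, map_mul, map_mul, map_pow, map_pow, ← IsScalarTower.algebraMap_apply A₀ B₀ S, ← hb, ← hc]
      ring
    | tmul r b =>
      obtain ⟨n, a, ha⟩ := hR r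
      refine ⟨n, algebraMap A₀ B₀ a * b, ?_⟩
      rw [Algebra.IsPushout.equiv_tmul, IsScalarTower.algebraMap_apply A₀ R S f, ← map_pow, map_mul,
        ← IsScalarTower.algebraMap_apply A₀ B₀ S, IsScalarTower.algebraMap_apply A₀ R S a, ← ha, map_mul]
      ring
  intro y y' h
  have hu : ∀ x : PrimeSpectrum S, ∀ n : ℕ, algebraMap A₀ S f ^ n ∉ x.asIdeal := fun x n hn => by
    refine x.isPrime.ne_top (Ideal.eq_top_of_isUnit_mem _ hn (IsUnit.pow n ?_))
    rw [IsScalarTower.algebraMap_apply A₀ R S]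
    exact hf.map _
  ext z
  obtain ⟨n, b, hb⟩ := hrep z
  have hiff : ∀ x : PrimeSpectrum S, z ∈ x.asIdeal ↔ b ∈ (PrimeSpectrum.comap (algebraMap B₀ S) x).asIdeal :=
    fun x => by
      show _ ↔ algebraMap B₀ S b ∈ x.asIdeal
      rw [← hb]
      exact ⟨fun h => Ideal.mul_mem_left _ _ h, fun h => (x.isPrime.mem_or_mem h).resolve_left (hu x n)⟩
  rw [hiff, hiff, h]

theorem flat_piece_map {D R B₀ SD S : Type u} [CommRing D] [CommRing R] [CommRing B₀] [CommRing SD] [CommRing S]
    [Algebra D R] [Algebra D SD] [Algebra D S] [Algebra R S] [Algebra SD S] [IsScalarTower D R S] [IsScalarTower D SD S]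
    [Algebra B₀ SD] [Algebra B₀ S] [IsScalarTower B₀ SD S] [Algebra.IsPushout D R SD S] [Module.Flat SD S]
    {J₀ : Ideal B₀} {M₀ : Type u} [AddCommGroup M₀] [Module B₀ M₀] (k : ℕ)
    (h : Module.Flat R (R ⊗[D] Piece (J₀.map (algebraMap B₀ SD)) (SD ⊗[B₀] M₀) k)) :
    Module.Flat R (Piece (J₀.map (algebraMap B₀ S)) (S ⊗[B₀] M₀) k) := by
  have h1 : Module.Flat R (Piece ((J₀.map (algebraMap B₀ SD)).map (algebraMap SD S)) (S ⊗[SD] (SD ⊗[B₀] M₀)) k) :=
    Module.Flat.of_linearEquiv (((LinearEquiv.ofBijective _ (bcMap_bijective_of_flat (J₀.map (algebraMap B₀ SD))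
      (SD ⊗[B₀] M₀) S k)).restrictScalars R).symm ≪≫ₗ Algebra.IsPushout.cancelBaseChange D R SD S _)
  rw [Ideal.map_map, ← IsScalarTower.algebraMap_eq B₀ SD S] at h1
  exact Module.Flat.of_linearEquiv ((pieceCongr (J₀.map (algebraMap B₀ S))
    (AlgebraTensorModule.cancelBaseChange B₀ SD S S M₀) k).restrictScalars R).symm

section Model

variable {A₀ B₀ : Type u} [CommRing A₀] [IsNoetherianRing A₀] [CommRing B₀] [Algebra A₀ B₀]
  [Algebra.FiniteType A₀ B₀] (J₀ : Ideal B₀) (M₀ : Type u) [AddCommGroup M₀] [Module B₀ M₀] [Module.Finite B₀ M₀]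

/-- Over a nonempty open of an irreducible closed subset of the base the pieces of the model are flat. -/
theorem exists_flat_stratum (p : PrimeSpectrum A₀) :
    ∃ (f : A₀) (R : Type u) (_ : CommRing R) (_ : Algebra A₀ R) (S : Type u) (_ : CommRing S) (_ : Algebra R S)
      (_ : Algebra B₀ S) (_ : Algebra A₀ S) (_ : IsScalarTower A₀ R S) (_ : IsScalarTower A₀ B₀ S)
      (_ : Algebra.IsPushout A₀ R B₀ S),
      f ∉ p.asIdeal ∧ IsNoetherianRing R ∧ Algebra.FiniteType A₀ R ∧
      (∀ (K : Type u) [Field K] [Algebra A₀ K], (∀ a ∈ p.asIdeal, algebraMap A₀ K a = 0) → algebraMap A₀ K f ≠ 0 →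
        Nonempty (R →ₐ[A₀] K)) ∧
      Function.Injective (PrimeSpectrum.comap (algebraMap B₀ S)) ∧
      ∀ k, Module.Flat R (Piece (J₀.map (algebraMap B₀ S)) (S ⊗[B₀] M₀) k) := by
  let D := A₀ ⧸ p.asIdeal
  let SD := D ⊗[A₀] B₀
  haveI : IsNoetherianRing SD := Algebra.FiniteType.isNoetherianRing D SD
  obtain ⟨g, hg, hflat⟩ := exists_flat_pieces (D := D) (J₀.map (algebraMap B₀ SD)) (SD ⊗[B₀] M₀)
  obtain ⟨f, rfl⟩ := Ideal.Quotient.mk_surjective g
  let R := Localization.Away (Ideal.Quotient.mk p.asIdeal f)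
  let S := R ⊗[A₀] B₀
  let φ : SD →ₐ[A₀] S := Algebra.TensorProduct.map (IsScalarTower.toAlgHom A₀ D R) (AlgHom.id A₀ B₀)
  letI : Algebra SD S := φ.toRingHom.toAlgebra
  haveI : IsScalarTower A₀ SD S := IsScalarTower.of_algebraMap_eq fun a => (φ.commutes a).symm
  haveI : IsScalarTower B₀ SD S := IsScalarTower.of_algebraMap_eq fun b => by
    show (1 : R) ⊗ₜ[A₀] b = φ ((1 : D) ⊗ₜ[A₀] b)
    rw [Algebra.TensorProduct.map_tmul, map_one]
    rfl
  haveI : IsScalarTower D SD S := IsScalarTower.of_algebraMap_eq (R := D) (S := SD) (A := S) fun d => by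
    show algebraMap D R d ⊗ₜ[A₀] (1 : B₀) = φ (d ⊗ₜ[A₀] (1 : B₀))
    rw [Algebra.TensorProduct.map_tmul]
    rfl
  haveI : Algebra.IsPushout D R SD S := (Algebra.IsPushout.comp_iff A₀ D B₀ (S' := SD) (T := R) (T' := S)).1 inferInstance
  haveI : Algebra.IsPushout D SD R S := Algebra.IsPushout.symm inferInstance
  haveI : Module.Flat D R := IsLocalization.flat R (Submonoid.powers (Ideal.Quotient.mk p.asIdeal f))
  haveI : Module.Flat SD S := Module.Flat.isBaseChange D SD R S (Algebra.IsPushout.out (R := D) (S := SD) (R' := R) (S' := S))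
  have hfp : f ∉ p.asIdeal := fun h => hg (Ideal.Quotient.eq_zero_iff_mem.2 h)
  have hunit : IsUnit (algebraMap A₀ R f) := by
    rw [IsScalarTower.algebraMap_apply A₀ D R]
    exact IsLocalization.Away.algebraMap_isUnit (Ideal.Quotient.mk p.asIdeal f)
  refine ⟨f, R, inferInstance, inferInstance, S, inferInstance, inferInstance, inferInstance, inferInstance,
    inferInstance, inferInstance, inferInstance, hfp, inferInstance, ?_, fun K _ _ hp hf => ?_,
    injective_comap_stratum f hunit fun r => ?_, fun k => ?_⟩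
  · haveI : Algebra.FiniteType D R := IsLocalization.finiteType_of_monoid_fg
      (Submonoid.powers (Ideal.Quotient.mk p.asIdeal f)) R
    exact Algebra.FiniteType.trans (R := A₀) (S := D) (A := R) inferInstance inferInstance
  · let θ : D →ₐ[A₀] K := Ideal.Quotient.liftₐ p.asIdeal (Algebra.ofId A₀ K) hp
    exact ⟨IsLocalization.liftAlgHom (M := Submonoid.powers (Ideal.Quotient.mk p.asIdeal f)) (S := R) (f := θ)
      (by
        rintro ⟨_, n, rfl⟩
        show IsUnit (θ (Ideal.Quotient.mk p.asIdeal f ^ n))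
        rw [map_pow]
        exact (Ne.isUnit (show θ (Ideal.Quotient.mk p.asIdeal f) ≠ 0 from hf)).pow n)⟩
  · obtain ⟨⟨a, ⟨_, n, rfl⟩⟩, hn⟩ := IsLocalization.surj (Submonoid.powers (Ideal.Quotient.mk p.asIdeal f)) r
    obtain ⟨a, rfl⟩ := Ideal.Quotient.mk_surjective a
    refine ⟨n, a, ?_⟩
    rw [mul_comm, IsScalarTower.algebraMap_apply A₀ D R f, ← map_pow]
    exact hn
  · exact flat_piece_map (J₀ := J₀) (M₀ := M₀) (D := D) (SD := SD) k
      (hflat k R (IsLocalization.Away.algebraMap_isUnit (Ideal.Quotient.mk p.asIdeal f)))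

variable {A B : Type u} [CommRing A] [CommRing B] [Algebra A B] [Algebra A₀ A] [Algebra A₀ B] [Algebra B₀ B]
  [IsScalarTower A₀ A B] [IsScalarTower A₀ B₀ B] [Algebra.IsPushout A₀ A B₀ B] [Algebra.FinitePresentation A B]

variable (A) in
/-- On a stratum the locus comes from the model. -/
theorem exists_constructible_stratum (hflat : ∀ k, Module.Flat A (Piece (J₀.map (algebraMap B₀ B)) (B ⊗[B₀] M₀) k))
    (p : PrimeSpectrum A₀) :
    ∃ f : A₀, f ∉ p.asIdeal ∧ ∃ E : Set (PrimeSpectrum B₀), IsConstructible E ∧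
      ∀ q : PrimeSpectrum B, (∀ a ∈ p.asIdeal, algebraMap A₀ B a ∈ q.asIdeal) → algebraMap A₀ B f ∉ q.asIdeal →
        (q ∈ Loc (J₀.map (algebraMap B₀ B)) (B ⊗[B₀] M₀) ↔ PrimeSpectrum.comap (algebraMap B₀ B) q ∈ E) := by
  obtain ⟨f, R, _, _, S, _, _, _, _, _, _, _, hfp, hN, hRft, hlift, hinj, hflat'⟩ := exists_flat_stratum J₀ M₀ p
  haveI : IsNoetherianRing B₀ := Algebra.FiniteType.isNoetherianRing A₀ B₀
  haveI : Algebra.IsPushout A₀ B₀ R S := Algebra.IsPushout.symm inferInstance
  haveI : Algebra.FiniteType B₀ S :=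
    Algebra.FiniteType.equiv (inferInstanceAs (Algebra.FiniteType B₀ (B₀ ⊗[A₀] R))) (Algebra.IsPushout.equiv A₀ B₀ R S)
  haveI : Algebra.FiniteType R S :=
    Algebra.FiniteType.equiv (inferInstanceAs (Algebra.FiniteType R (R ⊗[A₀] B₀))) (Algebra.IsPushout.equiv A₀ R B₀ S)
  haveI : IsNoetherianRing S := Algebra.FiniteType.isNoetherianRing B₀ S
  haveI : Algebra.FinitePresentation R S := Algebra.FinitePresentation.of_finiteType.mp inferInstance
  haveI : Algebra.FinitePresentation B₀ S := Algebra.FinitePresentation.of_finiteType.mp inferInstance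
  haveI : Module.FinitePresentation B₀ M₀ := Module.finitePresentation_of_finite B₀ M₀
  let I := J₀.map (algebraMap B₀ S)
  let N := S ⊗[B₀] M₀
  refine ⟨f, hfp, PrimeSpectrum.comap (algebraMap B₀ S) '' Loc I N, PrimeSpectrum.isConstructible_comap_image
    (RingHom.finitePresentation_algebraMap.mpr inferInstance) (isConstructible_loc I N), fun q hqp hqf => ?_⟩
  let pA : PrimeSpectrum A := PrimeSpectrum.comap (algebraMap A B) q
  let K := pA.asIdeal.ResidueField
  let B' := pA.asIdeal.Fiber B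
  have hK : ∀ a : A₀, algebraMap A₀ K a = 0 ↔ algebraMap A₀ B a ∈ q.asIdeal := fun a => by
    rw [IsScalarTower.algebraMap_apply A₀ A K, Ideal.algebraMap_residueField_eq_zero]
    show algebraMap A B (algebraMap A₀ A a) ∈ q.asIdeal ↔ _
    rw [← IsScalarTower.algebraMap_apply]
  obtain ⟨σ⟩ := hlift K (fun a ha => (hK a).2 (hqp a ha)) (fun h => hqf ((hK f).1 h))
  let x := PrimeSpectrum.preimageEquivFiber A B pA ⟨q, rfl⟩
  have hx : PrimeSpectrum.comap (algebraMap B B') x = q :=
    congrArg Subtype.val ((PrimeSpectrum.preimageEquivFiber A B pA).symm_apply_apply ⟨q, rfl⟩)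
  letI : Algebra R K := σ.toRingHom.toAlgebra
  haveI : IsScalarTower A₀ R K := IsScalarTower.of_algebraMap_eq fun a => (σ.commutes a).symm
  haveI : IsScalarTower R K B' := IsScalarTower.of_algebraMap_eq (R := R) (S := K) (A := B') fun _ => rfl
  letI : Algebra B₀ B' := ((algebraMap B B').comp (algebraMap B₀ B)).toAlgebra
  haveI : IsScalarTower B₀ B B' := IsScalarTower.of_algebraMap_eq fun _ => rfl
  haveI : IsScalarTower A₀ K B' := IsScalarTower.of_algebraMap_eq fun a => by
    rw [IsScalarTower.algebraMap_apply A₀ A B', IsScalarTower.algebraMap_apply A₀ A K,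
      ← IsScalarTower.algebraMap_apply A K B']
  haveI : IsScalarTower A₀ R B' := IsScalarTower.of_algebraMap_eq (R := A₀) (S := R) (A := B') fun a => by
    show _ = algebraMap K B' (algebraMap R K (algebraMap A₀ R a))
    rw [← IsScalarTower.algebraMap_apply A₀ R K, ← IsScalarTower.algebraMap_apply]
  haveI : IsScalarTower A₀ B B' := IsScalarTower.of_algebraMap_eq fun a => by
    rw [IsScalarTower.algebraMap_apply A₀ A B', IsScalarTower.algebraMap_apply A₀ A B,
      ← IsScalarTower.algebraMap_apply A B B']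
  haveI : IsScalarTower A₀ B₀ B' := IsScalarTower.of_algebraMap_eq fun a => by
    show _ = algebraMap B B' (algebraMap B₀ B (algebraMap A₀ B₀ a))
    rw [← IsScalarTower.algebraMap_apply A₀ B₀ B, ← IsScalarTower.algebraMap_apply]
  let ψ : S →ₐ[A₀] B' := (Algebra.TensorProduct.lift (IsScalarTower.toAlgHom A₀ R B')
    (IsScalarTower.toAlgHom A₀ B₀ B') fun _ _ => .all _ _).comp
      ((Algebra.IsPushout.equiv A₀ R B₀ S).symm.toAlgHom.restrictScalars A₀)
  letI : Algebra S B' := ψ.toRingHom.toAlgebra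
  have hψ : ∀ (r : R) (b : B₀), ψ (algebraMap R S r * algebraMap B₀ S b) = algebraMap R B' r * algebraMap B₀ B' b := by
    intro r b
    rw [← Algebra.IsPushout.equiv_tmul (R := A₀) (S := R) (R' := B₀) (S' := S)]
    simp [ψ]
  haveI : IsScalarTower R S B' := IsScalarTower.of_algebraMap_eq fun r => by
    show _ = ψ (algebraMap R S r)
    simpa using (hψ r 1).symm
  haveI : IsScalarTower B₀ S B' := IsScalarTower.of_algebraMap_eq fun b => by
    show _ = ψ (algebraMap B₀ S b)
    simpa using (hψ 1 b).symm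
  haveI : Algebra.IsPushout A₀ K B₀ B' :=
    (Algebra.IsPushout.comp_iff A₀ A B₀ (S' := B) (T := K) (T' := B')).2 inferInstance
  haveI : Algebra.IsPushout R K S B' :=
    (Algebra.IsPushout.comp_iff A₀ R B₀ (S' := S) (T := K) (T' := B')).1 inferInstance
  haveI : Module.FinitePresentation B (B ⊗[B₀] M₀) := inferInstance
  have hJI : (J₀.map (algebraMap B₀ B)).map (algebraMap B B') = I.map (algebraMap S B') := by
    rw [Ideal.map_map, Ideal.map_map, ← IsScalarTower.algebraMap_eq, ← IsScalarTower.algebraMap_eq]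
  have h2 := mem_loc_iff_two (A := A) (J₀.map (algebraMap B₀ B)) (B ⊗[B₀] M₀) (R := R) I N K
    (Ideal.FG.map (IsNoetherian.noetherian J₀) _) hflat (IsNoetherian.noetherian _) hflat' hJI
    (AlgebraTensorModule.cancelBaseChange B₀ B B' B' M₀ ≪≫ₗ
      (AlgebraTensorModule.cancelBaseChange B₀ S B' B' M₀).symm) x
  rw [hx] at h2
  rw [h2]
  have hy : PrimeSpectrum.comap (algebraMap B₀ S) (PrimeSpectrum.comap (algebraMap S B') x) =
      PrimeSpectrum.comap (algebraMap B₀ B) q := by
    rw [← hx, ← PrimeSpectrum.comap_comp_apply, ← PrimeSpectrum.comap_comp_apply,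
      ← IsScalarTower.algebraMap_eq, ← IsScalarTower.algebraMap_eq]
  rw [← hy, hinj.mem_set_image]

include A₀ in
variable (A₀ A) in
/-- The locus is constructible. -/
theorem isConstructible_loc_of_model
    (hflat : ∀ k, Module.Flat A (Piece (J₀.map (algebraMap B₀ B)) (B ⊗[B₀] M₀) k)) :
    IsConstructible (Loc (J₀.map (algebraMap B₀ B)) (B ⊗[B₀] M₀)) := by
  let Wl := Loc (J₀.map (algebraMap B₀ B)) (B ⊗[B₀] M₀)
  let π := PrimeSpectrum.comap (algebraMap A₀ B)
  suffices ∀ Y : Set (PrimeSpectrum A₀), IsClosed Y → IsConstructible (Wl ∩ π ⁻¹' Y) by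
    simpa using this Set.univ isClosed_univ
  refine ConstrTop58.closed_induction (by simp) (fun C D _ _ hC hD => ?_) fun Y hY hYi ih => ?_
  · rw [Set.preimage_union, Set.inter_union_distrib_left]; exact hC.union hD
  obtain ⟨η, hη⟩ := QuasiSober.sober hYi hY
  have hY' : Y = PrimeSpectrum.zeroLocus (η.asIdeal : Set A₀) := by
    rw [← hη.def, PrimeSpectrum.closure_singleton]
  obtain ⟨f, hf, E, hE, hEq⟩ := exists_constructible_stratum J₀ M₀ A hflat η
  let D : Set (PrimeSpectrum A₀) := PrimeSpectrum.basicOpen f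
  have hD : IsOpen D := (PrimeSpectrum.basicOpen f).2
  have h1 := ih _ (hY.sdiff hD) ⟨Set.sdiff_subset, fun hle => (hle hη.mem).2 hf⟩
  have h2 : IsConstructible (π ⁻¹' (Y ∩ D)) := isConstructible_comap_preimage _ (by
    refine IsConstructible.inter (IsConstructible.of_compl ?_) ?_
    · exact IsRetrocompact.isConstructible hY.isOpen_compl fun _ _ _ => TopologicalSpace.NoetherianSpace.isCompact _
    · exact IsRetrocompact.isConstructible hD fun _ _ _ => TopologicalSpace.NoetherianSpace.isCompact _)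
  have h3 : Wl ∩ π ⁻¹' Y = π ⁻¹' (Y ∩ D) ∩ PrimeSpectrum.comap (algebraMap B₀ B) ⁻¹' E ∪ Wl ∩ π ⁻¹' (Y \ D) := by
    ext q
    simp only [Set.mem_inter_iff, Set.mem_preimage, Set.mem_union, Set.mem_sdiff]
    by_cases hq : π q ∈ Y
    · by_cases hqD : π q ∈ D
      · have := hEq q (fun a ha => (hY' ▸ hq : π q ∈ PrimeSpectrum.zeroLocus (η.asIdeal : Set A₀)) ha) hqD
        simp only [hq, hqD, and_true, true_and, not_true, and_false, or_false]
        exact this
      · simp only [hq, hqD, and_true, and_false, false_and, not_false_iff, false_or]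
    · simp [hq]
  rw [h3]
  exact (h2.inter (isConstructible_comap_preimage _ hE)).union h1

end Model

/-- Openness of the normally flat locus in `V(J)` when the pieces are flat over the base. -/
theorem isOpen_locus_of_flat {A B : Type u} [CommRing A] [CommRing B] [Algebra A B] [Algebra.FinitePresentation A B]
    (J : Ideal B) (hJ : J.FG) (M : Type u) [AddCommGroup M] [Module B M] [Module A M] [IsScalarTower A B M]
    [Module.FinitePresentation B M] (hflat : ∀ k, Module.Flat A (Piece J M k)) : IsOpen (Locus J M) := by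
  classical
  obtain ⟨m, π, hπ⟩ := Module.Finite.exists_fin' B M
  obtain ⟨w, hw⟩ := (Module.FinitePresentation.fg_ker π hπ : (LinearMap.ker π).FG)
  obtain ⟨gs, hgs⟩ := hJ
  let t : Set B := (gs : Set B) ∪ ⋃ v ∈ (w : Set (Fin m → B)), Set.range v
  have ht : t.Finite := gs.finite_toSet.union (w.finite_toSet.biUnion fun v _ => Set.finite_range v)
  obtain ⟨A₀, B₀, _, _, e, hN, hB₀, hsub⟩ := Cons62.exists_model (A := A) (B := B) ht
  let β : B₀ →+* B := e.toRingHom.comp Algebra.TensorProduct.includeRight.toRingHom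
  letI : Algebra B₀ B := β.toAlgebra
  haveI : IsScalarTower A₀ B₀ B := IsScalarTower.of_algebraMap_eq fun a => by
    show _ = e (1 ⊗ₜ algebraMap A₀ B₀ a)
    rw [show (1 : A) ⊗ₜ[A₀] algebraMap A₀ B₀ a = algebraMap A (A ⊗[A₀] B₀) (algebraMap A₀ A a) by
      rw [Algebra.TensorProduct.algebraMap_apply, Algebra.algebraMap_self_apply, Algebra.algebraMap_eq_smul_one,
        ← smul_tmul, Algebra.smul_def, mul_one], AlgEquiv.commutes, ← IsScalarTower.algebraMap_apply]
  haveI : Algebra.IsPushout A₀ A B₀ B := Fib62.isPushout_of_equiv e fun _ => rfl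
  haveI : IsNoetherianRing B₀ := Algebra.FiniteType.isNoetherianRing A₀ B₀
  let J₀ : Ideal B₀ := J.comap (algebraMap B₀ B)
  have hJ₀ : J₀.map (algebraMap B₀ B) = J := by
    refine le_antisymm Ideal.map_comap_le ?_
    conv_lhs => rw [← hgs]
    rw [Ideal.span_le]
    intro g hg
    obtain ⟨b, hb⟩ := hsub (Or.inl hg)
    change β b = g at hb
    rw [← hb]
    exact Ideal.mem_map_of_mem _ (show β b ∈ J by rw [hb, ← hgs]; exact Ideal.subset_span hg)
  choose l hl using fun (v : ↥(w : Set (Fin m → B))) (i : Fin m) =>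
    hsub (Or.inr (Set.mem_biUnion v.2 (Set.mem_range_self i)))
  let N₀ : Submodule B₀ (Fin m → B₀) := Submodule.span B₀ (Set.range l)
  let M₀ := (Fin m → B₀) ⧸ N₀
  letI : Module B₀ M := Module.compHom M β
  haveI : IsScalarTower B₀ B M := IsScalarTower.of_algebraMap_smul fun _ _ => rfl
  let χ : M₀ →ₗ[B₀] M := N₀.liftQ ((π.restrictScalars B₀).comp ((Algebra.linearMap B₀ B).compLeft (Fin m)))
    (by
      rw [Submodule.span_le]
      rintro _ ⟨v, rfl⟩
      show π (fun i => β (l v i)) = 0
      rw [show (fun i => β (l v i)) = v.1 from funext (hl v)]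
      exact (hw ▸ Submodule.subset_span v.2 : v.1 ∈ LinearMap.ker π))
  let Φ : B ⊗[B₀] M₀ →ₗ[B] M := χ.liftBaseChange B
  let δ : (Fin m → B) →ₗ[B] B ⊗[B₀] M₀ :=
    (TensorProduct.piScalarRight B₀ B B (Fin m)).symm.toLinearMap |> fun h => ((Submodule.mkQ N₀).baseChange B).comp h
  have hδ : ∀ b : Fin m → B₀, δ (fun i => β (b i)) = (1 : B) ⊗ₜ[B₀] Submodule.Quotient.mk b := by
    intro b
    have : (TensorProduct.piScalarRight B₀ B B (Fin m)) ((1 : B) ⊗ₜ[B₀] b) = fun i => β (b i) := by
      ext i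
      simp [Algebra.smul_def]
      rfl
    rw [← this]
    show (Submodule.mkQ N₀).baseChange B ((TensorProduct.piScalarRight B₀ B B (Fin m)).symm
      (TensorProduct.piScalarRight B₀ B B (Fin m) ((1 : B) ⊗ₜ[B₀] b))) = _
    rw [LinearEquiv.symm_apply_apply, LinearMap.baseChange_tmul]
    rfl
  have hδs : Function.Surjective δ := (LinearMap.lTensor_surjective B (Submodule.mkQ_surjective N₀)).comp
    (TensorProduct.piScalarRight B₀ B B (Fin m)).symm.surjective
  have hcomp : Φ.comp δ = π := by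
    refine (Pi.basisFun B (Fin m)).ext fun i => ?_
    have h1 : (Pi.basisFun B (Fin m) i) = fun j => β ((Pi.basisFun B₀ (Fin m) i) j) := by
      ext j
      simp [Pi.single_apply, apply_ite β]
    rw [h1, LinearMap.comp_apply, hδ]
    show (1 : B) • π (fun j => β ((Pi.basisFun B₀ (Fin m) i) j)) = _
    rw [one_smul]
  have hbij : Function.Bijective Φ := by
    refine ⟨?_, fun y => ?_⟩
    · rw [← LinearMap.ker_eq_bot, eq_bot_iff]
      intro z hz
      obtain ⟨v, rfl⟩ := hδs z
      have hv : v ∈ LinearMap.ker π := by rw [← hcomp]; exact hz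
      rw [← hw] at hv
      have : v ∈ LinearMap.ker δ := by
        refine Submodule.span_le.2 (fun u hu => ?_) hv
        rw [SetLike.mem_coe, LinearMap.mem_ker, show u = fun i => β (l ⟨u, hu⟩ i) from (funext (hl ⟨u, hu⟩)).symm,
          hδ, (Submodule.Quotient.mk_eq_zero N₀).2 (Submodule.subset_span ⟨⟨u, hu⟩, rfl⟩), tmul_zero]
      exact this
    · obtain ⟨v, rfl⟩ := hπ y
      exact ⟨δ v, LinearMap.congr_fun hcomp v⟩
  let eM := LinearEquiv.ofBijective Φ hbij
  have hflat' : ∀ k, Module.Flat A (Piece (J₀.map (algebraMap B₀ B)) (B ⊗[B₀] M₀) k) := fun k => by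
    rw [hJ₀]
    haveI := hflat k
    exact Module.Flat.of_linearEquiv ((pieceCongr J eM k).restrictScalars A)
  have hc := isConstructible_loc_of_model A₀ J₀ M₀ A hflat'
  rw [hJ₀, loc_congr J eM] at hc
  refine PrimeSpectrum.isOpen_of_stableUnderGeneralization_of_isConstructible (stableUnderGeneralization_locus J M) ?_
  rw [locus_eq_preimage_loc]
  exact isConstructible_comap_preimage _ hc

end Groth.Agent.E4O.NormFlat
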