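import Mathlib

/-!
A local ring which is exhausted by normal local domains is a normal domain.
-/

set_option autoImplicit false
set_option linter.style.haveILetI false

universe u

open Polynomial

namespace Groth.Agent.E4O

theorem dvd_of_scaleRoots_eval_eq_zero {R : Type u} [CommRing R] [IsDomain R] [IsIntegrallyClosed R]
    {β γ : R} (hγ : γ ≠ 0) {P : R[X]} (hP : P.Monic) (h : (P.scaleRoots γ).eval β = 0) : γ ∣ β := by
  let K := FractionRing R
  have hγ' : algebraMap R K γ ≠ 0 := (map_ne_zero_iff _ (IsFractionRing.injective R K)).mpr hγ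
  have hz : IsIntegral R (algebraMap R K β / algebraMap R K γ) := by
    refine ⟨P, hP, ?_⟩
    have h1 := scaleRoots_eval₂_mul (p := P) (algebraMap R K) (algebraMap R K β / algebraMap R K γ) γ
    rw [mul_div_cancel₀ _ hγ', eval₂_at_apply, h, map_zero] at h1
    exact (mul_eq_zero.mp h1.symm).resolve_left (pow_ne_zero _ hγ')
  obtain ⟨r, hr⟩ := IsIntegrallyClosed.isIntegral_iff.mp hz
  refine ⟨r, IsFractionRing.injective R K ?_⟩
  rw [map_mul, hr, mul_div_cancel₀ _ hγ']

theorem normal_of_exhausted (B : Type u) [CommRing B] (q : Ideal B) [q.IsPrime]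
    (H : ∀ F : Set B, F.Finite → ∃ (B' : Type u) (_ : CommRing B') (j : B' →+* B) (Q : Ideal B') (_ : Q.IsPrime),
      Function.Injective j ∧ Q = q.comap j ∧ F ⊆ Set.range j ∧
        IsDomain (Localization.AtPrime Q) ∧ IsIntegrallyClosed (Localization.AtPrime Q)) :
    IsDomain (Localization.AtPrime q) ∧ IsIntegrallyClosed (Localization.AtPrime q) := by
  let L := Localization.AtPrime q
  haveI hdom : IsDomain L := by
    haveI : NoZeroDivisors L := ⟨fun {x y} hxy => by
      obtain ⟨⟨b, s⟩, rfl⟩ := IsLocalization.mk'_surjective q.primeCompl x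
      obtain ⟨⟨c, t⟩, rfl⟩ := IsLocalization.mk'_surjective q.primeCompl y
      rw [← IsLocalization.mk'_mul, IsLocalization.mk'_eq_zero_iff] at hxy
      obtain ⟨⟨u, hu⟩, hubc⟩ := hxy
      obtain ⟨B', _, j, Q, _, hj, rfl, hF, hd, -⟩ := H {b, c, u} (by simp)
      obtain ⟨b', rfl⟩ := hF (by simp : b ∈ ({b, c, u} : Set B))
      obtain ⟨c', rfl⟩ := hF (by simp : c ∈ ({j b', c, u} : Set B))
      obtain ⟨u', rfl⟩ := hF (by simp : u ∈ ({j b', j c', u} : Set B))
      have h1 : u' * (b' * c') = 0 := hj (by rw [map_mul, map_mul, map_zero]; exact hubc)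
      have h2 : algebraMap B' (Localization.AtPrime (q.comap j)) b' *
          algebraMap B' (Localization.AtPrime (q.comap j)) c' = 0 := by
        rw [← map_mul, IsLocalization.map_eq_zero_iff (q.comap j).primeCompl]
        exact ⟨⟨u', hu⟩, h1⟩
      rw [IsLocalization.mk'_eq_zero_iff, IsLocalization.mk'_eq_zero_iff]
      rcases mul_eq_zero.mp h2 with h | h
      · obtain ⟨⟨v, hv⟩, hvb⟩ := (IsLocalization.map_eq_zero_iff (q.comap j).primeCompl _ _).mp h
        exact Or.inl ⟨⟨j v, hv⟩, by simp [← map_mul, show v * b' = 0 from hvb]⟩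
      · obtain ⟨⟨v, hv⟩, hvb⟩ := (IsLocalization.map_eq_zero_iff (q.comap j).primeCompl _ _).mp h
        exact Or.inr ⟨⟨j v, hv⟩, by simp [← map_mul, show v * c' = 0 from hvb]⟩⟩
    exact NoZeroDivisors.to_isDomain L
  refine ⟨hdom, ?_⟩
  let K := FractionRing L
  refine (isIntegrallyClosed_iff K).mpr fun {z} hz => ?_
  obtain ⟨⟨m, hm⟩, hmz⟩ := hz.exists_multiple_integral_of_isLocalization q.primeCompl z
  suffices ∃ w, algebraMap L K w = m • z by
    obtain ⟨w, hw⟩ := this
    obtain ⟨v, hv⟩ := IsLocalization.map_units L (⟨m, hm⟩ : q.primeCompl)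
    refine ⟨↑v⁻¹ * w, ?_⟩
    rw [map_mul, hw, Algebra.smul_def, IsScalarTower.algebraMap_apply B L K, ← mul_assoc, ← map_mul, ← hv,
      Units.inv_mul, map_one, one_mul]
  replace hmz : IsIntegral B (m • z) := hmz
  generalize m • z = z' at hmz ⊢
  obtain ⟨P, hP, hPz⟩ := hmz
  obtain ⟨⟨x, y⟩, hxy⟩ := IsLocalization.surj (nonZeroDivisors L) z'
  obtain ⟨⟨b, s⟩, hb⟩ := IsLocalization.surj q.primeCompl x
  obtain ⟨⟨c, t⟩, hc⟩ := IsLocalization.surj q.primeCompl (y : L)
  let β : B := b * t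
  let γ : B := c * s
  have hs0 : algebraMap B L s ≠ 0 := (IsLocalization.map_units L s).ne_zero
  have ht0 : algebraMap B L t ≠ 0 := (IsLocalization.map_units L t).ne_zero
  have hγ0 : algebraMap B L γ ≠ 0 := by
    simp only [γ, map_mul]
    refine mul_ne_zero ?_ hs0
    rw [← hc]
    exact mul_ne_zero (nonZeroDivisors.ne_zero y.2) ht0
  have hβ : algebraMap B K γ * z' = algebraMap B K β := by
    simp only [β, γ, map_mul, IsScalarTower.algebraMap_apply B L K, ← hb, ← hc]
    rw [← hxy]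
    ring
  have h0 : algebraMap B L ((P.scaleRoots γ).eval β) = 0 := by
    apply IsFractionRing.injective L K
    rw [map_zero, ← IsScalarTower.algebraMap_apply, ← eval₂_at_apply, ← hβ, scaleRoots_eval₂_mul, hPz, mul_zero]
  obtain ⟨⟨u, hu⟩, hu0⟩ := (IsLocalization.map_eq_zero_iff q.primeCompl _ _).mp h0
  obtain ⟨B', _, j, Q, _, hj, rfl, hF, hd, hi⟩ := H ({β, γ, u} ∪ ↑P.coeffs) (Set.Finite.union (by simp) P.coeffs.finite_toSet)
  obtain ⟨β', hβ'⟩ := hF (by simp : β ∈ {β, γ, u} ∪ (↑P.coeffs : Set B))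
  obtain ⟨γ', hγ'⟩ := hF (by simp : γ ∈ {β, γ, u} ∪ (↑P.coeffs : Set B))
  obtain ⟨u', hu'⟩ := hF (by simp : u ∈ {β, γ, u} ∪ (↑P.coeffs : Set B))
  obtain ⟨P', hP', -, hP'm⟩ := lifts_and_natDegree_eq_and_monic
    ((lifts_iff_coeffs_subset_range P).mpr fun a ha => hF (Or.inr ha)) hP
  let L' := Localization.AtPrime (q.comap j)
  haveI : IsDomain L' := hd
  haveI : IsIntegrallyClosed L' := hi
  have h1 : u' * (P'.scaleRoots γ').eval β' = 0 := hj (by
    rw [map_mul, map_zero, hu', ← eval₂_at_apply, ← eval_map, map_scaleRoots _ _ _ ?_, hP', hγ', hβ']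
    · exact hu0
    · rw [hP'm.leadingCoeff, map_one]
      exact fun h => Ideal.IsPrime.ne_top ‹q.IsPrime› (Ideal.eq_top_iff_one _ |>.mpr (h ▸ q.zero_mem)))
  have hu'Q : u' ∈ (q.comap j).primeCompl := fun h => hu (hu' ▸ h)
  have hk := Localization.localRingHom_to_map (q.comap j) q j rfl
  have h2 : algebraMap B' L' γ' ≠ 0 := fun h => hγ0 (by rw [← hγ', ← hk, h, map_zero])
  have h3 : ((P'.map (algebraMap B' L')).scaleRoots (algebraMap B' L' γ')).eval (algebraMap B' L' β') = 0 := by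
    rw [← map_scaleRoots _ _ _ (by rw [hP'm.leadingCoeff, map_one]; exact one_ne_zero), eval_map, eval₂_at_apply,
      IsLocalization.map_eq_zero_iff (q.comap j).primeCompl]
    exact ⟨⟨u', hu'Q⟩, h1⟩
  obtain ⟨r, hr⟩ := dvd_of_scaleRoots_eval_eq_zero h2 (hP'm.map _) h3
  refine ⟨Localization.localRingHom (q.comap j) q j rfl r, ?_⟩
  have h4 := congrArg (Localization.localRingHom (q.comap j) q j rfl) hr
  rw [map_mul, hk, hk, hβ', hγ'] at h4
  refine mul_left_cancel₀ ?_ (hβ.trans ?_).symm (a := algebraMap B K γ)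
  · rw [IsScalarTower.algebraMap_apply B L K]
    exact (map_ne_zero_iff _ (IsFractionRing.injective L K)).mpr hγ0
  · rw [IsScalarTower.algebraMap_apply B L K γ, IsScalarTower.algebraMap_apply B L K β, h4, map_mul]

end Groth.Agent.E4O
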