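import Groth.Agent.E4O.NormalFlatNoeth
import Groth.Agent.E4O.NormalUnion
import Groth.Agent.CAlg1.NagataTheorem
import Groth.Agent.Unr55.FppfDesc
import Groth.Agent.S0386

/-!
Normality ascends along finitely presented algebras over a normal domain, at flat points where the fibre is
geometrically normal.
-/

set_option autoImplicit false
set_option linter.style.haveILetI false

universe u

open CategoryTheory CategoryTheory.Limits AlgebraicGeometry TensorProduct

namespace Groth.Agent.E4O

theorem isNagata_int : CAlg.IsNagata (ULift.{u} ℤ) := by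
  haveI : IsPrincipalIdealRing (ULift.{u} ℤ) :=
    IsPrincipalIdealRing.of_surjective (ULift.ringEquiv.symm.toRingHom : ℤ →+* ULift.{u} ℤ)
      ULift.ringEquiv.symm.surjective
  haveI : IsDomain (ULift.{u} ℤ) := (ULift.ringEquiv : ULift.{u} ℤ ≃+* ℤ).toMulEquiv.isDomain _
  haveI : CharZero (ULift.{u} ℤ) :=
    charZero_of_injective_ringHom (f := (ULift.ringEquiv.symm : ℤ ≃+* ULift.{u} ℤ).toRingHom)
      ULift.ringEquiv.symm.injective
  refine ⟨inferInstance, fun p _ => ?_⟩
  intro L _ _ _ _ hfin
  haveI := hfin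
  by_cases hp : p = ⊥
  · subst hp
    let e := RingEquiv.quotientBot (ULift.{u} ℤ)
    haveI : CharZero (ULift.{u} ℤ ⧸ (⊥ : Ideal (ULift.{u} ℤ))) :=
      charZero_of_injective_ringHom (f := e.symm.toRingHom) e.symm.injective
    haveI : IsPrincipalIdealRing (ULift.{u} ℤ ⧸ (⊥ : Ideal (ULift.{u} ℤ))) :=
      IsPrincipalIdealRing.of_surjective e.symm.toRingHom e.symm.surjective
    haveI : CharZero (FractionRing (ULift.{u} ℤ ⧸ (⊥ : Ideal (ULift.{u} ℤ)))) :=
      charZero_of_injective_algebraMap (R := ULift.{u} ℤ ⧸ (⊥ : Ideal (ULift.{u} ℤ)))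
        (IsFractionRing.injective _ _)
    exact IsIntegralClosure.finite (ULift.{u} ℤ ⧸ (⊥ : Ideal (ULift.{u} ℤ))) (FractionRing (ULift.{u} ℤ ⧸ (⊥ : Ideal (ULift.{u} ℤ)))) L _
  · haveI : p.IsMaximal := Ideal.IsPrime.isMaximal ‹_› hp
    letI := Ideal.Quotient.field p
    haveI : Module.Finite (ULift.{u} ℤ ⧸ p) (FractionRing (ULift.{u} ℤ ⧸ p)) :=
      Module.Finite.of_surjective (Algebra.linearMap _ _)
        (IsLocalization.atUnits (ULift.{u} ℤ ⧸ p) (nonZeroDivisors _)
          (S := FractionRing (ULift.{u} ℤ ⧸ p)) (fun x hx => (nonZeroDivisors.ne_zero hx).isUnit)).surjective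
    haveI : Module.Finite (ULift.{u} ℤ ⧸ p) L := Module.Finite.trans (FractionRing (ULift.{u} ℤ ⧸ p)) L
    exact Module.Finite.of_injective (integralClosure (ULift.{u} ℤ ⧸ p) L).val.toLinearMap Subtype.val_injective

/-- The stages of a normal domain: normal Noetherian subdomains. -/
theorem exists_normal_stage {C A : Type u} [CommRing C] [Algebra.FiniteType ℤ C] [CommRing A] [IsDomain A]
    [IsIntegrallyClosed A] [Algebra C A] (F : Finset A) :
    ∃ (A' : Type u) (_ : CommRing A') (_ : IsDomain A') (_ : Algebra C A') (ι : A' →ₐ[C] A),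
      IsIntegrallyClosed A' ∧ IsNoetherianRing A' ∧ Function.Injective ι ∧ (F : Set A) ⊆ Set.range ι := by
  let T : Subalgebra C A := Algebra.adjoin C (F : Set A)
  haveI : Algebra.FiniteType C T := (Subalgebra.fg_iff_finiteType T).mp (Subalgebra.fg_adjoin_finset F)
  haveI : Algebra.FiniteType ℤ T := Algebra.FiniteType.trans (S := C) inferInstance inferInstance
  obtain ⟨n, f, hf⟩ := Algebra.FiniteType.iff_quotient_mvPolynomial''.mp (inferInstance : Algebra.FiniteType ℤ T)
  have hT : CAlg.IsNagata T := CAlg1.Nag.isNagata_of_surjective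
    (f.toRingHom.comp (MvPolynomial.map (ULift.ringEquiv : ULift.{u} ℤ ≃+* ℤ).toRingHom))
    (hf.comp (MvPolynomial.map_surjective _ ULift.ringEquiv.surjective))
    (CAlg1.Nag.isNagata_mvPolynomial isNagata_int n)
  haveI := hT.1
  haveI : FaithfulSMul T A := (faithfulSMul_iff_algebraMap_injective T A).mpr Subtype.val_injective
  let K := FractionRing A
  haveI : FaithfulSMul T K := (faithfulSMul_iff_algebraMap_injective T K).mpr (by
    rw [IsScalarTower.algebraMap_eq T A K]
    exact (IsFractionRing.injective A K).comp Subtype.val_injective)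
  let F0 := FractionRing T
  letI : Algebra F0 K := FractionRing.liftAlgebra T K
  let A' := integralClosure T F0
  haveI : Module.Finite T A' := CAlg1.Nag.isN2_of_isNagata hT F0 inferInstance
  haveI : IsNoetherianRing A' := IsNoetherianRing.of_finite T A'
  haveI : IsIntegrallyClosed A' := integralClosure.isIntegrallyClosedOfFiniteExtension F0
  let φ : A' →ₐ[T] K := (IsScalarTower.toAlgHom T F0 K).comp A'.val
  have hφ : ∀ a, φ a ∈ (IsScalarTower.toAlgHom T A K).range := fun a => by
    have h : IsIntegral A (φ a) := ((Algebra.IsIntegral.isIntegral (R := T) a).map φ).tower_top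
    obtain ⟨y, hy⟩ := IsIntegrallyClosed.isIntegral_iff.mp h
    exact ⟨y, hy⟩
  let ψ : A' →ₐ[T] A := (AlgEquiv.ofInjective (IsScalarTower.toAlgHom T A K)
    (IsFractionRing.injective A K)).symm.toAlgHom.comp (φ.codRestrict _ hφ)
  have hψ : Function.Injective ψ := by
    intro a b hab
    have h1 : φ a = φ b := congrArg Subtype.val
      ((AlgEquiv.ofInjective (IsScalarTower.toAlgHom T A K) (IsFractionRing.injective A K)).symm.injective hab)
    exact Subtype.ext ((algebraMap F0 K).injective h1)
  refine ⟨A', inferInstance, inferInstance, inferInstance, ψ.restrictScalars C, inferInstance, inferInstance,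
    hψ, fun a ha => ⟨algebraMap T A' ⟨a, Algebra.subset_adjoin ha⟩, ?_⟩⟩
  exact ψ.commutes _

/-- Normality ascends along flat finitely presented algebras over a normal domain. -/
theorem normal_localization_of_flat_fp (A B : Type u) [CommRing A] [IsDomain A] [IsIntegrallyClosed A]
    [CommRing B] [Algebra A B] [Algebra.FinitePresentation A B] [Module.Flat A B]
    (q : PrimeSpectrum B) (hq : NG (Spec.map (CommRingCat.ofHom (algebraMap A B))) q) :
    IsDomain (Localization.AtPrime q.asIdeal) ∧ IsIntegrallyClosed (Localization.AtPrime q.asIdeal) := by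
  classical
  obtain ⟨C, B₀, _, _, _, _, hC, hB₀, hflat, ⟨e⟩⟩ := Unr55.exists_flat_model A B
  refine normal_of_exhausted B q.asIdeal fun F hF => ?_
  choose S hS using fun b : B => TensorProduct.exists_finset (e b)
  obtain ⟨A', _, _, _, ι, _, _, hι, hrange⟩ :=
    exists_normal_stage (C := C) (A := A) (hF.toFinset.biUnion fun b => (S b).image Prod.fst)
  let B' := A' ⊗[C] B₀
  let j₀ : B' →ₐ[C] A ⊗[C] B₀ := Algebra.TensorProduct.map ι (AlgHom.id C B₀)
  let j : B' →+* B := e.symm.toRingEquiv.toRingHom.comp j₀.toRingHom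
  have hj : Function.Injective j :=
    e.symm.injective.comp (Module.Flat.rTensor_preserves_injective_linearMap ι.toLinearMap hι)
  let q' : PrimeSpectrum B' := PrimeSpectrum.comap j q
  refine ⟨B', inferInstance, j, q'.asIdeal, inferInstance, hj, rfl, fun b hb => ?_, ?_⟩
  · have hpre : ∀ x ∈ S b, ∃ a', ι a' = x.1 := fun x hx => hrange (Finset.mem_coe.mpr
      (Finset.mem_biUnion.mpr ⟨b, hF.mem_toFinset.mpr hb, Finset.mem_image_of_mem _ hx⟩))
    choose a' ha' using hpre
    refine ⟨∑ x ∈ (S b).attach, a' x.1 x.2 ⊗ₜ x.1.2, ?_⟩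
    apply e.injective
    show e (e.symm (j₀ _)) = e b
    rw [e.apply_symm_apply, hS b, map_sum, ← Finset.sum_attach (S b)]
    exact Finset.sum_congr rfl fun x _ => by rw [Algebra.TensorProduct.map_tmul, ha']; rfl
  · haveI : Algebra.FiniteType A' B' := inferInstance
    haveI : Module.Flat A' B' := inferInstance
    refine normal_localization_of_flat_ng A' B' q' ?_
    have h1 : IsPushout (CommRingCat.ofHom ι.toRingHom) (CommRingCat.ofHom (algebraMap A' B'))
        (CommRingCat.ofHom (algebraMap A B)) (CommRingCat.ofHom j) := by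
      refine IsPushout.of_left (h₁₁ := CommRingCat.ofHom (algebraMap C A')) ?_ ?_
        (CommRingCat.isPushout_tensorProduct C A' B₀)
      · refine (CommRingCat.isPushout_tensorProduct C A B₀).of_iso (Iso.refl _) (Iso.refl _) (Iso.refl _)
          e.symm.toRingEquiv.toCommRingCatIso ?_ ?_ ?_ ?_
        · ext x; exact (ι.commutes x).symm
        · simp
        · ext x; exact e.symm.commutes x
        · ext x
          show e.symm (1 ⊗ₜ x) = e.symm (Algebra.TensorProduct.map ι (AlgHom.id C B₀) (1 ⊗ₜ x))
          rw [Algebra.TensorProduct.map_tmul, map_one, AlgHom.id_apply]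
      · ext x
        show algebraMap A B (ι x) = e.symm (Algebra.TensorProduct.map ι (AlgHom.id C B₀) (x ⊗ₜ 1))
        rw [Algebra.TensorProduct.map_tmul, AlgHom.id_apply]
        exact (e.symm.commutes _).symm
    exact (ng_iff_of_isPullback _ (isPullback_SpecMap_of_isPushout _ _ _ _ h1.flip) q).mp hq

/-- Normality ascends at flat points with geometrically normal fibre, over a normal domain. -/
theorem normalStalk_of_flat_ng (A B : Type u) [CommRing A] [IsDomain A] [IsIntegrallyClosed A]
    [CommRing B] [Algebra A B] [Algebra.FinitePresentation A B] (q : PrimeSpectrum B)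
    (hflat : ((Spec.map (CommRingCat.ofHom (algebraMap A B))).stalkMap q).hom.Flat)
    (hq : NG (Spec.map (CommRingCat.ofHom (algebraMap A B))) q) :
    IsDomain (Localization.AtPrime q.asIdeal) ∧ IsIntegrallyClosed (Localization.AtPrime q.asIdeal) := by
  let f := Spec.map (CommRingCat.ofHom (algebraMap A B))
  haveI : LocallyOfFinitePresentation f := by
    rw [HasRingHomProperty.Spec_iff (P := @LocallyOfFinitePresentation)]
    exact RingHom.finitePresentation_algebraMap.mpr inferInstance
  obtain ⟨_, ⟨_, ⟨s, rfl⟩, rfl⟩, hqs, hsub⟩ :=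
    PrimeSpectrum.isBasis_basic_opens.exists_subset_of_mem_open hflat (S0386.result f)
  let Bs := Localization.Away s
  haveI : Algebra.FinitePresentation A Bs :=
    haveI : Algebra.FinitePresentation B Bs := IsLocalization.Away.finitePresentation s
    Algebra.FinitePresentation.trans A B Bs
  let g : Spec (CommRingCat.of Bs) ⟶ Spec (CommRingCat.of B) := Spec.map (CommRingCat.ofHom (algebraMap B Bs))
  haveI : IsOpenImmersion g := IsOpenImmersion.of_isLocalization s
  have hgf : Spec.map (CommRingCat.ofHom (algebraMap A Bs)) = g ≫ f := by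
    rw [← Spec.map_comp]; rfl
  haveI : Flat (g ≫ f) := by
    rw [Flat.iff_flat_stalkMap]
    intro a
    have h1 : (g.base a) ∈ {x | (f.stalkMap x).hom.Flat} := hsub (by
      show s ∉ Ideal.comap (algebraMap B Bs) a.asIdeal
      exact fun h => a.isPrime.ne_top (Ideal.eq_top_of_isUnit_mem _ h (IsLocalization.Away.algebraMap_isUnit s)))
    rw [Scheme.Hom.stalkMap_comp]
    exact RingHom.Flat.comp h1 (RingHom.Flat.of_bijective (asIso (g.stalkMap a)).commRingCatIsoToRingEquiv.bijective)
  haveI : Module.Flat A Bs := by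
    have h := ‹Flat (g ≫ f)›
    rw [← hgf, HasRingHomProperty.Spec_iff (P := @Flat)] at h
    exact RingHom.flat_algebraMap_iff.mp h
  have hq' : q ∈ Set.range g.base := by
    change q ∈ Set.range (PrimeSpectrum.comap (algebraMap B Bs))
    rw [PrimeSpectrum.localization_away_comap_range Bs s]
    exact hqs
  obtain ⟨q', hq'q⟩ := hq'
  have h2 : NG (g ≫ f) q' := (ng_comp_iff f g q').mpr (hq'q ▸ hq)
  rw [← hgf] at h2
  obtain ⟨_, _⟩ := normal_localization_of_flat_fp A Bs q' h2
  subst hq'q
  let ε := (IsLocalization.localizationLocalizationAtPrimeIsoLocalization (M := Submonoid.powers s)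
    q'.asIdeal).toRingEquiv
  exact ⟨ε.toMulEquiv.isDomain _, IsIntegrallyClosed.of_equiv ε.symm⟩

end Groth.Agent.E4O
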