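import Groth.Agent.E4O.GeomNormalAbs
import Groth.Agent.EGA4H10.NormalFlat

/-!
Normality ascends along flat algebras of finite type over a Noetherian normal domain, at a point where the
fibre is geometrically normal.
-/

set_option autoImplicit false
set_option linter.style.haveILetI false

universe u

open CategoryTheory AlgebraicGeometry IsLocalRing TensorProduct

namespace Groth.Agent.E4O

/-- The local rings of the fibres of a localisation. -/
theorem fibLocRing_localization {A B : Type u} [CommRing A] [CommRing B] [Algebra A B] (M : Submonoid B)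
    (r : Ideal (Localization M)) [r.IsPrime] :
    Nonempty (EGA4.FibLocRing A B (r.comap (algebraMap B (Localization M))) ≃+*
      EGA4.FibLocRing A (Localization M) r) := by
  let r0 := r.comap (algebraMap B (Localization M))
  let e := (IsLocalization.localizationLocalizationAtPrimeIsoLocalization (M := M) r).restrictScalars A
  refine ⟨Ideal.quotientEquiv _ _ e.toRingEquiv ?_⟩
  rw [Ideal.map_map, Ideal.comap_comap, ← IsScalarTower.algebraMap_eq]
  congr 1
  exact (AlgHom.comp_algebraMap e.toAlgHom).symm

/-- The local ring of a fibre is the localisation of the fibre ring at the prime over the given one. -/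
theorem exists_fiber_prime_equiv {A B : Type u} [CommRing A] [CommRing B] [Algebra A B] (q : Ideal B) [q.IsPrime] :
    ∃ Q : PrimeSpectrum ((q.comap (algebraMap A B)).Fiber B),
      Q.asIdeal.comap (Algebra.TensorProduct.includeRight : B →ₐ[A] (q.comap (algebraMap A B)).Fiber B) = q ∧
      Nonempty (Localization.AtPrime Q.asIdeal ≃+* EGA4.FibLocRing A B q) := by
  let p := q.comap (algebraMap A B)
  let s : PrimeSpectrum.comap (algebraMap A B) ⁻¹' {(⟨p, inferInstance⟩ : PrimeSpectrum A)} :=
    ⟨⟨q, inferInstance⟩, rfl⟩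
  let Q := PrimeSpectrum.preimageEquivFiber A B ⟨p, inferInstance⟩ s
  have hQ : Q.asIdeal.comap (Algebra.TensorProduct.includeRight : B →ₐ[A] p.Fiber B) = q :=
    congrArg (fun x => x.1.asIdeal) ((PrimeSpectrum.preimageEquivFiber A B ⟨p, inferInstance⟩).left_inv s)
  refine ⟨Q, hQ, ?_⟩
  haveI : (Q.asIdeal.comap (Algebra.TensorProduct.includeRight : B →ₐ[A] p.Fiber B)).LiesOver p :=
    ⟨by rw [hQ]⟩
  letI := Localization.AtPrime.algebraOfLiesOver p
    (Q.asIdeal.comap (Algebra.TensorProduct.includeRight : B →ₐ[A] p.Fiber B))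
  have e0 := (Ideal.Fiber.localizationAlgEquivQuotient p Q.asIdeal).toRingEquiv
  have key : ∀ (r : Ideal B) [r.IsPrime], r = q →
      Nonempty ((Localization.AtPrime r ⧸ p.map (algebraMap A (Localization.AtPrime r))) ≃+* EGA4.FibLocRing A B q) := by
    intro r _ hr
    subst hr
    exact ⟨RingEquiv.refl _⟩
  obtain ⟨e1⟩ := key _ hQ
  exact ⟨e0.trans e1⟩

theorem normal_localization_of_flat_ng (A B : Type u) [CommRing A] [IsDomain A] [IsIntegrallyClosed A]
    [IsNoetherianRing A] [CommRing B] [Algebra A B] [Algebra.FiniteType A B] [Module.Flat A B]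
    (q : PrimeSpectrum B) (hq : NG (Spec.map (CommRingCat.ofHom (algebraMap A B))) q) :
    IsDomain (Localization.AtPrime q.asIdeal) ∧ IsIntegrallyClosed (Localization.AtPrime q.asIdeal) := by
  haveI : IsNoetherianRing B := Algebra.FiniteType.isNoetherianRing A B
  haveI : Algebra.FinitePresentation A B := Algebra.FinitePresentation.of_finiteType.mp inferInstance
  let f := Spec.map (CommRingCat.ofHom (algebraMap A B))
  haveI : LocallyOfFinitePresentation f := by
    rw [HasRingHomProperty.Spec_iff (P := @LocallyOfFinitePresentation)]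
    exact RingHom.finitePresentation_algebraMap.mpr inferInstance
  haveI : Flat f := by
    rw [HasRingHomProperty.Spec_iff (P := @Flat)]
    exact (RingHom.flat_algebraMap_iff).mpr inferInstance
  let L := Localization.AtPrime q.asIdeal
  haveI : IsNoetherianRing L := IsLocalization.isNoetherianRing q.asIdeal.primeCompl _ inferInstance
  haveI : Module.Flat A L := Module.Flat.trans A B L
  have hfib : ∀ (r : Ideal L) [r.IsPrime],
      IsDomain (EGA4.FibLocRing A L r) ∧ IsIntegrallyClosed (EGA4.FibLocRing A L r) := by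
    intro r _
    let r0 : PrimeSpectrum B := ⟨r.comap (algebraMap B L), inferInstance⟩
    have hle : r0 ≤ q := by
      intro b hb
      by_contra hbq
      exact Ideal.IsPrime.ne_top ‹_› (Ideal.eq_top_of_isUnit_mem r hb
        (IsLocalization.map_units L (⟨b, hbq⟩ : q.asIdeal.primeCompl)))
    have hr0 : NG f r0 :=
      (((PrimeSpectrum.le_iff_specializes r0 q).mp hle).mem_open (isOpen_flat_ng f)
        ⟨Flat.stalkMap f q, hq⟩).2
    obtain ⟨e⟩ := fibLocRing_localization (A := A) q.asIdeal.primeCompl r
    obtain ⟨Q, hQ, ⟨e'⟩⟩ := exists_fiber_prime_equiv (A := A) r0.asIdeal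
    let p := r0.asIdeal.comap (algebraMap A B)
    let K := p.ResidueField
    let c : (B ⊗[A] K) ≃ₐ[A] p.Fiber B := Algebra.TensorProduct.comm A B K
    let Q' : Ideal (B ⊗[A] K) := Q.asIdeal.comap c.toRingEquiv.toRingHom
    haveI : Q'.IsPrime := Ideal.comap_isPrime _ _
    obtain ⟨_, _⟩ := hr0.normalAt K Q' (by
      rw [Ideal.comap_comap]
      refine Eq.trans ?_ hQ
      congr 1
      )
    let ε : Localization.AtPrime Q' ≃+* Localization.AtPrime Q.asIdeal :=
      Localization.localRingEquiv Q' Q.asIdeal c.toRingEquiv rfl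
    let δ := (ε.trans e').trans e
    exact ⟨δ.symm.toMulEquiv.isDomain _, IsIntegrallyClosed.of_equiv δ⟩
  obtain ⟨hd, hi⟩ := EGA4H10.normal_of_domain A ((maximalIdeal L).comap (algebraMap A L))
  obtain ⟨hd', hi'⟩ := EGA4H10.normal_localization_of_flat A L hfib (maximalIdeal L) hd hi
  let ε := (IsLocalization.atUnits L (maximalIdeal L).primeCompl (S := Localization.AtPrime (maximalIdeal L))
    (fun x hx => notMem_maximalIdeal.mp hx)).toRingEquiv
  exact ⟨ε.toMulEquiv.isDomain _, IsIntegrallyClosed.of_equiv ε.symm⟩

end Groth.Agent.E4O
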