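import Groth.Agent.E4O.OpenMapDims

/-!
Generic points of components of the base, and the set of component dimensions of a fibre.
-/

universe u

open CategoryTheory AlgebraicGeometry TopologicalSpace Topology

namespace Groth.Agent.E4O

variable {X Y : Scheme.{u}}

/-- Every point is a specialization of the generic point of an irreducible component. -/
theorem exists_component_generic_specializes (z : Y) :
    ∃ η : Y, η ⤳ z ∧ closure {η} ∈ irreducibleComponents (Y : Type u) := by
  obtain ⟨η, hη⟩ := QuasiSober.sober (isIrreducible_irreducibleComponent (x := z))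
    isClosed_irreducibleComponent
  refine ⟨η, specializes_iff_mem_closure.2 ?_, ?_⟩
  · rw [show closure {η} = irreducibleComponent z from hη]
    exact mem_irreducibleComponent
  · rw [show closure {η} = irreducibleComponent z from hη]
    exact irreducibleComponent_mem_irreducibleComponents z

variable (f : X ⟶ Y) [LocallyOfFiniteType f]

/-- The dimensions of the components of a fibre are its local fibre dimensions. -/
theorem image_dim_components_eq (z : Y) :
    (fun Z : Set ↥(f.fiber z) => topologicalKrullDim ↥Z) '' irreducibleComponents ↥(f.fiber z) =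
      (fun d : ℕ => ((d : ℕ) : WithBot ℕ∞)) '' fibreDims f z := by
  ext c
  constructor
  · rintro ⟨Z, hZ, rfl⟩
    obtain ⟨w, -, hmax, hd⟩ := exists_of_mem_irreducibleComponents_fiber f hZ
    exact ⟨_, ⟨_, apply_fiberι f z w, fibreDimAt_eq_fdeg hmax⟩, hd.symm⟩
  · rintro ⟨d, ⟨x, rfl, hd⟩, rfl⟩
    obtain ⟨w, -, hfw, hmax, hdw, -⟩ := exists_isFibreMax_specializes f x
    obtain ⟨Z, hZ, hZd⟩ := exists_component_of_isFibreMax f hfw hmax
    exact ⟨Z, hZ, hZd.trans (hdw.symm.trans hd)⟩

/-- The image of the points whose fibre dimension avoids a finite set is locally constructible. -/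
theorem isLocallyConstructible_image_notMem [IsLocallyNoetherian Y] [QuasiCompact f] {F : Set ℕ}
    (hF : F.Finite) :
    IsLocallyConstructible (f '' {x | ∀ d ∈ F, FlatMor.fibreDimAt f x ≠ (d : ℕ)}) := by
  have : LocallyOfFinitePresentation f := locallyOfFinitePresentation_of_isLocallyNoetherian f
  have : IsLocallyNoetherian X := LocallyOfFiniteType.isLocallyNoetherian f
  refine f.isLocallyConstructible_image ?_
  have h : {x | ∀ d ∈ F, FlatMor.fibreDimAt f x ≠ (d : ℕ)} =
      (⋃ d ∈ F, {x | FlatMor.fibreDimAt f x ≤ (d : ℕ)} ∩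
        {x | FlatMor.fibreDimAt f x < (d : ℕ)}ᶜ)ᶜ := by
    ext x
    simp only [Set.mem_compl_iff, Set.mem_iUnion, Set.mem_inter_iff, Set.mem_ofPred_eq, not_exists,
      not_lt, ← le_antisymm_iff]
  rw [h]
  exact isLocallyConstructible_compl (IsLocallyConstructible.biUnion hF fun d _ =>
    (isLocallyConstructible_of_isOpen' (isOpen_fibreDimAt_le f _)).inter
      (isLocallyConstructible_compl (isLocallyConstructible_of_isOpen' (isOpen_fibreDimAt_lt f _))))

end Groth.Agent.E4O
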