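import Groth.Agent.Approx60.ChowMain
import Groth.Agent.Approx60.Segre
import Groth.Agent.LimTop61.DvrDense
import Groth.Agent.E4O.DvrCrit
import Mathlib.AlgebraicGeometry.ValuativeCriterion
import Mathlib.AlgebraicGeometry.Morphisms.Proper
import Mathlib.AlgebraicGeometry.Morphisms.Immersion

/-!
EGA IV 15.7.5: properness near a point from lifts over discrete valuation rings centred at that point.
-/

set_option autoImplicit false
set_option linter.style.haveILetI false

universe u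

open CategoryTheory CategoryTheory.Limits AlgebraicGeometry TopologicalSpace

namespace Groth.Agent.E4O.ProperAt

/-- An immersion lifts morphisms from reduced schemes with image in its range. -/
theorem exists_lift_reduced {X Y T : Scheme.{u}} (f : Y ⟶ X) [IsImmersion f] [IsReduced T] (g : T ⟶ X)
    (h : Set.range g ⊆ Set.range f) : ∃ l : T ⟶ Y, l ≫ f = g := by
  haveI hs : Surjective (pullback.snd f g) := ⟨fun t => by
    obtain ⟨y, hy⟩ := h ⟨t, rfl⟩
    obtain ⟨z, -, hz⟩ := Scheme.Pullback.exists_preimage_pullback y t hy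
    exact ⟨z, hz⟩⟩
  haveI : IsClosedImmersion (pullback.snd f g) :=
    IsClosedImmersion.of_isPreimmersion _ (by rw [hs.surj.range_eq]; exact isClosed_univ)
  haveI := isIso_of_isClosedImmersion_of_surjective (pullback.snd f g)
  exact ⟨inv (pullback.snd f g) ≫ pullback.fst f g, by
    rw [Category.assoc, pullback.condition, IsIso.inv_hom_id_assoc]⟩

/-- The points of the spectrum of a local ring map into every neighbourhood of the image of the closed point. -/
theorem range_subset_opens {Y : Scheme.{u}} {A : Type u} [CommRing A] [IsLocalRing A]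
    (g : Spec (CommRingCat.of A) ⟶ Y) {V : Y.Opens} (h : g (IsLocalRing.closedPoint A) ∈ V) :
    Set.range g ⊆ V := by
  rintro _ ⟨p, rfl⟩
  exact ((IsLocalRing.specializes_closedPoint p).map g.continuous).mem_open V.2 h

/-- Lifts exist, at the maximal points, for the traits centred at a point. -/
def LiftsAt {C Y : Scheme.{u}} (f : C ⟶ Y) (y : Y) : Prop :=
  ∀ η : C, (∀ z : C, z ⤳ η → z = η) →
    ∀ (L : Type u) [Field L] (A : ValuationSubring L), IsDiscreteValuationRing A →
      ∀ (g : Spec (CommRingCat.of A) ⟶ Y) (k : Spec (CommRingCat.of L) ⟶ C),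
        g (IsLocalRing.closedPoint A) = y → k (IsLocalRing.closedPoint L) = η →
        k ≫ f = Spec.map (CommRingCat.ofHom (algebraMap A L)) ≫ g →
        ∃ l : Spec (CommRingCat.of A) ⟶ C, l ≫ f = g ∧
          Spec.map (CommRingCat.ofHom (algebraMap A L)) ≫ l = k

theorem LiftsAt.restrict {C Y : Scheme.{u}} {f : C ⟶ Y} {y : Y} (H : LiftsAt f y) {V : Y.Opens} (hy : y ∈ V) :
    LiftsAt (f ∣_ V) ⟨y, hy⟩ := by
  intro η hη L _ A hA g k hg hk hkg
  have hmax : ∀ z : C, z ⤳ (f ⁻¹ᵁ V).ι η → z = (f ⁻¹ᵁ V).ι η := by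
    intro z hz
    have hzV : z ∈ f ⁻¹ᵁ V := hz.mem_open (f ⁻¹ᵁ V).2 η.2
    exact congrArg Subtype.val (hη ⟨z, hzV⟩ ((subtype_specializes_iff _ _).2 hz))
  obtain ⟨l, hl, hl'⟩ := H _ hmax L A hA (g ≫ V.ι) (k ≫ (f ⁻¹ᵁ V).ι)
    (by rw [Scheme.Hom.comp_apply, hg]; rfl) (by rw [Scheme.Hom.comp_apply, hk])
    (by rw [Category.assoc, ← morphismRestrict_ι, reassoc_of% hkg])
  refine ⟨(isPullback_morphismRestrict f V).lift g l hl.symm, IsPullback.lift_fst _ _ _ _, ?_⟩
  refine (cancel_mono (f ⁻¹ᵁ V).ι).1 ?_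
  rw [Category.assoc, IsPullback.lift_snd, hl']

theorem of_restrict_eq {X Y : Scheme.{u}} {a b : X ⟶ Y} (h : a = b) (V : Y.Opens)
    (ha : UniversallyClosed (a ∣_ V)) : UniversallyClosed (b ∣_ V) := by
  subst h
  exact ha

set_option maxHeartbeats 800000 in
/-- The Noetherian case. -/
theorem exists_nhd_of_noetherian {C S : Scheme.{u}} [IsNoetherian S] (f : C ⟶ S) [IsSeparated f]
    [LocallyOfFiniteType f] [QuasiCompact f] (y : S) (H : LiftsAt f y) :
    ∃ V : S.Opens, y ∈ V ∧ IsProper (f ∣_ V) := by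
  classical
  obtain ⟨n, X', π, j, hj, hjq, hπ, hπs, U, hU, hiso⟩ := Approx60.Chow.chow_noetherian f
  let q := CohB1.ProjSpaceOver.toBase n S
  haveI : IsProper q := Approx60.Segre.isProper_toBase n S
  haveI := hj
  haveI := hπ
  haveI := hπs
  haveI : CompactSpace C := QuasiCompact.compactSpace_of_compactSpace f
  haveI : IsLocallyNoetherian C := LocallyOfFiniteType.isLocallyNoetherian f
  haveI : IsNoetherian C := {}
  haveI : IsLocallyNoetherian X' := LocallyOfFiniteType.isLocallyNoetherian π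
  haveI : CompactSpace X' := QuasiCompact.compactSpace_of_compactSpace π
  haveI : IsNoetherian X' := {}
  haveI : IsLocallyNoetherian (CohB1.ProjSpaceOver n S) := LocallyOfFiniteType.isLocallyNoetherian q
  let D : Set ↥(CohB1.ProjSpaceOver n S) := closure (j '' (π ⁻¹ᵁ U : Set X'))
  obtain ⟨O, K, hO, hK, hOK⟩ := j.isLocallyClosed_range
  have hDK : D ⊆ K := closure_minimal ((Set.image_subset_range _ _).trans (hOK ▸ Set.inter_subset_right)) hK
  have hBO : D \ Set.range j = D \ O := by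
    ext p
    rw [hOK]
    exact ⟨fun ⟨h1, h2⟩ => ⟨h1, fun h => h2 ⟨h, hDK h1⟩⟩, fun ⟨h1, h2⟩ => ⟨h1, fun h => h2 h.1⟩⟩
  have hB : IsClosed (D \ Set.range j) := hBO ▸ isClosed_closure.sdiff hO
  by_cases hy : y ∈ q '' (D \ Set.range j)
  · exfalso
    obtain ⟨b, ⟨hbD, hbj⟩, rfl⟩ := hy
    haveI : CompactSpace ↥(π ⁻¹ᵁ U : X'.Opens) :=
      isCompact_iff_compactSpace.1 (NoetherianSpace.isCompact _)
    haveI : QuasiCompact ((π ⁻¹ᵁ U).ι ≫ j) := inferInstance
    have hb' : b ∈ closure (Set.range ((π ⁻¹ᵁ U).ι ≫ j)) := by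
      rw [Scheme.Hom.comp_base, TopCat.coe_comp, Set.range_comp, Scheme.Opens.range_ι]
      exact hbD
    obtain ⟨_, ⟨u, rfl⟩, hub⟩ := (LimTop61.isConsClosed_range ((π ⁻¹ᵁ U).ι ≫ j)).exists_specializes hb'
    obtain ⟨η₁, hη₁, hη₁u⟩ := LimTop61.exists_generic_specializes u
    have hmax₁ : ∀ z, z ⤳ η₁ → z = η₁ := fun z hz => hz.antisymm (by
      have : closure {z} = closure {η₁} := hη₁.eq_of_ge isIrreducible_singleton.closure
        (closure_minimal (Set.singleton_subset_iff.2 hz.mem_closure) isClosed_closure)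
      exact specializes_iff_mem_closure.2 (this ▸ subset_closure rfl)) |>.eq
    let c : X' := (π ⁻¹ᵁ U).ι η₁
    have hcb : j c ⤳ b := by
      have := (hη₁u.map ((π ⁻¹ᵁ U).ι ≫ j).continuous).trans hub
      rwa [Scheme.Hom.comp_apply] at this
    have hne : j c ≠ b := fun h => hbj ⟨c, h⟩
    haveI := hiso
    have hmax : ∀ z : C, z ⤳ π c → z = π c := by
      intro z hz
      have hc : π c ∈ U := η₁.2
      have hzU : z ∈ U := hz.mem_open U.2 hc
      obtain ⟨z', hz'⟩ := (π ∣_ U).surjective ⟨z, hzU⟩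
      have h1 : (π ∣_ U) η₁ = ⟨π c, hc⟩ := Subtype.ext (morphismRestrict_base_coe π U η₁)
      have h2 : (π ∣_ U) z' ⤳ (π ∣_ U) η₁ := by
        rw [hz', h1]
        exact (subtype_specializes_iff _ _).2 hz
      have h3 : z' ⤳ η₁ := (π ∣_ U).homeomorph.isInducing.specializes_iff.1 h2
      rw [hmax₁ z' h3, h1] at hz'
      exact (congrArg Subtype.val hz').symm
    let L : Type u := (CohB1.ProjSpaceOver n S).residueField (j c)
    obtain ⟨A, hA, g, hg1, hg2, hg3⟩ := exists_dvr_hom hcb hne L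
      ⟨{}, by rw [Finset.coe_empty, IntermediateField.adjoin_empty]; exact Subsingleton.elim _ _⟩
    haveI := hA
    haveI : IsIso (j.residueFieldMap c) := by
      haveI : IsPreimmersion j := inferInstance
      exact (ConcreteCategory.isIso_iff_bijective _).2 ⟨(j.residueFieldMap c).hom.injective,
        fun z => by
          obtain ⟨z, rfl⟩ := X'.residue_surjective c z
          obtain ⟨w, rfl⟩ := j.stalkMap_surjective c z
          exact ⟨(CohB1.ProjSpaceOver n S).residue (j c) w,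
            ConcreteCategory.congr_hom (Scheme.residue_residueFieldMap j c) w⟩⟩
    let kX : Spec (CommRingCat.of L) ⟶ X' := inv (Spec.map (j.residueFieldMap c)) ≫ X'.fromSpecResidueField c
    have hkX : kX ≫ j = Spec.map (CommRingCat.ofHom (algebraMap A L)) ≫ g := by
      rw [hg3]
      show (inv (Spec.map (j.residueFieldMap c)) ≫ X'.fromSpecResidueField c) ≫ j = _
      rw [Category.assoc, ← Scheme.Hom.SpecMap_residueFieldMap_fromSpecResidueField, IsIso.inv_hom_id_assoc]
      rw [show CommRingCat.ofHom (algebraMap L L) = 𝟙 (CommRingCat.of L) from rfl, Spec.map_id, Category.id_comp]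
    have hkc : kX (IsLocalRing.closedPoint L) = c := by
      show (inv (Spec.map (j.residueFieldMap c)) ≫ X'.fromSpecResidueField c) _ = c
      rw [Scheme.Hom.comp_apply]
      exact Scheme.fromSpecResidueField_apply _ _
    obtain ⟨l, hl, hl'⟩ := H (π c) hmax L A hA (g ≫ q) (kX ≫ π)
      (by rw [Scheme.Hom.comp_apply, hg1]) (by rw [Scheme.Hom.comp_apply, hkc])
      (by rw [Category.assoc, ← hjq, reassoc_of% hkX])
    have hex : ValuativeCriterion.Existence π := by
      have h : UniversallyClosed π := inferInstance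
      rw [UniversallyClosed.eq_valuativeCriterion] at h
      exact h.1
    obtain ⟨⟨⟨l', hl'1, hl'2⟩⟩⟩ := hex
      { R := A, K := L, i₁ := kX, i₂ := l, commSq := ⟨hl'.symm⟩ }
    have he : l' ≫ j = g := by
      refine LimTop61.hom_ext_of_isSeparated q A _ _ ?_ ?_
      · show Spec.map (CommRingCat.ofHom (algebraMap A L)) ≫ l' ≫ j = _
        rw [reassoc_of% hl'1, hkX]
        rfl
      · rw [Category.assoc, hjq, reassoc_of% hl'2, hl]
    refine hbj ⟨l' (IsLocalRing.closedPoint A), ?_⟩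
    rw [← hg1, ← he, Scheme.Hom.comp_apply]
  · let Vs : S.Opens := ⟨(q '' (D \ Set.range j))ᶜ, (q.isClosedMap _ hB).isOpen_compl⟩
    refine ⟨Vs, hy, ?_⟩
    let XD : Closeds X' := ⟨j ⁻¹' D, isClosed_closure.preimage j.continuous⟩
    let ι := (Scheme.IdealSheafData.vanishingIdeal XD).subschemeι
    have hι : Set.range ι = j ⁻¹' D := by
      rw [Scheme.IdealSheafData.range_subschemeι, Scheme.IdealSheafData.coe_support_vanishingIdeal]
      rfl
    haveI : IsClosedImmersion ((ι ≫ j) ∣_ (q ⁻¹ᵁ Vs)) := by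
      refine IsClosedImmersion.of_isPreimmersion _ ?_
      have : Set.range ((ι ≫ j) ∣_ (q ⁻¹ᵁ Vs)) = (q ⁻¹ᵁ Vs).ι ⁻¹' D := by
        ext p
        constructor
        · rintro ⟨z, rfl⟩
          show (q ⁻¹ᵁ Vs).ι (((ι ≫ j) ∣_ (q ⁻¹ᵁ Vs)) z) ∈ D
          rw [← Scheme.Hom.comp_apply, morphismRestrict_ι, Scheme.Hom.comp_apply, Scheme.Hom.comp_apply]
          have : ι (((ι ≫ j) ⁻¹ᵁ (q ⁻¹ᵁ Vs)).ι z) ∈ j ⁻¹' D := hι ▸ Set.mem_range_self _
          exact this
        · intro h
          obtain ⟨w, hw⟩ : (q ⁻¹ᵁ Vs).ι p ∈ Set.range j := by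
            by_contra hp
            exact p.2 ⟨p.1, ⟨h, hp⟩, rfl⟩
          obtain ⟨z, hz⟩ : w ∈ Set.range ι := by
            rw [hι]
            show j w ∈ D
            exact hw.symm ▸ h
          have hzp : (ι ≫ j) z = (q ⁻¹ᵁ Vs).ι p := by rw [Scheme.Hom.comp_apply, hz, hw]
          refine ⟨⟨z, show (ι ≫ j) z ∈ q ⁻¹ᵁ Vs from hzp ▸ p.2⟩, Subtype.ext ?_⟩
          exact (morphismRestrict_base_coe (ι ≫ j) (q ⁻¹ᵁ Vs) _).trans hzp
      rw [this]
      exact isClosed_closure.preimage (q ⁻¹ᵁ Vs).ι.continuous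
    haveI : IsProper (q ∣_ Vs) := IsZariskiLocalAtTarget.restrict ‹IsProper q› _
    haveI : UniversallyClosed (((ι ≫ j) ≫ q) ∣_ Vs) := by
      rw [morphismRestrict_comp]
      have h1 : UniversallyClosed ((ι ≫ j) ∣_ (q ⁻¹ᵁ Vs)) := inferInstance
      exact MorphismProperty.comp_mem @UniversallyClosed _ _ h1 inferInstance
    haveI : Surjective (ι ≫ π) := ⟨by
      rw [← Set.range_eq_univ, Scheme.Hom.comp_base, TopCat.coe_comp, Set.range_comp, hι]
      refine top_le_iff.1 ?_
      refine le_of_eq_of_le hU.closure_eq.symm (closure_minimal ?_ (π.isClosedMap _ XD.2))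
      intro p hp
      obtain ⟨p', rfl⟩ := π.surjective p
      exact ⟨p', subset_closure ⟨p', hp, rfl⟩, rfl⟩⟩
    haveI : Surjective ((ι ≫ π) ∣_ (f ⁻¹ᵁ Vs)) :=
      IsZariskiLocalAtTarget.restrict ‹Surjective (ι ≫ π)› _
    haveI : UniversallyClosed ((ι ≫ π) ∣_ (f ⁻¹ᵁ Vs) ≫ (f ∣_ Vs)) := by
      rw [← morphismRestrict_comp]
      exact of_restrict_eq (show (ι ≫ j) ≫ q = (ι ≫ π) ≫ f by rw [Category.assoc, Category.assoc, hjq]) Vs inferInstance
    haveI : UniversallyClosed (f ∣_ Vs) := UniversallyClosed.of_comp_surjective ((ι ≫ π) ∣_ (f ⁻¹ᵁ Vs)) (f ∣_ Vs)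
    exact { }

/-- Properness near a point from lifts at maximal points for traits centred at that point. -/
theorem exists_nhd {C Y : Scheme.{u}} [IsLocallyNoetherian Y] (f : C ⟶ Y) [IsSeparated f]
    [LocallyOfFiniteType f] [QuasiCompact f] (y : Y) (H : LiftsAt f y) :
    ∃ U : Y.Opens, y ∈ U ∧ IsProper (f ∣_ U) := by
  obtain ⟨V, hV, hyV, -⟩ := exists_isAffineOpen_mem_and_subset (X := Y) (x := y) (U := ⊤) trivial
  haveI : IsAffine (V : Scheme.{u}) := hV
  haveI : IsNoetherian (V : Scheme.{u}) := {}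
  obtain ⟨W, hW, hprop⟩ := exists_nhd_of_noetherian (f ∣_ V) ⟨y, hyV⟩ (H.restrict hyV)
  refine ⟨V.ι ''ᵁ W, ⟨⟨y, hyV⟩, hW, rfl⟩, ?_⟩
  exact (MorphismProperty.arrow_mk_iso_iff @IsProper (morphismRestrictRestrict f V W)).1 hprop

end Groth.Agent.E4O.ProperAt
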