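import Groth.Agent.SchBasics.Reduced
import Mathlib.AlgebraicGeometry.Morphisms.Proper
import Mathlib.AlgebraicGeometry.Morphisms.FlatDescent
import Mathlib.AlgebraicGeometry.Morphisms.Flat
import Mathlib.AlgebraicGeometry.Fiber
import Mathlib.AlgebraicGeometry.IdealSheaf.Subscheme

/-!
Sets which are proper over a point or over an open of the base, and their behaviour under base change.
-/

set_option autoImplicit false
set_option linter.style.haveILetI false

universe u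

open CategoryTheory CategoryTheory.Limits AlgebraicGeometry TopologicalSpace

namespace Groth.Agent.E4O

variable {X Y X' Y' : Scheme.{u}}

/-- `Z ∩ f⁻¹(y)` is the image of a proper `κ(y)`-scheme. -/
def ProperTrace (f : X ⟶ Y) (Z : Set X) (y : Y) : Prop :=
  ∃ (T : Scheme.{u}) (a : T ⟶ X) (b : T ⟶ Spec (Y.residueField y)),
    IsProper b ∧ a ≫ f = b ≫ Y.fromSpecResidueField y ∧ Set.range a = Z ∩ f ⁻¹' {y}

/-- `Z ∩ f⁻¹(U)` is the image of a proper `U`-scheme. -/
def ProperOn (f : X ⟶ Y) (Z : Set X) (U : Y.Opens) : Prop :=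
  ∃ (T : Scheme.{u}) (a : T ⟶ X) (b : T ⟶ U),
    IsProper b ∧ a ≫ f = b ≫ U.ι ∧ Set.range a = Z ∩ f ⁻¹' U

/-- Below a universally closed cover of a closed subscheme, the subscheme is universally closed. -/
theorem universallyClosed_of_range_le {F S T C : Scheme.{u}} (q : F ⟶ S) (a : T ⟶ F)
    [UniversallyClosed (a ≫ q)] (c : C ⟶ F) [IsClosedImmersion c] (h : Set.range c ⊆ Set.range a) :
    UniversallyClosed (c ≫ q) := by
  haveI : Surjective (pullback.snd a c) := ⟨fun x => by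
    obtain ⟨t, ht⟩ := h ⟨x, rfl⟩
    obtain ⟨z, -, hz⟩ := Scheme.Pullback.exists_preimage_pullback t x ht
    exact ⟨z, hz⟩⟩
  haveI : UniversallyClosed (pullback.snd a c ≫ c ≫ q) := by
    rw [← Category.assoc, ← pullback.condition, Category.assoc]
    infer_instance
  exact UniversallyClosed.of_comp_surjective (pullback.snd a c) _

/-- Cancelling a monomorphism from the bottom of a pullback square. -/
theorem isPullback_of_mono {P A B S S' : Scheme.{u}} {p : P ⟶ A} {q : P ⟶ B} {a : A ⟶ S} {b : B ⟶ S}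
    {m : S ⟶ S'} [Mono m] (h : IsPullback p q (a ≫ m) (b ≫ m)) : IsPullback p q a b := by
  have w : p ≫ a = q ≫ b := (cancel_mono m).1 (by rw [Category.assoc, Category.assoc, h.w])
  refine IsPullback.of_isLimit' ⟨w⟩ (PullbackCone.IsLimit.mk _
    (fun s => h.lift s.fst s.snd (by rw [reassoc_of% s.condition])) (fun s => h.lift_fst _ _ _)
    (fun s => h.lift_snd _ _ _) fun s r h₁ h₂ => h.hom_ext (by rw [h.lift_fst]; exact h₁)
      (by rw [h.lift_snd]; exact h₂))

theorem properTrace_of_isProper (f : X ⟶ Y) (Z : Set X) (y : Y) (hop : IsOpen ((f.fiberι y) ⁻¹' Z))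
    (h : IsProper (Scheme.Opens.ι (⟨(f.fiberι y) ⁻¹' Z, hop⟩ : (f.fiber y).Opens) ≫
      f.fiberToSpecResidueField y)) : ProperTrace f Z y := by
  refine ⟨_, Scheme.Opens.ι (⟨(f.fiberι y) ⁻¹' Z, hop⟩ : (f.fiber y).Opens) ≫ f.fiberι y, _, h, ?_, ?_⟩
  · rw [Category.assoc, Category.assoc]
    exact congrArg (_ ≫ ·) pullback.condition
  · rw [Scheme.Hom.comp_base, TopCat.coe_comp, Set.range_comp, Scheme.Opens.range_ι]
    exact Set.image_preimage_eq_inter_range.trans (by rw [Scheme.Hom.range_fiberι])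

/-- Base change of proper traces. -/
theorem ProperTrace.baseChange {f : X ⟶ Y} {Z : Set X} {f' : X' ⟶ Y'} {eX : X' ⟶ X} {π : Y' ⟶ Y}
    (hsq : IsPullback eX f' f π) {y' : Y'} {y : Y} (hy : π y' = y) (H : ProperTrace f Z y) :
    ProperTrace f' (eX ⁻¹' Z) y' := by
  subst hy
  obtain ⟨T, a, b, hb, hab, hr⟩ := H
  let w₁ := pullback.fst f' (Y'.fromSpecResidueField y')
  let w₂ := pullback.snd f' (Y'.fromSpecResidueField y')
  let c := w₁ ≫ eX
  refine ⟨pullback a c, pullback.snd a c ≫ w₁, pullback.snd a c ≫ w₂, ?_, ?_, ?_⟩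
  · have h1 : IsPullback c w₂ f (Y'.fromSpecResidueField y' ≫ π) :=
      (IsPullback.of_hasPullback f' (Y'.fromSpecResidueField y')).paste_horiz hsq
    have h2 : IsPullback (pullback.fst a c) (pullback.snd a c ≫ w₂) (a ≫ f)
        (Y'.fromSpecResidueField y' ≫ π) := (IsPullback.of_hasPullback a c).paste_vert h1
    rw [hab, ← Scheme.Hom.SpecMap_residueFieldMap_fromSpecResidueField] at h2
    exact MorphismProperty.of_isPullback (isPullback_of_mono h2) hb
  · rw [Category.assoc, Category.assoc, pullback.condition]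
  · rw [Scheme.Hom.comp_base, TopCat.coe_comp, Set.range_comp, Scheme.Pullback.range_snd, hr]
    ext x
    constructor
    · rintro ⟨w, hw, rfl⟩
      refine ⟨hw.1, ?_⟩
      show f' (w₁ w) = y'
      rw [← Scheme.Hom.comp_apply, pullback.condition, Scheme.Hom.comp_apply]
      exact Scheme.fromSpecResidueField_apply _ _
    · rintro ⟨hx, hx'⟩
      obtain ⟨w, hw, -⟩ := Scheme.Pullback.exists_preimage_pullback (f := f')
        (g := Y'.fromSpecResidueField y') x (IsLocalRing.closedPoint _)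
        (hx'.trans (Scheme.fromSpecResidueField_apply _ _).symm)
      refine ⟨w, ⟨?_, ?_⟩, hw⟩
      · show eX (w₁ w) ∈ Z
        rw [hw]; exact hx
      · show f (eX (w₁ w)) = π y'
        rw [hw, ← Scheme.Hom.comp_apply, hsq.w, Scheme.Hom.comp_apply, show f' x = y' from hx']

/-- A closed part of a proper trace is a proper trace. -/
theorem ProperTrace.of_isClosed {f : X ⟶ Y} {Z Z' : Set X} {y : Y} (H : ProperTrace f Z y)
    (hle : Z' ∩ f ⁻¹' {y} ⊆ Z) (hc : IsClosed ((f.fiberι y) ⁻¹' Z')) : ProperTrace f Z' y := by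
  obtain ⟨T, a, b, hb, hab, hr⟩ := H
  let a₀ : T ⟶ f.fiber y := pullback.lift a b hab
  let C : Closeds ↥(f.fiber y) := ⟨_, hc⟩
  let i := (Scheme.IdealSheafData.vanishingIdeal C).subschemeι
  have ha₀ : a₀ ≫ f.fiberι y = a := pullback.lift_fst _ _ _
  refine ⟨pullback a₀ i, pullback.fst a₀ i ≫ a, pullback.fst a₀ i ≫ b, inferInstance, ?_, ?_⟩
  · rw [Category.assoc, Category.assoc, hab]
  · rw [Scheme.Hom.comp_base, TopCat.coe_comp, Set.range_comp, Scheme.Pullback.range_fst,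
      SchBasics.range_vanishingIdeal_subschemeι]
    ext x
    constructor
    · rintro ⟨t, ht, rfl⟩
      refine ⟨?_, (hr.le ⟨t, rfl⟩).2⟩
      show a t ∈ Z'
      rw [← ha₀, Scheme.Hom.comp_apply]
      exact ht
    · rintro hx
      obtain ⟨t, rfl⟩ := hr.ge ⟨hle hx, hx.2⟩
      refine ⟨t, ?_, rfl⟩
      show f.fiberι y (a₀ t) ∈ Z'
      rw [← Scheme.Hom.comp_apply, ha₀]
      exact hx.1

/-- Proper traces descend along a base change, for sets closed in their fibre. -/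
theorem ProperTrace.descend {f : X ⟶ Y} [IsSeparated f] [LocallyOfFiniteType f] {Z : Set X} {f' : X' ⟶ Y'}
    {eX : X' ⟶ X} {π : Y' ⟶ Y} (hsq : IsPullback eX f' f π) {y' : Y'} {y : Y} (hy : π y' = y)
    (hc : IsClosed ((f.fiberι y) ⁻¹' Z)) (H : ProperTrace f' (eX ⁻¹' Z) y') : ProperTrace f Z y := by
  subst hy
  obtain ⟨T, a, b, hb, hab, hr⟩ := H
  haveI : IsSeparated (f.fiberToSpecResidueField (π y')) :=
    MorphismProperty.pullback_snd (P := @IsSeparated) _ _ inferInstance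
  haveI : LocallyOfFiniteType (f.fiberToSpecResidueField (π y')) :=
    MorphismProperty.pullback_snd (P := @LocallyOfFiniteType) _ _ inferInstance
  let C : Closeds ↥(f.fiber (π y')) := ⟨_, hc⟩
  let i := (Scheme.IdealSheafData.vanishingIdeal C).subschemeι
  let w₁ : f'.fiber y' ⟶ X' := f'.fiberι y'
  let w₂ : f'.fiber y' ⟶ Spec (Y'.residueField y') := f'.fiberToSpecResidueField y'
  let φ := Spec.map (π.residueFieldMap y')
  have hw : (w₁ ≫ eX) ≫ f = (w₂ ≫ φ) ≫ Y.fromSpecResidueField (π y') := by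
    rw [Category.assoc, hsq.w, Category.assoc, Scheme.Hom.SpecMap_residueFieldMap_fromSpecResidueField,
      ← Category.assoc, show w₁ ≫ f' = w₂ ≫ Y'.fromSpecResidueField y' from pullback.condition, Category.assoc]
  let k : f'.fiber y' ⟶ f.fiber (π y') := pullback.lift (w₁ ≫ eX) (w₂ ≫ φ) hw
  have hk₁ : k ≫ f.fiberι (π y') = w₁ ≫ eX := pullback.lift_fst _ _ _
  have hk : IsPullback k w₂ (f.fiberToSpecResidueField (π y')) φ := by
    have h1 : IsPullback (w₁ ≫ eX) w₂ f (φ ≫ Y.fromSpecResidueField (π y')) := by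
      rw [Scheme.Hom.SpecMap_residueFieldMap_fromSpecResidueField]
      exact (IsPullback.of_hasPullback f' (Y'.fromSpecResidueField y')).paste_horiz hsq
    exact IsPullback.of_right (by rw [← hk₁] at h1; exact h1) (pullback.lift_snd _ _ _)
      (IsPullback.of_hasPullback f (Y.fromSpecResidueField (π y')))
  have h2 : IsPullback (pullback.fst i k) (pullback.snd i k ≫ w₂)
      (i ≫ f.fiberToSpecResidueField (π y')) φ := (IsPullback.of_hasPullback i k).paste_vert hk
  let a₀ : T ⟶ f'.fiber y' := pullback.lift a b hab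
  have ha₀ : a₀ ≫ w₂ = b := pullback.lift_snd _ _ _
  have huca : UniversallyClosed (a₀ ≫ w₂) := by rw [ha₀]; infer_instance
  have huc : UniversallyClosed (pullback.snd i k ≫ w₂) := by
    refine @universallyClosed_of_range_le _ _ _ _ w₂ a₀ huca (pullback.snd i k) inferInstance ?_
    rw [Scheme.Pullback.range_snd, SchBasics.range_vanishingIdeal_subschemeι]
    intro q hq
    have hqZ : eX (w₁ q) ∈ Z := by
      rw [← Scheme.Hom.comp_apply, ← hk₁, Scheme.Hom.comp_apply]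
      exact hq
    obtain ⟨t, ht⟩ := hr.ge (show w₁ q ∈ eX ⁻¹' Z ∩ f' ⁻¹' {y'} from
      ⟨hqZ, (f'.range_fiberι y').le ⟨q, rfl⟩⟩)
    refine ⟨t, (f'.fiberι y').isEmbedding.injective ?_⟩
    refine Eq.trans ?_ ht
    rw [← Scheme.Hom.comp_apply]
    exact congrArg (fun l => l t) (pullback.lift_fst a b hab)
  have hφ : (@Surjective ⊓ @Flat ⊓ @QuasiCompact : MorphismProperty Scheme.{u}) φ := by
    refine ⟨⟨⟨fun p => ⟨IsLocalRing.closedPoint (Y'.residueField y'), Subsingleton.elim _ _⟩⟩, ?_⟩,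
      inferInstance⟩
    rw [HasRingHomProperty.Spec_iff (P := @Flat)]
    algebraize [(π.residueFieldMap y').hom]
    exact (RingHom.flat_algebraMap_iff (R := Y.residueField (π y')) (S := Y'.residueField y')).mpr inferInstance
  haveI : UniversallyClosed (i ≫ f.fiberToSpecResidueField (π y')) :=
    MorphismProperty.of_isPullback_of_descendsAlong (P := @UniversallyClosed) h2.flip hφ huc
  refine ⟨_, i ≫ f.fiberι (π y'), i ≫ f.fiberToSpecResidueField (π y'), { }, ?_, ?_⟩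
  · rw [Category.assoc, Category.assoc]
    exact congrArg (_ ≫ ·) pullback.condition
  · rw [Scheme.Hom.comp_base, TopCat.coe_comp, Set.range_comp, SchBasics.range_vanishingIdeal_subschemeι]
    exact Set.image_preimage_eq_inter_range.trans (by rw [Scheme.Hom.range_fiberι])

/-- The trace of a set proper over an open. -/
theorem ProperOn.trace {f : X ⟶ Y} {Z : Set X} {U : Y.Opens} (H : ProperOn f Z U) {y : Y} (hy : y ∈ U) :
    ProperTrace f Z y := by
  obtain ⟨T, a, b, hb, hab, hr⟩ := H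
  have hrange : Set.range (Y.fromSpecResidueField y) ⊆ Set.range U.ι := by
    rw [Scheme.range_fromSpecResidueField, Scheme.Opens.range_ι, Set.singleton_subset_iff]
    exact hy
  let j := IsOpenImmersion.lift U.ι (Y.fromSpecResidueField y) hrange
  have hj : j ≫ U.ι = Y.fromSpecResidueField y := IsOpenImmersion.lift_fac _ _ _
  refine ⟨pullback b j, pullback.fst b j ≫ a, pullback.snd b j, inferInstance, ?_, ?_⟩
  · rw [Category.assoc, hab, pullback.condition_assoc, hj]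
  · rw [Scheme.Hom.comp_base, TopCat.coe_comp, Set.range_comp, Scheme.Pullback.range_fst]
    have hja : ∀ t, U.ι (b t) = f (a t) := fun t => by
      rw [← Scheme.Hom.comp_apply, ← hab, Scheme.Hom.comp_apply]
    ext x
    constructor
    · rintro ⟨t, ⟨o, ho⟩, rfl⟩
      refine ⟨(hr.le ⟨t, rfl⟩).1, ?_⟩
      show f (a t) = y
      rw [← hja, ← ho, ← Scheme.Hom.comp_apply, hj]
      exact Scheme.fromSpecResidueField_apply _ _
    · rintro ⟨hxZ, hxy : f x = y⟩
      obtain ⟨t, rfl⟩ := hr.ge ⟨hxZ, show f x ∈ U from hxy ▸ hy⟩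
      refine ⟨t, ⟨IsLocalRing.closedPoint _, U.ι.isOpenEmbedding.injective ?_⟩, rfl⟩
      rw [hja, hxy, ← Scheme.Hom.comp_apply, hj]
      exact Scheme.fromSpecResidueField_apply _ _

/-- A set proper over an open is closed there and proper with its reduced structure. -/
theorem ProperOn.isProper {f : X ⟶ Y} [IsSeparated f] [LocallyOfFiniteType f] {Z : Set X} {U : Y.Opens}
    (H : ProperOn f Z U) :
    ∃ hC : IsClosed ((f ⁻¹ᵁ U).ι ⁻¹' Z),
      IsProper ((Scheme.IdealSheafData.vanishingIdeal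
        (⟨(f ⁻¹ᵁ U).ι ⁻¹' Z, hC⟩ : Closeds ↥(f ⁻¹ᵁ U))).subschemeι ≫ (f ∣_ U)) := by
  obtain ⟨T, a, b, hb, hab, hr⟩ := H
  let a₁ := IsOpenImmersion.lift (f ⁻¹ᵁ U).ι a (by
    rw [Scheme.Opens.range_ι, hr]; exact fun _ h => h.2)
  have ha₁ : a₁ ≫ (f ⁻¹ᵁ U).ι = a := IsOpenImmersion.lift_fac _ _ _
  have hb₁ : a₁ ≫ (f ∣_ U) = b := by
    rw [← cancel_mono U.ι, Category.assoc, morphismRestrict_ι, reassoc_of% ha₁, hab]
  haveI : UniversallyClosed (a₁ ≫ (f ∣_ U)) := by rw [hb₁]; infer_instance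
  haveI : IsSeparated (f ∣_ U) :=
    MorphismProperty.of_isPullback (P := @IsSeparated) (isPullback_morphismRestrict f U).flip inferInstance
  haveI : UniversallyClosed a₁ := UniversallyClosed.of_comp_of_isSeparated a₁ (f ∣_ U)
  have hr₁ : Set.range a₁ = (f ⁻¹ᵁ U).ι ⁻¹' Z := by
    ext p
    constructor
    · rintro ⟨t, rfl⟩
      show (f ⁻¹ᵁ U).ι (a₁ t) ∈ Z
      rw [← Scheme.Hom.comp_apply, ha₁]
      exact (hr.le ⟨t, rfl⟩).1
    · intro hp
      obtain ⟨t, ht⟩ := hr.ge ⟨hp, p.2⟩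
      refine ⟨t, (f ⁻¹ᵁ U).ι.isOpenEmbedding.injective ?_⟩
      rw [← Scheme.Hom.comp_apply, ha₁, ht]
  have hC : IsClosed ((f ⁻¹ᵁ U).ι ⁻¹' Z) := hr₁ ▸ a₁.isClosedMap.isClosed_range
  refine ⟨hC, ?_⟩
  let i := (Scheme.IdealSheafData.vanishingIdeal
    (X := ((f ⁻¹ᵁ U : X.Opens) : Scheme.{u})) ⟨(f ⁻¹ᵁ U).ι ⁻¹' Z, hC⟩).subschemeι
  haveI huc : UniversallyClosed (i ≫ (f ∣_ U)) := universallyClosed_of_range_le (f ∣_ U) a₁ i
    (by rw [SchBasics.range_vanishingIdeal_subschemeι, hr₁]; exact le_rfl)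
  have hp : IsProper (i ≫ (f ∣_ U)) := ⟨⟩
  exact hp

/-- The converse of `ProperOn.isProper`. -/
theorem properOn_of_isProper (f : X ⟶ Y) (Z : Set X) (U : Y.Opens) (hC : IsClosed ((f ⁻¹ᵁ U).ι ⁻¹' Z))
    (h : IsProper ((Scheme.IdealSheafData.vanishingIdeal
        (⟨(f ⁻¹ᵁ U).ι ⁻¹' Z, hC⟩ : Closeds ↥(f ⁻¹ᵁ U))).subschemeι ≫ (f ∣_ U))) : ProperOn f Z U := by
  refine ⟨_, (Scheme.IdealSheafData.vanishingIdeal (X := ((f ⁻¹ᵁ U : X.Opens) : Scheme.{u}))
    ⟨(f ⁻¹ᵁ U).ι ⁻¹' Z, hC⟩).subschemeι ≫ (f ⁻¹ᵁ U).ι, _, h, ?_, ?_⟩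
  · exact (Category.assoc _ _ _).trans ((congrArg (_ ≫ ·) (morphismRestrict_ι f U).symm).trans
      (Category.assoc _ _ _).symm)
  · rw [Scheme.Hom.comp_base, TopCat.coe_comp, Set.range_comp, SchBasics.range_vanishingIdeal_subschemeι]
    exact Set.image_preimage_eq_inter_range.trans (by rw [Scheme.Opens.range_ι]; rfl)

theorem ProperOn.mono {f : X ⟶ Y} {Z : Set X} {U V : Y.Opens} (H : ProperOn f Z U) (hle : V ≤ U) :
    ProperOn f Z V := by
  obtain ⟨T, a, b, hb, hab, hr⟩ := H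
  refine ⟨pullback b (Y.homOfLE hle), pullback.fst _ _ ≫ a, pullback.snd _ _, inferInstance, ?_, ?_⟩
  · rw [Category.assoc, hab, pullback.condition_assoc, Scheme.homOfLE_ι]
  · rw [Scheme.Hom.comp_base, TopCat.coe_comp, Set.range_comp, Scheme.Pullback.range_fst]
    have hja : ∀ t, U.ι (b t) = f (a t) := fun t => by
      rw [← Scheme.Hom.comp_apply, ← hab, Scheme.Hom.comp_apply]
    ext x
    constructor
    · rintro ⟨t, ⟨o, ho⟩, rfl⟩
      refine ⟨(hr.le ⟨t, rfl⟩).1, ?_⟩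
      show f (a t) ∈ V
      rw [← hja, ← ho, ← Scheme.Hom.comp_apply, Scheme.homOfLE_ι]
      exact o.2
    · rintro ⟨hxZ, hxV : f x ∈ V⟩
      obtain ⟨t, rfl⟩ := hr.ge ⟨hxZ, hle hxV⟩
      refine ⟨t, ⟨⟨f (a t), hxV⟩, U.ι.isOpenEmbedding.injective ?_⟩, rfl⟩
      rw [hja, ← Scheme.Hom.comp_apply, Scheme.homOfLE_ι]
      rfl

/-- Base change of sets proper over an open. -/
theorem ProperOn.baseChange {f : X ⟶ Y} {Z : Set X} {U : Y.Opens} (H : ProperOn f Z U) {f' : X' ⟶ Y'}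
    {eX : X' ⟶ X} {π : Y' ⟶ Y} (hsq : IsPullback eX f' f π) :
    ProperOn f' (eX ⁻¹' Z) (π ⁻¹ᵁ U) := by
  obtain ⟨T, a, b, hb, hab, hr⟩ := H
  have hmem : ∀ t, f' (pullback.snd a eX t) ∈ π ⁻¹ᵁ U := fun t => by
    show π (f' _) ∈ U
    rw [← Scheme.Hom.comp_apply f', ← hsq.w, Scheme.Hom.comp_apply,
      show eX (pullback.snd a eX t) = a (pullback.fst a eX t) by
        rw [← Scheme.Hom.comp_apply, ← pullback.condition, Scheme.Hom.comp_apply]]
    exact (hr.le ⟨_, rfl⟩).2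
  let b' := IsOpenImmersion.lift (π ⁻¹ᵁ U).ι (pullback.snd a eX ≫ f') (by
    rintro _ ⟨t, rfl⟩
    rw [Scheme.Opens.range_ι]
    exact hmem t)
  have hb' : b' ≫ (π ⁻¹ᵁ U).ι = pullback.snd a eX ≫ f' := IsOpenImmersion.lift_fac _ _ _
  refine ⟨pullback a eX, pullback.snd a eX, b', ?_, hb'.symm, ?_⟩
  · have h1 : IsPullback (pullback.fst a eX) (pullback.snd a eX ≫ f') (a ≫ f) π :=
      (IsPullback.of_hasPullback a eX).paste_vert hsq
    rw [hab, ← hb'] at h1
    have h2 : IsPullback (pullback.fst a eX) b' b (π ∣_ U) := by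
      refine IsPullback.of_bot h1 ?_ (isPullback_morphismRestrict π U)
      rw [← cancel_mono U.ι, Category.assoc, Category.assoc, morphismRestrict_ι, h1.w, Category.assoc]
    exact MorphismProperty.of_isPullback h2 hb
  · rw [Scheme.Pullback.range_snd, hr]
    ext x
    simp only [Set.preimage_inter, Set.mem_inter_iff, Set.mem_preimage]
    rw [← Scheme.Hom.comp_apply, hsq.w, Scheme.Hom.comp_apply]
    rfl

/-- Sets proper over an open of an open of the base. -/
theorem ProperOn.of_restrict {f : X ⟶ Y} {Z : Set X} {V : Y.Opens} {U : (V : Scheme.{u}).Opens}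
    (H : ProperOn (f ∣_ V) ((f ⁻¹ᵁ V).ι ⁻¹' Z) U) : ProperOn f Z (V.ι ''ᵁ U) := by
  obtain ⟨T, a, b, hb, hab, hr⟩ := H
  refine ⟨T, a ≫ (f ⁻¹ᵁ V).ι, b ≫ (V.ι.isoImage U).hom, inferInstance, ?_, ?_⟩
  · rw [Category.assoc, Category.assoc, ← morphismRestrict_ι, reassoc_of% hab,
      Scheme.Hom.isoImage_hom_ι]
  · rw [Scheme.Hom.comp_base, TopCat.coe_comp, Set.range_comp, hr]
    ext x
    constructor
    · rintro ⟨p, hp, rfl⟩
      exact ⟨hp.1, ⟨_, hp.2, morphismRestrict_base_coe f V p⟩⟩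
    · rintro ⟨hxZ, ⟨v, hv, hvx⟩⟩
      have hxV : x ∈ f ⁻¹ᵁ V := by
        show f x ∈ V
        rw [← hvx]; exact v.2
      refine ⟨⟨x, hxV⟩, ⟨hxZ, ?_⟩, rfl⟩
      show (f ∣_ V) ⟨x, hxV⟩ ∈ U
      rwa [show (f ∣_ V) ⟨x, hxV⟩ = v from Subtype.ext ((morphismRestrict_base_coe f V _).trans hvx.symm)]

end Groth.Agent.E4O
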