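import Mathlib.Topology.Constructible
import Mathlib.Topology.JacobsonSpace
import Mathlib.Topology.NoetherianSpace
import Mathlib.Topology.Sets.Opens

universe u v

open TopologicalSpace Topology Set Set.Notation

namespace Groth.Agent.E4O

variable {X : Type u} {Y : Type v} [TopologicalSpace X] [TopologicalSpace Y]

/-- locally quasi-constructible -/
def IsLQC (Z : Set X) : Prop :=
  ∀ x : X, ∃ U : Set X, IsOpen U ∧ x ∈ U ∧
    ∃ T : Set (Set X), T.Finite ∧ (∀ t ∈ T, IsLocallyClosed t) ∧ U ∩ Z = ⋃₀ T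

/-- A set and its complement are unions of locally closed sets. -/
def IsLCClopen (Z : Set X) : Prop :=
  ∀ x : X, ∃ L, IsLocallyClosed L ∧ x ∈ L ∧ (L ⊆ Z ∨ L ⊆ Zᶜ)

/-- very dense: meets every nonempty locally closed set. -/
def IsVeryDense (S : Set X) : Prop := ∀ Z : Set X, IsLocallyClosed Z → Z.Nonempty → (Z ∩ S).Nonempty

theorem isLocallyClosed_univ : IsLocallyClosed (univ : Set X) := isOpen_univ.isLocallyClosed

theorem IsLCClopen.sublevel {Z : Set X} (h : IsLCClopen Z) {x : X} (hx : x ∈ Z) :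
    ∃ L, IsLocallyClosed L ∧ x ∈ L ∧ L ⊆ Z := by
  obtain ⟨L, h1, h2, h3 | h3⟩ := h x
  · exact ⟨L, h1, h2, h3⟩
  · exact absurd hx (h3 h2)

theorem IsLCClopen.compl {Z : Set X} (h : IsLCClopen Z) : IsLCClopen Zᶜ := by
  intro x
  obtain ⟨L, h1, h2, h3⟩ := h x
  exact ⟨L, h1, h2, by rw [compl_compl]; exact h3.symm⟩

theorem IsLCClopen.inter {Z Z' : Set X} (h : IsLCClopen Z) (h' : IsLCClopen Z') :
    IsLCClopen (Z ∩ Z') := by
  intro x
  obtain ⟨L, h1, h2, h3⟩ := h x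
  obtain ⟨M, g1, g2, g3⟩ := h' x
  refine ⟨L ∩ M, h1.inter g1, ⟨h2, g2⟩, ?_⟩
  rcases h3 with h3 | h3
  · rcases g3 with g3 | g3
    · exact Or.inl (inter_subset_inter h3 g3)
    · exact Or.inr fun y hy hy' => g3 hy.2 hy'.2
  · exact Or.inr fun y hy hy' => h3 hy.1 hy'.1

theorem isLCClopen_of_isOpen {U : Set X} (hU : IsOpen U) : IsLCClopen U := by
  intro x
  by_cases hx : x ∈ U
  · exact ⟨U, hU.isLocallyClosed, hx, Or.inl subset_rfl⟩
  · exact ⟨Uᶜ, hU.isClosed_compl.isLocallyClosed, hx, Or.inr subset_rfl⟩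

theorem isLCClopen_of_isLocallyClosed {Z : Set X} (h : IsLocallyClosed Z) : IsLCClopen Z := by
  obtain ⟨U, C, hU, hC, rfl⟩ := h
  exact (isLCClopen_of_isOpen hU).inter (compl_compl C ▸ (isLCClopen_of_isOpen hC.isOpen_compl).compl)

theorem IsLCClopen.union {Z Z' : Set X} (h : IsLCClopen Z) (h' : IsLCClopen Z') :
    IsLCClopen (Z ∪ Z') := by
  have := (h.compl.inter h'.compl).compl
  rwa [compl_inter, compl_compl, compl_compl] at this

theorem isLCClopen_sUnion {T : Set (Set X)} (hT : T.Finite) (h : ∀ t ∈ T, IsLCClopen t) :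
    IsLCClopen (⋃₀ T) := by
  induction T, hT using Set.Finite.induction_on with
  | empty =>
    rw [sUnion_empty]
    exact isLCClopen_of_isOpen isOpen_empty
  | @insert a S _ _ ih =>
    rw [sUnion_insert]
    exact (h a (Or.inl rfl)).union (ih fun t ht => h t (Or.inr ht))

theorem IsLQC.isLCClopen {Z : Set X} (h : IsLQC Z) : IsLCClopen Z := by
  intro x
  obtain ⟨U, hU, hxU, T, hT, hlc, heq⟩ := h x
  obtain ⟨L, h1, h2, h3⟩ := isLCClopen_sUnion hT (fun t ht => isLCClopen_of_isLocallyClosed (hlc t ht)) x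
  refine ⟨L ∩ U, h1.inter hU.isLocallyClosed, ⟨h2, hxU⟩, ?_⟩
  rw [← heq] at h3
  rcases h3 with h3 | h3
  · exact Or.inl fun y hy => (h3 hy.1).2
  · exact Or.inr fun y hy hy' => h3 hy.1 ⟨hy.2, hy'⟩

theorem isLQC_of_isLocallyClosed {Z : Set X} (h : IsLocallyClosed Z) : IsLQC Z :=
  fun _ => ⟨univ, isOpen_univ, mem_univ _, {Z}, finite_singleton _, by simpa using h, by simp⟩

theorem isLQC_of_qc {Z : Set X}
    (h : ∃ T : Set (Set X), T.Finite ∧ (∀ t ∈ T, IsLocallyClosed t) ∧ Z = ⋃₀ T) : IsLQC Z := by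
  obtain ⟨T, h1, h2, h3⟩ := h
  exact fun _ => ⟨univ, isOpen_univ, mem_univ _, T, h1, h2, by simp [h3]⟩

theorem IsLQC.inter_open {Z U : Set X} (h : IsLQC Z) (hU : IsOpen U) : IsLQC (U ∩ Z) := by
  intro x
  obtain ⟨W, hW, hxW, T, hT, hlc, heq⟩ := h x
  refine ⟨W, hW, hxW, (fun t => U ∩ t) '' T, hT.image _, ?_, ?_⟩
  · rintro _ ⟨t, ht, rfl⟩; exact hU.isLocallyClosed.inter (hlc t ht)
  · rw [inter_left_comm, heq, sUnion_image, sUnion_eq_biUnion, inter_iUnion₂]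

theorem IsVeryDense.subset_of_inter_subset {S Z Z' : Set X} (hS : IsVeryDense S)
    (hZ : IsLCClopen Z) (hZ' : IsLCClopen Z') (h : Z ∩ S ⊆ Z') : Z ⊆ Z' := by
  intro x hx
  by_contra hx'
  obtain ⟨L, h1, h2, h3⟩ := (hZ.inter hZ'.compl).sublevel ⟨hx, hx'⟩
  obtain ⟨y, hy, hyS⟩ := hS L h1 ⟨x, h2⟩
  exact (h3 hy).2 (h ⟨(h3 hy).1, hyS⟩)

theorem IsVeryDense.eq_of_inter_eq {S Z Z' : Set X} (hS : IsVeryDense S) (hZ : IsLCClopen Z)
    (hZ' : IsLCClopen Z') (h : Z ∩ S = Z' ∩ S) : Z = Z' :=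
  (hS.subset_of_inter_subset hZ hZ' (h ▸ inter_subset_left)).antisymm
    (hS.subset_of_inter_subset hZ' hZ (h ▸ inter_subset_left))

/-- quasi-homeomorphism, set form -/
structure IsQHomeo (f : X → Y) : Prop where
  inj : ∀ U₁ U₂ : Set Y, IsOpen U₁ → IsOpen U₂ → f ⁻¹' U₁ = f ⁻¹' U₂ → U₁ = U₂
  surj : ∀ V : Set X, IsOpen V → ∃ U : Set Y, IsOpen U ∧ f ⁻¹' U = V

theorem isQHomeo_of_bijective {f : X → Y} (hf : Continuous f)
    (hq : Function.Bijective (fun U : Opens Y => (⟨f ⁻¹' (U : Set Y), U.isOpen.preimage hf⟩ : Opens X))) :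
    IsQHomeo f where
  inj U₁ U₂ h₁ h₂ h := congrArg SetLike.coe (@hq.1 ⟨U₁, h₁⟩ ⟨U₂, h₂⟩ (Opens.ext h))
  surj V hV := by
    obtain ⟨U, hU⟩ := hq.2 ⟨V, hV⟩
    exact ⟨U, U.isOpen, congrArg SetLike.coe hU⟩

namespace IsQHomeo

variable {f : X → Y}

theorem isVeryDense_range (h : IsQHomeo f) : IsVeryDense (range f) := by
  rintro Z ⟨U, C, hU, hC, rfl⟩ ⟨y, hy⟩
  by_contra hne
  have h1 : f ⁻¹' U = f ⁻¹' (U ∩ Cᶜ) :=
    Set.ext fun x => ⟨fun hx => ⟨hx, fun hxC => hne ⟨f x, ⟨hx, hxC⟩, x, rfl⟩⟩, And.left⟩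
  exact ((h.inj _ _ hU (hU.inter hC.isOpen_compl) h1) ▸ hy.1 : y ∈ U ∩ Cᶜ).2 hy.2

theorem preimage_subset_iff (h : IsQHomeo f) {Z Z' : Set Y} (hZ : IsLCClopen Z)
    (hZ' : IsLCClopen Z') : f ⁻¹' Z ⊆ f ⁻¹' Z' ↔ Z ⊆ Z' := by
  refine ⟨fun hs => h.isVeryDense_range.subset_of_inter_subset hZ hZ' ?_, fun hs => preimage_mono hs⟩
  rintro _ ⟨hy, x, rfl⟩
  exact hs hy

theorem preimage_inj (h : IsQHomeo f) {Z Z' : Set Y} (hZ : IsLCClopen Z) (hZ' : IsLCClopen Z')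
    (he : f ⁻¹' Z = f ⁻¹' Z') : Z = Z' :=
  ((h.preimage_subset_iff hZ hZ').1 he.le).antisymm ((h.preimage_subset_iff hZ' hZ).1 he.ge)

theorem restrictPreimage (h : IsQHomeo f) {Y' : Set Y} (hY' : IsLCClopen Y') :
    IsQHomeo (Y'.restrictPreimage f) where
  inj U₁ U₂ h₁ h₂ he := by
    obtain ⟨W₁, hW₁, rfl⟩ := isOpen_induced_iff.1 h₁
    obtain ⟨W₂, hW₂, rfl⟩ := isOpen_induced_iff.1 h₂
    have hh : f ⁻¹' (W₁ ∩ Y') = f ⁻¹' (W₂ ∩ Y') := by
      ext x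
      constructor
      · rintro ⟨hx, hxY⟩
        exact ⟨(Set.ext_iff.1 he ⟨x, hxY⟩).1 hx, hxY⟩
      · rintro ⟨hx, hxY⟩
        exact ⟨(Set.ext_iff.1 he ⟨x, hxY⟩).2 hx, hxY⟩
    have := h.preimage_inj ((isLCClopen_of_isOpen hW₁).inter hY') ((isLCClopen_of_isOpen hW₂).inter hY') hh
    ext ⟨y, hy⟩
    exact ⟨fun hy₁ => ((Set.ext_iff.1 this y).1 ⟨hy₁, hy⟩).1,
      fun hy₂ => ((Set.ext_iff.1 this y).2 ⟨hy₂, hy⟩).1⟩
  surj V hV := by
    obtain ⟨W, hW, rfl⟩ := isOpen_induced_iff.1 hV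
    obtain ⟨U, hU, rfl⟩ := h.surj W hW
    exact ⟨Subtype.val ⁻¹' U, hU.preimage continuous_subtype_val, rfl⟩

/-- the order isomorphism of open subsets -/
noncomputable def opensIso (h : IsQHomeo f) (hf : Continuous f) : Opens Y ≃o Opens X :=
  RelIso.ofSurjective
    (OrderEmbedding.ofMapLEIff (fun U => (⟨f ⁻¹' (U : Set Y), U.isOpen.preimage hf⟩ : Opens X))
      fun U V => h.preimage_subset_iff (isLCClopen_of_isOpen U.isOpen) (isLCClopen_of_isOpen V.isOpen))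
    fun V => by
      obtain ⟨U, hU, hUV⟩ := h.surj V V.isOpen
      exact ⟨⟨U, hU⟩, Opens.ext hUV⟩

theorem coe_opensIso (h : IsQHomeo f) (hf : Continuous f) (U : Opens Y) :
    (h.opensIso hf U : Set X) = f ⁻¹' U := rfl

theorem noetherianSpace_iff (h : IsQHomeo f) (hf : Continuous f) :
    NoetherianSpace Y ↔ NoetherianSpace X := by
  constructor
  · intro hn
    exact StrictMono.wellFoundedGT (h.opensIso hf).symm.strictMono
  · intro hn
    exact StrictMono.wellFoundedGT (h.opensIso hf).strictMono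

theorem isCompact_preimage_open_iff (h : IsQHomeo f) (hf : Continuous f) {U : Set Y}
    (hU : IsOpen U) : IsCompact (f ⁻¹' U) ↔ IsCompact U := by
  constructor
  · intro hc
    refine isCompact_of_finite_subcover fun W hW hcov => ?_
    obtain ⟨t, ht⟩ := hc.elim_finite_subcover (fun i => f ⁻¹' W i)
      (fun i => (hW i).preimage hf) (by rw [← preimage_iUnion]; exact preimage_mono hcov)
    exact ⟨t, (h.preimage_subset_iff (isLCClopen_of_isOpen hU)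
      (isLCClopen_of_isOpen (isOpen_biUnion fun i _ => hW i))).1
      (by rw [preimage_iUnion₂]; exact ht)⟩
  · intro hc
    refine isCompact_of_finite_subcover fun W hW hcov => ?_
    choose W' hW' hWW using fun i => h.surj (W i) (hW i)
    obtain ⟨t, ht⟩ := hc.elim_finite_subcover W' hW'
      ((h.preimage_subset_iff (isLCClopen_of_isOpen hU) (isLCClopen_of_isOpen (isOpen_iUnion hW'))).1
        (by rw [preimage_iUnion]; simpa [hWW] using hcov))
    refine ⟨t, (preimage_mono ht).trans ?_⟩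
    rw [preimage_iUnion₂]
    simp [hWW]

theorem isCompact_preimage_iff (h : IsQHomeo f) (hf : Continuous f) {Y' : Set Y}
    (hY' : IsLCClopen Y') : IsCompact (f ⁻¹' Y') ↔ IsCompact Y' := by
  rw [isCompact_iff_isCompact_univ, isCompact_iff_isCompact_univ (s := Y')]
  exact (h.restrictPreimage hY').isCompact_preimage_open_iff hf.restrictPreimage isOpen_univ

theorem retrocompact_iff (h : IsQHomeo f) (hf : Continuous f) {Y' : Set Y} (hY' : IsLCClopen Y') :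
    IsRetrocompact Y' ↔ IsRetrocompact (f ⁻¹' Y') := by
  constructor
  · intro hr V hVc hV
    obtain ⟨U, hU, rfl⟩ := h.surj V hV
    rw [← preimage_inter, h.isCompact_preimage_iff hf (hY'.inter (isLCClopen_of_isOpen hU))]
    exact hr ((h.isCompact_preimage_open_iff hf hU).1 hVc) hU
  · intro hr U hUc hU
    rw [← h.isCompact_preimage_iff hf (hY'.inter (isLCClopen_of_isOpen hU))]
    exact hr ((h.isCompact_preimage_open_iff hf hU).2 hUc) (hU.preimage hf)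

theorem constructible_preimage (h : IsQHomeo f) (hf : Continuous f) {Z : Set Y}
    (hZ : IsConstructible Z) : IsConstructible (f ⁻¹' Z) :=
  hZ.preimage hf fun _ ho hr => (h.retrocompact_iff hf (isLCClopen_of_isOpen ho)).1 hr

end IsQHomeo

theorem isLCClopen_of_isConstructible {Z : Set X} (hZ : IsConstructible Z) : IsLCClopen Z := by
  induction hZ using IsConstructible.empty_union_induction with
  | open_retrocompact U hU _ => exact isLCClopen_of_isOpen hU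
  | union s hs t ht h1 h2 => exact h1.union h2
  | compl s hs h1 => exact h1.compl

theorem isLCClopen_of_isLocallyConstructible {Z : Set X} (hZ : IsLocallyConstructible Z) :
    IsLCClopen Z := by
  intro x
  obtain ⟨U, hxU, hU, hc⟩ := hZ x
  obtain ⟨L, h1, h2, h3⟩ := isLCClopen_of_isConstructible hc ⟨x, mem_of_mem_nhds hxU⟩
  refine ⟨Subtype.val '' L, h1.image IsEmbedding.subtypeVal.isInducing
    (by rw [Subtype.range_val]; exact hU.isLocallyClosed), ⟨_, h2, rfl⟩, ?_⟩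
  rcases h3 with h3 | h3
  · exact Or.inl (image_subset_iff.2 h3)
  · exact Or.inr (image_subset_iff.2 h3)

theorem IsQHomeo.exists_constructible {f : X → Y} (h : IsQHomeo f) (hf : Continuous f) {Z : Set X}
    (hZ : IsConstructible Z) : ∃ Z' : Set Y, IsConstructible Z' ∧ f ⁻¹' Z' = Z := by
  induction hZ using IsConstructible.empty_union_induction with
  | open_retrocompact V hV hr =>
    obtain ⟨U, hU, rfl⟩ := h.surj V hV
    exact ⟨U, ((h.retrocompact_iff hf (isLCClopen_of_isOpen hU)).2 hr).isConstructible hU, rfl⟩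
  | union s hs t ht h1 h2 =>
    obtain ⟨s', hs', rfl⟩ := h1
    obtain ⟨t', ht', rfl⟩ := h2
    exact ⟨s' ∪ t', hs'.union ht', preimage_union⟩
  | compl s hs h1 =>
    obtain ⟨s', hs', rfl⟩ := h1
    exact ⟨s'ᶜ, hs'.compl, preimage_compl⟩

theorem IsQHomeo.bijOn_locallyClosed {f : X → Y} (h : IsQHomeo f) (hf : Continuous f) :
    Set.BijOn (fun Z : Set Y => f ⁻¹' Z) {Z | IsLocallyClosed Z} {Z | IsLocallyClosed Z} := by
  refine ⟨fun Z hZ => IsLocallyClosed.preimage hZ hf, fun Z hZ Z' hZ' he =>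
    h.preimage_inj (isLCClopen_of_isLocallyClosed hZ) (isLCClopen_of_isLocallyClosed hZ') he, ?_⟩
  rintro _ ⟨U, C, hU, hC, rfl⟩
  obtain ⟨U', hU', rfl⟩ := h.surj U hU
  obtain ⟨C', hC', hCC⟩ := h.surj Cᶜ hC.isOpen_compl
  exact ⟨U' ∩ C'ᶜ, hU'.isLocallyClosed.inter hC'.isClosed_compl.isLocallyClosed, by
    simp [hCC]⟩

theorem IsQHomeo.bijOn_constructible {f : X → Y} (h : IsQHomeo f) (hf : Continuous f) :
    Set.BijOn (fun Z : Set Y => f ⁻¹' Z) {Z | IsConstructible Z} {Z | IsConstructible Z} :=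
  ⟨fun _ hZ => h.constructible_preimage hf hZ, fun _ hZ _ hZ' he =>
    h.preimage_inj (isLCClopen_of_isConstructible hZ) (isLCClopen_of_isConstructible hZ') he,
   fun _ hZ => h.exists_constructible hf hZ⟩

theorem IsQHomeo.bijOn_locallyConstructible {f : X → Y} (h : IsQHomeo f) (hf : Continuous f) :
    Set.BijOn (fun Z : Set Y => f ⁻¹' Z) {Z | IsLocallyConstructible Z}
      {Z | IsLocallyConstructible Z} := by
  refine ⟨fun Z hZ x => ?_, fun _ hZ _ hZ' he => h.preimage_inj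
    (isLCClopen_of_isLocallyConstructible hZ) (isLCClopen_of_isLocallyConstructible hZ') he, ?_⟩
  · obtain ⟨U, hxU, hU, hc⟩ := hZ (f x)
    exact ⟨f ⁻¹' U, hf.continuousAt.preimage_mem_nhds hxU, hU.preimage hf,
      (h.restrictPreimage (isLCClopen_of_isOpen hU)).constructible_preimage hf.restrictPreimage hc⟩
  intro Z hZ
  choose V hxV hV hc using hZ
  choose U hU hUV using fun x => h.surj (V x) (hV x)
  have hex : ∀ x, ∃ S : Set Y, S ⊆ U x ∧ IsConstructible (Subtype.val ⁻¹' S : Set ↥(U x)) ∧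
      f ⁻¹' S = V x ∩ Z := by
    intro x
    have hc' : IsConstructible (Subtype.val ⁻¹' Z : Set ↥(f ⁻¹' U x)) := by
      rw [hUV]; exact hc x
    obtain ⟨S, hS, hSZ⟩ :=
      (h.restrictPreimage (isLCClopen_of_isOpen (hU x))).exists_constructible hf.restrictPreimage hc'
    refine ⟨Subtype.val '' S, Subtype.coe_image_subset _ _, ?_, ?_⟩
    · rwa [preimage_image_eq _ Subtype.val_injective]
    · ext a
      constructor
      · rintro ⟨⟨b, hb⟩, hbS, rfl : b = f a⟩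
        exact ⟨hUV x ▸ hb, (Set.ext_iff.1 hSZ ⟨a, hb⟩).1 hbS⟩
      · rintro ⟨haV, haZ⟩
        have ha : f a ∈ U x := by
          have : a ∈ f ⁻¹' U x := (hUV x).symm ▸ haV
          exact this
        exact ⟨⟨f a, ha⟩, (Set.ext_iff.1 hSZ ⟨a, ha⟩).2 haZ, rfl⟩
  choose S hSU hSc hSZ using hex
  have hlc : ∀ x, IsLCClopen (S x) := by
    intro x y
    by_cases hy : y ∈ U x
    · obtain ⟨L, h1, h2, h3⟩ := isLCClopen_of_isConstructible (hSc x) ⟨y, hy⟩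
      refine ⟨Subtype.val '' L, h1.image IsEmbedding.subtypeVal.isInducing
        (by rw [Subtype.range_val]; exact (hU x).isLocallyClosed), ⟨_, h2, rfl⟩, ?_⟩
      rcases h3 with h3 | h3
      · exact Or.inl (image_subset_iff.2 h3)
      · exact Or.inr (image_subset_iff.2 h3)
    · exact ⟨(U x)ᶜ, (hU x).isClosed_compl.isLocallyClosed, hy,
        Or.inr (compl_subset_compl.2 (hSU x))⟩
  have hagree : ∀ x x', S x' ∩ U x ⊆ S x := by
    intro x x'
    refine (h.preimage_subset_iff ((hlc x').inter (isLCClopen_of_isOpen (hU x))) (hlc x)).1 ?_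
    rw [preimage_inter, hSZ, hSZ, hUV]
    exact fun a ha => ⟨ha.2, ha.1.2⟩
  have hcov : (⋃ x, U x) = univ := by
    refine h.inj _ _ (isOpen_iUnion hU) isOpen_univ ?_
    rw [preimage_iUnion, preimage_univ, eq_univ_iff_forall]
    exact fun x => mem_iUnion.2 ⟨x, (hUV x).symm ▸ mem_of_mem_nhds (hxV x)⟩
  refine ⟨⋃ x, S x, fun y => ?_, ?_⟩
  · obtain ⟨x, hx⟩ := mem_iUnion.1 (hcov.symm ▸ mem_univ y : y ∈ ⋃ x, U x)
    refine ⟨U x, (hU x).mem_nhds hx, hU x, ?_⟩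
    have : (U x ↓∩ ⋃ x', S x') = (U x ↓∩ S x) := by
      ext ⟨z, hz⟩
      simp only [mem_preimage, mem_iUnion]
      exact ⟨fun ⟨x', hx'⟩ => hagree x x' ⟨hx', hz⟩, fun hz' => ⟨x, hz'⟩⟩
    rw [this]; exact hSc x
  · ext a
    simp only [preimage_iUnion, hSZ, mem_iUnion]
    exact ⟨fun ⟨_, ha⟩ => ha.2, fun ha => ⟨a, mem_of_mem_nhds (hxV a), ha⟩⟩

theorem isQHomeo_of_restrictPreimage_cover {f : X → Y} {ι : Type*} (W : ι → Set Y)
    (hWo : ∀ i, IsOpen (W i)) (hWc : ⋃ i, W i = univ)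
    (h : ∀ i, IsQHomeo ((W i).restrictPreimage f)) : IsQHomeo f where
  inj U₁ U₂ h₁ h₂ he := by
    ext y
    obtain ⟨i, hi⟩ := mem_iUnion.1 (hWc.symm ▸ mem_univ y : y ∈ ⋃ i, W i)
    exact Set.ext_iff.1 ((h i).inj (Subtype.val ⁻¹' U₁) (Subtype.val ⁻¹' U₂)
      (h₁.preimage continuous_subtype_val) (h₂.preimage continuous_subtype_val)
      (Set.ext fun a => Set.ext_iff.1 he a.1)) ⟨y, hi⟩
  surj V hV := by
    choose U hU hUV using fun i => (h i).surj (Subtype.val ⁻¹' V) (hV.preimage continuous_subtype_val)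
    refine ⟨⋃ i, Subtype.val '' U i, isOpen_iUnion fun i => (hWo i).isOpenMap_subtype_val _ (hU i), ?_⟩
    ext x
    constructor
    · intro hx
      obtain ⟨i, ⟨y, hy⟩, hyU, rfl : y = f x⟩ := mem_iUnion.1 hx
      exact (Set.ext_iff.1 (hUV i) ⟨x, hy⟩).1 hyU
    · intro hx
      obtain ⟨i, hi⟩ := mem_iUnion.1 (hWc.symm ▸ mem_univ (f x) : f x ∈ ⋃ i, W i)
      exact mem_iUnion.2 ⟨i, ⟨f x, hi⟩, (Set.ext_iff.1 (hUV i) ⟨x, hi⟩).2 hx, rfl⟩

theorem closedPoint_iff_of_isLQC [JacobsonSpace X] {Z : Set X} (hZ : IsLCClopen Z) :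
    JacobsonSpace ↥Z ∧ ∀ z : ↥Z, IsClosed ({z} : Set ↥Z) ↔ IsClosed ({(z : X)} : Set X) := by
  have hiff : ∀ z : ↥Z, IsClosed ({z} : Set ↥Z) ↔ IsClosed ({(z : X)} : Set X) := by
    intro z
    constructor
    · intro hz
      obtain ⟨C, hC, hCz⟩ := isClosed_induced_iff.1 hz
      obtain ⟨L, h1, h2, h3⟩ := hZ.sublevel z.2
      have hzC : (z : X) ∈ C := Set.ext_iff.1 hCz z |>.2 rfl
      obtain ⟨w, ⟨hwL, hwC⟩, hw⟩ := nonempty_inter_closedPoints (Z := L ∩ C)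
        ⟨z, h2, hzC⟩ (h1.inter hC.isLocallyClosed)
      have := Set.ext_iff.1 hCz ⟨w, h3 hwL⟩ |>.1 hwC
      simp only [mem_singleton_iff] at this
      rwa [← this]
    · intro hz
      convert hz.preimage continuous_subtype_val using 1
      ext w
      simp [Subtype.ext_iff]
  refine ⟨⟨fun {C} hC => ?_⟩, hiff⟩
  refine (closure_minimal inter_subset_left hC).antisymm fun z hz => ?_
  rw [mem_closure_iff]
  intro O hO hzO
  obtain ⟨O', hO', rfl⟩ := isOpen_induced_iff.1 hO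
  obtain ⟨C', hC', rfl⟩ := isClosed_induced_iff.1 hC
  obtain ⟨L, h1, h2, h3⟩ := hZ.sublevel z.2
  obtain ⟨w, ⟨⟨hwO, hwC⟩, hwL⟩, hw⟩ := nonempty_inter_closedPoints (Z := (O' ∩ C') ∩ L)
    ⟨z, ⟨hzO, hz⟩, h2⟩ ((hO'.isLocallyClosed.inter hC'.isLocallyClosed).inter h1)
  exact ⟨⟨w, h3 hwL⟩, hwO, hwC, (hiff ⟨w, h3 hwL⟩).2 hw⟩

theorem exists_isLQC_trace {S : Set X} (hS : IsVeryDense S) (Z₀ : Set ↥S) (hZ₀ : IsLQC Z₀) :
    ∃ Z : Set X, IsLQC Z ∧ Subtype.val ⁻¹' Z = Z₀ := by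
  have hex : ∀ x : ↥S, ∃ U : Set X, IsOpen U ∧ (x : X) ∈ U ∧ ∃ T : Set (Set X), T.Finite ∧
      (∀ t ∈ T, IsLocallyClosed t) ∧
      ∀ z : ↥S, (z : X) ∈ U ∩ ⋃₀ T ↔ ((z : X) ∈ U ∧ z ∈ Z₀) := by
    intro x
    obtain ⟨U₀, hU₀, hxU, T₀, hT, hlc, heq⟩ := hZ₀ x
    obtain ⟨U, hU, rfl⟩ := isOpen_induced_iff.1 hU₀
    have hl : ∀ t : ↥T₀, ∃ L : Set X, IsLocallyClosed L ∧ Subtype.val ⁻¹' L = t.1 := by
      intro t
      obtain ⟨A, B, hA, hB, hAB⟩ := hlc t.1 t.2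
      obtain ⟨A', hA', rfl⟩ := isOpen_induced_iff.1 hA
      obtain ⟨B', hB', rfl⟩ := isClosed_induced_iff.1 hB
      exact ⟨A' ∩ B', ⟨A', B', hA', hB', rfl⟩, by rw [hAB]; rfl⟩
    choose L hL hLt using hl
    haveI := hT.to_subtype
    refine ⟨U, hU, hxU, range L, finite_range L, forall_mem_range.2 hL, fun z => ?_⟩
    have e := Set.ext_iff.1 heq z
    simp only [mem_inter_iff, mem_preimage, mem_sUnion] at e
    constructor
    · rintro ⟨hzU, _, ⟨t, rfl⟩, hzt⟩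
      exact ⟨hzU, (e.2 ⟨t.1, t.2, hLt t ▸ hzt⟩).2⟩
    · rintro ⟨hzU, hz⟩
      obtain ⟨t, ht, hzt⟩ := e.1 ⟨hzU, hz⟩
      exact ⟨hzU, L ⟨t, ht⟩, ⟨_, rfl⟩, (Set.ext_iff.1 (hLt ⟨t, ht⟩) z).2 hzt⟩
  choose U hU hxU T hT hlc heq using hex
  have hp : ∀ x, IsLCClopen (U x ∩ ⋃₀ T x) := fun x => (isLCClopen_of_isOpen (hU x)).inter
    (isLCClopen_sUnion (hT x) fun t ht => isLCClopen_of_isLocallyClosed (hlc x t ht))
  have hagree : ∀ x x', U x ∩ (U x' ∩ ⋃₀ T x') ⊆ U x ∩ ⋃₀ T x := by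
    intro x x'
    refine hS.subset_of_inter_subset ((isLCClopen_of_isOpen (hU x)).inter (hp x')) (hp x) ?_
    rintro z ⟨⟨hzU, hz⟩, hzS⟩
    exact (heq x ⟨z, hzS⟩).2 ⟨hzU, ((heq x' ⟨z, hzS⟩).1 hz).2⟩
  have hcov : ∀ y, ∃ x, y ∈ U x := by
    intro y
    by_contra hy
    obtain ⟨z, hz, hzS⟩ := hS (⋃ x, U x)ᶜ (isOpen_iUnion hU).isClosed_compl.isLocallyClosed
      ⟨y, fun hm => hy (mem_iUnion.1 hm)⟩
    exact hz (mem_iUnion.2 ⟨⟨z, hzS⟩, hxU _⟩)
  refine ⟨⋃ x, U x ∩ ⋃₀ T x, fun y => ?_, ?_⟩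
  · obtain ⟨x, hx⟩ := hcov y
    refine ⟨U x, hU x, hx, (fun t => U x ∩ t) '' T x, (hT x).image _, ?_, ?_⟩
    · rintro _ ⟨t, ht, rfl⟩; exact (hU x).isLocallyClosed.inter (hlc x t ht)
    · rw [sUnion_image, ← inter_iUnion₂, ← sUnion_eq_biUnion]
      ext z
      constructor
      · rintro ⟨hz, hz'⟩
        obtain ⟨x', hz'⟩ := mem_iUnion.1 hz'
        exact hagree x x' ⟨hz, hz'⟩
      · intro hz
        exact ⟨hz.1, mem_iUnion.2 ⟨x, hz⟩⟩
  · ext z
    simp only [mem_preimage, mem_iUnion]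
    exact ⟨fun ⟨x, hx⟩ => ((heq x z).1 hx).2, fun hz => ⟨z, (heq z z).2 ⟨hxU z, hz⟩⟩⟩

end Groth.Agent.E4O
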