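import Groth.Prelude.Def_CAlgX
import Groth.Agent.CAlg1.Regular
import Groth.Agent.EGA4Alg4.QuasiReg
import Mathlib.RingTheory.Filtration
import Mathlib.RingTheory.MvPolynomial.Homogeneous

/-!
The order valuation of a regular local ring.
-/

universe u

open IsLocalRing MvPolynomial

namespace Groth.Agent.E4O.RegularOrd

variable (A : Type u) [CommRing A] [IsRegularLocalRing A]

/-- A minimal system of generators of the maximal ideal is quasi-regular. -/
theorem exists_params (hA : ¬ IsField A) :
    ∃ (e : ℕ) (x : Fin (e + 1) → A),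
      Ideal.span (Set.range x) = maximalIdeal A ∧ CAlgX.IsQuasiRegular x := by
  classical
  have hfg : (maximalIdeal A).FG := (maximalIdeal A).fg_of_isNoetherianRing
  have hcard : (Submodule.FG.finite_generators hfg).toFinset.card = (maximalIdeal A).spanFinrank := by
    rw [← Set.ncard_eq_toFinset_card _ (Submodule.FG.finite_generators hfg)]
    exact Submodule.FG.generators_ncard hfg
  let c := (Submodule.FG.finite_generators hfg).toFinset.card
  let y : Fin c → A := fun i => ((Submodule.FG.finite_generators hfg).toFinset.equivFin.symm i).1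
  have hy : Ideal.span (Set.range y) = maximalIdeal A := by
    have : Set.range y = (maximalIdeal A).generators := by
      ext a
      constructor
      · rintro ⟨i, rfl⟩
        exact (Set.Finite.mem_toFinset _).1 ((Submodule.FG.finite_generators hfg).toFinset.equivFin.symm i).2
      · intro ha
        exact ⟨(Submodule.FG.finite_generators hfg).toFinset.equivFin ⟨a, (Set.Finite.mem_toFinset _).2 ha⟩,
          by simp [y]⟩
    rw [this]
    exact Submodule.span_generators _
  have hlist : Ideal.ofList (List.ofFn y) = maximalIdeal A := by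
    rw [Ideal.ofList, ← hy]; congr 1; ext r; simp [List.mem_ofFn]
  have hq : CAlgX.IsQuasiRegular y := EGA4Alg4.isQuasiRegular_of_isWeaklyRegular c y
    (CAlg1.isWeaklyRegular_params A _ hlist (by rw [List.length_ofFn]; exact hcard))
  have key : ∀ n, ∀ y : Fin n → A, Ideal.span (Set.range y) = maximalIdeal A →
      CAlgX.IsQuasiRegular y → ∃ (e : ℕ) (x : Fin (e + 1) → A),
        Ideal.span (Set.range x) = maximalIdeal A ∧ CAlgX.IsQuasiRegular x := by
    intro n y hy hq
    cases n with
    | zero =>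
      refine absurd ((IsLocalRing.isField_iff_maximalIdeal_eq (R := A)).2 ?_) hA
      rw [← hy, Set.range_eq_empty, Ideal.span_empty]
    | succ e => exact ⟨e, y, hy, hq⟩
  exact key c y hy hq

variable {A}

/-- The largest `n` with `a ∈ m ^ n` (and `0` for `a = 0`). -/
noncomputable def ord (a : A) : ℕ := sSup {n | a ∈ maximalIdeal A ^ n}

theorem bddAbove_ord {a : A} (ha : a ≠ 0) : BddAbove {n | a ∈ maximalIdeal A ^ n} := by
  by_contra h
  have h1 : a ∈ ⨅ n, maximalIdeal A ^ n := by
    refine (Submodule.mem_iInf _).2 fun n => ?_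
    obtain ⟨m, hm, hnm⟩ := not_bddAbove_iff.1 h n
    exact Ideal.pow_le_pow_right hnm.le hm
  rw [Ideal.iInf_pow_eq_bot_of_isLocalRing _ (maximalIdeal.isMaximal A).ne_top] at h1
  exact ha h1

theorem mem_pow_iff {a : A} (ha : a ≠ 0) (n : ℕ) : a ∈ maximalIdeal A ^ n ↔ n ≤ ord a := by
  have hne : {n | a ∈ maximalIdeal A ^ n}.Nonempty :=
    ⟨0, by show a ∈ maximalIdeal A ^ 0; rw [pow_zero, Ideal.one_eq_top]; trivial⟩
  exact ⟨fun h => le_csSup (bddAbove_ord ha) h,
    fun h => Ideal.pow_le_pow_right h (Nat.sSup_mem hne (bddAbove_ord ha))⟩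

variable {e : ℕ} {x : Fin (e + 1) → A}

/-- Homogeneous forms with a coefficient outside `m` have exact order. -/
theorem eval_notMem (hx : Ideal.span (Set.range x) = maximalIdeal A) (hq : CAlgX.IsQuasiRegular x)
    {n : ℕ} {F : MvPolynomial (Fin (e + 1)) A} (hF : F.IsHomogeneous n)
    (hc : ∃ d, F.coeff d ∉ maximalIdeal A) : eval x F ∉ maximalIdeal A ^ (n + 1) := by
  intro h
  obtain ⟨d, hd⟩ := hc
  rw [← hx] at h hd
  exact hd (hq n F hF h d)

/-- Every nonzero element is a homogeneous form of its order with a coefficient outside `m`. -/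
theorem exists_form (hx : Ideal.span (Set.range x) = maximalIdeal A) {a : A} (ha : a ≠ 0) :
    ∃ F : MvPolynomial (Fin (e + 1)) A, F.IsHomogeneous (ord a) ∧ eval x F = a ∧
      ∃ d, F.coeff d ∉ maximalIdeal A := by
  have hmem : a ∈ Ideal.span (Set.range x) ^ ord a := by
    rw [hx]; exact (mem_pow_iff ha _).2 le_rfl
  obtain ⟨F, hF, hFa⟩ := (Ideal.mem_span_pow_iff_exists_isHomogeneous _ _).mp hmem
  refine ⟨F, hF, hFa, ?_⟩
  by_contra hc
  push Not at hc
  have h1 := EGA4Alg4.eval_mem_of_coeff_mem x hF (maximalIdeal A) hc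
  rw [hx, ← pow_succ', hFa, mem_pow_iff ha] at h1
  omega

theorem ord_one : ord (1 : A) = 0 := by
  by_contra h
  have h1 : (1 : A) ∈ maximalIdeal A ^ 1 := (mem_pow_iff one_ne_zero 1).2 (Nat.one_le_iff_ne_zero.2 h)
  rw [pow_one] at h1
  exact (maximalIdeal.isMaximal A).ne_top ((Ideal.eq_top_iff_one _).2 h1)

theorem ord_mul (hx : Ideal.span (Set.range x) = maximalIdeal A) (hq : CAlgX.IsQuasiRegular x)
    {a b : A} (ha : a ≠ 0) (hb : b ≠ 0) : ord (a * b) = ord a + ord b := by
  have : IsDomain A := CAlg1.isDomain_regular A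
  obtain ⟨F, hF, rfl, d, hd⟩ := exists_form hx ha
  obtain ⟨G, hG, rfl, d', hd'⟩ := exists_form hx hb
  have hne : eval x F * eval x G ≠ 0 := mul_ne_zero ha hb
  refine le_antisymm ?_ ?_
  · by_contra h
    push Not at h
    refine eval_notMem hx hq (hF.mul hG) ?_ (by rw [map_mul]; exact (mem_pow_iff hne _).2 h)
    by_contra hc
    push Not at hc
    have hzero : (F * G).map (residue A) = 0 := by
      ext m
      rw [coeff_map, MvPolynomial.coeff_zero, residue_eq_zero_iff]
      exact hc m
    rw [map_mul, mul_eq_zero] at hzero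
    rcases hzero with h0 | h0
    · exact hd (by rw [← residue_eq_zero_iff, ← coeff_map, h0, MvPolynomial.coeff_zero])
    · exact hd' (by rw [← residue_eq_zero_iff, ← coeff_map, h0, MvPolynomial.coeff_zero])
  · rw [← mem_pow_iff hne, pow_add]
    exact Ideal.mul_mem_mul ((mem_pow_iff ha _).2 le_rfl) ((mem_pow_iff hb _).2 le_rfl)

theorem ord_eq_zero_iff {a : A} (ha : a ≠ 0) : ord a = 0 ↔ a ∉ maximalIdeal A := by
  rw [← pow_one (maximalIdeal A), mem_pow_iff ha, not_le, Nat.lt_one_iff]

theorem mem_maximalIdeal_x (hx : Ideal.span (Set.range x) = maximalIdeal A) (i : Fin (e + 1)) :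
    x i ∈ maximalIdeal A := hx ▸ Ideal.subset_span ⟨i, rfl⟩

theorem x_zero_notMem_sq (hx : Ideal.span (Set.range x) = maximalIdeal A)
    (hq : CAlgX.IsQuasiRegular x) : x 0 ∉ maximalIdeal A ^ 2 := fun h => by
  refine eval_notMem hx hq (isHomogeneous_X A (0 : Fin (e + 1))) ⟨Finsupp.single 0 1, ?_⟩
    (by rwa [eval_X])
  rw [MvPolynomial.coeff_X]
  simp [← Ideal.eq_top_iff_one, (maximalIdeal.isMaximal A).ne_top]

theorem x_zero_ne_zero (hx : Ideal.span (Set.range x) = maximalIdeal A)
    (hq : CAlgX.IsQuasiRegular x) : x 0 ≠ 0 := fun h =>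
  x_zero_notMem_sq hx hq (h ▸ zero_mem _)

theorem ord_x_zero (hx : Ideal.span (Set.range x) = maximalIdeal A) (hq : CAlgX.IsQuasiRegular x) :
    ord (x 0) = 1 := by
  have hne := x_zero_ne_zero hx hq
  have h1 : 1 ≤ ord (x 0) := (mem_pow_iff hne 1).1 (by rw [pow_one]; exact mem_maximalIdeal_x hx 0)
  have h2 : ¬ 2 ≤ ord (x 0) := fun h => x_zero_notMem_sq hx hq ((mem_pow_iff hne 2).2 h)
  omega

theorem ord_pow (hx : Ideal.span (Set.range x) = maximalIdeal A) (hq : CAlgX.IsQuasiRegular x)
    (n : ℕ) : ord (x 0 ^ n) = n := by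
  have : IsDomain A := CAlg1.isDomain_regular A
  induction n with
  | zero => rw [pow_zero, ord_one]
  | succ n ih =>
    rw [pow_succ, ord_mul hx hq (pow_ne_zero _ (x_zero_ne_zero hx hq)) (x_zero_ne_zero hx hq), ih,
      ord_x_zero hx hq]

end Groth.Agent.E4O.RegularOrd
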