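import Groth.Agent.Fib62.InjCokerMain
import Mathlib.LinearAlgebra.TensorProduct.Pi
import Mathlib.LinearAlgebra.FreeModule.Basic

/-!
Elements with no common annihilator in a fibre of a module flat over the base have none near it,
after any base change (EGA IV 11.10.10, module form).
-/

set_option autoImplicit false
universe u

open TensorProduct

namespace Groth.Agent.E4O

attribute [local instance] Algebra.TensorProduct.rightAlgebra

theorem eq_zero_of_pow_smul {R W : Type u} [CommRing R] [AddCommGroup W] [Module R W] {m : ℕ}
    (g : Fin m → R) (h : ∀ y : W, (∀ j, g j • y = 0) → y = 0) (N : ℕ) (t : W)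
    (ht : ∀ j, g j ^ N • t = 0) : t = 0 := by
  let J := Ideal.span (Set.range g)
  let J' := Ideal.span (Set.range fun j => g j ^ N)
  have hJ : ∀ (k : ℕ) (y : W), (∀ a ∈ J ^ k, a • y = 0) → y = 0 := by
    intro k
    induction k with
    | zero => exact fun y hy => by simpa using hy 1 (by simp)
    | succ k ih =>
      refine fun y hy => ih y fun a ha => h _ fun j => ?_
      rw [smul_smul]
      exact hy _ (pow_succ' J k ▸ Ideal.mul_mem_mul (Ideal.subset_span ⟨j, rfl⟩) ha)
  obtain ⟨k, hk⟩ := Ideal.exists_pow_le_of_le_radical_of_fg (I := J) (J := J')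
    (Ideal.span_le.mpr (by rintro _ ⟨j, rfl⟩; exact ⟨N, Ideal.subset_span ⟨j, rfl⟩⟩))
    (Submodule.fg_span (Set.finite_range g))
  refine hJ k t fun a ha => ?_
  have hle : J' ≤ LinearMap.ker (LinearMap.toSpanSingleton R W t) := by
    rw [Ideal.span_le]
    rintro _ ⟨j, rfl⟩
    exact ht j
  exact hle (hk ha)

variable {A B : Type u} [CommRing A] [CommRing B] [Algebra A B]
  {M : Type u} [AddCommGroup M] [Module B M] [Module A M] [IsScalarTower A B M]

variable (A M) in
/-- Multiplication by an element, as a linear map over the base. -/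
def mulBy (b : B) : M →ₗ[A] M := (LinearMap.lsmul B M b).restrictScalars A

variable (A M) in
/-- No element of the base change of `M` to `K` is killed by all of `G`. -/
def NoKilled (G : Set B) (K : Type u) [CommRing K] [Algebra A K] : Prop :=
  ∀ c : K ⊗[A] M, (∀ b ∈ G, (mulBy A M b).lTensor K c = 0) → c = 0

theorem cancelBaseChange_symm_mulBy {K R : Type u} [CommRing K] [Algebra A K] [CommRing R]
    [Algebra B R] [Algebra K R] [Algebra A R] [IsScalarTower A B R] [IsScalarTower A K R]
    [Algebra.IsPushout A K B R] (b : B) (y : K ⊗[A] M) :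
    (Algebra.IsPushout.cancelBaseChange A K B R M).symm ((mulBy A M b).lTensor K y) =
      b • (Algebra.IsPushout.cancelBaseChange A K B R M).symm y := by
  induction y using TensorProduct.induction_on with
  | zero => simp
  | add x y hx hy => simp only [map_add, smul_add, hx, hy]
  | tmul a m => simp [mulBy]

theorem noKilled_of_pushout {G : Set B} {K R : Type u} [CommRing K] [Algebra A K] [CommRing R]
    [Algebra B R] [Algebra K R] [Algebra A R] [IsScalarTower A B R] [IsScalarTower A K R]
    [Algebra.IsPushout A K B R] (h : ∀ c : R ⊗[B] M, (∀ b ∈ G, b • c = 0) → c = 0) :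
    NoKilled A M G K := fun c hc => by
  refine (Algebra.IsPushout.cancelBaseChange A K B R M).symm.injective ((h _ fun b hb => ?_).trans (map_zero _).symm)
  rw [← cancelBaseChange_symm_mulBy, hc b hb, map_zero]

/-- Field extensions do not create killed elements. -/
theorem noKilled_of_field {G : Set B} (K L : Type u) [Field K] [Algebra A K] [CommRing L]
    [Algebra A L] [Algebra K L] [IsScalarTower A K L] (h : NoKilled A M G K) :
    NoKilled A M G L := by
  classical
  let bas := Module.Free.chooseBasis K L
  let e := AlgebraTensorModule.cancelBaseChange A K L L M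
  let eb := TensorProduct.equivFinsuppOfBasisLeft bas (N := K ⊗[A] M)
  intro c hc
  obtain ⟨c, rfl⟩ := e.surjective c
  have key : ∀ (b : B) (c : L ⊗[K] (K ⊗[A] M)), (mulBy A M b).lTensor L (e c) =
      e (((mulBy A M b).baseChange K).lTensor L c) := by
    intro b c
    induction c using TensorProduct.induction_on with
    | zero => simp
    | add x y hx hy => simp only [map_add, hx, hy]
    | tmul l y =>
      induction y using TensorProduct.induction_on with
      | zero => simp
      | add x y hx hy => simp only [tmul_add, map_add, hx, hy]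
      | tmul a m => simp [e, mulBy]
  have key2 : ∀ (b : B) (c : L ⊗[K] (K ⊗[A] M)) i,
      eb (((mulBy A M b).baseChange K).lTensor L c) i = (mulBy A M b).baseChange K (eb c i) := by
    intro b c i
    induction c using TensorProduct.induction_on with
    | zero => simp
    | add x y hx hy => simp only [map_add, Finsupp.add_apply, hx, hy]
    | tmul l y => simp [eb]
  suffices eb c = 0 by
    rw [LinearEquiv.map_eq_zero_iff] at this
    rw [this, map_zero]
  refine Finsupp.ext fun i => h _ fun b hb => ?_
  have h1 := hc b hb
  rw [key, LinearEquiv.map_eq_zero_iff] at h1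
  exact (key2 b c i).symm.trans (by rw [h1, map_zero, Finsupp.zero_apply])

/-- Killed elements persist under field extensions. -/
theorem noKilled_of_subfield {G : Set B} (K L : Type u) [Field K] [Algebra A K] [CommRing L]
    [Nontrivial L] [Algebra A L] (ι : K →ₐ[A] L) (h : NoKilled A M G L) : NoKilled A M G K := by
  letI := ι.toRingHom.toAlgebra
  have : IsScalarTower A K L := IsScalarTower.of_algebraMap_eq fun a => (ι.commutes a).symm
  let e := AlgebraTensorModule.cancelBaseChange A K L L M
  intro c hc
  have hinj : Function.Injective (TensorProduct.mk K L (K ⊗[A] M) 1) :=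
    (Module.FaithfullyFlat.tensorProduct_mk_injective (A := K) (B := L) (K ⊗[A] M))
  refine hinj (e.injective ((h _ fun b hb => ?_).trans (map_zero _).symm) |>.trans (map_zero _).symm)
  have key : ∀ c : K ⊗[A] M, (mulBy A M b).lTensor L (e ((1 : L) ⊗ₜ c)) =
      e ((1 : L) ⊗ₜ (mulBy A M b).lTensor K c) := by
    intro c
    induction c using TensorProduct.induction_on with
    | zero => simp
    | add x y hx hy => simp only [tmul_add, map_add, hx, hy]
    | tmul a m => simp [e, mulBy]
  show (mulBy A M b).lTensor L (e ((1 : L) ⊗ₜ c)) = 0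
  rw [key, hc b hb, tmul_zero, map_zero]

variable [Algebra.FinitePresentation A B]

variable (M) in
/-- The map `c ↦ (g j • c)`. -/
def smulFam {m : ℕ} (g : Fin m → B) : M →ₗ[B] (Fin m → M) :=
  LinearMap.pi fun j => LinearMap.lsmul B M (g j)

theorem exists_injFib_smulFam (P : PrimeSpectrum B) (G : Set B)
    (hfib : NoKilled A M G (P.asIdeal.under A).ResidueField) :
    ∃ (m : ℕ) (g : Fin m → B), (∀ j, g j ∈ G) ∧ Fib62.InjFib A (smulFam M g) P := by
  classical
  let κ := (P.asIdeal.under A).ResidueField
  let F := (P.asIdeal.under A).Fiber B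
  let T := Fib62.FibreLocal A P
  let Q := Fib62.fibrePoint (A := A) P
  have hFn : IsNoetherianRing F := Algebra.FiniteType.isNoetherianRing (P.asIdeal.under A).ResidueField F
  have hfib' : ∀ c : F ⊗[B] M, (∀ b ∈ G, b • c = 0) → c = 0 := by
    intro c hc
    let e := Algebra.IsPushout.cancelBaseChange A κ B F M
    obtain ⟨c, rfl⟩ := e.symm.surjective c
    refine (hfib c fun b hb => e.symm.injective ?_).symm ▸ map_zero _
    rw [cancelBaseChange_symm_mulBy, hc b hb, map_zero]
  obtain ⟨s, hs, hspan⟩ := (Submodule.fg_span_iff_fg_span_finset_subset (algebraMap B F '' G)).mp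
    ((isNoetherianRing_iff_ideal_fg F).mp hFn (Ideal.span (algebraMap B F '' G)))
  choose g₀ hg₀ hgs using fun x : ↥(s : Set F) => hs x.2
  let g : Fin s.card → B := fun j => g₀ (s.equivFin.symm j)
  refine ⟨s.card, g, fun j => hg₀ _, ?_⟩
  let W := F ⊗[B] M
  let eW := AlgebraTensorModule.cancelBaseChange B F T T M
  let lW : W →ₗ[F] T ⊗[F] W := TensorProduct.mk F T W 1
  have key : ∀ y : T ⊗[F] W, (∀ j, g j • y = 0) → y = 0 := by
    intro y hy
    obtain ⟨⟨c, d⟩, hcd⟩ := IsLocalizedModule.surj Q.asIdeal.primeCompl lW y
    have h1 : ∀ j, ∃ e : Q.asIdeal.primeCompl, (e : F) • (g j • c) = 0 := fun j => by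
      have h2 : lW (g j • c) = 0 := by
        rw [LinearMap.map_smul_of_tower, ← hcd, smul_comm, hy, smul_zero]
      exact (IsLocalizedModule.eq_zero_iff Q.asIdeal.primeCompl lW).mp h2
    choose e he using h1
    let E : F := ∏ j, (e j : F)
    have hc : E • c = 0 := by
      refine hfib' _ fun x hx => ?_
      have hmem : algebraMap B F x ∈ LinearMap.ker (LinearMap.toSpanSingleton F W (E • c)) := by
        refine (Submodule.span_le.mpr ?_) (hspan ▸ Submodule.subset_span (Set.mem_image_of_mem _ hx))
        intro a ha
        obtain ⟨b, hb⟩ : (e (s.equivFin ⟨a, ha⟩) : F) ∣ E := Finset.dvd_prod_of_mem _ (Finset.mem_univ _)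
        have hea : algebraMap B F (g (s.equivFin ⟨a, ha⟩)) = a := by
          show algebraMap B F (g₀ (s.equivFin.symm (s.equivFin ⟨a, ha⟩))) = a
          rw [Equiv.symm_apply_apply]
          exact hgs ⟨a, ha⟩
        show a • E • c = 0
        rw [hb, mul_comm, mul_smul, smul_comm]
        have h5 : a • ((e (s.equivFin ⟨a, ha⟩) : F) • c) = 0 := by
          conv_lhs => arg 1; rw [← hea]
          rw [algebraMap_smul, smul_comm, he]
        rw [h5, smul_zero]
      rw [← algebraMap_smul F x]
      exact hmem
    have h3 : lW c = 0 := (IsLocalizedModule.eq_zero_iff Q.asIdeal.primeCompl lW).mpr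
      ⟨⟨E, Submonoid.prod_mem _ fun j _ => (e j).2⟩, hc⟩
    have h4 : (d : F) • y = 0 := hcd.trans h3
    exact ((Module.End.isUnit_iff _).mp (IsLocalizedModule.map_units lW d)).1 (h4.trans (map_zero _).symm)
  show Function.Injective ((smulFam M g).lTensor T)
  rw [injective_iff_map_eq_zero]
  intro z hz
  obtain ⟨y, rfl⟩ := eW.surjective z
  rw [key y fun j => eW.injective ?_, map_zero]
  rw [map_zero, show eW (g j • y) = g j • eW y from eW.toLinearMap.map_smul_of_tower _ _]
  have e1 : ∀ z : T ⊗[B] M, (LinearMap.proj (R := B) (φ := fun _ : Fin s.card => M) j).lTensor T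
      ((smulFam M g).lTensor T z) = g j • z := by
    intro z
    induction z using TensorProduct.induction_on with
    | zero => simp
    | add a b ha hb => simp only [map_add, ha, hb, smul_add]
    | tmul a b => simp [smulFam]
  rw [← e1, hz, map_zero]

variable [Module.FinitePresentation B M] [Module.Flat A M]

omit [Algebra.FinitePresentation A B] [Module.FinitePresentation B M] [Module.Flat A M] in
theorem exists_smul_of_mk_eq_zero (P : Ideal B) [P.IsPrime] (K : Type u) [CommRing K] [Algebra A K]
    (t : K ⊗[A] M)
    (ht : ((TensorProduct.mk B (Localization.AtPrime P) M 1).restrictScalars A).lTensor K t = 0) :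
    ∃ e ∉ P, (mulBy A M e).lTensor K t = 0 := by
  let Cp := Localization.AtPrime P
  let ea := AlgebraTensorModule.assoc A B B Cp M K
  have key : ∀ t : K ⊗[A] M, ea (TensorProduct.comm A K (Cp ⊗[B] M)
      (((TensorProduct.mk B Cp M 1).restrictScalars A).lTensor K t)) =
      TensorProduct.mk B Cp (M ⊗[A] K) 1 (TensorProduct.comm A K M t) := by
    intro t
    induction t using TensorProduct.induction_on with
    | zero => simp
    | add a b ha hb => simp only [map_add, ha, hb]
    | tmul a b => simp [ea]
  have h0 : TensorProduct.mk B Cp (M ⊗[A] K) 1 (TensorProduct.comm A K M t) = 0 := by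
    rw [← key, ht, map_zero, map_zero]
  obtain ⟨⟨e, he⟩, hes⟩ := (IsLocalizedModule.eq_zero_iff P.primeCompl (TensorProduct.mk B Cp (M ⊗[A] K) 1)).mp h0
  refine ⟨e, he, (TensorProduct.comm A K M).injective ?_⟩
  have e2 : ∀ t : K ⊗[A] M, TensorProduct.comm A K M ((mulBy A M e).lTensor K t) =
      e • TensorProduct.comm A K M t := by
    intro t
    induction t using TensorProduct.induction_on with
    | zero => simp
    | add a b ha hb => simp only [map_add, ha, hb, smul_add]
    | tmul a b => simp [mulBy, TensorProduct.smul_tmul']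
  rw [e2, map_zero]
  exact hes

/-- After any base change, what is killed by powers of all of `G` vanishes at the points over `P`. -/
theorem exists_smul_eq_zero (P : PrimeSpectrum B) (G : Set B)
    (hfib : NoKilled A M G (P.asIdeal.under A).ResidueField) :
    ∃ (m : ℕ) (g : Fin m → B), (∀ j, g j ∈ G) ∧ ∀ (K : Type u) [CommRing K] [Algebra A K]
      (t : K ⊗[A] M), (∀ j, ∃ k : ℕ, (mulBy A M (g j ^ k)).lTensor K t = 0) →
      ∃ e ∉ P.asIdeal, (mulBy A M e).lTensor K t = 0 := by
  classical
  obtain ⟨m, g, hgG, hinjfib⟩ := exists_injFib_smulFam P G hfib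
  have : Module.Flat A (Fin m → M) := Module.Flat.of_linearEquiv
    ((Finsupp.linearEquivFunOnFinite A M (Fin m)).symm ≪≫ₗ finsuppLequivDFinsupp A)
  obtain ⟨h1, h2⟩ := Fib62.injAt_and_flat_coker_of_injFib_of_flat (A := A) (smulFam M g) P hinjfib
  refine ⟨m, g, hgG, fun K _ _ t ht => exists_smul_of_mk_eq_zero P.asIdeal K t ?_⟩
  let Cp := Localization.AtPrime P.asIdeal
  let MP := Cp ⊗[B] M
  let φ : MP →ₗ[B] (Fin m → MP) := LinearMap.pi fun j => LinearMap.lsmul B MP (g j)
  let lP : M →ₗ[B] MP := TensorProduct.mk B Cp M 1
  have hφ : Function.Injective φ := by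
    rw [injective_iff_map_eq_zero]
    intro z hz
    obtain ⟨⟨c, d⟩, hcd⟩ := IsLocalizedModule.surj P.asIdeal.primeCompl lP z
    have h0 : ∀ j, lP (g j • c) = 0 := fun j => by
      rw [map_smul, ← hcd, smul_comm]
      have := congrFun hz j
      simp only [φ, LinearMap.pi_apply, LinearMap.lsmul_apply, Pi.zero_apply] at this
      rw [this, smul_zero]
    choose e he using fun j => (IsLocalizedModule.eq_zero_iff P.asIdeal.primeCompl lP).mp (h0 j)
    let E : B := ∏ j, (e j : B)
    have hEc : smulFam M g (E • c) = 0 := funext fun j => by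
      obtain ⟨b, hb⟩ : (e j : B) ∣ E := Finset.dvd_prod_of_mem _ (Finset.mem_univ j)
      show g j • E • c = 0
      have := he j
      rw [Submonoid.smul_def] at this
      rw [hb, mul_comm, mul_smul, smul_comm, smul_comm (g j), this, smul_zero]
    obtain ⟨s, hs, hsc⟩ := h1 _ hEc
    rw [smul_smul] at hsc
    have h3 : lP c = 0 := (IsLocalizedModule.eq_zero_iff P.asIdeal.primeCompl lP).mpr
      ⟨⟨s * E, P.asIdeal.primeCompl.mul_mem hs (Submonoid.prod_mem _ fun j _ => (e j).2)⟩, hsc⟩
    exact ((Module.End.isUnit_iff _).mp (IsLocalizedModule.map_units lP d)).1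
      ((hcd.trans h3).trans (map_zero _).symm)
  have hcoker : Module.Flat A ((Fin m → MP) ⧸ LinearMap.range (φ.restrictScalars A)) := by
    let e : (Cp ⊗[B] (Fin m → M)) ≃ₗ[B] (Fin m → MP) := TensorProduct.piRight B B Cp fun _ : Fin m => M
    have hsq : e.toLinearMap ∘ₗ (smulFam M g).lTensor Cp = φ := by
      refine LinearMap.ext fun z => ?_
      induction z using TensorProduct.induction_on with
      | zero => simp
      | add a b ha hb => simp only [map_add, ha, hb]
      | tmul a b =>
        funext j
        simp [e, φ, smulFam, MP]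
    have hex := lTensor_exact Cp (LinearMap.exact_map_mkQ_range (smulFam M g))
      (Submodule.mkQ_surjective (LinearMap.range (smulFam M g)))
    let q : (Fin m → MP) →ₗ[B] Cp ⊗[B] ((Fin m → M) ⧸ LinearMap.range (smulFam M g)) :=
      (LinearMap.range (smulFam M g)).mkQ.lTensor Cp ∘ₗ e.symm.toLinearMap
    have hq : Function.Surjective q :=
      (LinearMap.lTensor_surjective Cp (Submodule.mkQ_surjective _)).comp e.symm.surjective
    have hker : LinearMap.ker (q.restrictScalars A) = LinearMap.range (φ.restrictScalars A) := by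
      ext y
      rw [LinearMap.mem_ker, LinearMap.mem_range]
      constructor
      · intro hy
        obtain ⟨w, hw⟩ := (hex (e.symm y)).mp hy
        exact ⟨w, by show φ w = y; rw [← hsq, LinearMap.comp_apply, hw]; exact e.apply_symm_apply y⟩
      · rintro ⟨w, rfl⟩
        show q (φ w) = 0
        rw [← hsq]
        simp only [q, LinearMap.comp_apply, LinearEquiv.coe_coe, LinearEquiv.symm_apply_apply]
        exact hex.apply_apply_eq_zero w
    exact Module.Flat.of_linearEquiv
      (Submodule.quotEquivOfEq _ _ hker.symm ≪≫ₗ (q.restrictScalars A).quotKerEquivOfSurjective hq)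
  have hinj := FlatMor68.Pinch.lTensor_injective_of_flat_quotient (φ.restrictScalars A) _ hφ
    (Submodule.mkQ_surjective _) (LinearMap.exact_map_mkQ_range (φ.restrictScalars A)) (L := K)
  choose k hk using ht
  let σ := MvPolynomial (Fin m) A
  let act : σ →ₐ[A] B := MvPolynomial.aeval g
  let W := MP ⊗[A] K
  let y₀ : W := TensorProduct.comm A K MP ((lP.restrictScalars A).lTensor K t)
  suffices y₀ = 0 by
    exact (TensorProduct.comm A K MP).injective (this.trans (map_zero _).symm)
  have ecomm : ∀ (b : B) (z : K ⊗[A] MP), TensorProduct.comm A K MP ((mulBy A MP b).lTensor K z) =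
      b • TensorProduct.comm A K MP z := by
    intro b z
    induction z using TensorProduct.induction_on with
    | zero => simp
    | add a c ha hc => simp only [map_add, ha, hc, smul_add]
    | tmul a c => simp [mulBy, TensorProduct.smul_tmul']
  refine eq_zero_of_pow_smul g (fun y hy => ?_) (Finset.univ.sup k) y₀ fun j => ?_
  · obtain ⟨z, rfl⟩ := (TensorProduct.comm A K MP).surjective y
    have hz : (φ.restrictScalars A).lTensor K z = 0 := by
      refine (TensorProduct.piRight A A K fun _ : Fin m => MP).injective ?_
      rw [map_zero]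
      funext j
      have e3 : ∀ z : K ⊗[A] MP, TensorProduct.piRight A A K (fun _ : Fin m => MP)
          ((φ.restrictScalars A).lTensor K z) j = (mulBy A MP (g j)).lTensor K z := by
        intro z
        induction z using TensorProduct.induction_on with
        | zero => simp
        | add a b ha hb => simp only [map_add, Pi.add_apply, ha, hb]
        | tmul a b => simp [φ, mulBy]
      rw [e3, Pi.zero_apply]
      exact (TensorProduct.comm A K MP).injective ((ecomm _ _).trans ((hy j).trans (map_zero _).symm))
    rw [hinj (hz.trans (map_zero _).symm), map_zero]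
  · obtain ⟨c, hc⟩ := Nat.exists_eq_add_of_le (Finset.le_sup (f := k) (Finset.mem_univ j))
    have e4 : ∀ (b : B) (t : K ⊗[A] M), (mulBy A MP b).lTensor K ((lP.restrictScalars A).lTensor K t) =
        (lP.restrictScalars A).lTensor K ((mulBy A M b).lTensor K t) := by
      intro b t
      induction t using TensorProduct.induction_on with
      | zero => simp
      | add a c ha hc => simp only [map_add, ha, hc]
      | tmul a c => simp [mulBy, lP, MP]
    rw [hc, pow_add, mul_comm, mul_smul, ← ecomm, e4, hk, map_zero, map_zero, smul_zero]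

end Groth.Agent.E4O
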