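import Groth.Agent.E4O.SectionCompDvr
import Groth.Agent.E4O.OpenMapDims2
import Groth.Agent.CM62.DimStrata
import Groth.Agent.SpPts86.LocConstr

/-!
EGA IV 15.6.6: constancy of the dimension of irreducible section components.
-/

set_option autoImplicit false
set_option linter.style.haveILetI false
universe u

open CategoryTheory CategoryTheory.Limits AlgebraicGeometry TopologicalSpace Topology

namespace Groth.Agent.E4O

variable {X Y : Scheme.{u}}

theorem isLocallyConstructible_le_fibreDimAt (f : X ⟶ Y) [LocallyOfFinitePresentation f] (d : ℕ) :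
    IsLocallyConstructible {x : X | ((d : ℕ) : WithBot ℕ∞) ≤ FlatMor.fibreDimAt f x} := by
  cases d with
  | zero =>
    convert IsLocallyConstructible.univ (X := X)
    refine Set.eq_univ_of_forall fun x => ?_
    obtain ⟨z, -, -, hd, -⟩ := exists_fibreDimAt_eq f x
    show ((0 : ℕ) : WithBot ℕ∞) ≤ _
    rw [hd]
    exact_mod_cast Nat.zero_le _
  | succ k =>
    convert isLocallyConstructible_compl (CM62.isLocallyConstructible_fibreDimAt_le f k) using 1
    ext x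
    obtain ⟨z, -, -, hd, -⟩ := exists_fibreDimAt_eq f x
    show ((k + 1 : ℕ) : WithBot ℕ∞) ≤ FlatMor.fibreDimAt f x ↔ ¬ FlatMor.fibreDimAt f x ≤ ((k : ℕ) : WithBot ℕ∞)
    rw [hd, Nat.cast_le, Nat.cast_le]
    omega

theorem exists_nhd_dim_component_eq (f : X ⟶ Y) [LocallyOfFinitePresentation f] (g : Y ⟶ X)
    (hg : g ≫ f = 𝟙 Y) (hirr : ∀ y, IsIrreducible (connectedComponentIn (f ⁻¹' {y}) (g y))) {y₀ : Y} {d : ℕ}
    (hd : FlatMor.fibreDimAt f (g y₀) = (d : ℕ))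
    (hlow : ∀ y', y' ⤳ y₀ → ((d : ℕ) : WithBot ℕ∞) ≤ FlatMor.fibreDimAt f (g y')) :
    ∃ V ∈ nhds y₀, ∀ z ∈ V, topologicalKrullDim ↥(connectedComponentIn (f ⁻¹' {z}) (g z)) =
      topologicalKrullDim ↥(connectedComponentIn (f ⁻¹' {y₀}) (g y₀)) := by
  have h1 : {y : Y | ((d : ℕ) : WithBot ℕ∞) ≤ FlatMor.fibreDimAt f (g y)} ∈ nhds y₀ :=
    mem_nhds_of_forall_generization
      (SpPts86.isLocallyConstructible_preimage g (isLocallyConstructible_le_fibreDimAt f d)) hlow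
  have h2 : {y : Y | FlatMor.fibreDimAt f (g y) ≤ ((d : ℕ) : WithBot ℕ∞)} ∈ nhds y₀ :=
    ((isOpen_fibreDimAt_le f _).preimage g.continuous).mem_nhds
      (show FlatMor.fibreDimAt f (g y₀) ≤ _ from hd.le)
  refine ⟨_, Filter.inter_mem h1 h2, fun z hz => ?_⟩
  rw [dim_component_eq_fibreDimAt f g hg (hirr z), dim_component_eq_fibreDimAt f g hg (hirr y₀), hd]
  exact le_antisymm hz.2 hz.1

theorem exists_generic_univOpen (f : X ⟶ Y) [LocallyOfFiniteType f] (g : Y ⟶ X) (hg : g ≫ f = 𝟙 Y) {y₀ : Y}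
    (hirr : IsIrreducible (connectedComponentIn (f ⁻¹' {y₀}) (g y₀)))
    (hopen : ∀ ξ ∈ connectedComponentIn (f ⁻¹' {y₀}) (g y₀),
      connectedComponentIn (f ⁻¹' {y₀}) (g y₀) ⊆ closure {ξ} → EGA43.IsUnivOpenAt f ξ) :
    ∃ ξ, f ξ = y₀ ∧ connectedComponentIn (f ⁻¹' {y₀}) (g y₀) = closure {ξ} ∩ f ⁻¹' {y₀} ∧
      EGA43.IsUnivOpenAt f ξ ∧ FlatMor.fibreDimAt f (g y₀) = (fdeg f ξ : ℕ) := by
  obtain ⟨ξ, hξ, hC⟩ := exists_generic_component f hirr
  refine ⟨ξ, hξ, hC, hopen ξ (hC.ge ⟨subset_closure rfl, hξ⟩) (hC.le.trans Set.inter_subset_left), ?_⟩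
  rw [← dim_component_eq_fibreDimAt f g hg hirr, hC, dim_closure_inter_fibre f hξ]

/-- 15.6.6 (β). -/
theorem le_fibreDimAt_of_generic_dim_eq (f : X ⟶ Y) [LocallyOfFiniteType f] (g : Y ⟶ X) (hg : g ≫ f = 𝟙 Y)
    (hirr : ∀ y, IsIrreducible (connectedComponentIn (f ⁻¹' {y}) (g y))) {y₀ : Y} {ξ : X} (hξ : f ξ = y₀)
    (hopen : EGA43.IsUnivOpenAt f ξ)
    (hβ : ∀ y' : Y, y₀ ∈ closure {y'} → closure {y'} ∈ irreducibleComponents (Y : Type u) →
      topologicalKrullDim ↥(f.fiber y') = topologicalKrullDim ↥(connectedComponentIn (f ⁻¹' {y'}) (g y')))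
    {y' : Y} (hy' : y' ⤳ y₀) : ((fdeg f ξ : ℕ) : WithBot ℕ∞) ≤ FlatMor.fibreDimAt f (g y') := by
  obtain ⟨η, hη, hcomp⟩ := exists_component_generic_specializes y'
  obtain ⟨w, hw, -, hle⟩ := exists_fdeg_ge_of_isUnivOpenAt f hopen (y' := η) (hξ.symm ▸ hη.trans hy')
  rw [← dim_component_eq_fibreDimAt f g hg (hirr y')]
  refine le_trans ?_ (dim_component_mono f g hg hη (hirr η))
  rw [← hβ η (specializes_iff_mem_closure.mp (hη.trans hy')) hcomp, ← hw]
  exact le_trans (by exact_mod_cast hle) (le_dim_fiber f w)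

/-- 15.6.6 (α). -/
theorem le_fibreDimAt_of_geomReduced [IsLocallyNoetherian Y] (f : X ⟶ Y) [LocallyOfFiniteType f] (g : Y ⟶ X)
    (hg : g ≫ f = 𝟙 Y) (hirr : ∀ y, IsIrreducible (connectedComponentIn (f ⁻¹' {y}) (g y))) {y₀ : Y} {ξ : X}
    (hξ : f ξ = y₀) (hC : connectedComponentIn (f ⁻¹' {y₀}) (g y₀) = closure {ξ} ∩ f ⁻¹' {y₀})
    (hopen : EGA43.IsUnivOpenAt f ξ)
    (hred : FBase.IsGeomReducedAt (f.fiberToSpecResidueField (f (g y₀))) (f.asFiber (g y₀)))
    {y' : Y} (hy' : y' ⤳ y₀) : ((fdeg f ξ : ℕ) : WithBot ℕ∞) ≤ FlatMor.fibreDimAt f (g y') := by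
  rw [← dim_component_eq_fibreDimAt f g hg (hirr y')]
  exact fdeg_le_dim_component_of_geomReduced f g hg hy' hξ hC hopen hred

/-- 15.6.6 (α) at a point with Noetherian local ring. -/
theorem le_fibreDimAt_of_geomReduced_local (f : X ⟶ Y) [LocallyOfFiniteType f] (g : Y ⟶ X)
    (hg : g ≫ f = 𝟙 Y) (hirr : ∀ y, GeomIrredComp f g y) {y₀ : Y} [IsNoetherianRing (Y.presheaf.stalk y₀)]
    {ξ : X} (hξ : f ξ = y₀) (hC : connectedComponentIn (f ⁻¹' {y₀}) (g y₀) = closure {ξ} ∩ f ⁻¹' {y₀})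
    (hopen : EGA43.IsUnivOpenAt f ξ)
    (hred : FBase.IsGeomReducedAt (f.fiberToSpecResidueField (f (g y₀))) (f.asFiber (g y₀)))
    {y' : Y} (hy' : y' ⤳ y₀) : ((fdeg f ξ : ℕ) : WithBot ℕ∞) ≤ FlatMor.fibreDimAt f (g y') := by
  let j := Y.fromSpecStalk y₀
  let p := pullback.fst f j
  let q := pullback.snd f j
  have hsq : IsPullback p q f j := IsPullback.of_hasPullback f j
  let σ : Spec (Y.presheaf.stalk y₀) ⟶ pullback f j := pullback.lift (j ≫ g) (𝟙 _) (by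
    rw [Category.assoc, hg, Category.comp_id, Category.id_comp])
  have hσ : σ ≫ q = 𝟙 _ := pullback.lift_snd _ _ _
  have hσp : σ ≫ p = j ≫ g := pullback.lift_fst _ _ _
  obtain ⟨o, ho⟩ : y₀ ∈ Set.range j := by rw [Scheme.range_fromSpecStalk]; exact specializes_rfl
  obtain ⟨v, hv⟩ : y' ∈ Set.range j := by rw [Scheme.range_fromSpecStalk]; exact hy'
  have hp : ∀ a, p (σ a) = g (j a) := fun a => by rw [← Scheme.Hom.comp_apply, hσp, Scheme.Hom.comp_apply]
  have hirr' : ∀ a, IsIrreducible (connectedComponentIn (q ⁻¹' {a}) (σ a)) := fun a =>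
    GeomIrredComp.isIrreducible_baseChange hg hsq hσ hσp (hirr (j a))
  obtain ⟨ξ', hξ', hC'⟩ := exists_generic_component q (hirr' o)
  obtain ⟨a, ha, hqa⟩ := exists_of_isPullback hsq ξ o (hξ.trans ho.symm)
  have hpim : IsPreimmersion p := MorphismProperty.of_isPullback (P := @IsPreimmersion) hsq.flip inferInstance
  have ham : a ∈ connectedComponentIn (q ⁻¹' {o}) (σ o) := by
    rw [GeomCount24.preimage_connectedComponent_fibre f g hg q p j hsq σ hσ hσp o a hqa, ha, ho, hC]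
    exact ⟨subset_closure rfl, hξ⟩
  have hξ'C : ξ' ∈ connectedComponentIn (q ⁻¹' {o}) (σ o) := hC'.ge ⟨subset_closure rfl, hξ'⟩
  rw [GeomCount24.preimage_connectedComponent_fibre f g hg q p j hsq σ hσ hσp o ξ' hξ', ho, hC] at hξ'C
  have e : p ξ' = ξ := by
    refine ((specializes_iff_mem_closure.mpr ?_).antisymm (specializes_iff_mem_closure.mpr hξ'C.1)).eq
    rw [← ha]
    exact specializes_iff_mem_closure.mp ((specializes_iff_mem_closure.mpr (hC'.le ham).1).map p.continuous)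
  have hdeg : fdeg q ξ' = fdeg f ξ := by
    have hmax : IsFibreMax q ξ' := by
      intro z hz hqz
      have hm := mem_connectedComponentIn_of_specializes q (hC'.ge ⟨subset_closure rfl, hξ'⟩) hz (hqz.trans hξ')
      rw [hC'] at hm
      exact (hz.antisymm (specializes_iff_mem_closure.mpr hm.1)).eq
    rw [FibDim94.fdeg_eq_of_isFibreMax hsq hmax, e]
  have hred' : FBase.IsGeomReducedAt (q.fiberToSpecResidueField (q (σ o))) (q.asFiber (σ o)) := by
    refine (isGeomReducedAt_fibre_iff_of_isPullback hsq _).2 ?_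
    rw [hp, ho]; exact hred
  have hvo : v ⤳ o := by rw [← j.isEmbedding.isInducing.specializes_iff, hv, ho]; exact hy'
  have h := le_fibreDimAt_of_geomReduced q σ hσ hirr' hξ' hC' (isUnivOpenAt_of_isPullback hopen hsq ξ' e) hred' hvo
  rwa [FibDim94.fibreDimAt_eq_of_isPullback hsq, hp, hv, hdeg] at h

end Groth.Agent.E4O
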