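import Groth.Agent.E4O.SectionCompGen
import Groth.Agent.E4O.Subscheme
import Groth.Agent.E4O.FibreSets

/-!
Dimensions of section components and their behaviour under generisation (EGA IV 15.6.1).
-/

set_option autoImplicit false
universe u

open CategoryTheory AlgebraicGeometry TopologicalSpace Topology

namespace Groth.Agent.E4O

variable {X Y : Scheme.{u}}

theorem dim_mono_set {α : Type*} [TopologicalSpace α] {s t : Set α} (h : s ⊆ t) :
    topologicalKrullDim ↥s ≤ topologicalKrullDim ↥t :=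
  (IsEmbedding.inclusion h).isInducing.topologicalKrullDim_le

theorem isIrreducible_closure_inter_fibre (f : X ⟶ Y) {z : X} {y : Y} (hz : f z = y) :
    IsIrreducible (closure {z} ∩ f ⁻¹' {y}) := by
  rw [← isIrreducible_iff_closure]
  have e : closure (closure {z} ∩ f ⁻¹' {y}) = closure {z} :=
    Set.Subset.antisymm (closure_minimal Set.inter_subset_left isClosed_closure)
      (closure_mono (Set.singleton_subset_iff.mpr ⟨subset_closure rfl, hz⟩))
  rw [e]
  exact isIrreducible_singleton.closure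

/-- An irreducible subset of a fibre has a generic point in the fibre. -/
theorem exists_generic_of_irreducible_fibre (f : X ⟶ Y) {y : Y} {Z : Set X} (hZ : IsIrreducible Z)
    (hZy : Z ⊆ f ⁻¹' {y}) : ∃ ξ, f ξ = y ∧ closure {ξ} = closure Z := by
  obtain ⟨ξ, hξ⟩ := QuasiSober.sober hZ.closure isClosed_closure
  refine ⟨ξ, ?_, hξ⟩
  obtain ⟨z, hz⟩ := hZ.nonempty
  have h1 : f ξ ⤳ y := by
    have h := (specializes_iff_mem_closure.mpr (hξ.ge (subset_closure hz))).map f.continuous
    rwa [hZy hz] at h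
  have h2 : y ⤳ f ξ := by
    refine specializes_iff_mem_closure.mpr ?_
    have h : ξ ∈ closure Z := hξ.le (subset_closure rfl)
    have h' := image_closure_subset_closure_image f.continuous ⟨ξ, h, rfl⟩
    refine closure_mono ?_ h'
    rintro _ ⟨w, hw, rfl⟩
    exact hZy hw
  exact (h1.antisymm h2).eq

/-- A maximal irreducible subset of a fibre is the trace of the closure of a point. -/
theorem exists_eq_closure_inter_of_maximal (f : X ⟶ Y) {y : Y} {Z : Set X} (hZ : IsIrreducible Z)
    (hZy : Z ⊆ f ⁻¹' {y}) (hmax : ∀ Z', IsIrreducible Z' → Z' ⊆ f ⁻¹' {y} → Z ⊆ Z' → Z' = Z) :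
    ∃ ξ, f ξ = y ∧ Z = closure {ξ} ∩ f ⁻¹' {y} := by
  obtain ⟨ξ, hξy, hξ⟩ := exists_generic_of_irreducible_fibre f hZ hZy
  exact ⟨ξ, hξy, (hmax _ (isIrreducible_closure_inter_fibre f hξy) Set.inter_subset_right
    (Set.subset_inter (hξ ▸ subset_closure) hZy)).symm⟩

theorem connectedComponentIn_of_specializes_fibre (f : X ⟶ Y) {y : Y} {a x z : X}
    (hx : x ∈ connectedComponentIn (f ⁻¹' {y}) a) (h : z ⤳ x) (hz : f z = y) :
    closure {z} ∩ f ⁻¹' {y} ⊆ connectedComponentIn (f ⁻¹' {y}) a := by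
  rw [connectedComponentIn_eq hx]
  exact (isIrreducible_closure_inter_fibre f hz).isConnected.isPreconnected.subset_connectedComponentIn
    ⟨specializes_iff_mem_closure.mp h, connectedComponentIn_subset (f ⁻¹' {y}) a hx⟩ Set.inter_subset_right

theorem mem_connectedComponentIn_of_specializes (f : X ⟶ Y) {y : Y} {a x z : X}
    (hx : x ∈ connectedComponentIn (f ⁻¹' {y}) a) (h : z ⤳ x) (hz : f z = y) :
    z ∈ connectedComponentIn (f ⁻¹' {y}) a :=
  connectedComponentIn_of_specializes_fibre f hx h hz ⟨subset_closure rfl, hz⟩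

theorem fdeg_le_dim_component (f : X ⟶ Y) [LocallyOfFiniteType f] {y : Y} {a x : X}
    (hx : x ∈ connectedComponentIn (f ⁻¹' {y}) a) :
    ((fdeg f x : ℕ) : WithBot ℕ∞) ≤ topologicalKrullDim ↥(connectedComponentIn (f ⁻¹' {y}) a) := by
  have hxy : f x = y := connectedComponentIn_subset (f ⁻¹' {y}) a hx
  rw [← dim_closure_inter_fibre f hxy]
  exact dim_mono_set (connectedComponentIn_of_specializes_fibre f hx specializes_rfl hxy)

/-- An irreducible section component is the trace of the closure of its generic point. -/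
theorem exists_generic_component (f : X ⟶ Y) {y : Y} {a : X}
    (hirr : IsIrreducible (connectedComponentIn (f ⁻¹' {y}) a)) :
    ∃ z, f z = y ∧ connectedComponentIn (f ⁻¹' {y}) a = closure {z} ∩ f ⁻¹' {y} := by
  refine exists_eq_closure_inter_of_maximal f hirr (connectedComponentIn_subset _ _) fun Z' h hy hsub => ?_
  obtain ⟨x, hx⟩ := hirr.nonempty
  refine Set.Subset.antisymm ?_ hsub
  rw [connectedComponentIn_eq hx]
  exact h.isConnected.isPreconnected.subset_connectedComponentIn (hsub hx) hy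

/-- EGA IV 15.6.1. -/
theorem dim_component_ge_of_generization (f : X ⟶ Y) [LocallyOfFiniteType f] (g : Y ⟶ X) (hg : g ≫ f = 𝟙 Y)
    {y y' : Y} (hy : y' ⤳ y) {Z : Set X} (hZy : Z ⊆ f ⁻¹' {y'}) (hZ : IsIrreducible Z)
    (hmax : ∀ Z', IsIrreducible Z' → Z' ⊆ f ⁻¹' {y'} → Z ⊆ Z' → Z' = Z) (hgZ : g y' ∈ Z) :
    topologicalKrullDim ↥Z ≤ topologicalKrullDim ↥(connectedComponentIn (f ⁻¹' {y}) (g y)) ∧
      (IsIrreducible (connectedComponentIn (f ⁻¹' {y}) (g y)) →
        topologicalKrullDim ↥(connectedComponentIn (f ⁻¹' {y}) (g y)) ≤ topologicalKrullDim ↥Z →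
        connectedComponentIn (f ⁻¹' {y}) (g y) ⊆ closure Z) := by
  obtain ⟨ξ, hξy, rfl⟩ := exists_eq_closure_inter_of_maximal f hZ hZy hmax
  rw [dim_closure_inter_fibre f hξy]
  have hξ : ξ ⤳ g y := (specializes_iff_mem_closure.mpr hgZ.1).trans (hy.map g.continuous)
  obtain ⟨z, hξz, hzy, hfz, hle⟩ := exists_fdeg_ge_between f hξ
  rw [section_apply f g hg] at hfz
  have hgy : g y ∈ connectedComponentIn (f ⁻¹' {y}) (g y) := mem_connectedComponentIn (section_apply f g hg y)
  have hzC := mem_connectedComponentIn_of_specializes f hgy hzy hfz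
  refine ⟨(Nat.mono_cast hle).trans (fdeg_le_dim_component f hzC), fun hirr hle' => ?_⟩
  obtain ⟨z₀, hz₀, hC⟩ := exists_generic_component f hirr
  rw [hC, dim_closure_inter_fibre f hz₀] at hle'
  have hle'' : fdeg f z₀ ≤ fdeg f ξ := by exact_mod_cast hle'
  have hz₀z : z₀ ⤳ z := specializes_iff_mem_closure.mpr (hC.le hzC).1
  have e : z₀ = z := by
    by_contra hne
    exact absurd (fdeg_lt hz₀z (hz₀.trans hfz.symm) hne) (not_lt.mpr (hle''.trans hle))
  subst e
  rw [hC]
  refine Set.inter_subset_left.trans (closure_minimal ?_ isClosed_closure)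
  rw [Set.singleton_subset_iff]
  have hξm : ξ ∈ closure ({ξ} : Set X) ∩ f ⁻¹' {y'} := ⟨subset_closure rfl, hξy⟩
  exact closure_minimal (Set.singleton_subset_iff.mpr (subset_closure hξm))
    isClosed_closure (specializes_iff_mem_closure.mp hξz)

end Groth.Agent.E4O
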