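import Groth.Agent.E4O.SectionCompNhd

/-!
EGA IV 15.6.4 for flat morphisms of finite presentation over any base.
-/

set_option autoImplicit false
set_option linter.style.haveILetI false
universe u

open CategoryTheory CategoryTheory.Limits AlgebraicGeometry TopologicalSpace Topology

namespace Groth.Agent.E4O

variable {X Y : Scheme.{u}}

theorem mem_interior_sectionComponents_flat (f : X ⟶ Y) [Flat f] [LocallyOfFinitePresentation f]
    [QuasiCompact f] [QuasiSeparated f] (g : Y ⟶ X) (hg : g ≫ f = 𝟙 Y) {y : Y}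
    (hred : ∀ c ∈ connectedComponentIn (f ⁻¹' {y}) (g y),
      FBase.IsGeomReducedAt (f.fiberToSpecResidueField (f c)) (f.asFiber c))
    {x : X} (hx : x ∈ connectedComponentIn (f ⁻¹' {y}) (g y)) :
    x ∈ interior (MoreMor.sectionComponents f g) := by
  obtain ⟨W, hW, hyW⟩ : ∃ W : Y.Opens, IsAffineOpen W ∧ y ∈ W := by
    obtain ⟨_, ⟨W, hW, rfl⟩, hyW, -⟩ :=
      Y.isBasis_affineOpens.exists_subset_of_mem_open (Set.mem_univ y) isOpen_univ
    exact ⟨W, hW, hyW⟩
  have : IsAffine W := hW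
  have hp := (isPullback_morphismRestrict f W).flip
  let gW : W.toScheme ⟶ (f ⁻¹ᵁ W).toScheme :=
    hp.lift (W.ι ≫ g) (𝟙 _) (by rw [Category.assoc, hg, Category.comp_id, Category.id_comp])
  have hgW : gW ≫ f ∣_ W = 𝟙 _ := hp.lift_snd _ _ _
  have hgWι : gW ≫ (f ⁻¹ᵁ W).ι = W.ι ≫ g := hp.lift_fst _ _ _
  have : Flat (f ∣_ W) := inferInstance
  obtain ⟨Y', _, _, π, X', f', _, _, _, g', hg', eX, hX, hgX, hflat⟩ := exists_sectionModel (f ∣_ W) gW hgW
  have := hflat inferInstance
  obtain ⟨v, hv⟩ : ∃ v, W.ι v = y := ⟨⟨y, hyW⟩, rfl⟩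
  obtain ⟨u, hu, huv⟩ := exists_of_isPullback hp x v (by
    rw [hv]; exact connectedComponentIn_subset (f ⁻¹' {y}) (g y) hx)
  subst hu
  have hu' : u ∈ connectedComponentIn ((f ∣_ W) ⁻¹' {v}) (gW v) := by
    rw [GeomCount24.preimage_connectedComponent_fibre f g hg _ _ _ hp gW hgW hgWι v u huv, hv]
    exact hx
  have hred' : ∀ c' ∈ connectedComponentIn (f' ⁻¹' {π v}) (g' (π v)),
      FBase.IsGeomReducedAt (f'.fiberToSpecResidueField (f' c')) (f'.asFiber c') := by
    intro c' hc'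
    obtain ⟨c, rfl, hcv⟩ := exists_of_isPullback hX c' v (connectedComponentIn_subset (f' ⁻¹' {π v}) _ hc')
    rw [← isGeomReducedAt_fibre_iff_of_isPullback hX, isGeomReducedAt_fibre_iff_of_isPullback hp]
    refine hred _ ?_
    have h := (GeomCount24.preimage_connectedComponent_fibre f' g' hg' _ _ _ hX gW hgW hgX v c hcv).mpr hc'
    rw [GeomCount24.preimage_connectedComponent_fibre f g hg _ _ _ hp gW hgW hgWι v c hcv, hv] at h
    exact h
  have hm := mem_interior_sectionComponents f' g' hg' hred' (flatAlongComp_of_flat f' g' (π v))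
    ((GeomCount24.preimage_connectedComponent_fibre f' g' hg' _ _ _ hX gW hgW hgX v u huv).mp hu')
  have h1 := GeomCount24.sectionComponents_baseChange f g hg _ _ _ hp gW hgW hgWι
  have h2 := GeomCount24.sectionComponents_baseChange f' g' hg' _ _ _ hX gW hgW hgX
  refine interior_maximal (?_ : (f ⁻¹ᵁ W).ι '' (eX ⁻¹' interior (MoreMor.sectionComponents f' g')) ⊆ _)
    ((f ⁻¹ᵁ W).ι.isOpenEmbedding.isOpenMap _ (isOpen_interior.preimage eX.continuous)) ⟨u, hm, rfl⟩
  rintro _ ⟨z, hz, rfl⟩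
  have : z ∈ eX ⁻¹' MoreMor.sectionComponents f' g' := interior_subset (s := MoreMor.sectionComponents f' g') hz
  rw [← h2, h1] at this
  exact this

end Groth.Agent.E4O
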