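import Groth.Agent.NearGen2.GeomConn
import Groth.Agent.GeomCount24.Section
import Groth.Agent.SchBasics.TopNoeth
import Groth.Agent.SchBasics.Reduced

/-!
EGA IV 9.7.12: near the generic point of an irreducible base the connected components of the fibres
through a section are cut out by a closed piece of the source with closed complement.
-/

set_option autoImplicit false
set_option linter.style.haveILetI false
universe u

open CategoryTheory CategoryTheory.Limits AlgebraicGeometry TopologicalSpace Topology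

namespace Groth.Agent.E4O

variable {X Y : Scheme.{u}}

theorem section_apply (f : X ⟶ Y) (s : Y ⟶ X) (hs : s ≫ f = 𝟙 Y) (y : Y) : f (s y) = y := by
  rw [← Scheme.Hom.comp_apply, hs]; rfl

theorem sectionComponents_inter_fibre (f : X ⟶ Y) (s : Y ⟶ X) (y : Y) :
    MoreMor.sectionComponents f s ∩ f ⁻¹' {y} = connectedComponentIn (f ⁻¹' {y}) (s y) := by
  ext x
  constructor
  · rintro ⟨hx, rfl : f x = y⟩; exact hx
  · intro hx
    have e : f x = y := connectedComponentIn_subset (f ⁻¹' {y}) (s y) hx
    refine ⟨?_, e⟩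
    show x ∈ connectedComponentIn (f ⁻¹' {f x}) (s (f x))
    rw [e]; exact hx

theorem noetherianSpace_fiber (f : X ⟶ Y) [LocallyOfFiniteType f] [QuasiCompact f] (y : Y) :
    NoetherianSpace ↥(f.fiber y) := by
  have : IsLocallyNoetherian (f.fiber y) :=
    have : LocallyOfFiniteType (f.fiberToSpecResidueField y) :=
      MorphismProperty.pullback_snd (P := @LocallyOfFiniteType) _ _ inferInstance
    LocallyOfFiniteType.isLocallyNoetherian (f.fiberToSpecResidueField y)
  have : CompactSpace ↥(f.fiber y) := QuasiCompact.compactSpace_of_compactSpace (f.fiberToSpecResidueField y)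
  have : IsNoetherian (f.fiber y) := {}
  infer_instance

/-- A connected reduced closed piece of a fibre containing a section point is geometrically connected. -/
theorem geometricallyConnected_piece (f : X ⟶ Y) (s : Y ⟶ X) (hs : s ≫ f = 𝟙 Y) (Z : Closeds X) (y : Y)
    (hsy : s y ∈ Z) (hc : _root_.IsPreconnected ((Z : Set X) ∩ f ⁻¹' {y})) :
    GeometricallyConnected
      (((Scheme.IdealSheafData.vanishingIdeal Z).subschemeι ≫ f).fiberToSpecResidueField y) := by
  let i := (Scheme.IdealSheafData.vanishingIdeal Z).subschemeι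
  have hr : Set.range i = Z := SchBasics.range_vanishingIdeal_subschemeι Z
  let a : Spec (Y.residueField y) ⟶ X := Y.fromSpecResidueField y ≫ s
  have ha : Set.range a ⊆ Set.range i := by
    rintro _ ⟨o, rfl⟩
    rw [hr, Scheme.Hom.comp_apply, Scheme.fromSpecResidueField_apply]
    exact hsy
  let l := IsClosedImmersion.lift i a (SchBasics.ker_le_ker_of_range_subset a i ha)
  have hl : l ≫ i = a := IsClosedImmersion.lift_fac _ _ _
  let g : Spec (Y.residueField y) ⟶ (i ≫ f).fiber y := pullback.lift l (𝟙 _) (by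
    rw [← Category.assoc, hl, Category.assoc, hs, Category.comp_id, Category.id_comp])
  have hne : Nonempty ↥((i ≫ f).fiber y) := ⟨g (IsLocalRing.closedPoint _)⟩
  have : ConnectedSpace ↥((i ≫ f).fiber y) := by
    suffices _root_.IsPreconnected (Set.univ : Set ↥((i ≫ f).fiber y)) from
      { toPreconnectedSpace := ⟨this⟩, toNonempty := hne }
    rw [← ((i ≫ f).fiberι y).isEmbedding.isInducing.isPreconnected_image, Set.image_univ,
      (i ≫ f).range_fiberι, ← i.isClosedEmbedding.isEmbedding.isInducing.isPreconnected_image,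
      show ⇑(i ≫ f) = f ∘ i from rfl, Set.preimage_comp, Set.image_preimage_eq_inter_range, hr, Set.inter_comm]
    exact hc
  have : GeometricallyConnected (g ≫ (i ≫ f).fiberToSpecResidueField y) := by
    rw [show g ≫ (i ≫ f).fiberToSpecResidueField y = 𝟙 _ from pullback.lift_snd _ _ _]
    have : GeometricallyIrreducible (𝟙 (Spec (Y.residueField y))) := by
      have h := FBase64.geometricallyIrreducible_specMap (k := Y.residueField y) (L := Y.residueField y)
        (Subsingleton.elim _ _)
      rwa [show algebraMap (Y.residueField y) (Y.residueField y) = RingHom.id _ from rfl,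
        CommRingCat.ofHom_id, Spec.map_id] at h
    exact FBase64.geometricallyConnected_of_geometricallyIrreducible _
  exact FBase64.geometricallyConnected_of_source (k := Y.residueField y)
    ((i ≫ f).fiberToSpecResidueField y) g

/-- Near the generic point, the section components are a closed piece with closed complement. -/
theorem near_sectionComponents [IrreducibleSpace Y] (f : X ⟶ Y) [LocallyOfFiniteType f] [QuasiCompact f]
    (s : Y ⟶ X) (hs : s ≫ f = 𝟙 Y) :
    ∃ Z₀ Z₁ : Closeds X, NearGen2.Near fun y => ∀ x, f x = y →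
      (x ∈ MoreMor.sectionComponents f s ↔ x ∈ Z₀) ∧ (x ∉ MoreMor.sectionComponents f s ↔ x ∈ Z₁) := by
  let η := genericPoint Y
  have := noetherianSpace_fiber f η
  obtain ⟨a, ha⟩ : ∃ a, f.fiberι η a = s η := by
    rw [← Set.mem_range, f.range_fiberι]; exact section_apply f s hs η
  let C : Set ↥(f.fiber η) := connectedComponent a
  have hCc : IsClosed Cᶜ :=
    (SchBasics.isOpen_connectedComponent_of_noetherianSpace a).isClosed_compl
  let Z₀ : Closeds X := ⟨closure (f.fiberι η '' C), isClosed_closure⟩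
  let Z₁ : Closeds X := ⟨closure (f.fiberι η '' Cᶜ), isClosed_closure⟩
  have hpre : ∀ {S : Set ↥(f.fiber η)}, IsClosed S →
      f.fiberι η ⁻¹' closure (f.fiberι η '' S) = S := fun {S} hS => by
    rw [← (f.fiberι η).isEmbedding.isInducing.closure_eq_preimage_closure_image, hS.closure_eq]
  have h0 : f.fiberι η ⁻¹' (Z₀ : Set X) = C := hpre isClosed_connectedComponent
  have h1 : f.fiberι η ⁻¹' (Z₁ : Set X) = Cᶜ := hpre hCc
  have hfib : ∀ x, f x = η → ∃ w, f.fiberι η w = x := fun x hx => by
    rw [← Set.mem_range, f.range_fiberι]; exact hx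
  have hdisj : NearGen2.Near fun y => ∀ x, f x = y → x ∉ ((Z₀ : Set X) ∩ Z₁) := by
    refine NearGen2.near_avoid_closed f (Z₀.isClosed.inter Z₁.isClosed) fun x hx hfx => ?_
    obtain ⟨w, rfl⟩ := hfib x hfx
    have hw0 : w ∈ f.fiberι η ⁻¹' (Z₀ : Set X) := hx.1
    have hw1 : w ∈ f.fiberι η ⁻¹' (Z₁ : Set X) := hx.2
    rw [h0] at hw0; rw [h1] at hw1
    exact hw1 hw0
  have hcov : NearGen2.Near fun y => ∀ x, f x = y → x ∈ ((Z₀ : Set X) ∪ Z₁) := by
    refine NearGen2.near_cover_closed f (Z₀.isClosed.union Z₁.isClosed) fun x hfx => ?_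
    obtain ⟨w, rfl⟩ := hfib x hfx
    exact (em (w ∈ C)).elim (fun h => Or.inl (h0.ge h)) (fun h => Or.inr (h1.ge h))
  have hgen : (Z₀ : Set X) ∩ f ⁻¹' {η} = f.fiberι η '' C := by
    rw [← h0, Set.image_preimage_eq_inter_range, f.range_fiberι]
  have hsη : ∀ y, s y ∈ Z₀ := fun y => by
    refine (((genericPoint_spec Y).specializes trivial).map s.continuous).mem_closed Z₀.isClosed ?_
    rw [← ha]
    exact h0.ge mem_connectedComponent
  have hgc : GeometricallyConnected
      (((Scheme.IdealSheafData.vanishingIdeal Z₀).subschemeι ≫ f).fiberToSpecResidueField η) := by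
    refine geometricallyConnected_piece f s hs Z₀ η (hsη η) ?_
    rw [hgen]
    exact isPreconnected_connectedComponent.image _ (f.fiberι η).continuous.continuousOn
  have hconn := NearGen2.near_geometricallyConnected
    ((Scheme.IdealSheafData.vanishingIdeal Z₀).subschemeι ≫ f) hgc
  refine ⟨Z₀, Z₁, ((hdisj.and hcov).and hconn).mono fun y hy => ?_⟩
  obtain ⟨⟨hd, hc⟩, hg⟩ := hy
  have hZpre : _root_.IsPreconnected ((Z₀ : Set X) ∩ f ⁻¹' {y}) := by
    let i := (Scheme.IdealSheafData.vanishingIdeal Z₀).subschemeι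
    have hr : Set.range i = Z₀ := SchBasics.range_vanishingIdeal_subschemeι Z₀
    have : ConnectedSpace ↥((i ≫ f).fiber y) :=
      GeometricallyConnected.connectedSpace_of_subsingleton ((i ≫ f).fiberToSpecResidueField y)
    rw [← hr, Set.inter_comm, ← Set.image_preimage_eq_inter_range, ← Set.preimage_comp,
      ← show ⇑(i ≫ f) = f ∘ i from rfl, ← (i ≫ f).range_fiberι, ← Set.image_univ, ← Set.image_comp]
    exact isPreconnected_univ.image _ (i.continuous.comp ((i ≫ f).fiberι y).continuous).continuousOn
  have hiff : ∀ x, f x = y → (x ∈ MoreMor.sectionComponents f s ↔ x ∈ Z₀) := by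
    intro x hx
    have e : MoreMor.sectionComponents f s ∩ f ⁻¹' {y} = (Z₀ : Set X) ∩ f ⁻¹' {y} := by
      rw [sectionComponents_inter_fibre]
      refine Set.Subset.antisymm ?_ (hZpre.subset_connectedComponentIn
        ⟨hsη y, section_apply f s hs y⟩ Set.inter_subset_right)
      refine Set.subset_inter ?_ (connectedComponentIn_subset _ _)
      have hp := isPreconnected_connectedComponentIn (x := s y) (F := f ⁻¹' {y})
      rcases (isPreconnected_iff_subset_of_disjoint_closed.mp hp) Z₀ Z₁ Z₀.isClosed Z₁.isClosed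
        (fun w hw => hc w (connectedComponentIn_subset (f ⁻¹' {y}) (s y) hw))
        (Set.eq_empty_iff_forall_notMem.mpr fun w hw => hd w (connectedComponentIn_subset (f ⁻¹' {y}) (s y) hw.1) hw.2)
        with h | h
      · exact h
      · exact absurd ⟨hsη y, h (mem_connectedComponentIn (section_apply f s hs y))⟩
          (hd _ (section_apply f s hs y))
    exact ⟨fun h => (e.le ⟨h, hx⟩).1, fun h => (e.ge ⟨h, hx⟩).1⟩
  intro x hx
  refine ⟨hiff x hx, ?_⟩
  rw [hiff x hx]
  exact ⟨fun h => (hc x hx).resolve_left h, fun h h' => hd x hx ⟨h', h⟩⟩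

/-- EGA IV 9.7.12, stratification form: over some open piece of the closure of any point the section
components are cut out by a closed set with closed complement. -/
theorem exists_sectionComponents_pieces (f : X ⟶ Y) [LocallyOfFiniteType f] [QuasiCompact f]
    (s : Y ⟶ X) (hs : s ≫ f = 𝟙 Y) (y : Y) :
    ∃ U : Y.Opens, y ∈ U ∧ ∃ Z₀ Z₁ : Closeds X, ∀ x, f x ∈ (U : Set Y) ∩ closure {y} →
      (x ∈ MoreMor.sectionComponents f s ↔ x ∈ Z₀) ∧ (x ∉ MoreMor.sectionComponents f s ↔ x ∈ Z₁) := by
  let C : Closeds Y := ⟨closure {y}, isClosed_closure⟩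
  let i := (Scheme.IdealSheafData.vanishingIdeal C).subschemeι
  have hr : Set.range i = C := SchBasics.range_vanishingIdeal_subschemeι C
  let f' := pullback.snd f i
  let g' := pullback.fst f i
  let s' : _ ⟶ pullback f i := pullback.lift (i ≫ s) (𝟙 _) (by
    rw [Category.assoc, hs, Category.comp_id, Category.id_comp])
  have hs' : s' ≫ f' = 𝟙 _ := pullback.lift_snd _ _ _
  have hbc := GeomCount24.sectionComponents_baseChange f s hs f' g' i (IsPullback.of_hasPullback f i)
    s' hs' (pullback.lift_fst _ _ _)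
  have hirr : IsIrreducible (Set.range i) := hr ▸ isIrreducible_singleton.closure
  have : IrreducibleSpace ↥(Scheme.IdealSheafData.vanishingIdeal C).subscheme := by
    have : IrreducibleSpace ↥(Set.range i) := isIrreducible_iff_irreducibleSpace.mp hirr
    exact i.isClosedEmbedding.isEmbedding.toHomeomorph.irreducibleSpace_iff.mpr this
  obtain ⟨Z₀, Z₁, V, hV, hZ⟩ := near_sectionComponents f' s' hs'
  obtain ⟨U, hU, hUV⟩ := i.isClosedEmbedding.isEmbedding.isInducing.isOpen_iff.mp V.2
  obtain ⟨v, hv⟩ := hV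
  have hvU : i v ∈ U := hUV.ge hv
  have hyU : y ∈ U := by
    have hiv : i v ∈ closure ({y} : Set Y) := hr.le ⟨v, rfl⟩
    exact (specializes_iff_mem_closure.mpr hiv).mem_open hU hvU
  refine ⟨⟨U, hU⟩, hyU, ⟨g' '' Z₀, g'.isClosedEmbedding.isClosedMap _ Z₀.isClosed⟩,
    ⟨g' '' Z₁, g'.isClosedEmbedding.isClosedMap _ Z₁.isClosed⟩, fun x hx => ?_⟩
  obtain ⟨w, hw⟩ : f x ∈ Set.range i := hr.ge hx.2
  obtain ⟨x', hx', hx''⟩ := Scheme.exists_preimage_of_isPullback (IsPullback.of_hasPullback f i) x w hw.symm
  subst hx'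
  have hwV : f' x' ∈ V := by
    rw [show f' x' = w from hx'']
    exact hUV.le (show i w ∈ U by rw [hw]; exact hx.1)
  obtain ⟨e0, e1⟩ := hZ _ hwV x' rfl
  rw [hbc] at e0 e1
  constructor
  · show g' x' ∈ _ ↔ g' x' ∈ g' '' Z₀
    rw [g'.isClosedEmbedding.injective.mem_set_image]; exact e0
  · show g' x' ∉ _ ↔ g' x' ∈ g' '' Z₁
    rw [g'.isClosedEmbedding.injective.mem_set_image]; exact e1

end Groth.Agent.E4O
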