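import Groth.Agent.E4O.SectionCompOpen

/-!
EGA IV 15.6.7: openness of the section components near geometrically reduced points, locally Noetherian
case without quasi-compactness.
-/

set_option autoImplicit false
set_option linter.style.haveILetI false
universe u

open CategoryTheory CategoryTheory.Limits AlgebraicGeometry TopologicalSpace Topology

namespace Groth.Agent.E4O

variable {X Y : Scheme.{u}}

theorem exists_open_constructible_sectionComponents [IsLocallyNoetherian Y] (f : X ⟶ Y) [LocallyOfFiniteType f]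
    (g : Y ⟶ X) (hg : g ≫ f = 𝟙 Y) (hirr : ∀ y, IsIrreducible (connectedComponentIn (f ⁻¹' {y}) (g y))) (x : X) :
    ∃ U : X.Opens, x ∈ U ∧ IsLocallyConstructible (U.ι ⁻¹' MoreMor.sectionComponents f g) := by
  have : IsLocallyNoetherian X := LocallyOfFiniteType.isLocallyNoetherian f
  obtain ⟨A, hA, hxA⟩ : ∃ A : X.Opens, IsAffineOpen A ∧ x ∈ A := by
    obtain ⟨_, ⟨A, hA, rfl⟩, hxA, -⟩ :=
      X.isBasis_affineOpens.exists_subset_of_mem_open (Set.mem_univ x) isOpen_univ
    exact ⟨A, hA, hxA⟩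
  obtain ⟨B, hB, hgB⟩ : ∃ B : X.Opens, IsAffineOpen B ∧ g (f x) ∈ B := by
    obtain ⟨_, ⟨A, hA, rfl⟩, hxA, -⟩ :=
      X.isBasis_affineOpens.exists_subset_of_mem_open (Set.mem_univ (g (f x))) isOpen_univ
    exact ⟨A, hA, hxA⟩
  obtain ⟨V, hV, hyV, hVU⟩ : ∃ V : Y.Opens, IsAffineOpen V ∧ f x ∈ V ∧ (V : Set Y) ⊆ g ⁻¹ᵁ (A ⊔ B) := by
    obtain ⟨_, ⟨V, hV, rfl⟩, hyV, hVU⟩ :=
      Y.isBasis_affineOpens.exists_subset_of_mem_open (show f x ∈ g ⁻¹ᵁ (A ⊔ B) from Or.inr hgB) (g ⁻¹ᵁ (A ⊔ B)).2
    exact ⟨V, hV, hyV, hVU⟩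
  let U : X.Opens := (A ⊔ B) ⊓ f ⁻¹ᵁ V
  let f' : U.toScheme ⟶ V.toScheme := f.resLE V U inf_le_right
  have eg : V ≤ g ⁻¹ᵁ U := fun v hv => ⟨hVU hv, show f (g v) ∈ V by rw [section_apply f g hg]; exact hv⟩
  let g' : V.toScheme ⟶ U.toScheme := g.resLE U V eg
  have hf' : f' ≫ V.ι = U.ι ≫ f := f.resLE_comp_ι _
  have hgι : g' ≫ U.ι = V.ι ≫ g := g.resLE_comp_ι _
  have hg' : g' ≫ f' = 𝟙 _ := by
    rw [← cancel_mono V.ι, Category.assoc, hf', ← Category.assoc, hgι, Category.assoc, hg, Category.comp_id,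
      Category.id_comp]
  have : LocallyOfFiniteType (f' ≫ V.ι) := by rw [hf']; infer_instance
  have : LocallyOfFiniteType f' := locallyOfFiniteType_of_comp f' V.ι
  have : IsAffine V := hV
  have hN : ∀ W : X.Opens, IsAffineOpen W → NoetherianSpace ↥(W : Set X) := fun W hW => by
    have : IsNoetherianRing Γ(X, W) := IsLocallyNoetherian.component_noetherian ⟨W, hW⟩
    exact noetherianSpace_of_isAffineOpen W hW
  have : NoetherianSpace ↥(U : Set X) := by
    let T : Fin 2 → Set X := ![(A : Set X), (B : Set X)]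
    have : ∀ i, NoetherianSpace ↥(T i) := fun i => by fin_cases i; exacts [hN A hA, hN B hB]
    have hU : NoetherianSpace ↥(⋃ i, T i) := NoetherianSpace.iUnion T
    refine (IsEmbedding.inclusion (t := ⋃ i, T i) fun z hz => ?_).isInducing.noetherianSpace
    rcases hz.1 with h | h
    · exact Set.mem_iUnion.mpr ⟨0, h⟩
    · exact Set.mem_iUnion.mpr ⟨1, h⟩
  have : CompactSpace ↥U.toScheme := inferInstanceAs (CompactSpace ↥(U : Set X))
  have : QuasiCompact f' := HasAffineProperty.iff_of_isAffine.mpr this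
  have : CompactSpace ↥V.toScheme := isCompact_iff_compactSpace.mp hV.isCompact
  refine ⟨U, ⟨Or.inl hxA, hyV⟩, ?_⟩
  have e : U.ι ⁻¹' MoreMor.sectionComponents f g = MoreMor.sectionComponents f' g' := by
    ext u
    have ef : f (U.ι u) = V.ι (f' u) := by rw [← Scheme.Hom.comp_apply, ← hf', Scheme.Hom.comp_apply]
    have hgv : U.ι (g' (f' u)) = g (f (U.ι u)) := by
      rw [← Scheme.Hom.comp_apply, hgι, Scheme.Hom.comp_apply, ef]
    have hfib : U.ι ⁻¹' (f ⁻¹' {f (U.ι u)}) = f' ⁻¹' {f' u} := by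
      ext z
      show f (U.ι z) = _ ↔ f' z = f' u
      rw [ef, ← Scheme.Hom.comp_apply, ← hf', Scheme.Hom.comp_apply]
      exact V.ι.isOpenEmbedding.injective.eq_iff
    have hgm : g (f (U.ι u)) ∈ connectedComponentIn (f ⁻¹' {f (U.ι u)}) (g (f (U.ι u))) :=
      mem_connectedComponentIn (section_apply f g hg _)
    show U.ι u ∈ connectedComponentIn _ _ ↔ u ∈ connectedComponentIn _ _
    constructor
    · intro hu
      have hp : IsPreirreducible (U.ι ⁻¹' connectedComponentIn (f ⁻¹' {f (U.ι u)}) (g (f (U.ι u)))) :=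
        (hirr _).isPreirreducible.preimage U.ι.isOpenEmbedding
      exact hp.isPreconnected.subset_connectedComponentIn (Set.mem_preimage.mpr (hgv ▸ hgm))
        (hfib ▸ Set.preimage_mono (connectedComponentIn_subset _ _)) hu
    · intro hu
      refine (isPreconnected_connectedComponentIn.image _ U.ι.continuous.continuousOn).subset_connectedComponentIn
        ⟨g' (f' u), mem_connectedComponentIn (section_apply f' g' hg' _), hgv⟩ ?_ ⟨u, hu, rfl⟩
      rw [Set.image_subset_iff, hfib]
      exact connectedComponentIn_subset _ _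
  rw [e]
  exact (isConstructible_sectionComponents f' g' hg').isLocallyConstructible

/-- 15.6.7: the section components form a neighbourhood, locally Noetherian case. -/
theorem mem_interior_of_dim_const [IsLocallyNoetherian Y] (f : X ⟶ Y) [LocallyOfFiniteType f]
    (g : Y ⟶ X) (hg : g ≫ f = 𝟙 Y) (hirr : ∀ y, GeomIrredComp f g y) {x : X}
    (hx : x ∈ MoreMor.sectionComponents f g)
    (hd : ∀ z, z ⤳ f x → FlatMor.fibreDimAt f (g (f x)) ≤ FlatMor.fibreDimAt f (g z))
    (hred : FBase.IsGeomReducedAt (f.fiberToSpecResidueField (f x)) (f.asFiber x)) :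
    x ∈ interior (MoreMor.sectionComponents f g) := by
  obtain ⟨U, hxU, hU⟩ :=
    exists_open_constructible_sectionComponents f g hg (fun y => (hirr y).isIrreducible) x
  have hmem : U.ι ⁻¹' MoreMor.sectionComponents f g ∈ nhds (⟨x, hxU⟩ : U.toScheme) :=
    mem_nhds_of_forall_generization hU fun w hw =>
      mem_sectionComponents_of_dim_const f g hg hx ((hirr _).stableIrredAt hg) hd hred
        (hw.map U.ι.continuous)
  exact mem_interior_iff_mem_nhds.mpr
    (Filter.mem_of_superset (U.ι.isOpenEmbedding.isOpenMap.image_mem_nhds hmem) (Set.image_preimage_subset _ _))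

end Groth.Agent.E4O
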