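import Groth.Agent.E4O.SectionCompDvr
import Groth.Agent.E4O.SectionCompCons
import Groth.Agent.Sk62.RedOpen

/-!
EGA IV 15.6.4: the section components form a neighbourhood of a geometrically reduced component.
-/

set_option autoImplicit false
set_option linter.style.haveILetI false
universe u

open CategoryTheory CategoryTheory.Limits AlgebraicGeometry TopologicalSpace Topology

namespace Groth.Agent.E4O

variable {X Y : Scheme.{u}}

theorem flat_stalkMap_openImmersion_comp {A B S : Scheme.{u}} (e : A ⟶ B) [IsOpenImmersion e] (q : B ⟶ S) (a : A)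
    (h : (q.stalkMap (e a)).hom.Flat) : ((e ≫ q).stalkMap a).hom.Flat := by
  have h' := RingHom.Flat.comp h (RingHom.Flat.of_bijective (ConcreteCategory.bijective_of_isIso (e.stalkMap a)))
  rw [Scheme.Hom.stalkMap_comp]
  exact h'

theorem isPreconnected_of_connectedComponentIn_subset {F : Set X} {U : Set X} {a : X} :
    connectedComponentIn (U ∩ F) a ⊆ connectedComponentIn F a :=
  connectedComponentIn_mono a Set.inter_subset_right

/-- Any point of a component of a fibre is joined to the base point inside some quasi-compact open. -/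
theorem exists_qc_open_connected [IsLocallyNoetherian Y] (f : X ⟶ Y) [LocallyOfFiniteType f] {y : Y} {a x : X}
    (hx : x ∈ connectedComponentIn (f ⁻¹' {y}) a) :
    ∃ U : X.Opens, IsCompact (U : Set X) ∧ a ∈ U ∧ x ∈ connectedComponentIn ((U : Set X) ∩ f ⁻¹' {y}) a := by
  have : IsLocallyNoetherian X := LocallyOfFiniteType.isLocallyNoetherian f
  let F := f ⁻¹' {y}
  have hFy : ∀ c ∈ connectedComponentIn F a, f c = y := fun c hc => connectedComponentIn_subset F a hc
  have ha : a ∈ F := connectedComponentIn_nonempty_iff.mp ⟨x, hx⟩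
  refine IsPreconnected.induction₂ (s := connectedComponentIn F a) isPreconnected_connectedComponentIn
    (fun c d => ∃ U : X.Opens, IsCompact (U : Set X) ∧ c ∈ U ∧ d ∈ connectedComponentIn ((U : Set X) ∩ F) c)
    ?_ ?_ ?_ (mem_connectedComponentIn ha) hx
  · intro c hc
    obtain ⟨_, ⟨W, hW, rfl⟩, hcW, -⟩ :=
      X.isBasis_affineOpens.exists_subset_of_mem_open (Set.mem_univ c) isOpen_univ
    replace hW : IsAffineOpen W := hW
    have : IsNoetherianRing Γ(X, W) := IsLocallyNoetherian.component_noetherian ⟨W, hW⟩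
    have : NoetherianSpace (W : Set X) := noetherianSpace_of_isAffineOpen W hW
    have : NoetherianSpace ↥((W : Set X) ∩ F) :=
      (IsEmbedding.inclusion Set.inter_subset_left).isInducing.noetherianSpace
    let c' : ↥((W : Set X) ∩ F) := ⟨c, hcW, hFy c hc⟩
    obtain ⟨O, hO, hO'⟩ := isOpen_induced_iff.mp (SchBasics.isOpen_connectedComponent_of_noetherianSpace c')
    have hcO : c ∈ O := hO'.ge (mem_connectedComponent : c' ∈ connectedComponent c')
    refine mem_nhdsWithin.mpr ⟨O ∩ W, hO.inter W.2, ⟨hcO, hcW⟩, ?_⟩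
    rintro d ⟨⟨hdO, hdW⟩, hd⟩
    refine ⟨W, hW.isCompact, hcW, ?_⟩
    rw [connectedComponentIn_eq_image (show c ∈ (W : Set X) ∩ F from c'.2)]
    exact ⟨⟨d, hdW, hFy d hd⟩, hO'.le hdO, rfl⟩
  · rintro c d e _ _ _ ⟨U, hU, hcU, hd⟩ ⟨U', hU', hdU', he⟩
    refine ⟨U ⊔ U', hU.union hU', Or.inl hcU, ?_⟩
    have h1 : connectedComponentIn ((U : Set X) ∩ F) c ⊆ connectedComponentIn (((U ⊔ U' : X.Opens) : Set X) ∩ F) c :=
      connectedComponentIn_mono c (Set.inter_subset_inter_left F Set.subset_union_left)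
    have h2 : connectedComponentIn ((U' : Set X) ∩ F) d ⊆ connectedComponentIn (((U ⊔ U' : X.Opens) : Set X) ∩ F) d :=
      connectedComponentIn_mono d (Set.inter_subset_inter_left F Set.subset_union_right)
    rw [connectedComponentIn_eq (h1 hd)]
    exact h2 he
  · intro c d _ _
    rintro ⟨U, hU, hcU, hd⟩
    refine ⟨U, hU, (connectedComponentIn_subset _ _ hd).1, ?_⟩
    rw [← connectedComponentIn_eq hd]
    exact mem_connectedComponentIn (connectedComponentIn_nonempty_iff.mp ⟨d, hd⟩)

theorem mem_interior_sectionComponents [IsLocallyNoetherian Y] (f : X ⟶ Y) [LocallyOfFiniteType f]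
    (g : Y ⟶ X) (hg : g ≫ f = 𝟙 Y) {y : Y}
    (hred : ∀ c ∈ connectedComponentIn (f ⁻¹' {y}) (g y),
      FBase.IsGeomReducedAt (f.fiberToSpecResidueField (f c)) (f.asFiber c))
    (hflat : FlatAlongComp f g y) {x : X} (hx : x ∈ connectedComponentIn (f ⁻¹' {y}) (g y)) :
    x ∈ interior (MoreMor.sectionComponents f g) := by
  have : IsLocallyNoetherian X := LocallyOfFiniteType.isLocallyNoetherian f
  have := locallyOfFinitePresentation_of_isLocallyNoetherian f
  obtain ⟨U₀, hU₀, hgU, hxU⟩ := exists_qc_open_connected f hx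
  obtain ⟨V, hV, hyV, hVU⟩ : ∃ V : Y.Opens, IsAffineOpen V ∧ y ∈ V ∧ (V : Set Y) ⊆ g ⁻¹ᵁ U₀ := by
    obtain ⟨_, ⟨V, hV, rfl⟩, hyV, hVU⟩ :=
      Y.isBasis_affineOpens.exists_subset_of_mem_open (show y ∈ g ⁻¹ᵁ U₀ from hgU) (g ⁻¹ᵁ U₀).2
    exact ⟨V, hV, hyV, hVU⟩
  let U : X.Opens := U₀ ⊓ f ⁻¹ᵁ V
  let f' : U.toScheme ⟶ V.toScheme := f.resLE V U inf_le_right
  have eg : V ≤ g ⁻¹ᵁ U := fun v hv => ⟨hVU hv, show f (g v) ∈ V by rw [section_apply f g hg]; exact hv⟩
  let g' : V.toScheme ⟶ U.toScheme := g.resLE U V eg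
  have hf' : f' ≫ V.ι = U.ι ≫ f := f.resLE_comp_ι _
  have hgι : g' ≫ U.ι = V.ι ≫ g := g.resLE_comp_ι _
  have hg' : g' ≫ f' = 𝟙 _ := by
    rw [← cancel_mono V.ι, Category.assoc, hf', ← Category.assoc, hgι, Category.assoc, hg, Category.comp_id,
      Category.id_comp]
  have : LocallyOfFiniteType (f' ≫ V.ι) := by rw [hf']; infer_instance
  have : LocallyOfFiniteType f' := locallyOfFiniteType_of_comp f' V.ι
  have : IsAffine V := hV
  have : NoetherianSpace (U₀ : Set X) := by
    obtain ⟨s, hs⟩ := hU₀.elim_finite_subcover (fun W : X.affineOpens => (W.1 : Set X)) (fun W => W.1.2)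
      (fun z _ => by
        obtain ⟨_, ⟨W, hW, rfl⟩, hzW, -⟩ :=
          X.isBasis_affineOpens.exists_subset_of_mem_open (Set.mem_univ z) isOpen_univ
        exact Set.mem_iUnion.mpr ⟨⟨W, hW⟩, hzW⟩)
    have : ∀ W : {W // W ∈ s}, NoetherianSpace ((W.1.1 : X.Opens) : Set X) := fun W => by
      have : IsNoetherianRing Γ(X, W.1.1) := IsLocallyNoetherian.component_noetherian W.1
      exact noetherianSpace_of_isAffineOpen W.1.1 W.1.2
    have hN : NoetherianSpace ↥(⋃ W : {W // W ∈ s}, ((W.1.1 : X.Opens) : Set X)) := NoetherianSpace.iUnion _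
    refine (IsEmbedding.inclusion (t := ⋃ W : {W // W ∈ s}, ((W.1.1 : X.Opens) : Set X)) fun z hz => ?_).isInducing.noetherianSpace
    obtain ⟨W, hW, hzW⟩ := Set.mem_iUnion₂.mp (hs hz)
    exact Set.mem_iUnion.mpr ⟨⟨W, hW⟩, hzW⟩
  have : NoetherianSpace ↥(U : Set X) :=
    (IsEmbedding.inclusion (show (U : Set X) ⊆ U₀ from inf_le_left)).isInducing.noetherianSpace
  have : CompactSpace ↥U.toScheme := inferInstanceAs (CompactSpace ↥(U : Set X))
  have : QuasiCompact f' := HasAffineProperty.iff_of_isAffine.mpr this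
  have : CompactSpace ↥V.toScheme := isCompact_iff_compactSpace.mp hV.isCompact
  have hcons := isConstructible_sectionComponents f' g' hg'
  have hsub : ∀ u : ↥U, u ∈ MoreMor.sectionComponents f' g' → U.ι u ∈ MoreMor.sectionComponents f g := by
    intro u hu
    have e : f (U.ι u) = V.ι (f' u) := by rw [← Scheme.Hom.comp_apply, ← hf', Scheme.Hom.comp_apply]
    show U.ι u ∈ connectedComponentIn _ _
    rw [e]
    have himg := (isPreconnected_connectedComponentIn (x := g' (f' u)) (F := f' ⁻¹' {f' u})).image _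
      U.ι.continuous.continuousOn
    refine himg.subset_connectedComponentIn ⟨g' (f' u), mem_connectedComponentIn (section_apply f' g' hg' _), ?_⟩ ?_
      ⟨u, hu, rfl⟩
    · rw [← Scheme.Hom.comp_apply, hgι, Scheme.Hom.comp_apply]
    · rintro _ ⟨z, hz, rfl⟩
      have hz' : f' z = f' u := connectedComponentIn_subset (f' ⁻¹' {f' u}) _ hz
      show f (U.ι z) = _
      rw [← Scheme.Hom.comp_apply, ← hf', Scheme.Hom.comp_apply, hz']
  obtain ⟨v, hv⟩ : ∃ v, V.ι v = y := ⟨⟨y, hyV⟩, rfl⟩
  have hgv : U.ι (g' v) = g y := by rw [← Scheme.Hom.comp_apply, hgι, Scheme.Hom.comp_apply, hv]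
  have hfib : U.ι ⁻¹' (f ⁻¹' {y}) = f' ⁻¹' {v} := by
    ext u
    show f (U.ι u) = y ↔ f' u = v
    rw [← Scheme.Hom.comp_apply, ← hf', Scheme.Hom.comp_apply, ← hv]
    exact V.ι.isOpenEmbedding.injective.eq_iff
  obtain ⟨u, rfl, hu⟩ : ∃ u, U.ι u = x ∧ u ∈ connectedComponentIn (f' ⁻¹' {v}) (g' v) := by
    have e1 : (U₀ : Set X) ∩ f ⁻¹' {y} = (U : Set X) ∩ f ⁻¹' {y} := by
      refine Set.ext fun z => ⟨fun hz => ⟨⟨hz.1, ?_⟩, hz.2⟩, fun hz => ⟨hz.1.1, hz.2⟩⟩
      show f z ∈ V
      rw [show f z = y from hz.2]; exact hyV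
    have e2 : U.ι '' (f' ⁻¹' {v}) = (U : Set X) ∩ f ⁻¹' {y} := by
      rw [← hfib, Set.image_preimage_eq_inter_range, U.range_ι, Set.inter_comm]
    rw [e1] at hxU
    obtain ⟨u, rfl⟩ : x ∈ Set.range U.ι := by rw [U.range_ι]; exact (connectedComponentIn_subset _ _ hxU).1
    refine ⟨u, rfl, ?_⟩
    have hp : _root_.IsPreconnected (U.ι ⁻¹' connectedComponentIn ((U : Set X) ∩ f ⁻¹' {y}) (g y)) := by
      rw [← U.ι.isOpenEmbedding.isInducing.isPreconnected_image, Set.image_preimage_eq_of_subset]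
      · exact isPreconnected_connectedComponentIn
      · rw [U.range_ι]; exact (connectedComponentIn_subset _ _).trans Set.inter_subset_left
    refine hp.subset_connectedComponentIn ?_ ?_ hxU
    · rw [Set.mem_preimage, hgv]
      exact mem_connectedComponentIn (connectedComponentIn_nonempty_iff.mp ⟨_, hxU⟩)
    · intro z hz
      rw [← hfib]
      exact (connectedComponentIn_subset _ _ hz).2
  have hCsub : ∀ c ∈ connectedComponentIn (f' ⁻¹' {v}) (g' v), U.ι c ∈ connectedComponentIn (f ⁻¹' {y}) (g y) := by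
    intro c hc
    have hfc : f' c = v := connectedComponentIn_subset (f' ⁻¹' {v}) _ hc
    have h := hsub c (show c ∈ connectedComponentIn _ _ by rw [hfc]; exact hc)
    have e : f (U.ι c) = y := by rw [← Scheme.Hom.comp_apply, ← hf', Scheme.Hom.comp_apply, hfc, hv]
    rw [show U.ι c ∈ MoreMor.sectionComponents f g ↔ U.ι c ∈ connectedComponentIn (f ⁻¹' {f (U.ι c)}) (g (f (U.ι c)))
      from Iff.rfl, e] at h
    exact h
  have hsq : IsPullback (𝟙 U.toScheme) f' (U.ι ≫ f) V.ι := by
    refine ⟨⟨by rw [Category.id_comp, hf']⟩, ⟨PullbackCone.IsLimit.mk _ (fun t => t.fst) (fun t => Category.comp_id _)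
      (fun t => ?_) (fun t m h1 h2 => by simpa using h1)⟩⟩
    rw [← cancel_mono V.ι, Category.assoc, hf', t.condition]
  have hred' : ∀ c ∈ connectedComponentIn (f' ⁻¹' {v}) (g' v),
      FBase.IsGeomReducedAt (f'.fiberToSpecResidueField (f' c)) (f'.asFiber c) := fun c hc => by
    rw [isGeomReducedAt_fibre_iff_of_isPullback hsq]
    exact (Sk62.isGeomReducedAt_fibre_openImmersion U.ι f c).2 (hred _ (hCsub c hc))
  have hflat' : FlatAlongComp f' g' v := by
    intro A _ _ _ j hj c hcs hpc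
    let j' := j ≫ V.ι
    let e : pullback f' j ⟶ pullback f j' := pullback.lift (pullback.fst f' j ≫ U.ι) (pullback.snd f' j) (by
      rw [Category.assoc, ← hf', ← Category.assoc, pullback.condition, Category.assoc])
    have he1 : e ≫ pullback.fst f j' = pullback.fst f' j ≫ U.ι := pullback.lift_fst _ _ _
    have he2 : e ≫ pullback.snd f j' = pullback.snd f' j := pullback.lift_snd _ _ _
    have h1 := ((IsPullback.of_hasPullback f' j).paste_horiz hsq).flip
    rw [Category.comp_id, ← he2] at h1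
    have hpb := IsPullback.of_right h1 he1 (IsPullback.of_hasPullback f j').flip
    have : IsOpenImmersion e :=
      MorphismProperty.of_isPullback (P := @IsOpenImmersion) hpb.flip inferInstance
    have hj' : j' (IsLocalRing.closedPoint A) = y := by
      show (j ≫ V.ι) _ = y
      rw [Scheme.Hom.comp_apply, hj, hv]
    have hs' : pullback.snd f j' (e c) = IsLocalRing.closedPoint A := by
      rw [← Scheme.Hom.comp_apply, he2, hcs]
    have hp' : pullback.fst f j' (e c) ∈ connectedComponentIn (f ⁻¹' {y}) (g y) := by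
      rw [← Scheme.Hom.comp_apply, he1, Scheme.Hom.comp_apply]
      exact hCsub _ hpc
    have h2 := flat_stalkMap_openImmersion_comp e (pullback.snd f j') c (hflat A j' hj' (e c) hs' hp')
    rwa [he2] at h2
  refine interior_maximal (?_ : U.ι '' interior (MoreMor.sectionComponents f' g') ⊆ _)
    (U.ι.isOpenEmbedding.isOpenMap _ isOpen_interior) ⟨u, mem_interior_iff_mem_nhds.mpr ?_, rfl⟩
  · rintro _ ⟨z, hz, rfl⟩
    exact hsub z (interior_subset hz)
  · exact mem_nhds_of_forall_generization hcons.isLocallyConstructible fun w hw =>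
      mem_sectionComponents_of_specializes f' g' hg' hred' hflat' hu hw

end Groth.Agent.E4O
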