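import Groth.Agent.E4O.FibreComp
import Groth.Agent.E4O.StalkChart
import Groth.Agent.E4O.DvrCrit
import Groth.Agent.FlatMor68.FibreStalk
import Mathlib.RingTheory.Flat.TorsionFree
import Mathlib.Topology.Connected.Clopen

/-!
Over a discrete valuation ring, at a flat point with reduced special fibre the generisations lying in
the generic fibre form a connected set.
-/

set_option autoImplicit false
set_option linter.style.haveILetI false
universe u

open CategoryTheory AlgebraicGeometry TopologicalSpace Topology

namespace Groth.Agent.E4O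

theorem exists_eq_of_isIdempotent_away {B : Type u} [CommRing B] {p : B} (hp : ∀ b, p * b = 0 → b = 0)
    (hred : _root_.IsReduced (B ⧸ Ideal.span {p})) {S : Type u} [CommRing S] [Algebra B S]
    [IsLocalization.Away p S] {e : S} (he : IsIdempotentElem e) :
    ∃ a : B, a * a = a ∧ algebraMap B S a = e := by
  classical
  have hex : ∃ (n : ℕ) (a : B), e * algebraMap B S (p ^ n) = algebraMap B S a := by
    obtain ⟨⟨a, ⟨_, n, rfl⟩⟩, h⟩ := IsLocalization.surj (Submonoid.powers p) e
    exact ⟨n, a, h⟩
  obtain ⟨a, ha⟩ := Nat.find_spec hex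
  have hinj : Function.Injective (algebraMap B S) := by
    refine (injective_iff_map_eq_zero _).mpr fun b hb => ?_
    obtain ⟨⟨_, n, rfl⟩, hn⟩ := (IsLocalization.map_eq_zero_iff (Submonoid.powers p) S b).mp hb
    clear hb
    induction n generalizing b with
    | zero => simpa using hn
    | succ k IH => exact IH b (hp _ (by rw [← mul_assoc, mul_comm p, ← pow_succ]; exact hn))
  have hsq : a * a = p ^ Nat.find hex * a := by
    apply hinj
    rw [map_mul, map_mul, ← ha]
    linear_combination (algebraMap B S (p ^ Nat.find hex)) ^ 2 * he.eq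
  cases hn : Nat.find hex with
  | zero =>
    refine ⟨a, by rw [hn, pow_zero, one_mul] at hsq; exact hsq, ?_⟩
    rw [← ha, hn]; simp
  | succ k =>
    exfalso
    have hmem : a ∈ Ideal.span {p} := by
      rw [← Ideal.Quotient.eq_zero_iff_mem]
      refine hred.eq_zero _ ⟨2, ?_⟩
      rw [← map_pow, Ideal.Quotient.eq_zero_iff_mem, pow_two, hsq, hn, pow_succ, mul_right_comm]
      exact Ideal.mul_mem_left _ _ (Ideal.mem_span_singleton_self p)
    obtain ⟨b, rfl⟩ := Ideal.mem_span_singleton'.mp hmem
    refine Nat.find_min hex (show k < Nat.find hex by omega) ⟨b, ?_⟩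
    have hu : IsUnit (algebraMap B S p) := IsLocalization.Away.algebraMap_isUnit p
    refine hu.mul_right_cancel ?_
    rw [mul_assoc, ← map_mul, ← map_mul, ← pow_succ, ← hn]
    exact ha

theorem isPreconnected_setOf_notMem {B : Type u} [CommRing B] [IsLocalRing B] {p : B}
    (hp : ∀ b, p * b = 0 → b = 0) (hred : _root_.IsReduced (B ⧸ Ideal.span {p})) :
    _root_.IsPreconnected {P : PrimeSpectrum B | p ∉ P.asIdeal} := by
  have hr : Set.range (PrimeSpectrum.comap (algebraMap B (Localization.Away p))) =
      {P : PrimeSpectrum B | p ∉ P.asIdeal} :=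
    PrimeSpectrum.localization_away_comap_range (Localization.Away p) p
  rw [← hr]
  have : PreconnectedSpace (PrimeSpectrum (Localization.Away p)) := by
    refine preconnectedSpace_iff_clopen.mpr fun s hs => ?_
    obtain ⟨e, he, rfl⟩ := PrimeSpectrum.isClopen_iff.mp hs
    obtain ⟨a, ha, rfl⟩ := exists_eq_of_isIdempotent_away hp hred he
    by_cases hu : IsUnit a
    · rw [hu.mul_eq_left.mp ha, map_one, PrimeSpectrum.basicOpen_one]
      exact Or.inr rfl
    · have h1 : IsUnit (1 - a) := (IsLocalRing.isUnit_or_isUnit_one_sub_self a).resolve_left hu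
      have : a = 0 := h1.mul_left_eq_zero.mp (by rw [mul_sub, mul_one, ha, sub_self])
      rw [this, map_zero, PrimeSpectrum.basicOpen_zero]
      exact Or.inl rfl
  exact isPreconnected_range (PrimeSpectrum.continuous_comap _)

theorem isPreconnected_generisations_off_closed {A : Type u} [CommRing A] [IsDomain A]
    [IsDiscreteValuationRing A] {X : Scheme.{u}} (f : X ⟶ Spec (CommRingCat.of A)) (x : X)
    (hx : f x = IsLocalRing.closedPoint A) (hflat : (f.stalkMap x).hom.Flat)
    (hred : _root_.IsReduced ((f.fiber (f x)).presheaf.stalk (f.asFiber x))) :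
    _root_.IsPreconnected {w : X | w ⤳ x ∧ f w ≠ IsLocalRing.closedPoint A} := by
  let R := (Spec (CommRingCat.of A)).presheaf.stalk (f x)
  let B := X.presheaf.stalk x
  let y : PrimeSpectrum A := f x
  have hyne : y.asIdeal ≠ ⊥ := by
    have : y.asIdeal = IsLocalRing.maximalIdeal A := congrArg PrimeSpectrum.asIdeal hx
    rw [this]
    exact IsDiscreteValuationRing.not_a_field A
  obtain ⟨al, hal⟩ : ∃ _ : Algebra A R, IsLocalization.AtPrime R y.asIdeal :=
    exists_isLocalization_stalk (𝟙 (Spec (CommRingCat.of A))) y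
  have hdom : IsDomain R := IsLocalization.isDomain_of_le_nonZeroDivisors (R := A) (S := R)
    y.asIdeal.primeCompl_le_nonZeroDivisors
  have : IsDiscreteValuationRing R :=
    IsLocalization.AtPrime.isDiscreteValuationRing_of_dedekind_domain A hyne R
  let φ : R →+* B := (f.stalkMap x).hom
  obtain ⟨π, hπ⟩ := IsDiscreteValuationRing.exists_irreducible R
  have hπm : IsLocalRing.maximalIdeal R = Ideal.span {π} := hπ.maximalIdeal_eq
  have hmap : (IsLocalRing.maximalIdeal R).map φ = Ideal.span {φ π} := by
    rw [hπm, Ideal.map_span, Set.image_singleton]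
  have hredq : _root_.IsReduced (B ⧸ Ideal.span {φ π}) := by
    rw [← hmap]
    exact isReduced_of_injective (FlatMor68.FibreStalk.fibreStalkEquivAt f x).toRingHom
      (FlatMor68.FibreStalk.fibreStalkEquivAt f x).injective
  have hnzd : ∀ b : B, φ π * b = 0 → b = 0 := by
    letI : Algebra R B := φ.toAlgebra
    haveI : Module.Flat R B := hflat
    intro b hb
    have hreg : IsSMulRegular B π :=
      Module.Flat.isSMulRegular_of_nonZeroDivisors (mem_nonZeroDivisors_of_ne_zero hπ.ne_zero)
    exact hreg.right_eq_zero_of_smul (by rw [Algebra.smul_def]; exact hb)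
  have hpt : ∀ P : PrimeSpectrum B, f (X.fromSpecStalk x P) = f x ↔ φ π ∈ P.asIdeal := by
    intro P
    have h1 : f (X.fromSpecStalk x P) =
        (Spec (CommRingCat.of A)).fromSpecStalk (f x) (PrimeSpectrum.comap φ P) := by
      refine (Scheme.Hom.comp_apply (X.fromSpecStalk x) f P).symm.trans ?_
      rw [← Scheme.SpecMap_stalkMap_fromSpecStalk]
      rfl
    constructor
    · intro hP
      rw [h1] at hP
      have h2 : PrimeSpectrum.comap φ P = IsLocalRing.closedPoint R :=
        ((Spec (CommRingCat.of A)).fromSpecStalk (f x)).isEmbedding.injective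
          (hP.trans Scheme.fromSpecStalk_closedPoint.symm)
      have h3 : P.asIdeal.comap φ = IsLocalRing.maximalIdeal R := congrArg PrimeSpectrum.asIdeal h2
      show π ∈ P.asIdeal.comap φ
      rw [h3, hπm]
      exact Ideal.mem_span_singleton_self π
    · intro hP
      have h2 : PrimeSpectrum.comap φ P = IsLocalRing.closedPoint R := by
        refine PrimeSpectrum.ext (le_antisymm (IsLocalRing.le_maximalIdeal (P.2.comap φ).ne_top) ?_)
        show IsLocalRing.maximalIdeal R ≤ P.asIdeal.comap φ
        rw [hπm, Ideal.span_singleton_le_iff_mem]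
        exact hP
      rw [h1, h2]
      exact Scheme.fromSpecStalk_closedPoint
  have e : {w : X | w ⤳ x ∧ f w ≠ IsLocalRing.closedPoint A} =
      X.fromSpecStalk x '' {P : PrimeSpectrum B | φ π ∉ P.asIdeal} := by
    ext w
    constructor
    · rintro ⟨hw, hne⟩
      have hmem : w ∈ Set.range (X.fromSpecStalk x) := by rw [Scheme.range_fromSpecStalk]; exact hw
      obtain ⟨P, rfl⟩ := hmem
      exact ⟨P, fun h => hne (((hpt P).2 h).trans hx), rfl⟩
    · rintro ⟨P, hP, rfl⟩
      have hw : X.fromSpecStalk x P ∈ Set.range (X.fromSpecStalk x) := ⟨P, rfl⟩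
      rw [Scheme.range_fromSpecStalk] at hw
      exact ⟨hw, fun h => hP ((hpt P).1 (h.trans hx.symm))⟩
  rw [e]
  exact (isPreconnected_setOf_notMem hnzd hredq).image _ (X.fromSpecStalk x).continuous.continuousOn

theorem mem_component_of_generisations {A : Type u} [CommRing A] [IsDomain A]
    [IsDiscreteValuationRing A] {X : Scheme.{u}} (f : X ⟶ Spec (CommRingCat.of A)) (x : X)
    (hx : f x = IsLocalRing.closedPoint A) (hflat : (f.stalkMap x).hom.Flat)
    (hred : _root_.IsReduced ((f.fiber (f x)).presheaf.stalk (f.asFiber x))) {a w v : X} (hw : w ⤳ x)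
    (hv : v ⤳ x) {η : Spec (CommRingCat.of A)} (hη : η = genericPoint (Spec (CommRingCat.of A)))
    (hfw : f w = η) (hfv : f v = η) (hva : v ∈ connectedComponentIn (f ⁻¹' {η}) a) :
    w ∈ connectedComponentIn (f ⁻¹' {η}) a := by
  have hne : η ≠ IsLocalRing.closedPoint A := hη ▸ genericPoint_ne_closedPoint
  rw [connectedComponentIn_eq hva]
  refine (isPreconnected_generisations_off_closed f x hx hflat hred).subset_connectedComponentIn
    (show v ∈ {w : X | w ⤳ x ∧ f w ≠ IsLocalRing.closedPoint A} from ⟨hv, hfv ▸ hne⟩) ?_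
    (show w ∈ {w : X | w ⤳ x ∧ f w ≠ IsLocalRing.closedPoint A} from ⟨hw, hfw ▸ hne⟩)
  rintro z ⟨-, hz⟩
  exact ((eq_closedPoint_or_eq_genericPoint (f z)).resolve_left hz).trans hη.symm

end Groth.Agent.E4O
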