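import Groth.Agent.E4O.SectionCompStable
import Groth.Agent.E4O.SectionCompFlat
import Groth.Agent.E4O.SectionCompConst
import Groth.Agent.Sk62.FlatGeomRed
import Groth.Agent.FlatMor66.BCStalk
import Groth.Agent.S4963

/-!
EGA IV 15.6.5, 15.6.7: flatness and openness along geometrically irreducible section components of
locally constant dimension, at points where the fibre is geometrically reduced.
-/

set_option autoImplicit false
set_option linter.style.haveILetI false
universe u

open CategoryTheory CategoryTheory.Limits AlgebraicGeometry TopologicalSpace Topology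

namespace Groth.Agent.E4O

variable {X Y : Scheme.{u}}

theorem mem_sectionComponents_of_dim_const [IsLocallyNoetherian Y] (f : X ⟶ Y) [LocallyOfFiniteType f]
    (g : Y ⟶ X) (hg : g ≫ f = 𝟙 Y) {y : Y} {x : X} (hx : x ∈ connectedComponentIn (f ⁻¹' {y}) (g y))
    (hirr : StableIrredAt f g y)
    (hd : ∀ z, z ⤳ y → FlatMor.fibreDimAt f (g y) ≤ FlatMor.fibreDimAt f (g z))
    (hred : FBase.IsGeomReducedAt (f.fiberToSpecResidueField (f x)) (f.asFiber x)) {w : X} (hw : w ⤳ x) :
    w ∈ MoreMor.sectionComponents f g := by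
  have := locallyOfFinitePresentation_of_isLocallyNoetherian f
  have hxy : f x = y := connectedComponentIn_subset (f ⁻¹' {y}) (g y) hx
  show w ∈ connectedComponentIn (f ⁻¹' {f w}) (g (f w))
  by_cases hwy : f w = y
  · rw [hwy]; exact mem_connectedComponentIn_of_specializes f hx hw hwy
  have : IsLocallyNoetherian X := LocallyOfFiniteType.isLocallyNoetherian f
  obtain ⟨A, _, _, _, k, hks, hkη⟩ := exists_dvr_of_specializes hw (fun e => hwy (e ▸ hxy))
  let h := k ≫ f
  let p := pullback.fst f h
  let q := pullback.snd f h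
  have hsq : IsPullback p q f h := IsPullback.of_hasPullback f h
  let t : Spec (CommRingCat.of A) ⟶ pullback f h := pullback.lift k (𝟙 _) (by rw [Category.id_comp])
  let σ : Spec (CommRingCat.of A) ⟶ pullback f h := pullback.lift (h ≫ g) (𝟙 _) (by
    rw [Category.assoc, hg, Category.comp_id, Category.id_comp])
  have hσ : σ ≫ q = 𝟙 _ := pullback.lift_snd _ _ _
  have hσp : σ ≫ p = h ≫ g := pullback.lift_fst _ _ _
  have htq : ∀ a, q (t a) = a := section_apply q t (pullback.lift_snd _ _ _)
  have htp : ∀ a, p (t a) = k a := fun a => by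
    rw [← Scheme.Hom.comp_apply, show t ≫ p = k from pullback.lift_fst _ _ _]
  let s := IsLocalRing.closedPoint A
  let η := genericPoint (Spec (CommRingCat.of A))
  have hh : h s = y := by
    show (k ≫ f) _ = y
    rw [Scheme.Hom.comp_apply, hks, hxy]
  have hhη : h η = f w := by
    show (k ≫ f) _ = f w
    rw [Scheme.Hom.comp_apply, hkη]
  have hirr' : StableIrredAt q σ s := hirr.baseChange hsq hσp hh
  have hpre := fun a c hc => GeomCount24.preimage_connectedComponent_fibre f g hg q p h hsq σ hσ hσp a c hc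
  have hts : t s ∈ connectedComponentIn (q ⁻¹' {s}) (σ s) :=
    (hpre _ _ (htq _)).mpr (by rw [htp, hks, hh]; exact hx)
  have hd' : ∀ z, z ⤳ s → FlatMor.fibreDimAt q (σ s) ≤ FlatMor.fibreDimAt q (σ z) := fun z hz => by
    have hp : ∀ a, p (σ a) = g (h a) := fun a => by rw [← Scheme.Hom.comp_apply, hσp, Scheme.Hom.comp_apply]
    rw [FibDim94.fibreDimAt_eq_of_isPullback hsq, FibDim94.fibreDimAt_eq_of_isPullback hsq, hp, hp, hh]
    exact hd _ (hh ▸ hz.map h.continuous)
  have hr : _root_.IsReduced ((q.fiber (q (t s))).presheaf.stalk (q.asFiber (t s))) := by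
    refine isReduced_fibre_stalk_of_isGeomReducedAt q ((isGeomReducedAt_fibre_iff_of_isPullback hsq _).2 ?_)
    rw [htp, hks]; exact hred
  have hflat : (q.stalkMap (t s)).hom.Flat := by
    have := locallyOfFinitePresentation_of_isLocallyNoetherian q
    refine S4948.result q (t s) (htq _) (fun z hz _ => ?_) hr
    have hzt : q.fiberι (q (t s)) z ⤳ t s := by
      have := (specializes_iff_mem_closure.mpr hz).map (q.fiberι (q (t s))).continuous
      rwa [q.fiberι_asFiber] at this
    exact isOpenAt_of_fibreDimAt_ge q σ hσ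
      (mem_connectedComponentIn_of_specializes q hts hzt ((apply_fiberι q _ z).trans (htq s)))
      (hirr'.isIrreducible hσ) hd'
  have hη : η ⤳ s := (genericPoint_spec (Spec (CommRingCat.of A))).specializes trivial
  obtain ⟨v, hv, hqv, hvC⟩ := exists_generisation_mem_component q σ hσ hts (hirr'.isIrreducible hσ) hη (hd' η hη)
  have := mem_component_of_generisations q (t s) (htq s) hflat hr (w := t η) (hη.map t.continuous) hv rfl
    (htq η) hqv hvC
  have := (hpre _ _ (htq _)).mp this
  rwa [htp, hkη, hhη] at this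

theorem flat_stalkMap_of_dim_const [IsLocallyNoetherian Y] [IsReduced Y] (f : X ⟶ Y) [LocallyOfFiniteType f]
    (g : Y ⟶ X) (hg : g ≫ f = 𝟙 Y) {y : Y} {x : X} (hx : x ∈ connectedComponentIn (f ⁻¹' {y}) (g y))
    (hirr : StableIrredAt f g y)
    (hd : ∀ z, z ⤳ y → FlatMor.fibreDimAt f (g y) ≤ FlatMor.fibreDimAt f (g z))
    (hred : FBase.IsGeomReducedAt (f.fiberToSpecResidueField (f x)) (f.asFiber x)) :
    (f.stalkMap x).hom.Flat := by
  have := locallyOfFinitePresentation_of_isLocallyNoetherian f
  obtain rfl : f x = y := connectedComponentIn_subset (f ⁻¹' {y}) (g y) hx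
  refine Sk62.flat_stalkMap_of_isUnivOpenAt f x (fun z hz _ => ?_) hred inferInstance
  refine isUnivOpenAt_of_fibreDimAt_ge f g hg
    (mem_connectedComponentIn_of_specializes f hx ?_ (apply_fiberι f (f x) z)) hirr hd
  have h := (specializes_iff_mem_closure.mpr hz).map (f.fiberι (f x)).continuous
  rwa [f.fiberι_asFiber] at h

theorem flat_of_flat_comp_openImmersion {A B S : Scheme.{u}} (e : A ⟶ B) [IsOpenImmersion e] (q : B ⟶ S) (a : A)
    (h : ((e ≫ q).stalkMap a).hom.Flat) : (q.stalkMap (e a)).hom.Flat := by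
  have h2 : (q.stalkMap (e a) ≫ e.stalkMap a).hom.Flat := by rwa [← Scheme.Hom.stalkMap_comp e q a]
  have h' := RingHom.Flat.comp h2 (RingHom.Flat.of_bijective
    (ConcreteCategory.bijective_of_isIso (inv (e.stalkMap a))))
  rwa [← CommRingCat.hom_comp, Category.assoc, IsIso.hom_inv_id, Category.comp_id] at h'

/-- A finitely presented morphism with section over an affine base descends to a reduced Noetherian base
with the lower bound on the fibre dimension along the section. -/
theorem exists_reduced_model [IsAffine Y] [IsReduced Y] (f : X ⟶ Y) [LocallyOfFinitePresentation f]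
    [QuasiCompact f] [QuasiSeparated f] (g : Y ⟶ X) (hg : g ≫ f = 𝟙 Y) (d : ℕ)
    (hd : ∀ y, ((d : ℕ) : WithBot ℕ∞) ≤ FlatMor.fibreDimAt f (g y)) :
    ∃ (Y' : Scheme.{u}) (_ : IsLocallyNoetherian Y') (_ : IsReduced Y') (π : Y ⟶ Y') (X' : Scheme.{u})
      (f' : X' ⟶ Y') (_ : LocallyOfFiniteType f') (_ : QuasiCompact f') (_ : QuasiSeparated f')
      (g' : Y' ⟶ X') (_ : g' ≫ f' = 𝟙 Y') (eX : X ⟶ X'),
      IsPullback eX f f' π ∧ g ≫ eX = π ≫ g' ∧ ∀ y, ((d : ℕ) : WithBot ℕ∞) ≤ FlatMor.fibreDimAt f' (g' y) := by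
  obtain ⟨Y', _, _, π, X', f', _, _, _, g', hg', eX, hX, hgX, -⟩ := exists_sectionModel f g hg
  let C : Closeds Y' := ⟨closure (Set.range π), isClosed_closure⟩
  let i := (Scheme.IdealSheafData.vanishingIdeal C).subschemeι
  have hr : Set.range i = C := SchBasics.range_vanishingIdeal_subschemeι C
  let π' := IsClosedImmersion.lift i π
    (SchBasics.ker_le_ker_of_range_subset π i (subset_closure.trans hr.ge))
  have hπ' : π' ≫ i = π := IsClosedImmersion.lift_fac _ _ _
  let eX' : X ⟶ pullback f' i := pullback.lift eX (f ≫ π') (by rw [hX.w, Category.assoc, hπ'])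
  have he1 : eX' ≫ pullback.fst f' i = eX := pullback.lift_fst _ _ _
  have hX' : IsPullback eX' f (pullback.snd f' i) π' :=
    IsPullback.of_right (by rw [he1, hπ']; exact hX) (pullback.lift_snd _ _ _) (IsPullback.of_hasPullback f' i)
  let g'' : _ ⟶ pullback f' i := pullback.lift (i ≫ g') (𝟙 _) (by
    rw [Category.assoc, hg', Category.comp_id, Category.id_comp])
  have hg'' : g'' ≫ pullback.snd f' i = 𝟙 _ := pullback.lift_snd _ _ _
  have : IsLocallyNoetherian (Scheme.IdealSheafData.vanishingIdeal C).subscheme :=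
    LocallyOfFiniteType.isLocallyNoetherian i
  refine ⟨_, this, SchBasics.isReduced_vanishingIdeal_subscheme C, π', _, pullback.snd f' i, inferInstance,
    inferInstance, inferInstance, g'', hg'', eX', hX', ?_, fun z => ?_⟩
  · apply pullback.hom_ext
    · rw [Category.assoc, he1, Category.assoc, pullback.lift_fst, ← Category.assoc, hπ', hgX]
    · rw [Category.assoc, pullback.lift_snd, ← Category.assoc, hg, Category.id_comp, Category.assoc,
        pullback.lift_snd, Category.comp_id]
  · rw [FibDim94.fibreDimAt_eq_of_isPullback (IsPullback.of_hasPullback f' i), ← Scheme.Hom.comp_apply,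
      show g'' ≫ pullback.fst f' i = i ≫ g' from pullback.lift_fst _ _ _, Scheme.Hom.comp_apply]
    have hclosed : IsClosed {v : Y' | ((d : ℕ) : WithBot ℕ∞) ≤ FlatMor.fibreDimAt f' (g' v)} := by
      refine ⟨?_⟩
      convert (isOpen_fibreDimAt_lt f' ((d : ℕ) : WithBot ℕ∞)).preimage g'.continuous using 1
      ext v
      exact not_le (α := WithBot ℕ∞)
    refine (hclosed.closure_subset_iff.mpr ?_) (hr.le ⟨z, rfl⟩)
    rintro _ ⟨y, rfl⟩
    show ((d : ℕ) : WithBot ℕ∞) ≤ FlatMor.fibreDimAt f' (g' (π y))
    rw [← Scheme.Hom.comp_apply, ← hgX, Scheme.Hom.comp_apply, ← FibDim94.fibreDimAt_eq_of_isPullback hX]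
    exact hd y

end Groth.Agent.E4O
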