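import Groth.Agent.Rig93.FlatDesc
import Groth.Agent.ConsProp93.Approx
import Groth.Agent.LimTop61.IsoDescent
import Groth.Agent.Approx60.Morph
import Groth.Agent.LimDesc62.ClosedImm

/-!
A separated finitely presented morphism with a section comes from a separated one over a Noetherian base
(EGA IV 8.8.2, 8.10.4).
-/

set_option autoImplicit false
universe u

set_option backward.isDefEq.respectTransparency false

open CategoryTheory CategoryTheory.Limits AlgebraicGeometry TopologicalSpace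

namespace Groth.Agent.E4O

theorem exists_sectionModel_separated {X Y : Scheme.{u}} [CompactSpace Y] [QuasiSeparatedSpace Y] (f : X ⟶ Y)
    [LocallyOfFinitePresentation f] [QuasiCompact f] [IsSeparated f] (s : Y ⟶ X) (hs : s ≫ f = 𝟙 Y) :
    ∃ (Y' : Scheme.{u}) (_ : IsLocallyNoetherian Y') (_ : CompactSpace Y') (π : Y ⟶ Y') (X' : Scheme.{u})
      (f' : X' ⟶ Y') (_ : LocallyOfFiniteType f') (_ : QuasiCompact f') (_ : IsSeparated f')
      (s' : Y' ⟶ X') (_ : s' ≫ f' = 𝟙 Y') (eX : X ⟶ X'),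
      IsPullback eX f f' π ∧ s ≫ eX = π ≫ s' := by
  obtain ⟨J, _, _, D, π, hD, ⟨hc⟩⟩ := Approx60.exists_approximation Y
  have := hD.aff
  have := hD.compact
  have hln := fun i => @Approx60.isLocallyNoetherian_of_lft_toZ _ (hD.lft i)
  obtain ⟨i, Xi, ui, e, hl, hqc, hqs, he⟩ := Approx60.S0591 D _ hc X f
  obtain ⟨eX₀, -, hX₀⟩ := ConsProp93.exists_isPullback_of_fac he (IsPullback.of_hasPullback ui (D.map (𝟙 i)))
    (π.app i) ((Cone.mk Y π).w (𝟙 i))
  let b₀ := pullback.snd ui (D.map (𝟙 i))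
  have hw : (s ≫ eX₀) ≫ b₀ = 𝟙 Y ≫ π.app i := by rw [Category.assoc, hX₀.w, reassoc_of% hs]; simp
  obtain ⟨j, φ, g, hg, hg'⟩ := LimTop61.exists_hom_descend (D := D) (c := Cone.mk Y π) hc (𝟙 (D.obj i)) b₀
    (𝟙 Y) (π.app i) IsPullback.of_id_snd (s ≫ eX₀) hw
  let g₁ : D.obj j ⟶ pullback ui (D.map (𝟙 i)) := pullback.lift (D.map φ) (𝟙 _) (by simp) ≫ g
  have hg₁ : g₁ ≫ b₀ = D.map φ := by simp [g₁, hg]
  have hg₁' : π.app j ≫ g₁ = s ≫ eX₀ := by
    rw [← hg', ← Category.assoc]
    congr 1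
    apply pullback.hom_ext
    · rw [Category.assoc, pullback.lift_fst, pullback.lift_fst]; exact (Cone.mk Y π).w φ
    · rw [Category.assoc, pullback.lift_snd, pullback.lift_snd]; simp
  obtain ⟨eX₁, heX₁, hX₁⟩ := ConsProp93.exists_isPullback_of_fac hX₀ (IsPullback.of_hasPullback b₀ (D.map φ))
    (π.app j) ((Cone.mk Y π).w φ)
  let a₁ := pullback.snd b₀ (D.map φ)
  let g₂ : D.obj j ⟶ pullback b₀ (D.map φ) := pullback.lift g₁ (𝟙 _) (by rw [hg₁, Category.id_comp])
  obtain ⟨m, ψ, hsep⟩ := LimDesc62.descProp_isSeparated_top.desc D (Cone.mk Y π) hc j a₁ trivial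
    (show IsSeparated (pullback.snd a₁ ((Cone.mk Y π).π.app j)) from
      (LimDesc62.prop_iff_of_isPullback (P := @IsSeparated) hX₁).mp inferInstance)
  have : IsSeparated (pullback.snd a₁ (D.map ψ)) := hsep
  obtain ⟨eX, heX, hX⟩ := ConsProp93.exists_isPullback_of_fac hX₁ (IsPullback.of_hasPullback a₁ (D.map ψ))
    (π.app m) ((Cone.mk Y π).w ψ)
  refine ⟨D.obj m, hln m, inferInstance, π.app m, _, pullback.snd a₁ (D.map ψ), inferInstance, inferInstance,
    hsep, pullback.lift (D.map ψ ≫ g₂) (𝟙 _) (by simp [g₂, a₁]), pullback.lift_snd _ _ _, eX, hX, ?_⟩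
  apply pullback.hom_ext
  · rw [Category.assoc, heX, Category.assoc, pullback.lift_fst, ← Category.assoc (π.app m),
      show π.app m ≫ D.map ψ = π.app j from (Cone.mk Y π).w ψ]
    apply pullback.hom_ext
    · rw [Category.assoc, heX₁, Category.assoc, pullback.lift_fst, hg₁']
    · rw [Category.assoc, hX₁.w, reassoc_of% hs, Category.assoc, pullback.lift_snd, Category.comp_id]
  · rw [Category.assoc, hX.w, reassoc_of% hs, Category.assoc, pullback.lift_snd, Category.comp_id]

end Groth.Agent.E4O
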