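import Groth.Agent.E4O.ComponentProper
import Groth.Agent.E4O.ComponentClopen
import Groth.Agent.E4O.SectionModelSep
import Groth.Agent.E4O.SectionCompCons
import Groth.Agent.GeomCount24.Section
import Groth.Prelude.Def_MoreMor

/-!
EGA IV 15.6.7: section components proper at a point are proper over a neighbourhood, over any base.
-/

set_option autoImplicit false
set_option linter.style.haveILetI false

universe u

open CategoryTheory CategoryTheory.Limits AlgebraicGeometry TopologicalSpace Topology IsLocalRing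

namespace Groth.Agent.E4O

variable {X Y : Scheme.{u}}

theorem fiberι_preimage_sectionComponents (f : X ⟶ Y) (g : Y ⟶ X) (y : Y) :
    (f.fiberι y) ⁻¹' MoreMor.sectionComponents f g =
      (f.fiberι y) ⁻¹' connectedComponentIn (f ⁻¹' {y}) (g y) := by
  rw [← sectionComponents_inter_fibre f g y]
  ext w
  exact ⟨fun h => ⟨h, (f.range_fiberι y).le ⟨w, rfl⟩⟩, fun h => h.1⟩

theorem componentHyp_sectionComponents (f : X ⟶ Y) [LocallyOfFiniteType f] (g : Y ⟶ X) (hg : g ≫ f = 𝟙 Y)
    (y : Y) : ComponentHyp f (MoreMor.sectionComponents f g) y := by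
  refine ⟨fun y' _ => ?_, fun A _ _ _ h _ => ?_, fun A _ _ _ h _ P hP htr _ => ?_⟩
  · rw [fiberι_preimage_sectionComponents]
    exact isClopen_fiberι_preimage_component f (section_apply f g hg y')
  · let σ : Spec (CommRingCat.of A) ⟶ pullback f h := pullback.lift (h ≫ g) (𝟙 _)
      (by rw [Category.assoc, hg, Category.comp_id, Category.id_comp])
    rw [← GeomCount24.sectionComponents_baseChange f g hg _ _ _ (IsPullback.of_hasPullback f h) σ
      (pullback.lift_snd _ _ _) (pullback.lift_fst _ _ _), sectionComponents_inter_fibre]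
    exact isPreconnected_connectedComponentIn
  · let σ : Spec (CommRingCat.of A) ⟶ pullback f h := pullback.lift (h ≫ g) (𝟙 _)
      (by rw [Category.assoc, hg, Category.comp_id, Category.id_comp])
    have hσ : σ ≫ pullback.snd f h = 𝟙 _ := pullback.lift_snd _ _ _
    rw [← GeomCount24.sectionComponents_baseChange f g hg _ _ _ (IsPullback.of_hasPullback f h) σ hσ
      (pullback.lift_fst _ _ _)] at htr ⊢
    have hs : σ (closedPoint A) ∈ P := (htr.ge ((sectionComponents_inter_fibre _ σ (closedPoint A)).ge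
      (mem_connectedComponentIn (section_apply _ σ hσ (closedPoint A))))).1
    rw [sectionComponents_inter_fibre]
    exact ⟨σ (genericPoint _),
      (((genericPoint_spec (Spec (CommRingCat.of A))).specializes trivial).map σ.continuous).mem_open hP hs,
      mem_connectedComponentIn (section_apply _ σ hσ (genericPoint _))⟩

theorem exists_properOn_sectionComponents (f : X ⟶ Y) [IsSeparated f] [LocallyOfFinitePresentation f]
    [QuasiCompact f] (g : Y ⟶ X) (hg : g ≫ f = 𝟙 Y) (y : Y)
    (hT : ProperTrace f (MoreMor.sectionComponents f g) y) :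
    ∃ U : Y.Opens, y ∈ U ∧ ProperOn f (MoreMor.sectionComponents f g) U := by
  obtain ⟨_, ⟨V, hV, rfl⟩, hyV, -⟩ :=
    Y.isBasis_affineOpens.exists_subset_of_mem_open (Set.mem_univ y) isOpen_univ
  have : IsAffine V := hV
  have hp := (isPullback_morphismRestrict f V).flip
  let gV : Scheme.Opens.toScheme V ⟶ (f ⁻¹ᵁ V).toScheme :=
    hp.lift ((Scheme.Opens.ι V) ≫ g) (𝟙 _) (by rw [Category.assoc, hg, Category.comp_id, Category.id_comp])
  have hgV : gV ≫ f ∣_ V = 𝟙 _ := hp.lift_snd _ _ _
  have hgVg : gV ≫ (f ⁻¹ᵁ V).ι = (Scheme.Opens.ι V) ≫ g := hp.lift_fst _ _ _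
  haveI : IsSeparated (f ∣_ V) := MorphismProperty.of_isPullback (P := @IsSeparated) hp inferInstance
  haveI : QuasiCompact (f ∣_ V) := MorphismProperty.of_isPullback (P := @QuasiCompact) hp inferInstance
  haveI : LocallyOfFinitePresentation (f ∣_ V) :=
    MorphismProperty.of_isPullback (P := @LocallyOfFinitePresentation) hp inferInstance
  obtain ⟨Y', _, _, π, X', f', _, _, _, s', hs', eX, hX, hsX⟩ := exists_sectionModel_separated (f ∣_ V) gV hgV
  have e₁ := GeomCount24.sectionComponents_baseChange f g hg _ _ _ hp gV hgV hgVg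
  have e₂ := GeomCount24.sectionComponents_baseChange f' s' hs' (f ∣_ V) eX π hX gV hgV hsX
  have hH := componentHyp_sectionComponents f' s' hs' (π ⟨y, hyV⟩)
  have hT₁ : ProperTrace (f ∣_ V) (eX ⁻¹' MoreMor.sectionComponents f' s') ⟨y, hyV⟩ := by
    rw [← e₂, e₁]; exact hT.baseChange hp rfl
  obtain ⟨U, hyU, hU⟩ := hH.exists_properOn
    (hT₁.descend hX rfl (hH.clopen _ specializes_rfl).isClosed)
    (isLocallyConstructible_sectionComponents f' s' hs')
  have h₂ := hU.baseChange hX
  rw [← e₂, e₁] at h₂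
  exact ⟨(Scheme.Opens.ι V) ''ᵁ (π ⁻¹ᵁ U), ⟨⟨y, hyV⟩, hyU, rfl⟩, h₂.of_restrict⟩

end Groth.Agent.E4O
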