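import Groth.Agent.E4O.SepField

/-!
EGA IV 11.9: flat algebras over artinian local rings preserve separation.
-/

set_option autoImplicit false

noncomputable section

universe u

open TensorProduct IsLocalRing

namespace Groth.Agent.E4O.Sep

attribute [local instance] Algebra.TensorProduct.rightAlgebra

variable {A : Type u} [CommRing A] [IsArtinianRing A] [IsLocalRing A]

theorem stableSep_of_flat_artinian (T : Type u) [CommRing T] [Algebra A T] [Module.Flat A T] : StableSep A T := by
  intro ι M _ _ N _ _ f hf b
  classical
  obtain ⟨s, hs⟩ := IsNoetherian.noetherian (maximalIdeal A)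
  obtain ⟨K, hK⟩ : IsNilpotent (maximalIdeal A) := by
    rw [← IsLocalRing.jacobson_eq_maximalIdeal (R := A) ⊥ bot_ne_top]
    exact IsArtinianRing.isNilpotent_jacobson_bot
  suffices ∀ (j : ℕ) (z : T ⊗[A] M), (∀ a ∈ maximalIdeal A ^ j, a • z = 0) →
      (∀ i, ∃ n : ℕ, b ^ n • (f i).baseChange T z = 0) → ∃ n : ℕ, b ^ n • z = 0 by
    intro z hz
    refine this K z (fun a ha => ?_) hz
    rw [hK, Submodule.zero_eq_bot, Submodule.mem_bot] at ha
    rw [ha, zero_smul]
  intro j
  induction j with
  | zero =>
    intro z hj _
    exact ⟨0, by rw [pow_zero, one_smul, ← one_smul A z, hj 1 (by simp)]⟩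
  | succ j ih =>
    intro z hj hz
    have hgen : ∀ a : s, ∃ n : ℕ, b ^ n • (a : A) • z = 0 := fun a => by
      refine ih _ (fun c hc => ?_) fun i => ?_
      · rw [smul_smul]
        refine hj _ ?_
        rw [pow_succ]
        exact Ideal.mul_mem_mul hc (hs ▸ Ideal.subset_span a.2)
      · obtain ⟨n, hn⟩ := hz i
        exact ⟨n, by rw [LinearMap.map_smul_of_tower, smul_comm, hn, smul_zero]⟩
    choose n hn using hgen
    let w := b ^ (∑ a : s, n a) • z
    let π : M →ₗ[A] (s → M) := LinearMap.pi fun a => (a : A) • LinearMap.id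
    have hπ : π.lTensor T w = 0 := by
      apply (TensorProduct.piRight A A T (fun _ : s => M)).injective
      rw [map_zero]
      funext a
      have key : ∀ y : T ⊗[A] M,
          TensorProduct.piRight A A T (fun _ : s => M) (π.lTensor T y) a = (a : A) • y := by
        intro y
        induction y using TensorProduct.induction_on with
        | zero => simp
        | tmul t m => simp [π]
        | add x y hx hy => rw [map_add, map_add, Pi.add_apply, hx, hy, smul_add]
      rw [key, smul_comm, Pi.zero_apply,
        ← Nat.sub_add_cancel (Finset.single_le_sum (fun a _ => Nat.zero_le (n a)) (Finset.mem_univ a)), pow_add,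
        mul_smul, hn a, smul_zero]
    obtain ⟨v, hv⟩ := (Module.Flat.lTensor_exact T (LinearMap.exact_subtype_ker_map π) w).1 hπ
    -- the socles
    have hker : LinearMap.ker π = Submodule.torsionBySet A M (maximalIdeal A) := by
      ext m
      rw [← hs]
      erw [← Submodule.torsionBySet_eq_torsionBySet_span]
      simp [π, funext_iff, Submodule.mem_torsionBySet_iff]
    let κ := A ⧸ maximalIdeal A
    let _ : Field κ := Ideal.Quotient.field (maximalIdeal A)
    let V := Submodule.torsionBySet A M (maximalIdeal A)
    let W (i : ι) := Submodule.torsionBySet A (N i) (maximalIdeal A)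
    have hVW : ∀ i, ∀ x ∈ V, f i x ∈ W i := fun i x hx => by
      rw [Submodule.mem_torsionBySet_iff] at hx ⊢
      intro a
      rw [← map_smul, hx a, map_zero]
    let g : ∀ i, V →ₗ[κ] W i := fun i =>
      { toFun := fun x => ⟨f i x, hVW i x x.2⟩
        map_add' := fun x y => Subtype.ext (map_add _ _ _)
        map_smul' := fun c x => by
          obtain ⟨c, rfl⟩ := Ideal.Quotient.mk_surjective c
          exact Subtype.ext (map_smul (f i) c x.1) }
    have hg : SepMod κ g := by
      intro c x hx
      obtain ⟨c, rfl⟩ := Ideal.Quotient.mk_surjective c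
      obtain ⟨n, hn⟩ := hf c x.1 fun i => by
        obtain ⟨n, hn⟩ := hx i
        rw [← map_pow] at hn
        exact ⟨n, congrArg Subtype.val hn⟩
      refine ⟨n, Subtype.ext ?_⟩
      rw [← map_pow]
      exact hn
    let B := κ ⊗[A] T
    have hB : StableSep κ B :=
      (uGood_field (k := κ) B κ).of_algEquiv (Algebra.TensorProduct.lid κ B)
    -- transfer
    let v' : T ⊗[A] V := (LinearEquiv.ofEq _ _ hker).toLinearMap.lTensor T v
    have hv' : V.subtype.lTensor T v' = w := by
      rw [← hv, ← LinearMap.comp_apply, ← LinearMap.lTensor_comp]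
      rfl
    let ΦV := (Algebra.IsPushout.cancelBaseChange A T κ B V).symm
    let ΦW (i : ι) := (Algebra.IsPushout.cancelBaseChange A T κ B (W i)).symm
    have hnat : ∀ i (y : T ⊗[A] V),
        (g i).baseChange B (ΦV y) = ΦW i (((g i).restrictScalars A).baseChange T y) := by
      intro i y
      induction y using TensorProduct.induction_on with
      | zero => simp
      | tmul t m =>
        simp [ΦV, ΦW]
      | add x y hx hy => simp only [map_add]; rw [hx, hy]
    have hW : ∀ i, ∃ m : ℕ, b ^ m • ((g i).restrictScalars A).baseChange T v' = 0 := by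
      intro i
      obtain ⟨m, hm⟩ := hz i
      refine ⟨m, Module.Flat.lTensor_preserves_injective_linearMap (W i).subtype Subtype.val_injective ?_⟩
      have key : ∀ y : T ⊗[A] V, (W i).subtype.lTensor T (((g i).restrictScalars A).baseChange T y) =
          (f i).baseChange T (V.subtype.lTensor T y) := by
        intro y
        induction y using TensorProduct.induction_on with
        | zero => simp
        | tmul t x => simp [g]
        | add x y hx hy => simp only [map_add]; rw [hx, hy]
      have hsmul : ∀ (c : T) (y : T ⊗[A] W i), (W i).subtype.lTensor T (c • y) = c • (W i).subtype.lTensor T y :=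
        fun c y => ((W i).subtype.baseChange T).map_smul c y
      rw [map_zero, hsmul, key, hv']
      show b ^ m • (f i).baseChange T (b ^ (∑ a : s, n a) • z) = 0
      rw [map_smul, smul_comm, hm, smul_zero]
    obtain ⟨m, hm⟩ := hB g hg ((1 : κ) ⊗ₜ[A] b) (ΦV v') fun i => by
      obtain ⟨m, hm⟩ := hW i
      refine ⟨m, ?_⟩
      show ((1 : κ) ⊗ₜ[A] b) ^ m • (g i).baseChange B (ΦV v') = 0
      rw [hnat, show ((1 : κ) ⊗ₜ[A] b) = algebraMap T B b from rfl, ← map_pow, algebraMap_smul, ← map_smul, hm,
        map_zero]
    rw [show ((1 : κ) ⊗ₜ[A] b) = algebraMap T B b from rfl, ← map_pow, algebraMap_smul, ← map_smul,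
      LinearEquiv.map_eq_zero_iff] at hm
    refine ⟨m + ∑ a : s, n a, ?_⟩
    have h2 : V.subtype.lTensor T (b ^ m • v') = b ^ m • V.subtype.lTensor T v' :=
      (V.subtype.baseChange T).map_smul _ _
    rw [hm, map_zero, hv'] at h2
    rw [pow_add, mul_smul]
    exact h2.symm

end Groth.Agent.E4O.Sep
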