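import Groth.Agent.E4O.SepScheme

/-!
EGA IV 11.9.?: separation after base change can be tested on finitely generated subalgebras.
-/

set_option autoImplicit false
set_option backward.isDefEq.respectTransparency.types false

noncomputable section

universe u

open CategoryTheory Limits AlgebraicGeometry TopologicalSpace Opposite TensorProduct
open Groth.Agent.QC70 Groth.Agent.QCPull72

namespace Groth.Agent.E4O.Sep

/-- A separating pulled back family gives separation of the base changed modules. -/
theorem sepMod_of_isSep_pullback {X Y : Scheme.{u}} {ι : Type u} (f : Y ⟶ X) {F : X.Modules} [F.IsQuasicoherent]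
    {G : ι → X.Modules} [∀ i, (G i).IsQuasicoherent] (u : ∀ i, F ⟶ G i)
    (h : IsSep ((Scheme.Modules.pullback f).obj F) (fun i => (Scheme.Modules.pullback f).obj (G i))
      (fun i => (Scheme.Modules.pullback f).map (u i)))
    {U : X.Opens} (hU : IsAffineOpen U) {V : Y.Opens} (hV : IsAffineOpen V) (e : V ≤ f ⁻¹ᵁ U) :
    letI := (f.appLE U V e).hom.toAlgebra
    SepMod Γ(Y, V) fun i => (appL (u i) U).baseChange Γ(Y, V) := by
  have := isQuasicoherent_pullback f F
  let _ := (f.appLE U V e).hom.toAlgebra
  obtain ⟨E, hE⟩ := LimTop61.exists_baseChange_equiv f F hU hV e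
  choose E' hE' using fun i => LimTop61.exists_baseChange_equiv f (G i) hU hV e
  have key : ∀ i t, E' i (((Scheme.Modules.pullback f).map (u i)).app V t) =
      (appL (u i) U).baseChange Γ(Y, V) (E t) := by
    intro i t
    have h : ((E' i).toLinearMap ∘ₗ appL ((Scheme.Modules.pullback f).map (u i)) V) =
        ((appL (u i) U).baseChange Γ(Y, V)) ∘ₗ E.toLinearMap := by
      refine LinearMap.ext_on_range (span_unitSec_eq_top f F hU hV e) fun x => ?_
      show E' i (((Scheme.Modules.pullback f).map (u i)).app V (unitSec f F e x)) =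
        (appL (u i) U).baseChange Γ(Y, V) (E (unitSec f F e x))
      rw [unitSec_natural, hE', hE, LinearMap.baseChange_tmul]
      rfl
    exact LinearMap.congr_fun h t
  intro c z hz
  obtain ⟨n, hn⟩ := exists_pow_smul_eq_zero h hV c (E.symm z) fun i => by
    obtain ⟨n, hn⟩ := hz i
    exact ⟨n, (E' i).injective (by rw [map_smul, key, E.apply_symm_apply, map_zero]; exact hn)⟩
  exact ⟨n, by rw [← E.apply_symm_apply z, ← map_smul, hn, map_zero]⟩

/-- Invariance of base changed separation under isomorphisms of algebras. -/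
theorem sepMod_baseChange_of_algEquiv {A T T' : Type u} [CommRing A] [CommRing T] [CommRing T'] [Algebra A T]
    [Algebra A T'] (e : T ≃ₐ[A] T') {ι : Type u} {M : Type u} [AddCommGroup M] [Module A M] {N : ι → Type u}
    [∀ i, AddCommGroup (N i)] [∀ i, Module A (N i)] (f : ∀ i, M →ₗ[A] N i)
    (h : SepMod T fun i => (f i).baseChange T) : SepMod T' fun i => (f i).baseChange T' := by
  have hsemi : ∀ (L : Type u) [AddCommGroup L] [Module A L] (c : T') (y : T' ⊗[A] L),
      e.symm.toAlgHom.toLinearMap.rTensor L (c • y) = e.symm c • e.symm.toAlgHom.toLinearMap.rTensor L y := by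
    intro L _ _ c y
    induction y using TensorProduct.induction_on with
    | zero => simp
    | add a b ha hb => rw [smul_add, map_add, ha, hb, map_add, smul_add]
    | tmul t m => simp [TensorProduct.smul_tmul']
  have hinv : ∀ (L : Type u) [AddCommGroup L] [Module A L] (y : T' ⊗[A] L),
      e.toAlgHom.toLinearMap.rTensor L (e.symm.toAlgHom.toLinearMap.rTensor L y) = y := by
    intro L _ _ y
    induction y using TensorProduct.induction_on with
    | zero => simp
    | add a b ha hb => simp only [map_add]; rw [ha, hb]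
    | tmul t m => simp
  intro b z hz
  obtain ⟨n, hn⟩ := h (e.symm b) (e.symm.toAlgHom.toLinearMap.rTensor M z) fun i => by
    obtain ⟨n, hn⟩ := hz i
    refine ⟨n, ?_⟩
    have key : ∀ y : T' ⊗[A] M, (f i).baseChange T (e.symm.toAlgHom.toLinearMap.rTensor M y) =
        e.symm.toAlgHom.toLinearMap.rTensor (N i) ((f i).baseChange T' y) := by
      intro y
      induction y using TensorProduct.induction_on with
      | zero => simp
      | add a b ha hb => simp only [map_add]; rw [ha, hb]
      | tmul t m => simp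
    show e.symm b ^ n • (f i).baseChange T _ = 0
    rw [key, ← map_pow, ← hsemi, hn, map_zero]
  rw [← map_pow, ← hsemi] at hn
  exact ⟨n, by rw [← hinv M (b ^ n • z), hn, map_zero]⟩

/-- Separation of a base changed family. -/
def SepBC {A : Type u} [CommRing A] (T : Type u) [CommRing T] [Algebra A T] {ι : Type u} {M : Type u}
    [AddCommGroup M] [Module A M] {N : ι → Type u} [∀ i, AddCommGroup (N i)] [∀ i, Module A (N i)]
    (f : ∀ i, M →ₗ[A] N i) : Prop :=
  SepMod T fun i => (f i).baseChange T

/-- Separation descends from finitely generated subalgebras. -/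
theorem sepMod_of_forall_subalgebra {R A A' : Type u} [CommRing R] [CommRing A] [CommRing A'] [Algebra R A]
    [Algebra R A'] {ι : Type u} {M : Type u} [AddCommGroup M] [Module A M] {N : ι → Type u}
    [∀ i, AddCommGroup (N i)] [∀ i, Module A (N i)] [∀ i, Module R (N i)] [∀ i, IsScalarTower R A (N i)]
    [∀ i, Module.Flat R (N i)] (f : ∀ i, M →ₗ[A] N i)
    (h : ∀ B₀ : Subalgebra R A', B₀.FG → SepBC (A ⊗[R] B₀) f) :
    SepBC (A ⊗[R] A') f := by
  classical
  intro b z hz
  have hb : ∀ x : A ⊗[R] A', ∃ s : Finset A', ∀ B₀ : Subalgebra R A', (s : Set A') ⊆ B₀ →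
      x ∈ Set.range (Algebra.TensorProduct.map (AlgHom.id A A) B₀.val) := by
    intro x
    induction x using TensorProduct.induction_on with
    | zero => exact ⟨∅, fun B₀ _ => ⟨0, map_zero _⟩⟩
    | tmul a c => exact ⟨{c}, fun B₀ h => ⟨a ⊗ₜ ⟨c, h (by simp)⟩, rfl⟩⟩
    | add x y hx hy =>
      obtain ⟨s, hs⟩ := hx
      obtain ⟨t, ht⟩ := hy
      refine ⟨s ∪ t, fun B₀ h => ?_⟩
      obtain ⟨x', rfl⟩ := hs B₀ fun c hc => h (by simp [Finset.mem_coe.1 hc])
      obtain ⟨y', rfl⟩ := ht B₀ fun c hc => h (by simp [Finset.mem_coe.1 hc])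
      exact ⟨x' + y', map_add _ _ _⟩
  have hzs : ∀ w : (A ⊗[R] A') ⊗[A] M, ∃ s : Finset A', ∀ B₀ : Subalgebra R A', (s : Set A') ⊆ B₀ →
      w ∈ Set.range ((Algebra.TensorProduct.map (AlgHom.id A A) B₀.val).toLinearMap.rTensor M) := by
    intro w
    induction w using TensorProduct.induction_on with
    | zero => exact ⟨∅, fun B₀ _ => ⟨0, map_zero _⟩⟩
    | tmul c m =>
      obtain ⟨s, hs⟩ := hb c
      refine ⟨s, fun B₀ h => ?_⟩
      obtain ⟨c', rfl⟩ := hs B₀ h
      exact ⟨c' ⊗ₜ m, rfl⟩
    | add x y hx hy =>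
      obtain ⟨s, hs⟩ := hx
      obtain ⟨t, ht⟩ := hy
      refine ⟨s ∪ t, fun B₀ h => ?_⟩
      obtain ⟨x', rfl⟩ := hs B₀ fun c hc => h (by simp [Finset.mem_coe.1 hc])
      obtain ⟨y', rfl⟩ := ht B₀ fun c hc => h (by simp [Finset.mem_coe.1 hc])
      exact ⟨x' + y', map_add _ _ _⟩
  obtain ⟨s, hs⟩ := hb b
  obtain ⟨t, ht⟩ := hzs z
  let B₀ := Algebra.adjoin R ((s ∪ t : Finset A') : Set A')
  obtain ⟨b₀, hb₀⟩ := hs B₀ fun c hc => Algebra.subset_adjoin (by simp [Finset.mem_coe.1 hc])
  obtain ⟨z₀, hz₀⟩ := ht B₀ fun c hc => Algebra.subset_adjoin (by simp [Finset.mem_coe.1 hc])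
  let g := Algebra.TensorProduct.map (AlgHom.id A A) B₀.val
  have hsemi : ∀ (L : Type u) [AddCommGroup L] [Module A L] (c : A ⊗[R] B₀) (y : (A ⊗[R] B₀) ⊗[A] L),
      g.toLinearMap.rTensor L (c • y) = g c • g.toLinearMap.rTensor L y := by
    intro L _ _ c y
    induction y using TensorProduct.induction_on with
    | zero => simp
    | add a b ha hb => simp [ha, hb]
    | tmul t m => simp [TensorProduct.smul_tmul']
  have hinj : ∀ i, Function.Injective (g.toLinearMap.rTensor (N i)) := by
    intro i
    let e₀ := TensorProduct.comm A (A ⊗[R] B₀) (N i) ≪≫ₗ AlgebraTensorModule.cancelBaseChange R A A (N i) B₀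
    let e₁ := TensorProduct.comm A (A ⊗[R] A') (N i) ≪≫ₗ AlgebraTensorModule.cancelBaseChange R A A (N i) A'
    have key : ∀ y, e₁ (g.toLinearMap.rTensor (N i) y) = B₀.val.toLinearMap.lTensor (N i) (e₀ y) := by
      intro y
      induction y using TensorProduct.induction_on with
      | zero => simp
      | add a b ha hb => simp only [map_add]; rw [ha, hb]
      | tmul w m =>
        induction w using TensorProduct.induction_on with
        | zero => simp
        | add a b ha hb => rw [TensorProduct.add_tmul]; simp only [map_add]; rw [ha, hb]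
        | tmul a c => simp [e₀, e₁, g]
    intro y y' hyy
    have := congrArg e₁ hyy
    rw [key, key] at this
    exact e₀.injective (Module.Flat.lTensor_preserves_injective_linearMap (M := N i) B₀.val.toLinearMap
      Subtype.val_injective this)
  obtain ⟨n, hn⟩ := h B₀ (Subalgebra.fg_adjoin_finset _) b₀ z₀ fun i => by
    obtain ⟨n, hn⟩ := hz i
    refine ⟨n, hinj i ?_⟩
    have key : ∀ y : (A ⊗[R] B₀) ⊗[A] M, g.toLinearMap.rTensor (N i) ((f i).baseChange (A ⊗[R] B₀) y) =
        (f i).baseChange (A ⊗[R] A') (g.toLinearMap.rTensor M y) := by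
      intro y
      induction y using TensorProduct.induction_on with
      | zero => simp
      | add a b ha hb => simp [ha, hb]
      | tmul t m => simp
    rw [hsemi, map_zero, map_pow, key, show g b₀ = b from hb₀, show g.toLinearMap.rTensor M z₀ = z from hz₀]
    exact hn
  refine ⟨n, ?_⟩
  rw [← hb₀, ← hz₀, ← map_pow, ← hsemi, hn, map_zero]

end Groth.Agent.E4O.Sep
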