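import Groth.Agent.E4O.SepDescent
import Groth.Agent.E4O.ArtinDescentAlg
import Mathlib

/-!
EGA IV 11.9: families into flat modules separating on the fibres are universally separating.
-/

set_option autoImplicit false
set_option linter.style.haveILetI false

noncomputable section

universe u

open TensorProduct

namespace Groth.Agent.E4O.Sep

/-- What vanishes in the fibre at a prime lies in the extended prime up to a denominator. -/
theorem exists_smul_mem_of_residue_tmul_eq_zero {R X : Type u} [CommRing R] [AddCommGroup X] [Module R X]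
    (P : Ideal R) [P.IsPrime] (x : X) (h : (1 : P.ResidueField) ⊗ₜ[R] x = 0) :
    ∃ s ∉ P, s • x ∈ P • (⊤ : Submodule R X) := by
  let A := Localization.AtPrime P
  have hloc : IsLocalizedModule P.primeCompl (TensorProduct.mk R A X 1) :=
    (isLocalizedModule_iff_isBaseChange P.primeCompl A _).2 (TensorProduct.isBaseChange R X A)
  have h1 : (1 : P.ResidueField) ⊗ₜ[A] ((1 : A) ⊗ₜ[R] x) = 0 := by
    refine (AlgebraTensorModule.cancelBaseChange R A A P.ResidueField X).injective ?_
    rw [AlgebraTensorModule.cancelBaseChange_tmul, map_zero, one_smul]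
    exact h
  have h2 : (1 : A) ⊗ₜ[R] x ∈ IsLocalRing.maximalIdeal A • (⊤ : Submodule A (A ⊗[R] X)) := by
    rw [← LinearMap.ker_tensorProductMk]
    exact h1
  rw [← Localization.AtPrime.map_eq_maximalIdeal, E4O.mem_map_smul_top_iff] at h2
  suffices ∀ w ∈ P • (⊤ : Submodule R (A ⊗[R] X)), ∃ s ∉ P, ∃ x' ∈ P • (⊤ : Submodule R X),
      s • w = (1 : A) ⊗ₜ[R] x' by
    obtain ⟨s, hs, x', hx', e⟩ := this _ h2
    rw [← tmul_smul] at e
    obtain ⟨t, ht⟩ := IsLocalizedModule.exists_of_eq (S := P.primeCompl) (f := TensorProduct.mk R A X 1) e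
    refine ⟨t.1 * s, fun hh => (‹P.IsPrime›.mem_or_mem hh).elim t.2 hs, ?_⟩
    rw [mul_smul]
    have ht' : t.1 • s • x = t.1 • x' := ht
    rw [ht']
    exact Submodule.smul_mem _ _ hx'
  intro w hw
  refine Submodule.smul_induction_on hw (fun p hp v _ => ?_) fun a b ha hb => ?_
  · obtain ⟨⟨v', s⟩, hs⟩ := IsLocalizedModule.surj P.primeCompl (TensorProduct.mk R A X 1) v
    refine ⟨s, s.2, p • v', Submodule.smul_mem_smul hp trivial, ?_⟩
    rw [smul_comm, show s.1 • v = (1 : A) ⊗ₜ[R] v' from hs, tmul_smul]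
  · obtain ⟨s, hs, x', hx', e⟩ := ha
    obtain ⟨t, ht, y', hy', e'⟩ := hb
    refine ⟨t * s, fun hh => (‹P.IsPrime›.mem_or_mem hh).elim ht hs, t • x' + s • y',
      add_mem (Submodule.smul_mem _ _ hx') (Submodule.smul_mem _ _ hy'), ?_⟩
    rw [smul_add, tmul_add, mul_smul, e, ← tmul_smul, mul_comm t s, mul_smul, e', ← tmul_smul]

/-- Iterated base change of a linear map. -/
theorem baseChange_baseChange_apply {A T T' : Type u} [CommRing A] [CommRing T] [CommRing T'] [Algebra A T]
    [Algebra A T'] [Algebra T T'] [IsScalarTower A T T'] {M L : Type u} [AddCommGroup M] [Module A M]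
    [AddCommGroup L] [Module A L] (g : M →ₗ[A] L) (y : T' ⊗[T] (T ⊗[A] M)) :
    AlgebraTensorModule.cancelBaseChange A T T' T' L ((g.baseChange T).baseChange T' y) =
      g.baseChange T' (AlgebraTensorModule.cancelBaseChange A T T' T' M y) := by
  induction y using TensorProduct.induction_on with
  | zero => simp
  | add a b ha hb => simp [ha, hb]
  | tmul s x =>
    induction x using TensorProduct.induction_on with
    | zero => simp
    | add a b ha hb => rw [TensorProduct.tmul_add]; simp only [map_add]; rw [ha, hb]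
    | tmul t m => simp

section

variable {R B : Type u} [CommRing R] [CommRing B] [Algebra R B]
  {M : Type u} [AddCommGroup M] [Module B M] [Module R M] [IsScalarTower R B M]
  {ι : Type u} {N : ι → Type u} [∀ i, AddCommGroup (N i)] [∀ i, Module B (N i)] [∀ i, Module R (N i)]
  [∀ i, IsScalarTower R B (N i)]

variable (R) in
/-- Multiplication by an element, linear over the base. -/
def mulMap (L : Type u) [AddCommGroup L] [Module B L] [Module R L] [IsScalarTower R B L] (c : B) : L →ₗ[R] L :=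
  (LinearMap.lsmul B L c).restrictScalars R

variable (R) in
/-- Separation after base change to an algebra, in elementary terms. -/
def SepTensor (f : ∀ i, M →ₗ[B] N i) (κ : Type u) [CommRing κ] [Algebra R κ] : Prop :=
  ∀ (c : B) (y : κ ⊗[R] M),
    (∀ i, ∃ n : ℕ, (mulMap R (N i) (c ^ n)).lTensor κ (((f i).restrictScalars R).lTensor κ y) = 0) →
    ∃ n : ℕ, (mulMap R M (c ^ n)).lTensor κ y = 0

variable (R) in
/-- Separation on the fibre at a prime, in elementary terms. -/
abbrev FibSep (f : ∀ i, M →ₗ[B] N i) (P : Ideal R) [P.IsPrime] : Prop :=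
  SepTensor R f P.ResidueField

theorem sepTensor_of_sepBC (f : ∀ i, M →ₗ[B] N i) (κ : Type u) [CommRing κ] [Algebra R κ]
    (h : SepBC (B ⊗[R] κ) f) : SepTensor R f κ := by
  intro c y hy
  let e : ∀ (L : Type u) [AddCommGroup L] [Module B L] [Module R L] [IsScalarTower R B L],
      (B ⊗[R] κ) ⊗[B] L ≃ₗ[R] κ ⊗[R] L := fun L _ _ _ _ =>
    ((TensorProduct.comm B (B ⊗[R] κ) L).restrictScalars R) ≪≫ₗ
      ((AlgebraTensorModule.cancelBaseChange R B B L κ).restrictScalars R) ≪≫ₗ TensorProduct.comm R L κ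
  have he : ∀ (L : Type u) [AddCommGroup L] [Module B L] [Module R L] [IsScalarTower R B L] (b : B) (a : κ) (l : L),
      e L ((b ⊗ₜ[R] a) ⊗ₜ[B] l) = a ⊗ₜ[R] (b • l) := fun L _ _ _ _ b a l => by
    simp [e, smul_tmul']
  have hmul : ∀ (L : Type u) [AddCommGroup L] [Module B L] [Module R L] [IsScalarTower R B L] (b : B)
      (w : (B ⊗[R] κ) ⊗[B] L), e L ((b ⊗ₜ[R] (1 : κ)) • w) = (mulMap R L b).lTensor κ (e L w) := by
    intro L _ _ _ _ b w
    induction w using TensorProduct.induction_on with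
    | zero => simp
    | add u v hu hv => simp only [smul_add, map_add, hu, hv]
    | tmul t l =>
      induction t using TensorProduct.induction_on with
      | zero => simp
      | add u v hu hv => simp only [add_tmul, smul_add, map_add, hu, hv]
      | tmul b' a =>
        rw [smul_tmul', smul_eq_mul, Algebra.TensorProduct.tmul_mul_tmul, he, he, one_mul,
          LinearMap.lTensor_tmul, mul_smul]
        rfl
  have hf : ∀ i (w : (B ⊗[R] κ) ⊗[B] M), e (N i) ((f i).baseChange (B ⊗[R] κ) w) =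
      ((f i).restrictScalars R).lTensor κ (e M w) := by
    intro i w
    induction w using TensorProduct.induction_on with
    | zero => simp
    | add u v hu hv => simp only [map_add, hu, hv]
    | tmul t l =>
      induction t using TensorProduct.induction_on with
      | zero => simp
      | add u v hu hv => simp only [add_tmul, map_add, hu, hv]
      | tmul b' a => rw [LinearMap.baseChange_tmul, he, he, LinearMap.lTensor_tmul]; simp
  obtain ⟨w, rfl⟩ := (e M).surjective y
  obtain ⟨n, hn⟩ := h (c ⊗ₜ[R] 1) w fun i => by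
    obtain ⟨n, hn⟩ := hy i
    refine ⟨n, (e (N i)).injective ?_⟩
    rw [Algebra.TensorProduct.tmul_pow, one_pow, hmul, hf, hn, map_zero]
  refine ⟨n, ?_⟩
  rw [← hmul, ← map_zero (e M), ← hn, Algebra.TensorProduct.tmul_pow, one_pow]

theorem fibSep_of_sepBC (f : ∀ i, M →ₗ[B] N i) (P : Ideal R) [P.IsPrime]
    (h : SepBC (B ⊗[R] P.ResidueField) f) : FibSep R f P :=
  sepTensor_of_sepBC f _ h

omit [Module B M] [IsScalarTower R B M] in
theorem rTensor_mem_pow_succ (J : Ideal R) (k : ℕ) {w : ↥(J ^ k) ⊗[R] M}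
    (hw : w ∈ J • (⊤ : Submodule R (↥(J ^ k) ⊗[R] M))) :
    (TensorProduct.lid R M).toLinearMap ((J ^ k).subtype.rTensor M w) ∈ (J ^ (k + 1)) • (⊤ : Submodule R M) := by
  refine Submodule.smul_induction_on hw (fun a ha v _ => ?_) fun a b ha hb => by
    rw [map_add, map_add]; exact add_mem ha hb
  rw [map_smul, map_smul, pow_succ', Submodule.mul_smul]
  refine Submodule.smul_mem_smul ha ?_
  clear ‹v ∈ ⊤›
  induction v using TensorProduct.induction_on with
  | zero => simp
  | add u v hu hv => rw [map_add, map_add]; exact add_mem hu hv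
  | tmul x l => simpa using Submodule.smul_mem_smul x.2 (Submodule.mem_top (x := l))

variable [∀ i, Module.Flat R (N i)]

/-- One step of the filtration: what is killed in the targets vanishes after tensoring. -/
theorem exists_pow_smul_tmul_eq_zero (f : ∀ i, M →ₗ[B] N i) (κ : Type u) [CommRing κ] [Algebra R κ]
    (hP : SepTensor R f κ) (I : Ideal R) [Module.Free κ (κ ⊗[R] ↥I)]
    (c : B) (y : M) (hy : y ∈ I • (⊤ : Submodule R M)) (hf : ∀ i, ∃ n : ℕ, c ^ n • f i y = 0) :
    ∃ (n : ℕ) (w : ↥I ⊗[R] M),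
      (TensorProduct.lid R M).toLinearMap (I.subtype.rTensor M w) = c ^ n • y ∧ (1 : κ) ⊗ₜ[R] w = 0 := by
  classical
  let π : ∀ (L : Type u) [AddCommGroup L] [Module R L], ↥I ⊗[R] L →ₗ[R] L := fun L _ _ =>
    (TensorProduct.lid R L).toLinearMap ∘ₗ I.subtype.rTensor L
  have hπn : ∀ (L L' : Type u) [AddCommGroup L] [Module R L] [AddCommGroup L'] [Module R L'] (g : L →ₗ[R] L')
      (ζ : ↥I ⊗[R] L), π L' (g.lTensor ↥I ζ) = g (π L ζ) := by
    intro L L' _ _ _ _ g ζ
    induction ζ using TensorProduct.induction_on with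
    | zero => simp
    | add u v hu hv => simp only [map_add, hu, hv]
    | tmul a l => simp [π]
  obtain ⟨ζ, rfl⟩ : y ∈ LinearMap.range (π M) := by
    refine Submodule.smul_induction_on hy (fun a ha v _ => ⟨⟨a, ha⟩ ⊗ₜ v, by simp [π]⟩) fun a b ha hb => add_mem ha hb
  let bas := Module.Free.chooseBasis κ (κ ⊗[R] ↥I)
  let co : ∀ (L : Type u) [AddCommGroup L] [Module R L],
      κ ⊗[R] (↥I ⊗[R] L) ≃ₗ[κ] (Module.Free.ChooseBasisIndex κ (κ ⊗[R] ↥I) →₀ κ ⊗[R] L) :=
    fun L _ _ => AlgebraTensorModule.distribBaseChange R κ ↥I L ≪≫ₗ TensorProduct.equivFinsuppOfBasisLeft bas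
  have hco : ∀ (L L' : Type u) [AddCommGroup L] [Module R L] [AddCommGroup L'] [Module R L'] (g : L →ₗ[R] L')
      (ζ : ↥I ⊗[R] L) j, co L' ((1 : κ) ⊗ₜ g.lTensor ↥I ζ) j = g.lTensor κ (co L ((1 : κ) ⊗ₜ ζ) j) := by
    intro L L' _ _ _ _ g ζ j
    induction ζ using TensorProduct.induction_on with
    | zero => simp
    | add u v hu hv => simp only [map_add, tmul_add, Finsupp.add_apply, hu, hv]
    | tmul a l =>
      simp only [co, LinearEquiv.trans_apply, LinearMap.lTensor_tmul,
        AlgebraTensorModule.distribBaseChange_tmul, TensorProduct.equivFinsuppOfBasisLeft_apply_tmul_apply]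
      rw [smul_tmul', smul_tmul', LinearMap.lTensor_tmul]
  let y' := co M ((1 : κ) ⊗ₜ ζ)
  have hN : ∀ j, ∃ n : ℕ, (mulMap R M (c ^ n)).lTensor κ (y' j) = 0 := fun j => hP c _ fun i => by
    obtain ⟨n, hn⟩ := hf i
    refine ⟨n, ?_⟩
    have h1 : (mulMap R (N i) (c ^ n)).lTensor ↥I (((f i).restrictScalars R).lTensor ↥I ζ) = 0 := by
      have hinj : Function.Injective (π (N i)) := (TensorProduct.lid R (N i)).injective.comp
        (Module.Flat.rTensor_preserves_injective_linearMap (M := N i) _ I.injective_subtype)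
      refine hinj ?_
      rw [map_zero, hπn, hπn]
      exact hn
    rw [← hco, ← hco, h1, tmul_zero, map_zero, Finsupp.zero_apply]
  choose n hn using hN
  let n₀ := y'.support.sup n
  have h2 : co M ((1 : κ) ⊗ₜ (mulMap R M (c ^ n₀)).lTensor ↥I ζ) = 0 := by
    ext j
    rw [hco, Finsupp.zero_apply]
    by_cases hj : j ∈ y'.support
    · have : mulMap R M (c ^ n₀) = mulMap R M (c ^ (n₀ - n j)) ∘ₗ mulMap R M (c ^ n j) := by
        ext m
        show c ^ n₀ • m = c ^ (n₀ - n j) • c ^ n j • m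
        rw [← mul_smul, ← pow_add, Nat.sub_add_cancel (Finset.le_sup (f := n) hj)]
      rw [this, LinearMap.lTensor_comp, LinearMap.comp_apply, hn, map_zero]
    · rw [show y' j = 0 from Finsupp.notMem_support_iff.1 hj, map_zero]
  rw [LinearEquiv.map_eq_zero_iff] at h2
  exact ⟨n₀, _, hπn _ _ _ ζ, h2⟩

/-- One step of the filtration by powers of a prime of the base. -/
theorem exists_smul_mem_pow_succ (f : ∀ i, M →ₗ[B] N i) (P : Ideal R) [P.IsPrime] (hP : FibSep R f P)
    (c : B) (k : ℕ) (y : M) (hy : y ∈ (P ^ k) • (⊤ : Submodule R M))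
    (hf : ∀ i, ∃ n : ℕ, c ^ n • f i y = 0) :
    ∃ s ∉ P, ∃ n : ℕ, s • c ^ n • y ∈ (P ^ (k + 1)) • (⊤ : Submodule R M) := by
  obtain ⟨n, w, hw, hw0⟩ := exists_pow_smul_tmul_eq_zero f P.ResidueField hP (P ^ k) c y hy hf
  obtain ⟨s, hs, hmem⟩ := exists_smul_mem_of_residue_tmul_eq_zero P w hw0
  refine ⟨s, hs, n, ?_⟩
  rw [← hw, ← map_smul, ← map_smul]
  exact rTensor_mem_pow_succ P k hmem

/-- A family into flat modules separating on all fibres is separating. -/
theorem sepMod_of_fibres [IsNoetherianRing B] [Module.Finite B M] (f : ∀ i, M →ₗ[B] N i)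
    (h : ∀ (P : Ideal R) [P.IsPrime], FibSep R f P) : SepMod B f := by
  intro c z hz
  by_contra hne
  push Not at hne
  let I : Ideal B := LinearMap.ker (LinearMap.toSpanSingleton B M z)
  have hdisj : Disjoint (I : Set B) (Submonoid.powers c : Set B) := by
    refine Set.disjoint_left.2 fun b hb ⟨n, hn⟩ => hne n ?_
    subst hn
    exact hb
  obtain ⟨Q, hQ, hIQ, hQc⟩ := Ideal.exists_le_prime_disjoint I (Submonoid.powers c) hdisj
  have hc : c ∉ Q := fun hcQ => Set.disjoint_left.1 hQc hcQ ⟨1, pow_one c⟩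
  let P := Q.comap (algebraMap R B)
  haveI : P.IsPrime := Ideal.IsPrime.comap _
  let BQ := Localization.AtPrime Q
  let MQ := LocalizedModule Q.primeCompl M
  let l := LocalizedModule.mkLinearMap Q.primeCompl M
  haveI : Module.Finite BQ MQ := Module.Finite.of_isLocalizedModule Q.primeCompl l
  haveI : IsNoetherianRing BQ := IsLocalization.isNoetherianRing Q.primeCompl BQ inferInstance
  have hk : ∀ k : ℕ, ∃ s ∉ Q, s • z ∈ ((P ^ k).map (algebraMap R B)) • (⊤ : Submodule B M) := by
    intro k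
    induction k with
    | zero => exact ⟨1, fun h1 => hQ.ne_top ((Ideal.eq_top_iff_one _).2 h1), by simp [Ideal.map_top]⟩
    | succ k ih =>
      obtain ⟨s, hs, hmem⟩ := ih
      obtain ⟨t, ht, n, htn⟩ := exists_smul_mem_pow_succ f P (h P) c k (s • z)
        ((E4O.mem_map_smul_top_iff _ _).1 hmem) fun i => by
          obtain ⟨n, hn⟩ := hz i
          exact ⟨n, by rw [map_smul, smul_comm, hn, smul_zero]⟩
      refine ⟨algebraMap R B t * (c ^ n * s), fun hh => ?_, (E4O.mem_map_smul_top_iff _ _).2 ?_⟩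
      · rcases hQ.mem_or_mem hh with hh | hh
        · exact ht hh
        · rcases hQ.mem_or_mem hh with hh | hh
          · exact hc (hQ.mem_of_pow_mem n hh)
          · exact hs hh
      · rw [mul_smul, mul_smul, algebraMap_smul]
        exact htn
  have hzero : l z = 0 := by
    have hbot := Ideal.iInf_pow_smul_eq_bot_of_isLocalRing (M := MQ) (IsLocalRing.maximalIdeal BQ)
      (IsLocalRing.maximalIdeal.isMaximal BQ).ne_top
    rw [← Submodule.mem_bot (R := BQ), ← hbot, Submodule.mem_iInf]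
    intro k
    obtain ⟨s, hs, hmem⟩ := hk k
    have h1 : l (s • z) ∈ ((P ^ k).map (algebraMap R B)).map (algebraMap B BQ) • (⊤ : Submodule BQ MQ) := by
      rw [E4O.mem_map_smul_top_iff]
      have h2 := Submodule.mem_map_of_mem (f := l) hmem
      rw [Submodule.map_smul''] at h2
      exact Submodule.smul_mono le_rfl le_top h2
    have hle : ((P ^ k).map (algebraMap R B)).map (algebraMap B BQ) ≤ IsLocalRing.maximalIdeal BQ ^ k := by
      rw [Ideal.map_pow, Ideal.map_pow]
      refine Ideal.pow_right_mono ?_ k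
      rw [← Localization.AtPrime.map_eq_maximalIdeal]
      exact Ideal.map_mono Ideal.map_comap_le
    have h3 := Submodule.smul_mono hle le_rfl h1
    rw [map_smul, ← algebraMap_smul BQ s (l z)] at h3
    have hu := IsLocalization.map_units BQ (⟨s, hs⟩ : Q.primeCompl)
    have h4 := Submodule.smul_mem _ (hu.unit⁻¹ : BQˣ).1 h3
    rw [← mul_smul, IsUnit.val_inv_mul, one_smul] at h4
    exact h4
  obtain ⟨t, ht⟩ := (IsLocalizedModule.eq_zero_iff Q.primeCompl l).1 hzero
  exact t.2 (hIQ (show t.1 • z = 0 from ht))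

/-- A family into flat modules separating modulo a nilpotent ideal with free graded pieces is separating. -/
theorem sepMod_of_nilpotent (f : ∀ i, M →ₗ[B] N i) (J : Ideal R) (hJ : IsNilpotent J)
    (hfree : ∀ k : ℕ, Module.Free (R ⧸ J) ((R ⧸ J) ⊗[R] ↥(J ^ k))) (h : SepTensor R f (R ⧸ J)) :
    SepMod B f := by
  intro c z hz
  have hk : ∀ k : ℕ, ∃ n : ℕ, c ^ n • z ∈ (J ^ k) • (⊤ : Submodule R M) := by
    intro k
    induction k with
    | zero => exact ⟨0, by simp⟩
    | succ k ih =>
      obtain ⟨m, hm⟩ := ih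
      have := hfree k
      obtain ⟨n, w, hw, hw0⟩ := exists_pow_smul_tmul_eq_zero f (R ⧸ J) h (J ^ k) c _ hm fun i => by
        obtain ⟨n, hn⟩ := hz i
        exact ⟨n, by rw [map_smul, smul_comm, hn, smul_zero]⟩
      refine ⟨n + m, ?_⟩
      rw [show c ^ (n + m) • z = c ^ n • c ^ m • z by rw [pow_add, mul_smul], ← hw]
      refine rTensor_mem_pow_succ J k ?_
      have h0 := congrArg (TensorProduct.quotTensorEquivQuotSMul (↥(J ^ k) ⊗[R] M) J) hw0
      rw [map_zero, show (1 : R ⧸ J) = Ideal.Quotient.mk J 1 from rfl,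
        TensorProduct.quotTensorEquivQuotSMul_mk_tmul, one_smul, Submodule.Quotient.mk_eq_zero] at h0
      exact h0
  obtain ⟨k, hk0⟩ := hJ
  obtain ⟨n, hn⟩ := hk k
  rw [hk0] at hn
  exact ⟨n, by simpa using hn⟩

end

/-- Composition of base changes of rings. -/
def pushoutEquiv (R K L B : Type u) [CommRing R] [CommRing K] [CommRing L] [CommRing B] [Algebra R K]
    [Algebra R L] [Algebra K L] [IsScalarTower R K L] [Algebra R B] :
    letI : Algebra K (B ⊗[R] K) := Algebra.TensorProduct.rightAlgebra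
    (B ⊗[R] L) ≃ₐ[B] (B ⊗[R] K) ⊗[K] L :=
  letI : Algebra K (B ⊗[R] K) := Algebra.TensorProduct.rightAlgebra
  haveI : IsScalarTower R K (B ⊗[R] K) := Algebra.TensorProduct.right_isScalarTower
  letI : Algebra L ((B ⊗[R] K) ⊗[K] L) := Algebra.TensorProduct.rightAlgebra
  haveI : IsScalarTower R L ((B ⊗[R] K) ⊗[K] L) := IsScalarTower.of_algebraMap_eq fun r => by
    rw [IsScalarTower.algebraMap_apply R K L, IsScalarTower.algebraMap_apply R K ((B ⊗[R] K) ⊗[K] L)]
    exact ((Algebra.TensorProduct.includeRight : L →ₐ[K] (B ⊗[R] K) ⊗[K] L).commutes _).symm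
  haveI : Algebra.IsPushout R K B (B ⊗[R] K) := inferInstance
  haveI : Algebra.IsPushout K L (B ⊗[R] K) ((B ⊗[R] K) ⊗[K] L) := inferInstance
  haveI : Algebra.IsPushout R L B ((B ⊗[R] K) ⊗[K] L) :=
    (Algebra.IsPushout.comp_iff (R := R) (S := K) (T := L) (R' := B) (S' := B ⊗[R] K) (T' := (B ⊗[R] K) ⊗[K] L)).2
      inferInstance
  haveI : Algebra.IsPushout R B L ((B ⊗[R] K) ⊗[K] L) := Algebra.IsPushout.symm inferInstance
  Algebra.IsPushout.equiv R B L _

/-- Separation over a field persists over larger fields. -/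
theorem sepBC_of_field_hom {R K L B : Type u} [CommRing R] [Field K] [Field L] [CommRing B] [Algebra R K]
    [Algebra R L] [Algebra K L] [IsScalarTower R K L] [Algebra R B] {M : Type u} [AddCommGroup M] [Module B M]
    {ι : Type u} {N : ι → Type u} [∀ i, AddCommGroup (N i)] [∀ i, Module B (N i)] (f : ∀ i, M →ₗ[B] N i)
    (h : SepBC (B ⊗[R] K) f) : SepBC (B ⊗[R] L) f := by
  letI : Algebra K (B ⊗[R] K) := Algebra.TensorProduct.rightAlgebra
  have h1 : SepBC ((B ⊗[R] K) ⊗[K] L) f := by
    intro b z hz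
    obtain ⟨n, hn⟩ := uGood_field (k := K) L (B ⊗[R] K) (fun i => (f i).baseChange (B ⊗[R] K)) h b
      ((AlgebraTensorModule.cancelBaseChange B (B ⊗[R] K) ((B ⊗[R] K) ⊗[K] L) _ M).symm z) fun i => by
      obtain ⟨n, hn⟩ := hz i
      refine ⟨n, (AlgebraTensorModule.cancelBaseChange B (B ⊗[R] K) ((B ⊗[R] K) ⊗[K] L) _ (N i)).injective ?_⟩
      rw [map_smul, map_zero, baseChange_baseChange_apply, LinearEquiv.apply_symm_apply, hn]
    exact ⟨n, (AlgebraTensorModule.cancelBaseChange B (B ⊗[R] K) ((B ⊗[R] K) ⊗[K] L) _ M).symm.injective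
      (by rw [map_smul, hn, map_zero])⟩
  exact sepMod_baseChange_of_algEquiv (pushoutEquiv R K L B).symm f h1

/-- A family into flat modules separating on all fibres is universally separating. -/
theorem sepBC_of_fibres {R B : Type u} [CommRing R] [CommRing B] [Algebra R B] [IsNoetherianRing B]
    {M : Type u} [AddCommGroup M] [Module B M] [Module.Finite B M]
    {ι : Type u} {N : ι → Type u} [∀ i, AddCommGroup (N i)] [∀ i, Module B (N i)] [∀ i, Module R (N i)]
    [∀ i, IsScalarTower R B (N i)] [∀ i, Module.Flat R (N i)] (f : ∀ i, M →ₗ[B] N i)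
    (h : ∀ (P : Ideal R) [P.IsPrime], SepBC (B ⊗[R] P.ResidueField) f)
    (A' : Type u) [CommRing A'] [Algebra R A'] : SepBC (B ⊗[R] A') f := by
  refine sepMod_of_forall_subalgebra f fun A₁ hA₁ => ?_
  haveI : Algebra.FiniteType R A₁ := (Subalgebra.fg_iff_finiteType A₁).1 hA₁
  let B' := B ⊗[R] A₁
  haveI : Algebra.FiniteType B B' := inferInstance
  haveI : IsNoetherianRing B' := Algebra.FiniteType.isNoetherianRing B B'
  letI : Algebra A₁ B' := Algebra.TensorProduct.rightAlgebra
  haveI : ∀ i, Module.Flat A₁ (B' ⊗[B] N i) := fun i =>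
    Module.Flat.of_linearEquiv (Algebra.IsPushout.cancelBaseChange R A₁ B B' (N i))
  refine sepMod_of_fibres (R := A₁) (B := B') (M := B' ⊗[B] M) (N := fun i => B' ⊗[B] N i)
    (fun i => (f i).baseChange B') fun Q _ => fibSep_of_sepBC _ Q ?_
  let κQ := Q.ResidueField
  let P := Q.comap (algebraMap R A₁)
  haveI : P.IsPrime := Ideal.IsPrime.comap _
  let κP := P.ResidueField
  letI : Algebra κP κQ := (Ideal.ResidueField.map P Q (algebraMap R A₁) rfl).toAlgebra
  haveI : IsScalarTower R κP κQ := IsScalarTower.of_algebraMap_eq fun r => by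
    show algebraMap R κQ r = Ideal.ResidueField.map P Q (algebraMap R A₁) rfl (algebraMap R κP r)
    rw [Ideal.ResidueField.map_algebraMap, ← IsScalarTower.algebraMap_apply]
  -- the fibre at `Q` from the fibre at `P`
  have h2 : SepBC (B ⊗[R] κQ) f := sepBC_of_field_hom (K := κP) f (h P)
  have h3 : SepBC (B' ⊗[A₁] κQ) f := sepMod_baseChange_of_algEquiv (pushoutEquiv R A₁ κQ B) f h2
  intro b z hz
  obtain ⟨n, hn⟩ := h3 b (AlgebraTensorModule.cancelBaseChange B B' (B' ⊗[A₁] κQ) _ M z) fun i => by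
    obtain ⟨n, hn⟩ := hz i
    refine ⟨n, ?_⟩
    show b ^ n • (f i).baseChange _ _ = 0
    erw [← baseChange_baseChange_apply (T := B') (T' := B' ⊗[A₁] κQ) (f i) z]
    erw [← map_smul, hn, map_zero]
  exact ⟨n, (AlgebraTensorModule.cancelBaseChange B B' (B' ⊗[A₁] κQ) _ M).injective
    (by rw [map_smul, hn, map_zero])⟩

end Groth.Agent.E4O.Sep
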