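import Groth.Agent.E4O.SepStable

/-!
EGA IV 11.9: over a field every algebra preserves separation.
-/

set_option autoImplicit false

noncomputable section

universe u

open TensorProduct

namespace Groth.Agent.E4O.Sep

attribute [local instance] Algebra.TensorProduct.rightAlgebra

/-- All base changes of `R → B` preserve separation. -/
def UGood (R B : Type u) [CommRing R] [CommRing B] [Algebra R B] : Prop :=
  ∀ (A : Type u) [CommRing A] [Algebra R A], StableSep A (A ⊗[R] B)

variable {R : Type u} [CommRing R]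

theorem uGood_of_free_of_isIntegral (B : Type u) [CommRing B] [Algebra R B] [Module.Free R B]
    [Algebra.IsIntegral R B] : UGood R B := fun A _ _ => stableSep_of_free_of_isIntegral (A ⊗[R] B)

theorem uGood_away (r : R) (B : Type u) [CommRing B] [Algebra R B] [IsLocalization.Away r B] : UGood R B := by
  intro A _ _
  have : IsLocalization.Away (algebraMap R A r) (A ⊗[R] B) := by
    have h := IsLocalization.tensor (S := A) B (Submonoid.powers r)
    rwa [Algebra.algebraMapSubmonoid, Submonoid.map_powers] at h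
  exact stableSep_away (algebraMap R A r) (A ⊗[R] B)

theorem uGood_polynomial : UGood R (Polynomial R) := fun A _ _ =>
  stableSep_polynomial.of_algEquiv (polyEquivTensor' R A)

theorem UGood.of_algEquiv {B B' : Type u} [CommRing B] [CommRing B'] [Algebra R B] [Algebra R B']
    (h : UGood R B) (e : B ≃ₐ[R] B') : UGood R B' := fun A _ _ =>
  (h A).of_algEquiv (Algebra.TensorProduct.congr AlgEquiv.refl e)

theorem UGood.trans {S B : Type u} [CommRing S] [CommRing B] [Algebra R S] [Algebra R B] [Algebra S B]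
    [IsScalarTower R S B] (h₁ : UGood R S) (h₂ : UGood S B) : UGood R B := by
  intro A _ _
  let φ : A ⊗[R] S →ₐ[A] A ⊗[R] B :=
    Algebra.TensorProduct.map (AlgHom.id A A) (IsScalarTower.toAlgHom R S B)
  let _ : Algebra (A ⊗[R] S) (A ⊗[R] B) := φ.toRingHom.toAlgebra
  let _ : Algebra S (A ⊗[R] B) :=
    ((Algebra.TensorProduct.includeRight : B →ₐ[R] A ⊗[R] B).toRingHom.comp (algebraMap S B)).toAlgebra
  have h2 : IsScalarTower A (A ⊗[R] S) (A ⊗[R] B) :=
    IsScalarTower.of_algebraMap_eq fun a => (φ.commutes a).symm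
  have h3 : IsScalarTower S B (A ⊗[R] B) := IsScalarTower.of_algebraMap_eq fun s => rfl
  have h4 : IsScalarTower S (A ⊗[R] S) (A ⊗[R] B) := IsScalarTower.of_algebraMap_eq fun s => by
    show (1 : A) ⊗ₜ[R] algebraMap S B s = φ (1 ⊗ₜ s)
    simp [φ]
  have h5 : IsScalarTower R (A ⊗[R] S) (A ⊗[R] B) := IsScalarTower.of_algebraMap_eq fun r => by
    rw [IsScalarTower.algebraMap_apply R A (A ⊗[R] S), ← IsScalarTower.algebraMap_apply A (A ⊗[R] S) (A ⊗[R] B),
      ← IsScalarTower.algebraMap_apply R A (A ⊗[R] B)]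
  have hpush : Algebra.IsPushout S B (A ⊗[R] S) (A ⊗[R] B) :=
    (Algebra.IsPushout.comp_iff R S A (A ⊗[R] S) (T := B)).1 inferInstance
  have := hpush.symm
  exact (h₁ A).trans (((h₂ (A ⊗[R] S))).of_algEquiv (Algebra.IsPushout.equiv S (A ⊗[R] S) B (A ⊗[R] B)))

theorem uGood_mvPolynomial (n : ℕ) : UGood R (MvPolynomial (Fin n) R) := by
  induction n with
  | zero =>
    exact (uGood_of_free_of_isIntegral R).of_algEquiv (MvPolynomial.isEmptyAlgEquiv R (Fin 0)).symm
  | succ n ih =>
    exact (ih.trans (uGood_polynomial (R := MvPolynomial (Fin n) R))).of_algEquiv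
      (MvPolynomial.finSuccEquiv R n).symm

variable {k : Type u} [Field k]

/-- Reduction along jointly injective maps over a field. -/
theorem uGood_of_injective {B : Type u} [CommRing B] [Algebra k B] {J : Type} [Fintype J] {C : J → Type u}
    [∀ j, CommRing (C j)] [∀ j, Algebra k (C j)] (φ : ∀ j, B →ₐ[k] C j)
    (hφ : ∀ x, (∀ j, φ j x = 0) → x = 0) (h : ∀ j, UGood k (C j)) : UGood k B := by
  classical
  intro A _ _
  let P : B →ₗ[k] (∀ j, C j) := LinearMap.pi fun j => (φ j).toLinearMap
  obtain ⟨r, hr⟩ := P.exists_leftInverse_of_injective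
    (LinearMap.ker_eq_bot'.2 fun x hx => hφ x fun j => congrFun hx j)
  refine sep_of_retraction (S := fun j => A ⊗[k] C j)
    (fun j => Algebra.TensorProduct.map (AlgHom.id A A) (φ j))
    (fun j => (r ∘ₗ LinearMap.single k C j).baseChange A) (fun x => ?_) fun j => h j A
  induction x using TensorProduct.induction_on with
  | zero => simp
  | tmul a b =>
    simp only [Algebra.TensorProduct.map_tmul, AlgHom.id_apply, LinearMap.baseChange_tmul, ← TensorProduct.tmul_sum,
      LinearMap.comp_apply, ← map_sum, LinearMap.single_apply]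
    rw [show (∑ j, Pi.single j (φ j b)) = P b from Finset.univ_sum_single (P b)]
    exact congrArg _ (LinearMap.congr_fun hr b)
  | add x y hx hy =>
    simp only [map_add, Finset.sum_add_distrib]
    rw [hx, hy]

/-- A primary quotient of a finitely generated algebra over a field. -/
theorem exists_uGood_of_isPrimary {B : Type u} [CommRing B] [Algebra k B] [Algebra.FiniteType k B]
    (q : Ideal B) (hq : q.IsPrimary) :
    ∃ (C : Type u) (_ : CommRing C) (_ : Algebra k C) (φ : B →ₐ[k] C),
      UGood k C ∧ ∀ x, φ x = 0 → x ∈ q := by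
  have : Nontrivial (B ⧸ q) := Ideal.Quotient.nontrivial_iff.2 hq.ne_top
  have : Algebra.FiniteType k (B ⧸ q) :=
    Algebra.FiniteType.of_surjective (Ideal.Quotient.mkₐ k q) Ideal.Quotient.mk_surjective
  obtain ⟨n, g, hg, hgf⟩ := exists_finite_inj_algHom_of_fg k (B ⧸ q)
  let P := MvPolynomial (Fin n) k
  let _ : Algebra P (B ⧸ q) := g.toRingHom.toAlgebra
  have : IsScalarTower k P (B ⧸ q) := IsScalarTower.of_algebraMap_eq fun a => (g.commutes a).symm
  have : Module.Finite P (B ⧸ q) := hgf
  have : Module.FinitePresentation P (B ⧸ q) := Module.finitePresentation_of_finite P _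
  let M' := LocalizedModule (nonZeroDivisors P) (B ⧸ q)
  have : Module.Free (FractionRing P) M' := inferInstance
  obtain ⟨r, hr, hfree, -⟩ := Module.FinitePresentation.exists_free_localizedModule_powers (nonZeroDivisors P)
    (LocalizedModule.mkLinearMap (nonZeroDivisors P) (B ⧸ q)) (FractionRing P)
  have hr0 : r ≠ 0 := nonZeroDivisors.ne_zero hr
  let Pr := Localization.Away r
  let Cr := Localization.Away (algebraMap P (B ⧸ q) r)
  let _ : Algebra Pr Cr :=
    (IsLocalization.Away.lift r (g := algebraMap P Cr) (by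
      rw [IsScalarTower.algebraMap_apply P (B ⧸ q) Cr]
      exact IsLocalization.Away.algebraMap_isUnit _)).toAlgebra
  have : IsScalarTower P Pr Cr :=
    IsScalarTower.of_algebraMap_eq fun a => (IsLocalization.Away.lift_eq r _ a).symm
  have : IsScalarTower k Pr Cr := IsScalarTower.of_algebraMap_eq fun a => by
    rw [IsScalarTower.algebraMap_apply k P Pr, ← IsScalarTower.algebraMap_apply P Pr Cr,
      ← IsScalarTower.algebraMap_apply k P Cr]
  have hloc : IsLocalizedModule (Submonoid.powers r) (IsScalarTower.toAlgHom P (B ⧸ q) Cr).toLinearMap := by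
    refine (isLocalizedModule_iff_isLocalization ..).2 ?_
    rw [Algebra.algebraMapSubmonoid, Submonoid.map_powers]
    infer_instance
  have hfree' : Module.Free Pr Cr := by
    let e := IsLocalizedModule.iso (Submonoid.powers r) (IsScalarTower.toAlgHom P (B ⧸ q) Cr).toLinearMap
    exact Module.Free.of_equiv (e.extendScalarsOfIsLocalization (Submonoid.powers r) Pr)
  have hfin : Module.Finite Pr Cr :=
    Module.Finite.of_isLocalizedModule (Submonoid.powers r) (Rₚ := Pr)
      (IsScalarTower.toAlgHom P (B ⧸ q) Cr).toLinearMap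
  have : Algebra.IsIntegral Pr Cr := Algebra.IsIntegral.of_finite Pr Cr
  refine ⟨Cr, inferInstance, inferInstance, (IsScalarTower.toAlgHom k (B ⧸ q) Cr).comp (Ideal.Quotient.mkₐ k q),
    ((uGood_mvPolynomial n).trans ((uGood_away (R := P) r Pr).trans (uGood_of_free_of_isIntegral (R := Pr) Cr))),
    fun x hx => ?_⟩
  change algebraMap (B ⧸ q) Cr (Ideal.Quotient.mk q x) = 0 at hx
  obtain ⟨⟨_, m, rfl⟩, hm⟩ :=
    (IsLocalization.map_eq_zero_iff (Submonoid.powers (algebraMap P (B ⧸ q) r)) Cr _).1 hx
  obtain ⟨s, hs⟩ := Ideal.Quotient.mk_surjective (algebraMap P (B ⧸ q) r)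
  change algebraMap P (B ⧸ q) r ^ m * Ideal.Quotient.mk q x = 0 at hm
  rw [← hs, ← map_pow, ← map_mul, Ideal.Quotient.eq_zero_iff_mem, mul_comm] at hm
  rcases (Ideal.isPrimary_iff.1 hq).2 hm with h | h
  · exact h
  · exfalso
    obtain ⟨l, hl⟩ := h
    have : algebraMap P (B ⧸ q) r ^ (m * l) = 0 := by
      rw [← hs, ← map_pow, Ideal.Quotient.eq_zero_iff_mem, pow_mul]
      exact hl
    rw [← map_pow] at this
    exact pow_ne_zero _ hr0 ((injective_iff_map_eq_zero _).1 hg _ this)

/-- Finitely generated algebras over a field. -/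
theorem uGood_of_finiteType (B : Type u) [CommRing B] [Algebra k B] [Algebra.FiniteType k B] : UGood k B := by
  classical
  have : IsNoetherianRing B := Algebra.FiniteType.isNoetherianRing k B
  obtain ⟨t, ht⟩ := Submodule.IsLasker.exists_isMinimalPrimaryDecomposition (Submodule.isLasker B B) (⊥ : Ideal B)
  choose C hC hC' φ hgood hker using fun q : t => exists_uGood_of_isPrimary (k := k) q.1 (ht.primary q.2)
  let e := t.equivFin
  refine uGood_of_injective (J := Fin t.card) (C := fun j => C (e.symm j)) (fun j => φ (e.symm j))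
    (fun x hx => ?_) fun j => hgood (e.symm j)
  have : x ∈ t.inf id := by
    rw [Submodule.mem_finsetInf]
    intro q hq
    have := hx (e ⟨q, hq⟩)
    exact hker ⟨q, hq⟩ x (by rw [e.symm_apply_apply] at this; exact this)
  rwa [ht.inf_eq, Submodule.mem_bot] at this

/-- Every algebra over a field preserves separation after any base change. -/
theorem uGood_field (B : Type u) [CommRing B] [Algebra k B] : UGood k B := by
  intro A _ _ ι M _ _ N _ _ f hf b z hz
  -- a finite subset carrying `b` and `z`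
  have hb : ∀ x : A ⊗[k] B, ∃ s : Finset B, ∀ B₀ : Subalgebra k B, (s : Set B) ⊆ B₀ →
      x ∈ Set.range (Algebra.TensorProduct.map (AlgHom.id A A) B₀.val) := by
    classical
    intro x
    induction x using TensorProduct.induction_on with
    | zero => exact ⟨∅, fun B₀ _ => ⟨0, map_zero _⟩⟩
    | tmul a c => exact ⟨{c}, fun B₀ h => ⟨a ⊗ₜ ⟨c, h (by simp)⟩, rfl⟩⟩
    | add x y hx hy =>
      obtain ⟨s, hs⟩ := hx
      obtain ⟨t, ht⟩ := hy
      refine ⟨s ∪ t, fun B₀ h => ?_⟩
      obtain ⟨x', rfl⟩ := hs B₀ fun c hc => h (by simp [Finset.mem_coe.1 hc])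
      obtain ⟨y', rfl⟩ := ht B₀ fun c hc => h (by simp [Finset.mem_coe.1 hc])
      exact ⟨x' + y', map_add _ _ _⟩
  have hzs : ∀ w : (A ⊗[k] B) ⊗[A] M, ∃ s : Finset B, ∀ B₀ : Subalgebra k B, (s : Set B) ⊆ B₀ →
      w ∈ Set.range ((Algebra.TensorProduct.map (AlgHom.id A A) B₀.val).toLinearMap.rTensor M) := by
    classical
    intro w
    induction w using TensorProduct.induction_on with
    | zero => exact ⟨∅, fun B₀ _ => ⟨0, map_zero _⟩⟩
    | tmul c m =>
      obtain ⟨s, hs⟩ := hb c
      refine ⟨s, fun B₀ h => ?_⟩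
      obtain ⟨c', rfl⟩ := hs B₀ h
      exact ⟨c' ⊗ₜ m, rfl⟩
    | add x y hx hy =>
      obtain ⟨s, hs⟩ := hx
      obtain ⟨t, ht⟩ := hy
      refine ⟨s ∪ t, fun B₀ h => ?_⟩
      obtain ⟨x', rfl⟩ := hs B₀ fun c hc => h (by simp [Finset.mem_coe.1 hc])
      obtain ⟨y', rfl⟩ := ht B₀ fun c hc => h (by simp [Finset.mem_coe.1 hc])
      exact ⟨x' + y', map_add _ _ _⟩
  classical
  obtain ⟨s, hs⟩ := hb b
  obtain ⟨t, ht⟩ := hzs z
  let B₀ := Algebra.adjoin k ((s ∪ t : Finset B) : Set B)
  have : Algebra.FiniteType k B₀ := (Subalgebra.fg_iff_finiteType B₀).1 ⟨s ∪ t, rfl⟩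
  obtain ⟨b₀, rfl⟩ := hs B₀ fun c hc => Algebra.subset_adjoin (by simp [Finset.mem_coe.1 hc])
  obtain ⟨z₀, rfl⟩ := ht B₀ fun c hc => Algebra.subset_adjoin (by simp [Finset.mem_coe.1 hc])
  let g := Algebra.TensorProduct.map (AlgHom.id A A) B₀.val
  obtain ⟨ρ, hρ⟩ := B₀.val.toLinearMap.exists_leftInverse_of_injective
    (LinearMap.ker_eq_bot.2 Subtype.val_injective)
  have hsemi : ∀ (L : Type u) [AddCommGroup L] [Module A L] (c : A ⊗[k] B₀) (y : (A ⊗[k] B₀) ⊗[A] L),
      g.toLinearMap.rTensor L (c • y) = g c • g.toLinearMap.rTensor L y := by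
    intro L _ _ c y
    induction y using TensorProduct.induction_on with
    | zero => simp
    | add a b ha hb => simp [ha, hb]
    | tmul t m => simp [TensorProduct.smul_tmul']
  have hinj : ∀ (L : Type u) [AddCommGroup L] [Module A L], Function.Injective (g.toLinearMap.rTensor L) := by
    intro L _ _
    refine Function.LeftInverse.injective (g := (ρ.baseChange A).rTensor L) fun y => ?_
    rw [← LinearMap.comp_apply, ← LinearMap.rTensor_comp]
    have : ρ.baseChange A ∘ₗ g.toLinearMap = LinearMap.id := by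
      ext c
      simp only [g, LinearMap.comp_apply, AlgHom.toLinearMap_apply, AlgebraTensorModule.curry_apply,
        TensorProduct.curry_apply, LinearMap.coe_restrictScalars, Algebra.TensorProduct.map_tmul,
        AlgHom.id_apply, LinearMap.baseChange_tmul, LinearMap.id_apply]
      exact congrArg _ (LinearMap.congr_fun hρ c)
    rw [this, LinearMap.rTensor_id, LinearMap.id_apply]
  obtain ⟨n, hn⟩ := uGood_of_finiteType B₀ A f hf b₀ z₀ fun i => by
    obtain ⟨n, hn⟩ := hz i
    refine ⟨n, hinj (N i) ?_⟩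
    rw [hsemi, map_zero, map_pow]
    have e : ∀ y : (A ⊗[k] B₀) ⊗[A] M, g.toLinearMap.rTensor (N i) ((f i).baseChange (A ⊗[k] B₀) y) =
        (f i).baseChange (A ⊗[k] B) (g.toLinearMap.rTensor M y) := by
      intro y
      induction y using TensorProduct.induction_on with
      | zero => simp
      | add a b ha hb => simp [ha, hb]
      | tmul t m => simp
    rw [e]
    exact hn
  refine ⟨n, ?_⟩
  rw [← map_pow, ← hsemi, hn, map_zero]

end Groth.Agent.E4O.Sep
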