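import Groth.Agent.E4O.SepStable
import Groth.Agent.GenFree62.Generic
import Groth.Agent.Unr55.FppfDesc

/-!
EGA IV 11.10: a separating family stays separating after a flat base change of finite presentation.
-/

set_option autoImplicit false
set_option linter.style.haveILetI false

universe u

open TensorProduct

namespace Groth.Agent.E4O.Sep

section Away

variable {A : Type u} [CommRing A] (p : Ideal A) (a : A) {W : Type u} [AddCommGroup W] [Module A W]

/-- An element of a module killed by `p` which dies in `(A/p)_a ⊗ W` is killed by a power of `a`. -/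
theorem exists_pow_smul_of_one_tmul_eq_zero (hW : ∀ c ∈ p, ∀ w : W, c • w = 0) (w : W)
    (h : (1 : Localization.Away (Ideal.Quotient.mk p a)) ⊗ₜ[A] w = 0) : ∃ n : ℕ, a ^ n • w = 0 := by
  let R := A ⧸ p
  let S := Localization.Away (Ideal.Quotient.mk p a)
  have ht : Module.IsTorsionBySet A W (p : Set A) := fun x c => hW c.1 c.2 x
  letI : Module R W := ht.module
  haveI : IsScalarTower A R W := ht.isScalarTower
  have h' : (TensorProduct.mk R S W 1) w = 0 := by
    have := congrArg (TensorProduct.mapOfCompatibleSMul R A R S W) h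
    rwa [TensorProduct.mapOfCompatibleSMul_tmul, map_zero] at this
  obtain ⟨⟨_, n, rfl⟩, hn⟩ :=
    (IsLocalizedModule.eq_zero_iff (Submonoid.powers (Ideal.Quotient.mk p a)) (TensorProduct.mk R S W 1)).1 h'
  refine ⟨n, ?_⟩
  rw [← algebraMap_smul R (a ^ n) w, map_pow]
  exact hn

/-- Elements of `(A/p)_a ⊗ W` come from `W` after multiplication by a power of `a`. -/
theorem exists_pow_smul_eq_one_tmul (z : Localization.Away (Ideal.Quotient.mk p a) ⊗[A] W) :
    ∃ (n : ℕ) (w : W), a ^ n • z = (1 : Localization.Away (Ideal.Quotient.mk p a)) ⊗ₜ[A] w := by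
  let R := A ⧸ p
  let S := Localization.Away (Ideal.Quotient.mk p a)
  induction z using TensorProduct.induction_on with
  | zero => exact ⟨0, 0, by simp⟩
  | tmul s w =>
    obtain ⟨⟨r, _, n, rfl⟩, hs⟩ := IsLocalization.surj (Submonoid.powers (Ideal.Quotient.mk p a)) s
    obtain ⟨b, rfl⟩ := Ideal.Quotient.mk_surjective r
    refine ⟨n, b • w, ?_⟩
    rw [smul_tmul', tmul_smul, smul_tmul']
    congr 1
    rw [Algebra.smul_def, Algebra.smul_def, mul_one, IsScalarTower.algebraMap_apply A R S,
      IsScalarTower.algebraMap_apply A R S, map_pow, mul_comm]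
    exact hs
  | add x y hx hy =>
    obtain ⟨n, w, hx⟩ := hx
    obtain ⟨m, v, hy⟩ := hy
    refine ⟨n + m, a ^ m • w + a ^ n • v, ?_⟩
    rw [tmul_add, tmul_smul, tmul_smul, ← hx, ← hy, smul_add, smul_smul, smul_smul, ← pow_add, ← pow_add,
      add_comm m n]

end Away

/-- The Noetherian case. -/
theorem separating_of_flat_noetherian {A : Type u} [CommRing A] [IsNoetherianRing A] {B : Type u} [CommRing B]
    [Algebra A B] [Algebra.FiniteType A B] [Module.Flat A B] {ι : Type u} {M : Type u} [AddCommGroup M] [Module A M]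
    {N : ι → Type u} [∀ i, AddCommGroup (N i)] [∀ i, Module A (N i)] (u : ∀ i, M →ₗ[A] N i)
    (hu : SepMod A u) (z : B ⊗[A] M) (hz : ∀ i, (u i).lTensor B z = 0) : z = 0 := by
  classical
  haveI : IsNoetherianRing B := Algebra.FiniteType.isNoetherianRing A B
  let K : Submodule B (B ⊗[A] M) := ⨅ i, LinearMap.ker ((u i).baseChange B)
  have hzK : z ∈ K := by
    simp only [K, Submodule.mem_iInf, LinearMap.mem_ker]
    intro i
    rw [show (u i).baseChange B z = (u i).lTensor B z from rfl, hz i]
  by_contra hne
  haveI : Nontrivial K := ⟨⟨⟨z, hzK⟩, 0, fun h => hne (congrArg Subtype.val h)⟩⟩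
  obtain ⟨q, hq⟩ := associatedPrimes.nonempty B K
  obtain ⟨hqp, ⟨η, hηK⟩, hη⟩ := isAssociatedPrime_iff.1 hq
  have hann : ∀ b : B, b ∈ q ↔ b • η = 0 := fun b => by
    rw [hη, Submodule.mem_colon_singleton, Submodule.mem_bot, Subtype.ext_iff]
    rfl
  have hηu : ∀ i, (u i).lTensor B η = 0 := fun i => by
    have := (Submodule.mem_iInf _).1 hηK i
    rw [LinearMap.mem_ker] at this
    exact this
  let p : Ideal A := q.comap (algebraMap A B)
  haveI hp : p.IsPrime := Ideal.comap_isPrime _ _
  have hpη : ∀ c ∈ p, c • η = 0 := fun c hc => by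
    rw [← algebraMap_smul B c η]; exact (hann _).1 hc
  -- `η` comes from the part killed by `p`
  let H := Submodule.torsionBySet A M (p : Set A)
  obtain ⟨n, c, hc⟩ := Submodule.fg_iff_exists_fin_generating_family.1 (IsNoetherian.noetherian p)
  let φ : M →ₗ[A] (Fin n → M) := LinearMap.pi fun k => c k • LinearMap.id
  have hexact : Function.Exact H.subtype φ := by
    intro m
    simp only [Set.mem_range, Subtype.exists, Submodule.coe_subtype, exists_prop, exists_eq_right, H,
      Submodule.mem_torsionBySet_iff, φ]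
    constructor
    · intro hm b
      have hb : (b : A) ∈ Submodule.span A (Set.range c) := hc.ge b.2
      refine Submodule.span_induction (p := fun d _ => d • m = 0) ?_ (zero_smul _ _) ?_ ?_ hb
      · rintro _ ⟨k, rfl⟩
        exact congrFun hm k
      · intro x y _ _ hx hy
        rw [add_smul, hx, hy, add_zero]
      · intro r x _ hx
        rw [smul_eq_mul, mul_smul, hx, smul_zero]
    · intro hm
      funext k
      exact hm ⟨c k, hc ▸ Submodule.subset_span ⟨k, rfl⟩⟩
  obtain ⟨η', hη'⟩ : ∃ η', H.subtype.lTensor B η' = η := by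
    refine (Module.Flat.lTensor_exact B hexact η).1 ?_
    apply (TensorProduct.piRight A A B (fun _ : Fin n => M)).injective
    rw [map_zero]
    funext k
    have key : ∀ x : B ⊗[A] M, TensorProduct.piRight A A B (fun _ : Fin n => M) (φ.lTensor B x) k = c k • x := by
      intro x
      induction x using TensorProduct.induction_on with
      | zero => simp
      | tmul b m => simp [φ, tmul_smul]
      | add x y hx hy => simp only [map_add, Pi.add_apply, hx, hy, smul_add]
    rw [key]
    exact hpη _ (hc ▸ Submodule.subset_span ⟨k, rfl⟩)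
  have hHi : ∀ i, ∀ m ∈ H, u i m ∈ Submodule.torsionBySet A (N i) (p : Set A) := fun i m hm => by
    rw [Submodule.mem_torsionBySet_iff] at hm ⊢
    intro b
    rw [← map_smul, hm b, map_zero]
  let u' : ∀ i, H →ₗ[A] Submodule.torsionBySet A (N i) (p : Set A) := fun i => (u i).restrict (hHi i)
  have hη'u : ∀ i, (u' i).lTensor B η' = 0 := fun i => by
    refine Module.Flat.lTensor_preserves_injective_linearMap (M := B) _
      (Submodule.torsionBySet A (N i) (p : Set A)).injective_subtype ?_
    rw [map_zero, ← hηu i, ← hη', ← LinearMap.lTensor_comp_apply, ← LinearMap.lTensor_comp_apply]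
    rfl
  -- generic freeness
  let R := A ⧸ p
  obtain ⟨f₀, hf₀, hfree⟩ := GenFree62.exists_freeAway (A := R) (B := R ⊗[A] B) (M := R ⊗[A] B)
  obtain ⟨a, rfl⟩ := Ideal.Quotient.mk_surjective f₀
  have ha : a ∉ p := fun h => hf₀ (Ideal.Quotient.eq_zero_iff_mem.2 h)
  let S := Localization.Away (Ideal.Quotient.mk p a)
  haveI := hfree S (IsLocalization.Away.algebraMap_isUnit _)
  haveI : Module.Free S (S ⊗[A] B) :=
    Module.Free.of_equiv (AlgebraTensorModule.cancelBaseChange A R S S B)
  let e := Module.Free.chooseBasis S (S ⊗[A] B)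
  let one : B →ₗ[A] S ⊗[A] B := TensorProduct.mk A S B 1
  let ρ : (S ⊗[A] B) ≃ₗ[A] (_ →₀ S) := e.repr.restrictScalars A
  have hpS : ∀ c ∈ p, algebraMap A S c = 0 := fun c hc => by
    rw [IsScalarTower.algebraMap_apply A R S]
    show algebraMap R S (Ideal.Quotient.mk p c) = 0
    rw [Ideal.Quotient.eq_zero_iff_mem.2 hc, map_zero]
  have hcoord : ρ.toLinearMap.rTensor H (one.rTensor H η') = 0 := by
    refine (TensorProduct.finsuppLeft A A S H _).injective ?_
    rw [map_zero]
    ext k
    rw [TensorProduct.finsuppLeft_apply, Finsupp.zero_apply, ← LinearMap.rTensor_comp_apply,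
      ← LinearMap.rTensor_comp_apply]
    let φk := Finsupp.lapply k ∘ₗ ρ.toLinearMap ∘ₗ one
    show φk.rTensor H η' = 0
    obtain ⟨n, h, hh⟩ := exists_pow_smul_eq_one_tmul p a (φk.rTensor H η')
    have hzero : ∀ i, ∃ m : ℕ, a ^ m • u i (h : M) = 0 := by
      intro i
      have h1 : (u' i).lTensor S (φk.rTensor H η') = 0 := by
        rw [← LinearMap.comp_apply, LinearMap.lTensor_comp_rTensor, ← LinearMap.rTensor_comp_lTensor,
          LinearMap.comp_apply, hη'u i, map_zero]
      have h2 : (1 : S) ⊗ₜ[A] (u' i h) = 0 := by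
        rw [← LinearMap.lTensor_tmul, ← hh, map_smul, h1, smul_zero]
      obtain ⟨m, hm⟩ := exists_pow_smul_of_one_tmul_eq_zero p a
        (fun c hc w => Subtype.ext (((Submodule.mem_torsionBySet_iff _ _).1 w.2) ⟨c, hc⟩)) _ h2
      exact ⟨m, congrArg Subtype.val hm⟩
    obtain ⟨m, hm⟩ := hu a (h : M) hzero
    have h3 : a ^ (m + n) • φk.rTensor H η' = 0 := by
      rw [pow_add, mul_smul, hh, ← tmul_smul, show a ^ m • h = 0 from Subtype.ext hm, tmul_zero]
    have hu' : IsUnit (algebraMap A S a) := by
      rw [IsScalarTower.algebraMap_apply A R S]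
      exact IsLocalization.Away.algebraMap_isUnit _
    rw [← algebraMap_smul S (a ^ (m + n)), map_pow] at h3
    exact (hu'.pow _).smul_eq_zero.1 h3
  have hone : one.rTensor H η' = 0 := by
    have := congrArg (ρ.symm.toLinearMap.rTensor H) hcoord
    rwa [← LinearMap.rTensor_comp_apply, LinearEquiv.comp_coe, LinearEquiv.self_trans_symm, LinearEquiv.refl_toLinearMap,
      LinearMap.rTensor_id, LinearMap.id_apply, map_zero] at this
  have hone' : (1 : S) ⊗ₜ[A] η' = 0 := by
    have key : ∀ x : B ⊗[A] H, TensorProduct.assoc A S B H (one.rTensor H x) = (1 : S) ⊗ₜ[A] x := by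
      intro x
      induction x using TensorProduct.induction_on with
      | zero => simp
      | tmul b m => simp [one]
      | add x y hx hy => simp only [map_add, hx, hy, tmul_add]
    rw [← key, hone, map_zero]
  obtain ⟨k, hk⟩ := exists_pow_smul_of_one_tmul_eq_zero p a (W := B ⊗[A] H) (fun c hc w => by
    induction w using TensorProduct.induction_on with
    | zero => simp
    | tmul b m =>
      rw [← tmul_smul, show c • m = 0 from
        Subtype.ext (((Submodule.mem_torsionBySet_iff _ _).1 m.2) ⟨c, hc⟩), tmul_zero]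
    | add x y hx hy => rw [smul_add, hx, hy, add_zero]) η' hone'
  refine ha (hp.mem_of_pow_mem k ?_)
  show algebraMap A B (a ^ k) ∈ q
  rw [hann, algebraMap_smul, ← hη', ← map_smul, hk, map_zero]

/-- A separating family stays separating after a flat base change of finite presentation. -/
theorem separating_of_flat {A : Type u} [CommRing A] {B : Type u} [CommRing B] [Algebra A B]
    [Algebra.FinitePresentation A B] [Module.Flat A B] {ι : Type u} {M : Type u} [AddCommGroup M] [Module A M]
    {N : ι → Type u} [∀ i, AddCommGroup (N i)] [∀ i, Module A (N i)] (u : ∀ i, M →ₗ[A] N i)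
    (hu : SepMod A u) (z : B ⊗[A] M) (hz : ∀ i, (u i).lTensor B z = 0) : z = 0 := by
  obtain ⟨C, B₀, _, _, _, _, hC, hB₀, hflat, ⟨e⟩⟩ := Unr55.exists_flat_model A B
  haveI : IsNoetherianRing C := Algebra.FiniteType.isNoetherianRing ℤ C
  haveI := hflat
  haveI : Algebra.FiniteType C B₀ := inferInstance
  letI : Algebra C B := ((algebraMap A B).comp (algebraMap C A)).toAlgebra
  haveI : IsScalarTower C A B := IsScalarTower.of_algebraMap_eq fun r => rfl
  letI : Module C M := Module.compHom M (algebraMap C A)
  haveI : IsScalarTower C A M := IsScalarTower.of_algebraMap_smul fun r m => rfl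
  letI : ∀ i, Module C (N i) := fun i => Module.compHom (N i) (algebraMap C A)
  haveI : ∀ i, IsScalarTower C A (N i) := fun i => IsScalarTower.of_algebraMap_smul fun r m => rfl
  let Φ : ∀ (W : Type u) [AddCommGroup W] [Module A W] [Module C W] [IsScalarTower C A W],
      B ⊗[A] W ≃ₗ[C] B₀ ⊗[C] W := fun W _ _ _ _ =>
    (((TensorProduct.congr e.toLinearEquiv (LinearEquiv.refl A W)).trans (TensorProduct.comm A _ _)).trans
      (AlgebraTensorModule.cancelBaseChange C A A W B₀)).restrictScalars C |>.trans (TensorProduct.comm C W B₀)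
  have hnat : ∀ i (x : B ⊗[A] M), Φ (N i) ((u i).lTensor B x) =
      ((u i).restrictScalars C).lTensor B₀ (Φ M x) := by
    intro i x
    induction x using TensorProduct.induction_on with
    | zero => simp
    | add x y hx hy => simp only [map_add, hx, hy]
    | tmul b m =>
      obtain ⟨w, rfl⟩ := e.symm.surjective b
      induction w using TensorProduct.induction_on with
      | zero => simp
      | add x y hx hy => simp only [map_add, add_tmul, hx, hy]
      | tmul c b₀ => simp [Φ]
  have h0 : Φ M z = 0 := by
    refine separating_of_flat_noetherian (fun i => (u i).restrictScalars C) ?_ _ fun i => by rw [← hnat, hz, map_zero]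
    intro c w hw
    obtain ⟨n, hn⟩ := hu (algebraMap C A c) w fun i => by
      obtain ⟨n, hn⟩ := hw i
      exact ⟨n, by rw [← map_pow, algebraMap_smul]; exact hn⟩
    exact ⟨n, by rwa [← map_pow, algebraMap_smul] at hn⟩
  exact (Φ M).map_eq_zero_iff.1 h0

end Groth.Agent.E4O.Sep
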