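import Groth.Agent.E4O.Separating
import Groth.Agent.E4O.SepField

/-!
EGA IV 11.9: separating families and stability, on schemes.
-/

set_option autoImplicit false
set_option backward.isDefEq.respectTransparency.types false

noncomputable section

universe u

open CategoryTheory Limits AlgebraicGeometry TopologicalSpace Opposite TensorProduct
open Groth.Agent.QC70 Groth.Agent.QCPull72

namespace Groth.Agent.E4O.Sep

variable {X Y : Scheme.{u}} {ι : Type u}

/-- A separating family is separating in terms of modules on every affine open. -/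
theorem sepMod_of_isSep {F : X.Modules} [F.IsQuasicoherent] {G : ι → X.Modules} {u : ∀ i, F ⟶ G i}
    (hsep : IsSep F G u) {U : X.Opens} (hU : IsAffineOpen U) : SepMod Γ(X, U) fun i => appL (u i) U :=
  fun c z hz => exists_pow_smul_eq_zero hsep hU c z hz

/-- Separation of a pulled back family on basic opens of an affine open. -/
theorem sepOn_pullback_basicOpen (f : Y ⟶ X) {F : X.Modules} [F.IsQuasicoherent] {G : ι → X.Modules}
    [∀ i, (G i).IsQuasicoherent] (u : ∀ i, F ⟶ G i) {U : X.Opens} (hU : IsAffineOpen U)
    {V : Y.Opens} (hV : IsAffineOpen V) (e : V ≤ f ⁻¹ᵁ U) (b : Γ(Y, V))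
    (h : letI := (f.appLE U V e).hom.toAlgebra
      SepMod Γ(Y, V) fun i => (appL (u i) U).baseChange Γ(Y, V)) :
    SepOn ((Scheme.Modules.pullback f).obj F) (fun i => (Scheme.Modules.pullback f).obj (G i))
        (fun i => (Scheme.Modules.pullback f).map (u i)) (Y.basicOpen b) := by
  have := isQuasicoherent_pullback f F
  have : ∀ i, ((Scheme.Modules.pullback f).obj (G i)).IsQuasicoherent := fun i => isQuasicoherent_pullback f (G i)
  let _ := (f.appLE U V e).hom.toAlgebra
  obtain ⟨E, hE⟩ := LimTop61.exists_baseChange_equiv f F hU hV e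
  choose E' hE' using fun i => LimTop61.exists_baseChange_equiv f (G i) hU hV e
  have key : ∀ i t, E' i (((Scheme.Modules.pullback f).map (u i)).app V t) =
      (appL (u i) U).baseChange Γ(Y, V) (E t) := by
    intro i t
    have h : ((E' i).toLinearMap ∘ₗ appL ((Scheme.Modules.pullback f).map (u i)) V) =
        ((appL (u i) U).baseChange Γ(Y, V)) ∘ₗ E.toLinearMap := by
      refine LinearMap.ext_on_range (span_unitSec_eq_top f F hU hV e) fun x => ?_
      show E' i (((Scheme.Modules.pullback f).map (u i)).app V (unitSec f F e x)) =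
        (appL (u i) U).baseChange Γ(Y, V) (E (unitSec f F e x))
      rw [unitSec_natural, hE', hE, LinearMap.baseChange_tmul]
      rfl
    exact LinearMap.congr_fun h t
  refine sepOn_basicOpen hV b fun z hz => ?_
  obtain ⟨n, hn⟩ := h b (E z) fun i => by
    obtain ⟨m, hm⟩ := hz i
    exact ⟨m, by rw [← key, ← map_smul, hm, map_zero]⟩
  exact ⟨n, E.injective (by rw [map_smul, hn, map_zero])⟩

/-- A pushout over a field preserves separation. -/
theorem stableSep_of_isPushout {R A B T : CommRingCat.{u}} (hR : IsField R) {a : R ⟶ A} {b : R ⟶ B}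
    {a' : A ⟶ T} {b' : B ⟶ T} (h : IsPushout a b a' b') :
    letI := a'.hom.toAlgebra
    StableSep A T := by
  let _ : Field R := hR.toField
  algebraize [a.hom, b.hom, a'.hom, b'.hom, a'.hom.comp a.hom]
  have : IsScalarTower R B T := .of_algebraMap_eq fun x => congr($(h.1.1).hom x)
  have h' : Algebra.IsPushout R A B T := CommRingCat.isPushout_iff_isPushout.mp h
  exact (uGood_field (k := R) B A).of_algEquiv (Algebra.IsPushout.equiv R A B T)

end Groth.Agent.E4O.Sep
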