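import Mathlib

/-!
EGA IV 11.9/11.10: stability of separation (in the localised sense) under base changes by algebras.
-/

set_option autoImplicit false

noncomputable section

universe u

open TensorProduct

namespace Groth.Agent.E4O.Sep

/-- Separation on all basic opens, in terms of modules. -/
def SepMod (A : Type u) [CommRing A] {ι : Type u} {M : Type u} [AddCommGroup M] [Module A M]
    {N : ι → Type u} [∀ i, AddCommGroup (N i)] [∀ i, Module A (N i)] (f : ∀ i, M →ₗ[A] N i) : Prop :=
  ∀ (c : A) (z : M), (∀ i, ∃ n : ℕ, c ^ n • f i z = 0) → ∃ n : ℕ, c ^ n • z = 0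

/-- Base change to `T` preserves separation. -/
def StableSep (A T : Type u) [CommRing A] [CommRing T] [Algebra A T] : Prop :=
  ∀ ⦃ι : Type u⦄ ⦃M : Type u⦄ [AddCommGroup M] [Module A M] ⦃N : ι → Type u⦄ [∀ i, AddCommGroup (N i)]
    [∀ i, Module A (N i)] (f : ∀ i, M →ₗ[A] N i), SepMod A f →
    SepMod T (fun i => (f i).baseChange T)

/-- The radical of the annihilator of an element. -/
def nilAnn (T : Type u) [CommRing T] {M : Type u} [AddCommGroup M] [Module T M] (x : M) : Ideal T :=
  Ideal.radical (LinearMap.ker (LinearMap.toSpanSingleton T M x))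

theorem mem_nilAnn {T : Type u} [CommRing T] {M : Type u} [AddCommGroup M] [Module T M] {x : M} {b : T} :
    b ∈ nilAnn T x ↔ ∃ n : ℕ, b ^ n • x = 0 := by
  simp [nilAnn, Ideal.radical, LinearMap.toSpanSingleton_apply]

theorem pow_smul_eq_zero_of_le {T : Type u} [CommRing T] {M : Type u} [AddCommGroup M] [Module T M] {x : M}
    {b : T} {n m : ℕ} (h : b ^ n • x = 0) (hnm : n ≤ m) : b ^ m • x = 0 := by
  rw [← Nat.sub_add_cancel hnm, pow_add, mul_smul, h, smul_zero]

variable {A : Type u} [CommRing A]

/-- Scalars of the base: coordinates with respect to a basis. -/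
theorem algebraMap_mem_nilAnn_iff {T : Type u} [CommRing T] [Algebra A T] [Module.Free A T]
    {M : Type u} [AddCommGroup M] [Module A M] (c : A) (z : T ⊗[A] M) :
    algebraMap A T c ∈ nilAnn T z ↔
      ∀ l, ∃ n : ℕ, c ^ n • (equivFinsuppOfBasisLeft (Module.Free.chooseBasis A T) z) l = 0 := by
  classical
  rw [mem_nilAnn]
  constructor
  · rintro ⟨n, hn⟩ l
    refine ⟨n, ?_⟩
    rw [← map_pow, algebraMap_smul] at hn
    rw [← Finsupp.smul_apply, ← map_smul, hn, map_zero, Finsupp.zero_apply]
  · intro h
    choose n hn using h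
    refine ⟨(equivFinsuppOfBasisLeft (Module.Free.chooseBasis A T) z).support.sup n, ?_⟩
    rw [← map_pow, algebraMap_smul]
    apply (equivFinsuppOfBasisLeft (Module.Free.chooseBasis A T)).injective
    rw [map_smul, map_zero]
    ext l
    rw [Finsupp.smul_apply, Finsupp.zero_apply]
    by_cases hl : l ∈ (equivFinsuppOfBasisLeft (Module.Free.chooseBasis A T) z).support
    · exact pow_smul_eq_zero_of_le (hn l) (Finset.le_sup hl)
    · rw [Finsupp.notMem_support_iff.1 hl, smul_zero]

/-- Separation for scalars of the base. -/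
theorem algebraMap_mem_nilAnn {T : Type u} [CommRing T] [Algebra A T] [Module.Free A T]
    {ι : Type u} {M : Type u} [AddCommGroup M] [Module A M] {N : ι → Type u} [∀ i, AddCommGroup (N i)]
    [∀ i, Module A (N i)] (f : ∀ i, M →ₗ[A] N i) (hf : SepMod A f) (c : A) (z : T ⊗[A] M)
    (h : ∀ i, algebraMap A T c ∈ nilAnn T ((f i).baseChange T z)) : algebraMap A T c ∈ nilAnn T z := by
  rw [algebraMap_mem_nilAnn_iff]
  intro l
  refine hf c _ fun i => ?_
  obtain ⟨n, hn⟩ := (algebraMap_mem_nilAnn_iff c _).1 (h i) l
  refine ⟨n, ?_⟩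
  have key : ∀ y : T ⊗[A] M, equivFinsuppOfBasisLeft (Module.Free.chooseBasis A T) ((f i).baseChange T y) l =
      f i (equivFinsuppOfBasisLeft (Module.Free.chooseBasis A T) y l) := by
    intro y
    induction y using TensorProduct.induction_on with
    | zero => simp
    | tmul a b => simp
    | add a b ha hb => simp [ha, hb]
  rwa [← key]

/-- Free integral algebras preserve separation. -/
theorem stableSep_of_free_of_isIntegral (T : Type u) [CommRing T] [Algebra A T] [Module.Free A T]
    [Algebra.IsIntegral A T] : StableSep A T := by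
  intro ι M _ _ N _ _ f hf b z hz
  obtain ⟨P, hP, hPb⟩ := Algebra.IsIntegral.isIntegral (R := A) b
  let r := P.natDegree
  suffices ∀ j ≤ r, algebraMap A T (P.coeff j) * b ∈ nilAnn T z by
    have h := this r le_rfl
    rw [hP.coeff_natDegree, map_one, one_mul] at h
    exact mem_nilAnn.1 h
  intro j hj
  induction j using Nat.strong_induction_on with
  | _ j ih =>
    let Q : T := ∑ l ∈ Finset.range (r + 1 - j), algebraMap A T (P.coeff (j + l)) * b ^ l
    have hsum : ∑ l ∈ Finset.range j, algebraMap A T (P.coeff l) * b ^ l + b ^ j * Q = 0 := by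
      rw [← hPb, Polynomial.eval₂_eq_sum_range]
      conv_rhs => rw [show P.natDegree + 1 = j + (r + 1 - j) from (Nat.add_sub_cancel' (by omega)).symm,
        Finset.sum_range_add]
      rw [Finset.mul_sum]
      exact congrArg _ (Finset.sum_congr rfl fun l _ => by ring)
    have hbQ : b * Q ∈ nilAnn T z := by
      refine Ideal.radical_isRadical _ ⟨j + 1, ?_⟩
      have h1 : b * (b ^ j * Q) ∈ nilAnn T z := by
        rw [eq_neg_of_add_eq_zero_right hsum, mul_neg, neg_mem_iff, Finset.mul_sum]
        refine sum_mem fun l hl => ?_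
        have := ih l (Finset.mem_range.1 hl) (by have := Finset.mem_range.1 hl; omega)
        rw [show b * (algebraMap A T (P.coeff l) * b ^ l) = algebraMap A T (P.coeff l) * b * b ^ l by ring]
        exact (nilAnn T z).mul_mem_right _ this
      rw [show (b * Q) ^ (j + 1) = b * (b ^ j * Q) * Q ^ j by ring]
      exact (nilAnn T z).mul_mem_right _ h1
    obtain ⟨n, hn⟩ := mem_nilAnn.1 hbQ
    let w := b ^ n • z
    have hQw : Q ^ n • w = 0 := by
      show Q ^ n • b ^ n • z = 0
      rw [smul_smul, ← mul_pow, mul_comm, hn]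
    have hcw : algebraMap A T (P.coeff j) ∈ nilAnn T w := by
      refine algebraMap_mem_nilAnn f hf _ _ fun i => ?_
      have hQ : Q ∈ nilAnn T ((f i).baseChange T w) :=
        mem_nilAnn.2 ⟨n, by rw [← map_smul, hQw, map_zero]⟩
      have hb : b ∈ nilAnn T ((f i).baseChange T w) := by
        obtain ⟨m, hm⟩ := hz i
        exact mem_nilAnn.2 ⟨m, by
          show b ^ m • (f i).baseChange T (b ^ n • z) = 0
          rw [map_smul, smul_comm, hm, smul_zero]⟩
      have hsplit : Q = algebraMap A T (P.coeff j) +
          b * ∑ l ∈ Finset.range (r - j), algebraMap A T (P.coeff (j + (l + 1))) * b ^ l := by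
        show ∑ l ∈ Finset.range (r + 1 - j), _ = _
        rw [show r + 1 - j = (r - j) + 1 by omega, Finset.sum_range_succ', Finset.mul_sum, add_comm]
        congr 1
        · simp
        · exact Finset.sum_congr rfl fun l _ => by ring
      rw [eq_sub_of_add_eq hsplit.symm]
      exact sub_mem hQ (Ideal.mul_mem_right _ _ hb)
    obtain ⟨m, hm⟩ := mem_nilAnn.1 hcw
    refine mem_nilAnn.2 ⟨m + n, ?_⟩
    rw [show (algebraMap A T (P.coeff j) * b) ^ (m + n) =
        (b ^ m * algebraMap A T (P.coeff j) ^ n) * (algebraMap A T (P.coeff j) ^ m * b ^ n) by ring]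
    rw [mul_smul, mul_smul (algebraMap A T (P.coeff j) ^ m), hm, smul_zero]

open Polynomial in
/-- Polynomial rings preserve separation. -/
theorem stableSep_polynomial : StableSep A A[X] := by
  intro ι M _ _ N _ _ f hf b z hz
  -- coefficient maps
  let co : ∀ (L : Type u) [AddCommGroup L] [Module A L], ℕ → A[X] ⊗[A] L →ₗ[A] L := fun L _ _ n =>
    (TensorProduct.lid A L).toLinearMap ∘ₗ (Polynomial.lcoeff A n).rTensor L
  have hcoe : ∀ (L : Type u) [AddCommGroup L] [Module A L] (n : ℕ) (p : A[X]) (x : L),
      co L n (p ⊗ₜ x) = p.coeff n • x := fun L _ _ n p x => by simp [co]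
  have hmon : ∀ (L : Type u) [AddCommGroup L] [Module A L] (n d : ℕ) (a : A) (y : A[X] ⊗[A] L),
      co L n (monomial d a • y) = if d ≤ n then a • co L (n - d) y else 0 := by
    intro L _ _ n d a y
    induction y using TensorProduct.induction_on with
    | zero => simp
    | tmul p x =>
      rw [TensorProduct.smul_tmul', hcoe, hcoe, smul_eq_mul, ← C_mul_X_pow_eq_monomial, mul_assoc,
        coeff_C_mul, coeff_X_pow_mul']
      split_ifs <;> simp [mul_smul]
    | add y₁ y₂ h₁ h₂ =>
      rw [smul_add, map_add, h₁, h₂, map_add]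
      split_ifs <;> simp
  have hbound : ∀ (L : Type u) [AddCommGroup L] [Module A L] (y : A[X] ⊗[A] L),
      ∃ e : ℕ, ∀ n, e < n → co L n y = 0 := by
    intro L _ _ y
    induction y using TensorProduct.induction_on with
    | zero => exact ⟨0, fun n _ => map_zero _⟩
    | tmul p x => exact ⟨p.natDegree, fun n hn => by rw [hcoe, coeff_eq_zero_of_natDegree_lt hn, zero_smul]⟩
    | add y₁ y₂ h₁ h₂ =>
      obtain ⟨e₁, he₁⟩ := h₁
      obtain ⟨e₂, he₂⟩ := h₂
      exact ⟨max e₁ e₂, fun n hn => by rw [map_add, he₁ n (by omega), he₂ n (by omega), add_zero]⟩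
  have hext : ∀ (L : Type u) [AddCommGroup L] [Module A L] (y : A[X] ⊗[A] L),
      (∀ n, co L n y = 0) → y = 0 := by
    intro L _ _ y hy
    classical
    apply (equivFinsuppOfBasisLeft (Polynomial.basisMonomials A)).injective
    rw [map_zero]
    ext n
    have key : ∀ y : A[X] ⊗[A] L, equivFinsuppOfBasisLeft (Polynomial.basisMonomials A) y n = co L n y := by
      intro y
      induction y using TensorProduct.induction_on with
      | zero => simp
      | tmul p x => rw [hcoe, equivFinsuppOfBasisLeft_apply_tmul_apply]; rfl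
      | add a b ha hb => simp [ha, hb]
    rw [key, hy, Finsupp.zero_apply]
  -- the top coefficient of a polynomial that is nilpotent on `y` is nilpotent on `y`
  have htop : ∀ (L : Type u) [AddCommGroup L] [Module A L] (p : A[X]) (y : A[X] ⊗[A] L),
      p ∈ nilAnn A[X] y → C p.leadingCoeff ∈ nilAnn A[X] y := by
    intro L _ _ p y hp
    obtain ⟨k, hk⟩ := mem_nilAnn.1 hp
    let q := p.natDegree
    have step : ∀ (y : A[X] ⊗[A] L) (e : ℕ), (∀ n, e < n → co L n y = 0) →
        (∀ n, q + e < n → co L n (p • y) = 0) ∧ co L (q + e) (p • y) = p.leadingCoeff • co L e y := by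
      intro y e he
      have hsum : ∀ n, co L n (p • y) =
          ∑ j ∈ Finset.range (q + 1), if j ≤ n then p.coeff j • co L (n - j) y else 0 := by
        intro n
        conv_lhs => rw [p.as_sum_range, Finset.sum_smul, map_sum]
        exact Finset.sum_congr rfl fun j _ => hmon L n j _ y
      constructor
      · intro n hn
        rw [hsum]
        refine Finset.sum_eq_zero fun j hj => ?_
        have := Finset.mem_range.1 hj
        rw [if_pos (by omega), he _ (by omega), smul_zero]
      · rw [hsum, Finset.sum_eq_single q]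
        · rw [if_pos (by omega), Nat.add_sub_cancel_left]
          rfl
        · intro j hj hjq
          have := Finset.mem_range.1 hj
          rw [if_pos (by omega), he _ (by omega), smul_zero]
        · simp
    have iter : ∀ (m : ℕ) (y : A[X] ⊗[A] L) (e : ℕ), (∀ n, e < n → co L n y = 0) →
        (∀ n, m * q + e < n → co L n (p ^ m • y) = 0) ∧
          co L (m * q + e) (p ^ m • y) = p.leadingCoeff ^ m • co L e y := by
      intro m
      induction m with
      | zero => intro y e he; simpa using he
      | succ m ihm =>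
        intro y e he
        obtain ⟨h1, h2⟩ := ihm y e he
        obtain ⟨h3, h4⟩ := step (p ^ m • y) _ h1
        rw [show (m + 1) * q + e = q + (m * q + e) by ring, pow_succ', mul_smul, pow_succ', mul_smul]
        exact ⟨h3, h4.trans (by rw [h2])⟩
    have main : ∀ (e : ℕ) (y : A[X] ⊗[A] L), (∀ n, e < n → co L n y = 0) → p ^ k • y = 0 →
        C p.leadingCoeff ^ (k * (e + 1)) • y = 0 := by
      intro e
      induction e with
      | zero =>
        intro y he hy
        refine hext L _ fun n => ?_
        rw [← map_pow, ← monomial_zero_left, hmon, if_pos (Nat.zero_le n), Nat.sub_zero, Nat.zero_add, mul_one]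
        rcases Nat.eq_zero_or_pos n with rfl | hn
        · rw [← (iter k y 0 he).2, hy, map_zero]
        · rw [he n hn, smul_zero]
      | succ e ihe =>
        intro y he hy
        have h := ihe (C p.leadingCoeff ^ k • y) (fun n hn => ?_) (by rw [smul_comm, hy, smul_zero])
        · rw [smul_smul, ← pow_add] at h
          rwa [show k * (e + 1) + k = k * (e + 1 + 1) by ring] at h
        · rw [← map_pow, ← monomial_zero_left, hmon, if_pos (Nat.zero_le n), Nat.sub_zero]
          rcases Nat.lt_or_ge (e + 1) n with hn' | hn'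
          · rw [he n hn', smul_zero]
          · obtain rfl : n = e + 1 := by omega
            rw [← (iter k y (e + 1) he).2, hy, map_zero]
    obtain ⟨e, he⟩ := hbound L y
    exact mem_nilAnn.2 ⟨_, main e y he hk⟩
  -- hence all coefficients are
  have hall : ∀ (L : Type u) [AddCommGroup L] [Module A L] (p : A[X]) (y : A[X] ⊗[A] L),
      p ∈ nilAnn A[X] y → ∀ j, C (p.coeff j) ∈ nilAnn A[X] y := by
    intro L _ _ p y
    induction hq : p.support.card using Nat.strong_induction_on generalizing p with
    | _ q ih =>
      intro hp j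
      rcases eq_or_ne p 0 with rfl | hp0
      · simp
      rcases eq_or_ne j p.natDegree with rfl | hj
      · exact htop L p y hp
      · have hp' : p.eraseLead ∈ nilAnn A[X] y := by
          rw [eq_sub_of_add_eq (eraseLead_add_monomial_natDegree_leadingCoeff p)]
          refine sub_mem hp ?_
          rw [← C_mul_X_pow_eq_monomial]
          exact Ideal.mul_mem_right _ _ (htop L p y hp)
        have := ih _ (hq ▸ eraseLead_support_card_lt hp0) p.eraseLead rfl hp' j
        rwa [eraseLead_coeff_of_ne _ hj] at this
  apply mem_nilAnn.1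
  rw [b.as_sum_range]
  refine sum_mem fun j _ => ?_
  rw [← C_mul_X_pow_eq_monomial]
  refine Ideal.mul_mem_right _ _ ?_
  exact algebraMap_mem_nilAnn f hf (b.coeff j) z fun i => hall _ b _ (mem_nilAnn.2 (hz i)) j

/-- Transitivity. -/
theorem StableSep.trans {T T' : Type u} [CommRing T] [CommRing T'] [Algebra A T] [Algebra A T'] [Algebra T T']
    [IsScalarTower A T T'] (h₁ : StableSep A T) (h₂ : StableSep T T') : StableSep A T' := by
  intro ι M _ _ N _ _ f hf b z hz
  have h := h₂ (fun i => (f i).baseChange T) (h₁ f hf) b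
    ((AlgebraTensorModule.cancelBaseChange A T T' T' M).symm z) fun i => ?_
  · obtain ⟨n, hn⟩ := h
    exact ⟨n, (AlgebraTensorModule.cancelBaseChange A T T' T' M).symm.injective (by rw [map_smul, hn, map_zero])⟩
  · obtain ⟨n, hn⟩ := hz i
    refine ⟨n, (AlgebraTensorModule.cancelBaseChange A T T' T' (N i)).injective ?_⟩
    rw [map_smul, map_zero]
    have key : ∀ y : T' ⊗[T] (T ⊗[A] M),
        AlgebraTensorModule.cancelBaseChange A T T' T' (N i) (((f i).baseChange T).baseChange T' y) =
          (f i).baseChange T' (AlgebraTensorModule.cancelBaseChange A T T' T' M y) := by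
      intro y
      induction y using TensorProduct.induction_on with
      | zero => simp
      | add a b ha hb => simp [ha, hb]
      | tmul s x =>
        induction x using TensorProduct.induction_on with
        | zero => simp
        | add a b ha hb => rw [TensorProduct.tmul_add]; simp only [map_add]; rw [ha, hb]
        | tmul t m => simp
    rw [key, LinearEquiv.apply_symm_apply, hn]

/-- Reduction to a finite family of algebras through a linear retraction. -/
theorem sep_of_retraction {T : Type u} [CommRing T] [Algebra A T] {J : Type} [Fintype J] {S : J → Type u}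
    [∀ j, CommRing (S j)] [∀ j, Algebra A (S j)] (g : ∀ j, T →ₐ[A] S j) (ρ : ∀ j, S j →ₗ[A] T)
    (hρ : ∀ x, ∑ j, ρ j (g j x) = x) (hS : ∀ j, StableSep A (S j)) : StableSep A T := by
  intro ι M _ _ N _ _ f hf b z hz
  have hsemi : ∀ (L : Type u) [AddCommGroup L] [Module A L] (j : J) (c : T) (y : T ⊗[A] L),
      (g j).toLinearMap.rTensor L (c • y) = g j c • (g j).toLinearMap.rTensor L y := by
    intro L _ _ j c y
    induction y using TensorProduct.induction_on with
    | zero => simp
    | add a b ha hb => simp [ha, hb]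
    | tmul t m => simp [TensorProduct.smul_tmul']
  have h : ∀ j, ∃ n : ℕ, g j b ^ n • (g j).toLinearMap.rTensor M z = 0 := fun j =>
    hS j f hf (g j b) _ fun i => by
      obtain ⟨n, hn⟩ := hz i
      refine ⟨n, ?_⟩
      have e : (f i).baseChange (S j) ((g j).toLinearMap.rTensor M z) =
          (g j).toLinearMap.rTensor (N i) ((f i).baseChange T z) := by
        clear hn hz
        induction z using TensorProduct.induction_on with
        | zero => simp
        | add a b ha hb => simp [ha, hb]
        | tmul t m => simp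
      show g j b ^ n • (f i).baseChange (S j) ((g j).toLinearMap.rTensor M z) = 0
      rw [e, ← map_pow, ← hsemi, hn, map_zero]
  choose n hn using h
  refine ⟨Finset.univ.sup n, ?_⟩
  have hid : ∀ y : T ⊗[A] M, ∑ j, (ρ j).rTensor M ((g j).toLinearMap.rTensor M y) = y := by
    intro y
    induction y using TensorProduct.induction_on with
    | zero => simp
    | add a b ha hb =>
      simp only [map_add, Finset.sum_add_distrib]
      rw [ha, hb]
    | tmul t m => simp [← TensorProduct.sum_tmul, hρ]
  rw [← hid (b ^ Finset.univ.sup n • z)]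
  refine Finset.sum_eq_zero fun j _ => ?_
  rw [hsemi, map_pow]
  rw [← Nat.sub_add_cancel (show n j ≤ Finset.univ.sup n from Finset.le_sup (Finset.mem_univ j)), pow_add,
    mul_smul, hn j, smul_zero, map_zero]

/-- Invariance under isomorphisms. -/
theorem StableSep.of_algEquiv {T T' : Type u} [CommRing T] [CommRing T'] [Algebra A T] [Algebra A T']
    (h : StableSep A T) (e : T ≃ₐ[A] T') : StableSep A T' :=
  sep_of_retraction (J := Unit) (fun _ => e.symm.toAlgHom) (fun _ => e.toLinearMap) (by simp) fun _ => h

/-- Localisation away from one element preserves separation. -/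
theorem stableSep_away (s : A) (T : Type u) [CommRing T] [Algebra A T] [IsLocalization.Away s T] :
    StableSep A T := by
  intro ι M _ _ N _ _ f hf b z hz
  have hM : IsLocalizedModule (Submonoid.powers s) (TensorProduct.mk A T M 1) :=
    (isLocalizedModule_iff_isBaseChange (Submonoid.powers s) T _).2 (TensorProduct.isBaseChange A M T)
  obtain ⟨⟨m, ⟨_, k, rfl⟩⟩, hm⟩ := IsLocalizedModule.surj (Submonoid.powers s) (TensorProduct.mk A T M 1) z
  obtain ⟨⟨c, ⟨_, l, rfl⟩⟩, hc⟩ := IsLocalization.surj (Submonoid.powers s) b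
  have hs : IsUnit (algebraMap A T s) := IsLocalization.Away.algebraMap_isUnit s
  change s ^ k • z = (1 : T) ⊗ₜ m at hm
  change b * algebraMap A T (s ^ l) = algebraMap A T c at hc
  have hcs : ∀ i, ∃ n : ℕ, (c * s) ^ n • f i m = 0 := by
    intro i
    obtain ⟨n, hn⟩ := hz i
    change b ^ n • (f i).baseChange T z = 0 at hn
    have h1 : c ^ n • ((1 : T) ⊗ₜ[A] f i m) = 0 := by
      rw [← LinearMap.baseChange_tmul, ← hm, LinearMap.map_smul_of_tower, ← algebraMap_smul T (c ^ n),
        map_pow, ← hc, mul_pow, mul_comm, mul_smul, smul_comm (b ^ n), hn, smul_zero, smul_zero]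
    rw [← TensorProduct.tmul_smul] at h1
    have hN : IsLocalizedModule (Submonoid.powers s) (TensorProduct.mk A T (N i) 1) :=
      (isLocalizedModule_iff_isBaseChange (Submonoid.powers s) T _).2 (TensorProduct.isBaseChange A (N i) T)
    obtain ⟨⟨_, q, rfl⟩, hq⟩ :=
      (IsLocalizedModule.eq_zero_iff (Submonoid.powers s) (TensorProduct.mk A T (N i) 1)).1 h1
    change s ^ q • c ^ n • f i m = 0 at hq
    refine ⟨n + q, ?_⟩
    rw [show (c * s) ^ (n + q) = (c ^ q * s ^ n) * (s ^ q * c ^ n) by ring, mul_smul, mul_smul (s ^ q), hq,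
      smul_zero]
  obtain ⟨n, hn⟩ := hf (c * s) m hcs
  refine ⟨n, ?_⟩
  have h2 : (c * s) ^ n • (s ^ k • z) = 0 := by rw [hm, ← TensorProduct.tmul_smul, hn, TensorProduct.tmul_zero]
  rw [← algebraMap_smul T ((c * s) ^ n), ← algebraMap_smul T (s ^ k), smul_smul, map_pow, map_mul, map_pow,
    ← hc, map_pow, show ((b * algebraMap A T s ^ l * algebraMap A T s) ^ n * algebraMap A T s ^ k) =
      (algebraMap A T s ^ (l * n + n + k)) * b ^ n by ring, mul_smul] at h2
  exact (hs.pow _).smul_eq_zero.1 h2

end Groth.Agent.E4O.Sep
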