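import Groth.Agent.FBase64.AssSheaf2
import Groth.Agent.Cyc90.SecDiv
import Mathlib.RingTheory.Localization.LocalizationLocalization

/-!
The stalks at the generisations of a point are localisations of the stalk at the point.
-/

set_option autoImplicit false
set_option linter.style.haveILetI false
set_option backward.isDefEq.respectTransparency.types false

universe u

open CategoryTheory AlgebraicGeometry TopologicalSpace IsLocalRing

namespace Groth.Agent.E4O

open Div89

variable {X : Scheme.{u}}

/-- The prime of the local ring at `x` given by a generisation `y`. -/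
noncomputable def genPrime {x y : X} (h : y ⤳ x) : Ideal (X.presheaf.stalk x) :=
  (maximalIdeal (X.presheaf.stalk y)).comap (X.presheaf.stalkSpecializes h).hom

instance {x y : X} (h : y ⤳ x) : (genPrime h).IsPrime := Ideal.comap_isPrime _ _

theorem comap_germ_genPrime (U : X.affineOpens) {x y : X} (h : y ⤳ x) (hx : x ∈ U.1) :
    (genPrime h).comap (X.presheaf.germ U.1 x hx).hom = primeAt U y (mem_affine_of_specializes h hx) := by
  ext r
  have hy := mem_affine_of_specializes h hx
  have e : (X.presheaf.stalkSpecializes h).hom ((X.presheaf.germ U.1 x hx).hom r) =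
      (X.presheaf.germ U.1 y hy).hom r := TopCat.Presheaf.germ_stalkSpecializes_apply _ hx h r
  rw [genPrime, Ideal.mem_comap, Ideal.mem_comap, e, mem_maximalIdeal, mem_nonunits_iff,
    germ_isUnit_iff U y hy r, Classical.not_not]

theorem specializes_of_genPrime_le {x y y' : X} (h : y ⤳ x) (h' : y' ⤳ x) (hle : genPrime h ≤ genPrime h') :
    y ⤳ y' := by
  obtain ⟨U, hx⟩ := exists_affine_mem x
  refine (specializes_iff_primeAt_le U (mem_affine_of_specializes h' hx) (mem_affine_of_specializes h hx)).2 ?_
  rw [← comap_germ_genPrime U h hx, ← comap_germ_genPrime U h' hx]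
  exact Ideal.comap_mono hle

theorem genPrime_le_of_specializes {x y y' : X} (h : y ⤳ x) (h' : y' ⤳ x) (hyy : y ⤳ y') :
    genPrime h ≤ genPrime h' := by
  intro r hr
  by_contra hr'
  rw [genPrime, Ideal.mem_comap, mem_maximalIdeal, mem_nonunits_iff, not_not] at hr'
  rw [genPrime, Ideal.mem_comap, mem_maximalIdeal, mem_nonunits_iff] at hr
  refine hr ?_
  have e := congrArg (fun φ => φ.hom r) (X.presheaf.stalkSpecializes_comp hyy h')
  rw [CommRingCat.hom_comp, RingHom.comp_apply] at e
  rw [← e]
  exact hr'.map _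

theorem exists_genPrime_eq (x : X) (Q : Ideal (X.presheaf.stalk x)) [Q.IsPrime] :
    ∃ (y : X) (h : y ⤳ x), genPrime h = Q := by
  obtain ⟨U, hx⟩ := exists_affine_mem x
  letI := stalkAlg U.1 x hx
  haveI := isLocalization_stalk U x hx
  let q : Ideal Γ(X, U.1) := Q.comap (algebraMap Γ(X, U.1) (X.presheaf.stalk x))
  obtain ⟨y, hy, hyq⟩ := exists_point U q
  have hle : q ≤ primeAt U x hx :=
    le_trans (Ideal.comap_mono (le_maximalIdeal (inferInstance : Q.IsPrime).ne_top))
      (IsLocalization.AtPrime.under_maximalIdeal (X.presheaf.stalk x) (primeAt U x hx)).le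
  have hyx : y ⤳ x := (specializes_iff_primeAt_le U hx hy).2 (hyq ▸ hle)
  refine ⟨y, hyx, ?_⟩
  rw [← IsLocalization.map_under (primeAt U x hx).primeCompl (X.presheaf.stalk x) (genPrime hyx),
    ← IsLocalization.map_under (primeAt U x hx).primeCompl (X.presheaf.stalk x) Q]
  exact congrArg _ ((comap_germ_genPrime U hyx hx).trans hyq)

theorem isLocalization_stalkSpecializes {x y : X} (h : y ⤳ x) :
    letI := (X.presheaf.stalkSpecializes h).hom.toAlgebra
    IsLocalization.AtPrime (X.presheaf.stalk y) (genPrime h) := by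
  letI := (X.presheaf.stalkSpecializes h).hom.toAlgebra
  obtain ⟨U, hx⟩ := exists_affine_mem x
  have hy := mem_affine_of_specializes h hx
  letI := stalkAlg U.1 x hx
  haveI := isLocalization_stalk U x hx
  letI := stalkAlg U.1 y hy
  haveI := isLocalization_stalk U y hy
  haveI : IsScalarTower Γ(X, U.1) (X.presheaf.stalk x) (X.presheaf.stalk y) :=
    IsScalarTower.of_algebraMap_eq fun r => (TopCat.Presheaf.germ_stalkSpecializes_apply _ hx h r).symm
  have hle : (primeAt U x hx).primeCompl ≤ (primeAt U y hy).primeCompl :=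
    fun r hr hr' => hr ((specializes_iff_primeAt_le U hx hy).1 h hr')
  haveI := IsLocalization.isLocalization_of_submonoid_le (X.presheaf.stalk x) (X.presheaf.stalk y)
    (primeAt U x hx).primeCompl (primeAt U y hy).primeCompl hle
  refine IsLocalization.of_le (M := (primeAt U y hy).primeCompl.map (algebraMap Γ(X, U.1) (X.presheaf.stalk x))) (S := X.presheaf.stalk y) (genPrime h).primeCompl ?_ ?_
  · rintro _ ⟨r, hr, rfl⟩ hmem
    exact hr ((comap_germ_genPrime U h hx).le hmem)
  · intro r hr
    have h1 : r ∉ genPrime h := hr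
    rw [genPrime, Ideal.mem_comap, mem_maximalIdeal, mem_nonunits_iff, not_not] at h1
    exact h1

/-- The map on stalks of a module induced by a generisation, linear over the local ring. -/
noncomputable def specializeLin (F : X.Modules) {x y : X} (h : y ⤳ x) :
    letI : Module (X.presheaf.stalk x) (F.presheaf.stalk y) :=
      Module.compHom _ (X.presheaf.stalkSpecializes h).hom
    F.presheaf.stalk x →ₗ[X.presheaf.stalk x] F.presheaf.stalk y :=
  letI : Module (X.presheaf.stalk x) (F.presheaf.stalk y) :=
    Module.compHom _ (X.presheaf.stalkSpecializes h).hom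
  { toFun := fun m => F.presheaf.stalkSpecializes h m
    map_add' := fun a b => map_add (F.presheaf.stalkSpecializes h).hom a b
    map_smul' := fun a t => Cyc90.stalkSpecializes_smul F h a t }

theorem isLocalizedModule_specializeLin (F : X.Modules) (hF : Coh.IsQCoh F) {x y : X} (h : y ⤳ x) :
    letI : Module (X.presheaf.stalk x) (F.presheaf.stalk y) :=
      Module.compHom _ (X.presheaf.stalkSpecializes h).hom
    IsLocalizedModule (genPrime h).primeCompl (specializeLin F h) := by
  letI : Module (X.presheaf.stalk x) (F.presheaf.stalk y) :=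
    Module.compHom _ (X.presheaf.stalkSpecializes h).hom
  obtain ⟨U, hx⟩ := exists_affine_mem x
  have hy := mem_affine_of_specializes h hx
  letI := stalkModule F U.1 x hx
  letI := stalkModule F U.1 y hy
  letI := stalkAlg U.1 x hx
  haveI := isScalarTower_stalk F U.1 x hx
  haveI := isLocalizedModule_germLin F hF U x hx
  haveI := isLocalizedModule_germLin F hF U y hy
  have hρ : ∀ r : Γ(X, U.1), (X.presheaf.stalkSpecializes h).hom ((X.presheaf.germ U.1 x hx).hom r) =
      (X.presheaf.germ U.1 y hy).hom r := fun r => TopCat.Presheaf.germ_stalkSpecializes_apply _ hx h r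
  have hj : ∀ m : Γ(F, U.1), specializeLin F h (germLin F U.1 x hx m) = germLin F U.1 y hy m :=
    fun m => by
      show (F.presheaf.stalkSpecializes h) ((F.presheaf.germ U.1 x hx) m) = (F.presheaf.germ U.1 y hy) m
      exact TopCat.Presheaf.germ_stalkSpecializes_apply F.presheaf hx h m
  have hnot : ∀ c : (primeAt U y hy).primeCompl, (X.presheaf.germ U.1 x hx).hom c.1 ∈ (genPrime h).primeCompl :=
    fun c hmem => c.2 ((comap_germ_genPrime U h hx).le hmem)
  refine ⟨fun c => ?_, fun w => ?_, fun {a b} hab => ?_⟩
  · rw [Module.End.isUnit_iff]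
    have h1 : ¬ (X.presheaf.stalkSpecializes h).hom c.1 ∈ maximalIdeal (X.presheaf.stalk y) := c.2
    rw [mem_maximalIdeal, mem_nonunits_iff, not_not] at h1
    exact (h1.smul_bijective : Function.Bijective
      (fun s : F.presheaf.stalk y => (X.presheaf.stalkSpecializes h).hom c.1 • s))
  · obtain ⟨⟨m, c⟩, hc⟩ := IsLocalizedModule.surj (primeAt U y hy).primeCompl (germLin F U.1 y hy) w
    refine ⟨(germLin F U.1 x hx m, ⟨_, hnot c⟩), ?_⟩
    rw [hj m, ← hc]
    show (X.presheaf.stalkSpecializes h).hom _ • w = (X.presheaf.germ U.1 y hy).hom c.1 • w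
    rw [hρ]
  · obtain ⟨⟨m, c⟩, hc⟩ := IsLocalizedModule.surj (primeAt U x hx).primeCompl (germLin F U.1 x hx) (a - b)
    have h0 : F.presheaf.germ U.1 y hy m = 0 := by
      show germLin F U.1 y hy m = 0
      rw [← hj, ← hc, Submonoid.smul_def, ← algebraMap_smul (X.presheaf.stalk x), map_smul, map_sub, hab,
        sub_self, smul_zero]
    obtain ⟨v, hv, hvm⟩ := (germ_eq_zero_iff F hF U y hy m).1 h0
    refine ⟨⟨_, hnot ⟨v, hv⟩⟩, ?_⟩
    have h1 : (X.presheaf.germ U.1 x hx).hom c.1 • ((X.presheaf.germ U.1 x hx).hom v • (a - b)) = 0 := by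
      rw [smul_comm]
      show (X.presheaf.germ U.1 x hx).hom v • (c • (a - b)) = 0
      rw [hc]
      show v • germLin F U.1 x hx m = 0
      rw [← map_smul, hvm, map_zero]
    rw [((germ_isUnit_iff U x hx c.1).2 c.2).smul_eq_zero, smul_sub, sub_eq_zero] at h1
    exact h1

end Groth.Agent.E4O
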