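import Groth.Agent.E4O.LengthSpecAlg
import Groth.Agent.E4O.StalkGenLoc
import Groth.Agent.E4O.Subscheme
import Groth.Agent.E4O.DvrCrit
import Groth.Agent.E4O.SectionCompGen
import Groth.Agent.FBase64.AssSheaf2
import Groth.Agent.FlatMor68.FibreStalk
import Groth.Agent.FlatMor68.PullbackStalk
import Groth.Agent.Div89.PushAss
import Groth.Agent.CAlg7.CompleteFibres
import Groth.Agent.FDesc60.QF
import Groth.Agent.QCPull72.Unit
import Mathlib.RingTheory.Artinian.Module
import Mathlib.LinearAlgebra.TensorProduct.Quotient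
import Mathlib.RingTheory.Ideal.AssociatedPrime.Localization

/-!
Lengths of a flat coherent module on the two fibres over a discrete valuation ring.
-/

set_option autoImplicit false
set_option linter.style.haveILetI false
set_option backward.isDefEq.respectTransparency.types false
universe u

open CategoryTheory AlgebraicGeometry TopologicalSpace IsLocalRing TensorProduct

namespace Groth.Agent.E4O

/-- On a finite length module over a local ring, an element of the maximal ideal acts nilpotently. -/
theorem exists_pow_smul_eq_zero {R M : Type u} [CommRing R] [IsLocalRing R] [AddCommGroup M] [Module R M]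
    (h : IsFiniteLength R M) {a : R} (ha : a ∈ maximalIdeal R) : ∃ n : ℕ, ∀ x : M, a ^ n • x = 0 := by
  obtain ⟨_, _⟩ := isFiniteLength_iff_isNoetherian_isArtinian.1 h
  obtain ⟨n, hn⟩ := IsArtinian.range_smul_pow_stabilizes M a
  refine ⟨n, fun x => ?_⟩
  let N := LinearMap.range (a ^ n • LinearMap.id : M →ₗ[R] M)
  have hle : N ≤ (⊥ : Submodule R M) := by
    refine Submodule.le_of_le_smul_of_le_jacobson_bot (I := Ideal.span {a}) (IsNoetherian.noetherian N)
      ((Ideal.span_le.2 (Set.singleton_subset_iff.2 ha)).trans (maximalIdeal_le_jacobson _)) ?_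
    rw [bot_sup_eq]
    intro y hy
    obtain ⟨z, hz⟩ : y ∈ LinearMap.range (a ^ (n + 1) • LinearMap.id : M →ₗ[R] M) := (hn (n + 1) n.le_succ) ▸ hy
    rw [← hz]
    simp only [LinearMap.smul_apply, LinearMap.id_apply, pow_succ', mul_smul]
    exact Submodule.smul_mem_smul (Ideal.mem_span_singleton_self a) ⟨z, rfl⟩
  exact (Submodule.mem_bot R).1 (hle ⟨x, rfl⟩)

/-- Associated maximal ideals pass to quotient rings. -/
theorem isAssociatedPrime_maximalIdeal_of_surjective {B C W : Type u} [CommRing B] [CommRing C] [IsLocalRing B]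
    [IsLocalRing C] [Algebra B C] [IsLocalHom (algebraMap B C)] (hs : Function.Surjective (algebraMap B C))
    [AddCommGroup W] [Module B W] [Module C W] [IsScalarTower B C W]
    (h : IsAssociatedPrime (maximalIdeal B) W) : IsAssociatedPrime (maximalIdeal C) W := by
  obtain ⟨-, w, hw⟩ := h
  refine ⟨(maximalIdeal.isMaximal C).isPrime, w, ?_⟩
  have e : ((⊥ : Submodule C W).colon {w}).comap (algebraMap B C) = (⊥ : Submodule B W).colon {w} := by
    ext b
    rw [Ideal.mem_comap, Submodule.mem_colon_singleton, Submodule.mem_colon_singleton, algebraMap_smul,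
      Submodule.mem_bot, Submodule.mem_bot]
  refine Ideal.comap_injective_of_surjective _ hs ?_
  rw [Ideal.comap_radical, e, ← hw]
  exact IsLocalRing.maximalIdeal_comap (algebraMap B C)

variable {X Y : Scheme.{u}}

/-- The stalk module of a fibre is the reduction of the stalk module. -/
theorem nonempty_fibreStalkModuleEquiv (f : X ⟶ Y) (F : X.Modules) [F.IsQuasicoherent] (s : Y) (z : f.fiber s) :
    letI := Module.compHom (((Scheme.Modules.pullback (f.fiberι s)).obj F).presheaf.stalk z)
      ((f.fiberι s).stalkMap z).hom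
    Nonempty (((Scheme.Modules.pullback (f.fiberι s)).obj F).presheaf.stalk z ≃ₗ[X.presheaf.stalk (f.fiberι s z)]
      F.presheaf.stalk (f.fiberι s z) ⧸
        (maximalIdeal (Y.presheaf.stalk (f (f.fiberι s z)))).map (f.stalkMap (f.fiberι s z)).hom •
          (⊤ : Submodule (X.presheaf.stalk (f.fiberι s z)) (F.presheaf.stalk (f.fiberι s z)))) := by
  obtain ⟨E⟩ := FlatMor68.PullbackStalk.nonempty_stalkPullbackEquiv (f.fiberι s) F z
  let x := f.fiberι s z
  let B := X.presheaf.stalk x
  let C := (f.fiber s).presheaf.stalk z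
  let W := ((Scheme.Modules.pullback (f.fiberι s)).obj F).presheaf.stalk z
  letI : Algebra B C := ((f.fiberι s).stalkMap z).hom.toAlgebra
  letI : Module B W := Module.compHom W ((f.fiberι s).stalkMap z).hom
  haveI : IsScalarTower B C W := .of_algebraMap_smul fun r m => rfl
  let I := (maximalIdeal (Y.presheaf.stalk (f x))).map (f.stalkMap x).hom
  have hker : RingHom.ker (algebraMap B C) = I := FlatMor68.FibreStalk.ker_fiberι_stalkMap f s z
  have hsurj : Function.Surjective (algebraMap B C) := FlatMor68.FibreStalk.fiberι_stalkMap_surjective f s z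
  let e₁ : (B ⧸ I) ≃ₐ[B] C :=
    (Ideal.quotientEquivAlgOfEq B hker.symm).trans
      (Ideal.quotientKerAlgEquivOfSurjective (f := Algebra.ofId B C) hsurj)
  exact ⟨(E.restrictScalars B).trans ((TensorProduct.congr e₁.symm.toLinearEquiv (LinearEquiv.refl B _)).trans
    (TensorProduct.quotTensorEquivQuotSMul (F.presheaf.stalk x) I))⟩

theorem length_fibre_stalk (f : X ⟶ Y) (F : X.Modules) [F.IsQuasicoherent] (s : Y) (z : f.fiber s) :
    Module.length ((f.fiber s).presheaf.stalk z)
      (((Scheme.Modules.pullback (f.fiberι s)).obj F).presheaf.stalk z) =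
    Module.length (X.presheaf.stalk (f.fiberι s z))
      (F.presheaf.stalk (f.fiberι s z) ⧸
        (maximalIdeal (Y.presheaf.stalk (f (f.fiberι s z)))).map (f.stalkMap (f.fiberι s z)).hom •
          (⊤ : Submodule (X.presheaf.stalk (f.fiberι s z)) (F.presheaf.stalk (f.fiberι s z)))) := by
  obtain ⟨e⟩ := nonempty_fibreStalkModuleEquiv f F s z
  letI : Algebra (X.presheaf.stalk (f.fiberι s z)) ((f.fiber s).presheaf.stalk z) :=
    ((f.fiberι s).stalkMap z).hom.toAlgebra
  letI := Module.compHom (((Scheme.Modules.pullback (f.fiberι s)).obj F).presheaf.stalk z)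
    ((f.fiberι s).stalkMap z).hom
  haveI : IsScalarTower (X.presheaf.stalk (f.fiberι s z)) ((f.fiber s).presheaf.stalk z)
      (((Scheme.Modules.pullback (f.fiberι s)).obj F).presheaf.stalk z) := .of_algebraMap_smul fun r m => rfl
  rw [← Module.length_eq_of_surjective (S := X.presheaf.stalk (f.fiberι s z))
    (FlatMor68.FibreStalk.fiberι_stalkMap_surjective f s z)]
  exact e.length_eq

theorem nontrivial_fibre_stalk_iff (f : X ⟶ Y) (F : X.Modules) [F.IsQuasicoherent] (hF : Coh.IsCoh F) (s : Y)
    (z : f.fiber s) :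
    Nontrivial (((Scheme.Modules.pullback (f.fiberι s)).obj F).presheaf.stalk z) ↔
      Nontrivial (F.presheaf.stalk (f.fiberι s z)) := by
  haveI : Module.Finite (X.presheaf.stalk (f.fiberι s z)) (F.presheaf.stalk (f.fiberι s z)) :=
    FDesc60.finite_stalk_of_isCoh F hF _
  rw [← Module.length_pos_iff (R := (f.fiber s).presheaf.stalk z), length_fibre_stalk f F s z, Module.length_pos_iff]
  refine ⟨fun h => ?_, fun h => ?_⟩
  · rw [← not_subsingleton_iff_nontrivial] at h ⊢
    exact fun hs => h (Submodule.Quotient.mk_surjective _).subsingleton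
  · refine Submodule.Quotient.nontrivial_iff.2 (Ne.symm (Submodule.top_ne_ideal_smul_of_le_jacobson_annihilator ?_))
    refine le_trans ?_ (maximalIdeal_le_jacobson _)
    exact ((local_hom_TFAE (f.stalkMap (f.fiberι s z)).hom).out 0 2).1 (f.toLRSHom.prop _)

/-- The ideal cutting out the fibre over the closed point of a discrete valuation ring is principal, generated
by a regular element. -/
theorem exists_maximalIdeal_stalk_closedPoint (A : Type u) [CommRing A] [IsDomain A] [IsDiscreteValuationRing A]
    (q : Spec (CommRingCat.of A)) (hq : q = closedPoint A) :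
    ∃ ϖ : (Spec (CommRingCat.of A)).presheaf.stalk q,
      maximalIdeal _ = Ideal.span {ϖ} ∧ ϖ ∈ nonZeroDivisors ((Spec (CommRingCat.of A)).presheaf.stalk q) ∧
        ∀ (w : Spec (CommRingCat.of A)) (h : w ⤳ q), w ≠ q →
          IsUnit ((Spec (CommRingCat.of A)).presheaf.stalkSpecializes h ϖ) := by
  subst hq
  let O := (Spec (CommRingCat.of A)).presheaf.stalk (closedPoint A)
  letI : Algebra A O := StructureSheaf.stalkAlgebra A (closedPoint A)
  haveI : IsLocalization.AtPrime O (maximalIdeal A) :=
    StructureSheaf.IsLocalization.to_stalk A (closedPoint A)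
  obtain ⟨π, hπ⟩ := IsDiscreteValuationRing.exists_irreducible A
  have hinj : Function.Injective (algebraMap A O) :=
    IsLocalization.injective O (M := (maximalIdeal A).primeCompl) (Ideal.primeCompl_le_nonZeroDivisors _)
  haveI : IsDomain O := IsLocalization.isDomain_of_atPrime O (maximalIdeal A)
  have hm : maximalIdeal O = Ideal.span {algebraMap A O π} := by
    rw [← IsLocalization.AtPrime.map_eq_maximalIdeal (maximalIdeal A) O, hπ.maximalIdeal_eq, Ideal.map_span,
      Set.image_singleton]
  refine ⟨algebraMap A O π, hm, mem_nonZeroDivisors_of_ne_zero ?_, fun w h hw => ?_⟩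
  · rw [← map_zero (algebraMap A O)]
    exact fun e => hπ.ne_zero (hinj e)
  obtain rfl := (eq_closedPoint_or_eq_genericPoint w).resolve_left hw
  rw [← not_not (a := IsUnit _)]
  intro hu
  have hmem : algebraMap A O π ∈ genPrime h := hu
  have hne : genPrime h ≠ maximalIdeal O := by
    intro e
    have h1 : genericPoint (Spec (CommRingCat.of A)) ⤳ closedPoint A := h
    have h2 : closedPoint A ⤳ genericPoint (Spec (CommRingCat.of A)) :=
      specializes_of_genPrime_le (x := (closedPoint A : Spec (CommRingCat.of A)))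
        (y := (closedPoint A : Spec (CommRingCat.of A))) (y' := genericPoint (Spec (CommRingCat.of A)))
        specializes_rfl h ((le_maximalIdeal (inferInstance : (genPrime _).IsPrime).ne_top).trans_eq e.symm)
    exact genericPoint_ne_closedPoint (h1.antisymm h2).eq
  refine hne ((maximalIdeal.isMaximal O).eq_of_le (inferInstance : (genPrime h).IsPrime).ne_top ?_).symm
  rw [hm]
  exact (Ideal.span_singleton_le_iff_mem _).2 hmem

theorem maximalIdeal_stalk_genericPoint (A : Type u) [CommRing A] [IsDomain A] (q : Spec (CommRingCat.of A))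
    (hq : q = genericPoint (Spec (CommRingCat.of A))) :
    maximalIdeal ((Spec (CommRingCat.of A)).presheaf.stalk q) = ⊥ := by
  let O := (Spec (CommRingCat.of A)).presheaf.stalk q
  letI : Algebra A O := StructureSheaf.stalkAlgebra A q
  haveI : IsLocalization.AtPrime O q.asIdeal := StructureSheaf.IsLocalization.to_stalk A q
  have h0 : q.asIdeal = ⊥ := by rw [hq, genericPoint_eq_bot_of_affine]; rfl
  rw [← IsLocalization.AtPrime.map_eq_maximalIdeal q.asIdeal O, h0, Ideal.map_bot]

section Main

variable {A : Type u} [CommRing A] [IsDomain A] [IsDiscreteValuationRing A]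

theorem length_generic_stalk (f : X ⟶ Spec (CommRingCat.of A)) (F : X.Modules) [F.IsQuasicoherent]
    (z : f.fiber (genericPoint (Spec (CommRingCat.of A)))) :
    Module.length ((f.fiber _).presheaf.stalk z)
      (((Scheme.Modules.pullback (f.fiberι _)).obj F).presheaf.stalk z) =
    Module.length (X.presheaf.stalk (f.fiberι _ z)) (F.presheaf.stalk (f.fiberι _ z)) := by
  rw [length_fibre_stalk]
  refine (Submodule.quotEquivOfEqBot _ ?_).length_eq
  rw [maximalIdeal_stalk_genericPoint A _ (apply_fiberι f _ z), Ideal.map_bot, Submodule.bot_smul]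

variable (f : X ⟶ Spec (CommRingCat.of A)) [IsProper f] (F : X.Modules) (hF : Coh.IsCoh F)
  (hflat : FlatMod.IsFlatOver f F)

include hF in
theorem maximal_of_maximal_generic {v : f.fiber (genericPoint (Spec (CommRingCat.of A)))}
    (hv : ∀ w, Nontrivial (((Scheme.Modules.pullback (f.fiberι _)).obj F).presheaf.stalk w) →
      v ∈ closure {w} → w = v) :
    ∀ w : X, Nontrivial (F.presheaf.stalk w) → w ⤳ f.fiberι _ v → w = f.fiberι _ v := by
  haveI : F.IsQuasicoherent := hF.1
  intro w hw h
  have hfw : f w = genericPoint (Spec (CommRingCat.of A)) := by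
    have h1 := h.map f.continuous
    rw [apply_fiberι] at h1
    exact (h1.antisymm ((genericPoint_spec (Spec (CommRingCat.of A))).specializes trivial)).eq
  obtain ⟨w₀, rfl⟩ := (f.range_fiberι _).ge hfw
  rw [hv w₀ ((nontrivial_fibre_stalk_iff f F hF _ w₀).2 hw)
    (specializes_iff_mem_closure.1 ((f.fiberι _).isEmbedding.isInducing.specializes_iff.1 h))]

include hF hflat in
/-- A maximal point of the generic support specialises to an associated point of the closed fibre. -/
theorem exists_ass_closed_fibre {v : f.fiber (genericPoint (Spec (CommRingCat.of A)))}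
    (hv₁ : Nontrivial (((Scheme.Modules.pullback (f.fiberι _)).obj F).presheaf.stalk v))
    (hv₂ : ∀ w, Nontrivial (((Scheme.Modules.pullback (f.fiberι _)).obj F).presheaf.stalk w) →
      v ∈ closure {w} → w = v) :
    ∃ z : f.fiber (closedPoint A), f.fiberι _ v ⤳ f.fiberι _ z ∧
      z ∈ AssSch.Ass ((Scheme.Modules.pullback (f.fiberι (closedPoint A))).obj F) := by
  haveI : F.IsQuasicoherent := hF.1
  haveI : IsLocallyNoetherian X := LocallyOfFiniteType.isLocallyNoetherian f
  let x' := f.fiberι _ v
  have hx' : f x' = genericPoint (Spec (CommRingCat.of A)) := apply_fiberι f _ v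
  obtain ⟨x₀, hx₀, hfx₀⟩ := ((genericPoint_spec (Spec (CommRingCat.of A))).specializes
    (show closedPoint A ∈ _ from trivial)).mem_closed (f.isClosedMap _ (isClosed_closure (s := {x'})))
    ⟨x', subset_closure rfl, hx'⟩
  obtain ⟨x, hxK, hxx₀, hfx, -, hmax⟩ := exists_max_fdeg_closed f isClosed_closure hx₀
  rw [hfx₀] at hfx
  obtain ⟨z, rfl⟩ := (f.range_fiberι (closedPoint A)).ge hfx
  have hx'x : x' ⤳ f.fiberι _ z := specializes_iff_mem_closure.2 hxK
  refine ⟨z, hx'x, ?_⟩
  let x := f.fiberι (closedPoint A) z
  let B := X.presheaf.stalk x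
  let M := F.presheaf.stalk x
  haveI : Module.Finite B M := FDesc60.finite_stalk_of_isCoh F hF x
  -- the point `x'` is associated
  let P := genPrime hx'x
  letI := (X.presheaf.stalkSpecializes hx'x).hom.toAlgebra
  letI : Module B (F.presheaf.stalk x') := Module.compHom _ (X.presheaf.stalkSpecializes hx'x).hom
  haveI : IsScalarTower B (X.presheaf.stalk x') (F.presheaf.stalk x') := .of_algebraMap_smul fun r m => rfl
  haveI := isLocalization_stalkSpecializes hx'x
  haveI := isLocalizedModule_specializeLin F hF.1 hx'x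
  have hA' : IsAssociatedPrime (maximalIdeal (X.presheaf.stalk x')) (F.presheaf.stalk x') :=
    FBase64.AssSheaf.maximal_of_mem_ass F hF.1 x' ((nontrivial_fibre_stalk_iff f F hF _ v).1 hv₁)
      (maximal_of_maximal_generic f F hF hv₂)
  have hP : P ∈ associatedPrimes B M :=
    (Set.ext_iff.1 (Module.associatedPrimes.preimage_comap_associatedPrimes_eq_associatedPrimes_of_isLocalizedModule
      P.primeCompl (X.presheaf.stalk x') (specializeLin F hx'x)) _).2 hA'
  -- the equation of the closed fibre
  obtain ⟨ϖ, hϖ, hϖ0, hϖu⟩ := exists_maximalIdeal_stalk_closedPoint A (f x) hfx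
  let τ : B := f.stalkMap x ϖ
  have hI : (maximalIdeal ((Spec (CommRingCat.of A)).presheaf.stalk (f x))).map (f.stalkMap x).hom =
      Ideal.span {τ} := by
    rw [hϖ, Ideal.map_span, Set.image_singleton]
  have hreg : IsSMulRegular M τ := by
    letI := FlatMod.moduleStalkOver f F x
    haveI : Module.Flat ((Spec (CommRingCat.of A)).presheaf.stalk (f x)) M := hflat x
    exact Module.Flat.isSMulRegular_of_nonZeroDivisors (R := (Spec (CommRingCat.of A)).presheaf.stalk (f x)) hϖ0
  have hτ : τ ∈ maximalIdeal B := by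
    have h1 : ϖ ∈ maximalIdeal _ := hϖ ▸ Ideal.mem_span_singleton_self ϖ
    have h2 : (maximalIdeal _).map (f.stalkMap x).hom ≤ maximalIdeal B :=
      ((local_hom_TFAE (f.stalkMap x).hom).out 0 2).1 (f.toLRSHom.prop x)
    exact h2 (Ideal.mem_map_of_mem _ h1)
  have hmin : maximalIdeal B ∈ (P ⊔ Ideal.span {τ}).minimalPrimes := by
    refine ⟨⟨(maximalIdeal.isMaximal B).isPrime, sup_le (le_maximalIdeal (inferInstance : P.IsPrime).ne_top)
      ((Ideal.span_singleton_le_iff_mem _).2 hτ)⟩, fun Q hQ _ => ?_⟩
    haveI := hQ.1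
    obtain ⟨w, hw, hwQ⟩ := exists_genPrime_eq x Q
    suffices hwx : w = x by
      subst hwx
      rw [← hwQ]
      intro r hr
      rw [genPrime, Ideal.mem_comap, TopCat.Presheaf.stalkSpecializes_refl]
      exact hr
    have hx'w : x' ⤳ w := specializes_of_genPrime_le hx'x hw (hwQ ▸ le_sup_left.trans hQ.2)
    have hfw : f w = f x := by
      by_contra hne
      have h1 : τ ∈ genPrime hw := hwQ ▸ hQ.2 (Ideal.mem_sup_right (Ideal.mem_span_singleton_self τ))
      have h2 : (f.stalkMap w) ((Spec (CommRingCat.of A)).presheaf.stalkSpecializes (hw.map f.continuous) ϖ) =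
          X.presheaf.stalkSpecializes hw τ := Scheme.Hom.stalkSpecializes_stalkMap_apply f w x hw ϖ
      have h3 := (hϖu (f w) (hw.map f.continuous) hne).map (f.stalkMap w).hom
      exact (mem_maximalIdeal _).1 h1 (h2 ▸ h3)
    by_contra hne
    exact absurd (hmax w (specializes_iff_mem_closure.1 hx'w) (hw.trans hxx₀))
      (not_le.2 (fdeg_lt hw hfw hne))
  have hAM := CAlg7.mem_associatedPrimes_quotSMulTop hP hreg hmin
  rw [← hI] at hAM
  obtain ⟨e⟩ := nonempty_fibreStalkModuleEquiv f F (closedPoint A) z
  letI : Algebra B ((f.fiber (closedPoint A)).presheaf.stalk z) :=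
    ((f.fiberι (closedPoint A)).stalkMap z).hom.toAlgebra
  letI := Module.compHom (((Scheme.Modules.pullback (f.fiberι (closedPoint A))).obj F).presheaf.stalk z)
    ((f.fiberι (closedPoint A)).stalkMap z).hom
  haveI : IsScalarTower B ((f.fiber (closedPoint A)).presheaf.stalk z)
      (((Scheme.Modules.pullback (f.fiberι (closedPoint A))).obj F).presheaf.stalk z) :=
    .of_algebraMap_smul fun r m => rfl
  haveI : IsLocalHom (algebraMap B ((f.fiber (closedPoint A)).presheaf.stalk z)) :=
    (f.fiberι (closedPoint A)).toLRSHom.prop z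
  exact isAssociatedPrime_maximalIdeal_of_surjective
    (FlatMor68.FibreStalk.fiberι_stalkMap_surjective f (closedPoint A) z)
    (e.symm.isAssociatedPrime_iff.1 hAM)

end Main

end Groth.Agent.E4O
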