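import Groth.Agent.Div89.Stalk
import Groth.Agent.QC70.GenIso
import Groth.Agent.E4O.RectDepth

/-!
The support dimension of a stalk is the dimension of the generizations in the support.
-/

set_option autoImplicit false
set_option linter.style.haveILetI false
universe u

open CategoryTheory AlgebraicGeometry TopologicalSpace

namespace Groth.Agent.E4O

theorem mem_support_of_isLocalizedModule {A B M M' : Type u} [CommRing A] [CommRing B] [Algebra A B]
    (S : Submonoid A) [IsLocalization S B] [AddCommGroup M] [Module A M] [AddCommGroup M'] [Module A M']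
    [Module B M'] [IsScalarTower A B M'] (f : M →ₗ[A] M') [IsLocalizedModule S f] (q : PrimeSpectrum B) :
    q ∈ Module.support B M' ↔ PrimeSpectrum.comap (algebraMap A B) q ∈ Module.support A M := by
  rw [Module.mem_support_iff', Module.mem_support_iff']
  have hS : ∀ s : S, algebraMap A B s ∉ q.asIdeal := fun s h =>
    q.2.ne_top (Ideal.eq_top_of_isUnit_mem _ h (IsLocalization.map_units B s))
  constructor
  · rintro ⟨m, hm⟩
    obtain ⟨⟨m', s⟩, hs⟩ := IsLocalizedModule.surj S f m
    refine ⟨m', fun r hr h => hm (algebraMap A B (r * s)) ?_ ?_⟩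
    · rw [map_mul]
      exact fun h' => (q.2.mem_or_mem h').elim hr (hS s)
    · rw [algebraMap_smul, mul_smul, show (s : A) • m = f m' from hs, ← map_smul, h, map_zero]
  · rintro ⟨m, hm⟩
    refine ⟨f m, fun b hb h => ?_⟩
    obtain ⟨⟨r, s⟩, hrs⟩ := IsLocalization.surj S b
    have h1 : r • f m = 0 := by
      rw [← algebraMap_smul B r (f m), ← hrs, mul_comm, mul_smul, h, smul_zero]
    rw [← map_smul, IsLocalizedModule.eq_zero_iff S f] at h1
    obtain ⟨t, ht⟩ := h1
    have hr : algebraMap A B r ∉ q.asIdeal := fun h' => by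
      rw [← hrs] at h'
      exact (q.2.mem_or_mem h').elim hb (hS s)
    refine hm (t.1 * r) (fun h' => ?_) (by rw [mul_smul]; exact ht)
    change algebraMap A B (t.1 * r) ∈ q.asIdeal at h'
    rw [map_mul] at h'
    exact (q.2.mem_or_mem h').elim (hS t) hr

/-- The support dimension of a stalk is the dimension of its generizations in the support. -/
theorem supportDim_stalk_eq_dim_generizations {X : Scheme.{u}} [IsLocallyNoetherian X] (F : X.Modules)
    (hF : Coh.IsCoh F) (x : X) :
    Module.supportDim (X.presheaf.stalk x) (F.presheaf.stalk x) =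
      topologicalKrullDim ↥{t : X | ¬ Subsingleton (F.presheaf.stalk t) ∧ t ⤳ x} := by
  haveI := hF.1
  haveI := hF.2
  haveI : Module.Finite (X.presheaf.stalk x) (F.presheaf.stalk x) := QC70.finite_stalk F x
  obtain ⟨V, hV, hxV, -⟩ := exists_isAffineOpen_mem_and_subset (X := X) (x := x) (U := ⊤) trivial
  let U : X.affineOpens := ⟨V, hV⟩
  have key : ∀ q : PrimeSpectrum (X.presheaf.stalk x),
      q ∈ Module.support (X.presheaf.stalk x) (F.presheaf.stalk x) ↔
        ¬ Subsingleton (F.presheaf.stalk (X.fromSpecStalk x q)) := by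
    intro q
    have hy : X.fromSpecStalk x q ∈ V :=
      (show X.fromSpecStalk x q ⤳ x from X.range_fromSpecStalk.le ⟨q, rfl⟩).mem_open V.2 hxV
    have hP : hV.primeIdealOf ⟨X.fromSpecStalk x q, hy⟩ =
        PrimeSpectrum.comap (X.presheaf.germ V x hxV).hom q := by
      refine hV.fromSpec.isOpenEmbedding.injective ((hV.fromSpec_primeIdealOf _).trans ?_)
      show X.fromSpecStalk x q = hV.fromSpec (Spec.map (X.presheaf.germ V x hxV) q)
      rw [← Scheme.Hom.comp_apply, ← IsAffineOpen.fromSpecStalk, hV.fromSpecStalk_eq_fromSpecStalk hxV]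
    letI : Algebra Γ(X, V) (X.presheaf.stalk x) := Div89.stalkAlg V x hxV
    letI := Div89.stalkModule F V x hxV
    haveI := Div89.isScalarTower_stalk F V x hxV
    haveI : (Div89.primeAt U x hxV).IsPrime := Div89.primeAt_isPrime U x hxV
    haveI : IsLocalization.AtPrime (X.presheaf.stalk x) (Div89.primeAt U x hxV) :=
      hV.isLocalization_stalk ⟨x, hxV⟩
    haveI := Div89.isLocalizedModule_germLin F hF.1 U x hxV
    rw [mem_support_of_isLocalizedModule (Div89.primeAt U x hxV).primeCompl (Div89.germLin F V x hxV) q]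
    change PrimeSpectrum.comap (X.presheaf.germ V x hxV).hom q ∈ Module.support Γ(X, V) Γ(F, V) ↔ _
    rw [← hP]
    letI := Div89.stalkModule F V (X.fromSpecStalk x q) hy
    haveI := Div89.isLocalizedModule_germLin F hF.1 U (X.fromSpecStalk x q) hy
    haveI : (Div89.primeAt U (X.fromSpecStalk x q) hy).IsPrime := Div89.primeAt_isPrime U _ hy
    rw [Module.mem_support_iff, ← not_subsingleton_iff_nontrivial]
    exact not_congr (IsLocalizedModule.iso (Div89.primeAt U _ hy).primeCompl
      (Div89.germLin F V _ hy)).toEquiv.subsingleton_congr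
  rw [Module.supportDim_eq_ringKrullDim_quotient_annihilator, ← PrimeSpectrum.topologicalKrullDim_eq_ringKrullDim]
  let I := Module.annihilator (X.presheaf.stalk x) (F.presheaf.stalk x)
  let c := PrimeSpectrum.comap (Ideal.Quotient.mk I)
  have he : Topology.IsEmbedding (X.fromSpecStalk x ∘ c) :=
    (X.fromSpecStalk x).isEmbedding.comp
      (PrimeSpectrum.isClosedEmbedding_comap_of_surjective _ _ Ideal.Quotient.mk_surjective).toIsEmbedding
  have hr : Set.range (X.fromSpecStalk x ∘ c) = {t : X | ¬ Subsingleton (F.presheaf.stalk t) ∧ t ⤳ x} := by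
    have hc : Set.range c = Module.support (X.presheaf.stalk x) (F.presheaf.stalk x) := by
      rw [range_comap_of_surjective _ _ Ideal.Quotient.mk_surjective, Ideal.mk_ker,
        Module.support_eq_zeroLocus]
    rw [Set.range_comp]
    erw [hc]
    ext t
    constructor
    · rintro ⟨p, hp, rfl⟩
      exact ⟨(key p).1 hp, X.range_fromSpecStalk.le ⟨p, rfl⟩⟩
    · rintro ⟨ht, htx⟩
      obtain ⟨p, rfl⟩ : t ∈ Set.range (X.fromSpecStalk x) := X.range_fromSpecStalk.ge htx
      exact ⟨p, (key p).2 ht, rfl⟩
  rw [← hr]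
  exact IsHomeomorph.topologicalKrullDim_eq _ he.toHomeomorph.isHomeomorph

end Groth.Agent.E4O
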