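import Groth.Prelude.Def_CAlg2
import Mathlib.RingTheory.IntegralClosure.GoingDown
import Mathlib.RingTheory.Localization.Integral
import Mathlib.RingTheory.ZariskisMainTheorem

namespace Groth.Agent.E4O

universe u

theorem exists_le_comap_eq_of_isIntegral_of_isUnibranch {A B : Type u} [CommRing A]
    [IsLocalRing A] (hA : CAlg2.IsUnibranch A) [CommRing B] [IsDomain B] [Algebra A B]
    (hker : RingHom.ker (algebraMap A B) ≤ nilradical A) [Algebra.IsIntegral A B]
    (n : Ideal B) [n.IsPrime]
    (hn : n.comap (algebraMap A B) = IsLocalRing.maximalIdeal A) (p : Ideal A) [p.IsPrime] :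
    ∃ q : Ideal B, q.IsPrime ∧ q ≤ n ∧ q.comap (algebraMap A B) = p := by
  obtain ⟨hdom, hloc⟩ := hA
  have hker' : ∀ a ∈ nilradical A, algebraMap A B a = 0 := fun a ha =>
    ((mem_nilradical.1 ha).map (algebraMap A B)).eq_zero
  let φ : CAlg2.red A →+* B := Ideal.Quotient.lift (nilradical A) (algebraMap A B) hker'
  let _ : Algebra (CAlg2.red A) B := φ.toAlgebra
  have : IsScalarTower A (CAlg2.red A) B := IsScalarTower.of_algebraMap_eq fun a => rfl
  have : Algebra.IsIntegral (CAlg2.red A) B := Algebra.IsIntegral.tower_top A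
  have : FaithfulSMul (CAlg2.red A) B := by
    rw [faithfulSMul_iff_algebraMap_injective]
    intro a b hab
    obtain ⟨a, rfl⟩ := Ideal.Quotient.mk_surjective a
    obtain ⟨b, rfl⟩ := Ideal.Quotient.mk_surjective b
    have hab' : algebraMap A B a = algebraMap A B b := hab
    refine Ideal.Quotient.eq.2 (hker ?_)
    rw [RingHom.mem_ker, map_sub, hab', sub_self]
  let K := FractionRing (CAlg2.red A)
  let L := FractionRing B
  let _ : Algebra K L := FractionRing.liftAlgebra (CAlg2.red A) L
  let C := integralClosure (CAlg2.red A) L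
  let ψ : CAlg2.normRed A →+* C :=
    ((IsScalarTower.toAlgHom (CAlg2.red A) K L).mapIntegralClosure).toRingHom
  let _ : Algebra (CAlg2.normRed A) C := ψ.toAlgebra
  have : IsScalarTower (CAlg2.red A) (CAlg2.normRed A) C :=
    IsScalarTower.of_algebraMap_eq fun a =>
      ((IsScalarTower.toAlgHom (CAlg2.red A) K L).mapIntegralClosure.commutes a).symm
  have : Algebra.IsIntegral (CAlg2.normRed A) C := Algebra.IsIntegral.tower_top (CAlg2.red A)
  have : FaithfulSMul (CAlg2.normRed A) C := by
    rw [faithfulSMul_iff_algebraMap_injective]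
    intro a b hab
    exact Subtype.ext ((algebraMap K L).injective (congrArg Subtype.val hab))
  have : IsFractionRing (CAlg2.normRed A) K :=
    integralClosure.isFractionRing_of_finite_extension (A := CAlg2.red A) K K
  have : IsIntegrallyClosed (CAlg2.normRed A) := by
    rw [isIntegrallyClosed_iff (R := CAlg2.normRed A) (K := K)]
    intro x hx
    exact ⟨⟨x, isIntegral_trans (R := CAlg2.red A) x hx⟩, rfl⟩
  have : Algebra.HasGoingDown (CAlg2.normRed A) C := inferInstance
  let _ : Algebra B C := ((IsScalarTower.toAlgHom (CAlg2.red A) B L).codRestrict C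
    (fun x => (Algebra.IsIntegral.isIntegral x).map _)).toRingHom.toAlgebra
  have : IsScalarTower (CAlg2.red A) B C := IsScalarTower.of_algebraMap_eq fun a =>
    Subtype.ext (IsScalarTower.algebraMap_apply (CAlg2.red A) B L a)
  have : Algebra.IsIntegral B C := Algebra.IsIntegral.tower_top (CAlg2.red A)
  have hBC : Function.Injective (algebraMap B C) := fun a b hab =>
    IsFractionRing.injective B L (congrArg Subtype.val hab)
  obtain ⟨n', -, hn', hn'n⟩ := Ideal.exists_ideal_over_prime_of_isIntegral n (⊥ : Ideal C)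
    (by rw [← RingHom.ker_eq_comap_bot, (RingHom.injective_iff_ker_eq_bot _).1 hBC]; exact bot_le)
  let π : A →+* CAlg2.red A := Ideal.Quotient.mk (nilradical A)
  have hmax : ((n'.under (CAlg2.normRed A)).under (CAlg2.red A)).IsMaximal := by
    rw [Ideal.under_under, ← Ideal.under_under (B := B)]
    have : n'.under B = n := hn'n
    rw [this]
    have h2 : (n.under (CAlg2.red A)).comap π = IsLocalRing.maximalIdeal A := hn
    have h3 := Ideal.map_comap_of_surjective π Ideal.Quotient.mk_surjective (n.under (CAlg2.red A))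
    rw [h2] at h3
    rw [← h3]
    refine Ideal.IsMaximal.map_of_surjective_of_ker_le Ideal.Quotient.mk_surjective ?_
    rw [Ideal.mk_ker]; exact nilradical_le_prime _
  have hm' : (n'.under (CAlg2.normRed A)).IsMaximal :=
    Ideal.isMaximal_of_isIntegral_of_isMaximal_comap _ hmax
  have hp0 : (p.map π).IsPrime :=
    Ideal.map_isPrime_of_surjective Ideal.Quotient.mk_surjective (by rw [Ideal.mk_ker]; exact nilradical_le_prime _)
  have hp0' : (p.map π).comap π = p := by
    rw [Ideal.comap_map_of_surjective π Ideal.Quotient.mk_surjective, ← RingHom.ker_eq_comap_bot,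
      Ideal.mk_ker]
    exact sup_eq_left.2 (nilradical_le_prime _)
  obtain ⟨p', -, hp', hp'p⟩ := Ideal.exists_ideal_over_prime_of_isIntegral (p.map π)
    (⊥ : Ideal (CAlg2.normRed A)) (by
      rw [← RingHom.ker_eq_comap_bot, (RingHom.injective_iff_ker_eq_bot _).1
        (FaithfulSMul.algebraMap_injective (CAlg2.red A) (CAlg2.normRed A))]
      exact bot_le)
  have hple : p' ≤ n'.under (CAlg2.normRed A) := by
    rw [IsLocalRing.eq_maximalIdeal hm']
    exact IsLocalRing.le_maximalIdeal hp'.ne_top
  have : n'.LiesOver (n'.under (CAlg2.normRed A)) := ⟨rfl⟩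
  obtain ⟨q', hq'le, hq', hq'p⟩ := Ideal.exists_ideal_le_liesOver_of_le
    (p := p') (q := n'.under (CAlg2.normRed A)) n' hple
  refine ⟨q'.under B, inferInstance, fun a ha => hn'n.le (hq'le ha), ?_⟩
  have h1 : ((q'.under B).under (CAlg2.red A)) = p.map π := by
    rw [Ideal.under_under, ← Ideal.under_under (B := CAlg2.normRed A), ← hq'p.over]
    exact hp'p
  calc (q'.under B).comap (algebraMap A B) = ((q'.under B).under (CAlg2.red A)).comap π := rfl
    _ = p := by rw [h1, hp0']


/-- Quasi-finite at `q`, target domain, unibranch base point: generizations lift. -/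
theorem exists_le_comap_eq_of_quasiFiniteAt_of_isUnibranch {A B : Type u} [CommRing A]
    [CommRing B] [IsDomain B] [Algebra A B] [Algebra.FiniteType A B]
    (hker : RingHom.ker (algebraMap A B) ≤ nilradical A) (q : Ideal B) [q.IsPrime]
    [Algebra.QuasiFiniteAt A q] (p : Ideal A) [p.IsPrime] (hqp : q.comap (algebraMap A B) = p)
    (R : Type u) [CommRing R] [IsLocalRing R] [Algebra A R] [IsLocalization.AtPrime R p]
    (hR : CAlg2.IsUnibranch R) (p₁ : Ideal A) [p₁.IsPrime] (hp₁ : p₁ ≤ p) :
    ∃ q₁ : Ideal B, q₁.IsPrime ∧ q₁ ≤ q ∧ q₁.comap (algebraMap A B) = p₁ := by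
  obtain ⟨S', hfg, r, hrq, hbij⟩ :=
    Algebra.QuasiFiniteAt.exists_fg_and_exists_notMem_and_awayMap_bijective (R := A) q
  have : Module.Finite A S' := ⟨(Submodule.fg_top _).mpr hfg⟩
  let n : Ideal S' := q.comap S'.val.toRingHom
  have hn : n.IsPrime := inferInstance
  let M : Submonoid S' := Algebra.algebraMapSubmonoid S' p.primeCompl
  have hM : M ≤ n.primeCompl := by
    rintro _ ⟨a, ha, rfl⟩ h
    exact ha (hqp.le h)
  let T := Localization M
  have hinjM : M ≤ nonZeroDivisors S' := hM.trans fun x hx => mem_nonZeroDivisors_of_ne_zero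
    fun h => hx (h ▸ n.zero_mem)
  have : IsDomain T := IsLocalization.isDomain_localization hinjM
  let _ : Algebra R T := localizationAlgebra p.primeCompl S'
  have : IsScalarTower A R T :=
    IsScalarTower.of_algebraMap_eq fun a => by
      rw [IsScalarTower.algebraMap_apply A S' T a]
      exact (IsLocalization.map_eq (S := R) (Q := T) (M := p.primeCompl)
        (T := Algebra.algebraMapSubmonoid S' p.primeCompl) (g := algebraMap A S')
        (fun x hx => ⟨x, hx, rfl⟩) a).symm
  have : Algebra.IsIntegral R T :=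
    ⟨fun z => isIntegral_localization (M := p.primeCompl) (S := S') (Rₘ := R) (Sₘ := T) z⟩
  have hker' : RingHom.ker (algebraMap R T) ≤ nilradical R := by
    intro z hz
    obtain ⟨a, s, rfl⟩ := IsLocalization.exists_mk'_eq p.primeCompl z
    have h1 : algebraMap R T (algebraMap A R a) = 0 := by
      rw [← IsLocalization.mk'_spec R a s, map_mul, RingHom.mem_ker.1 hz, zero_mul]
    rw [← IsScalarTower.algebraMap_apply A R T, IsScalarTower.algebraMap_apply A S' T] at h1
    have h2 : algebraMap A S' a = 0 := IsLocalization.injective T hinjM (by rw [h1, map_zero])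
    have h3 : IsNilpotent a := hker (congrArg Subtype.val h2 : algebraMap A B a = 0)
    rw [mem_nilradical, IsLocalization.mk'_eq_mul_mk'_one]
    exact (Commute.all _ _).isNilpotent_mul_right (h3.map _)
  have hdisj : Disjoint (M : Set S') n := Set.disjoint_left.2 fun x hx hxn => hM hx hxn
  have hnT : (n.map (algebraMap S' T)).IsPrime :=
    IsLocalization.isPrime_of_isPrime_disjoint M T n hn hdisj
  have hcomp : (n.map (algebraMap S' T)).comap (algebraMap S' T) = n :=
    IsLocalization.under_map_of_isPrime_disjoint M T hn hdisj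
  have hnR : (n.map (algebraMap S' T)).comap (algebraMap R T) = IsLocalRing.maximalIdeal R := by
    have hA : ((n.map (algebraMap S' T)).comap (algebraMap R T)).comap (algebraMap A R) = p := by
      rw [Ideal.comap_comap, ← IsScalarTower.algebraMap_eq, IsScalarTower.algebraMap_eq A S' T,
        ← Ideal.comap_comap, hcomp]
      exact hqp
    rw [← IsLocalization.map_under p.primeCompl R ((n.map (algebraMap S' T)).comap (algebraMap R T))]
    simp only [Ideal.under, hA]
    exact IsLocalization.AtPrime.map_eq_maximalIdeal p R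
  have hdisj₁ : Disjoint (p.primeCompl : Set A) p₁ := Set.disjoint_left.2 fun x hx hx1 => hx (hp₁ hx1)
  have hp₁R : (p₁.map (algebraMap A R)).IsPrime :=
    IsLocalization.isPrime_of_isPrime_disjoint p.primeCompl R p₁ inferInstance hdisj₁
  obtain ⟨Q, hQ, hQn, hQp⟩ := exists_le_comap_eq_of_isIntegral_of_isUnibranch hR hker'
    (n.map (algebraMap S' T)) hnR (p₁.map (algebraMap A R))
  let n₁ : Ideal S' := Q.comap (algebraMap S' T)
  have hn₁ : n₁.IsPrime := inferInstance
  have hn₁n : n₁ ≤ n := fun x hx => hcomp.le (hQn hx)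
  have hn₁A : n₁.comap (algebraMap A S') = p₁ := by
    rw [Ideal.comap_comap, ← IsScalarTower.algebraMap_eq, IsScalarTower.algebraMap_eq A R T,
      ← Ideal.comap_comap, hQp]
    exact IsLocalization.under_map_of_isPrime_disjoint p.primeCompl R inferInstance hdisj₁
  have hr₁ : Disjoint (Submonoid.powers r : Set S') n₁ := Set.disjoint_left.2 fun x hx hx1 => by
    obtain ⟨k, rfl⟩ := hx
    exact hrq (hn.mem_of_pow_mem k (hn₁n hx1))
  have hQ₁ : (n₁.map (algebraMap S' (Localization.Away r))).IsPrime :=
    IsLocalization.isPrime_of_isPrime_disjoint (Submonoid.powers r) _ n₁ hn₁ hr₁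
  let e : Localization.Away r ≃+* Localization.Away (S'.val.toRingHom r) :=
    RingEquiv.ofBijective _ hbij
  let q₁ : Ideal B := ((n₁.map (algebraMap S' (Localization.Away r))).comap
    e.symm.toRingHom).comap (algebraMap B _)
  have he : ∀ x : S', e.symm (algebraMap B _ (S'.val.toRingHom x)) =
      algebraMap S' (Localization.Away r) x := fun x => by
    rw [RingEquiv.symm_apply_eq]
    symm
    show Localization.awayMap S'.val.toRingHom r (algebraMap S' (Localization.Away r) x) = _
    rw [Localization.awayMap, IsLocalization.Away.map]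
    exact IsLocalization.map_eq _ x
  have hq₁S : q₁.comap S'.val.toRingHom = n₁ := by
    ext x
    simp only [q₁, Ideal.mem_comap]
    erw [he]
    exact SetLike.ext_iff.1
      (IsLocalization.under_map_of_isPrime_disjoint (Submonoid.powers r) (Localization.Away r) hn₁ hr₁) x
  refine ⟨q₁, inferInstance, ?_, ?_⟩
  · intro b hb
    have hqr : Disjoint (Submonoid.powers (S'.val.toRingHom r) : Set B) q :=
      Set.disjoint_left.2 fun x hx hx1 => by
        obtain ⟨k, rfl⟩ := hx
        exact hrq (Ideal.IsPrime.mem_of_pow_mem inferInstance k hx1)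
    obtain ⟨a, ⟨_, k, rfl⟩, hz⟩ := IsLocalization.exists_mk'_eq (Submonoid.powers r)
      (e.symm (algebraMap B (Localization.Away (S'.val.toRingHom r)) b))
    have h1 : algebraMap B (Localization.Away (S'.val.toRingHom r)) (b * (S'.val.toRingHom r) ^ k) =
        algebraMap B _ (S'.val.toRingHom a) := by
      have h2 := congrArg e (IsLocalization.mk'_spec (Localization.Away r) a (⟨r ^ k, ⟨k, rfl⟩⟩ : Submonoid.powers r))
      rw [map_mul, hz, RingEquiv.apply_symm_apply] at h2
      have he2 : ∀ x : S', e (algebraMap S' (Localization.Away r) x) =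
          algebraMap B _ (S'.val.toRingHom x) := fun x => by
        rw [← RingEquiv.eq_symm_apply]
        exact (he x).symm
      rw [he2, he2, map_pow] at h2
      rw [map_mul]
      exact h2
    have ha : a ∈ n₁ := by
      rw [← hq₁S]
      show S'.val.toRingHom a ∈ q₁
      have := q₁.mul_mem_right ((S'.val.toRingHom r) ^ k) hb
      simp only [q₁, Ideal.mem_comap] at this ⊢
      rwa [← h1]
    obtain ⟨⟨_, m, rfl⟩, hc⟩ :=
      (IsLocalization.eq_iff_exists (Submonoid.powers (S'.val.toRingHom r)) _).1 h1
    have hmem : (S'.val.toRingHom r) ^ m * (b * (S'.val.toRingHom r) ^ k) ∈ q := by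
      rw [show (S'.val.toRingHom r) ^ m * (b * (S'.val.toRingHom r) ^ k) = _ from hc]
      exact q.mul_mem_left _ (hn₁n ha)
    have hnot : ∀ i, (S'.val.toRingHom r) ^ i ∉ q := fun i h =>
      hrq (Ideal.IsPrime.mem_of_pow_mem inferInstance i h)
    rcases Ideal.IsPrime.mem_or_mem inferInstance hmem with h | h
    · exact absurd h (hnot m)
    · exact (Ideal.IsPrime.mem_or_mem inferInstance h).resolve_right (hnot k)
  · rw [← hn₁A, ← hq₁S, Ideal.comap_comap]
    rfl

end Groth.Agent.E4O
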