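import Groth.Agent.QC70.Comap
import Groth.Agent.FBase64.TensorField
import Groth.Prelude.Def_FDesc
import Mathlib

/-!
EGA IV 11.10: the reduced closure of images of geometrically reduced schemes commutes with field extensions.
-/

set_option autoImplicit false
set_option linter.style.haveILetI false
set_option backward.isDefEq.respectTransparency.types false

noncomputable section

universe u

open CategoryTheory Limits AlgebraicGeometry TopologicalSpace TensorProduct

namespace Groth.Agent.E4O.VanBC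

/-- Membership in the vanishing ideal of the closure of a set, in terms of basic opens. -/
theorem mem_vanishingIdeal_closure_iff {X : Scheme.{u}} (Z : Set X) (U : X.affineOpens) (a : Γ(X, U.1)) :
    a ∈ (Scheme.IdealSheafData.vanishingIdeal (Closeds.closure Z)).ideal U ↔
      ∀ x ∈ Z, x ∈ U.1 → x ∉ X.basicOpen a := by
  rw [Scheme.IdealSheafData.vanishingIdeal_ideal]
  constructor
  · intro h x hx hxU hxa
    obtain ⟨P, rfl⟩ : x ∈ Set.range U.2.fromSpec := U.2.range_fromSpec.symm.subset hxU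
    have hP : a ∈ P.asIdeal := (PrimeSpectrum.mem_vanishingIdeal _ _).1 h P (subset_closure hx)
    have : P ∈ U.2.fromSpec ⁻¹ᵁ X.basicOpen a := hxa
    rw [U.2.fromSpec_preimage_basicOpen] at this
    exact this hP
  · intro h
    rw [PrimeSpectrum.mem_vanishingIdeal]
    intro P hP
    by_contra ha
    have hxa : U.2.fromSpec P ∈ X.basicOpen a := by
      have : P ∈ U.2.fromSpec ⁻¹ᵁ X.basicOpen a := by
        rw [U.2.fromSpec_preimage_basicOpen]
        exact ha
      exact this
    obtain ⟨y, hya, hyZ⟩ := mem_closure_iff.1 hP _ (X.basicOpen a).2 hxa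
    exact h y hyZ (X.basicOpen_le a hya) hya

/-- Sections on an affine piece of a base change over a field, as a tensor product. -/
theorem exists_sections_equiv {k : Type u} [Field k] {X S' : Scheme.{u}} (p : X ⟶ Spec (CommRingCat.of k))
    (q : S' ⟶ Spec (CommRingCat.of k)) [IsAffine S'] {U : X.Opens} (hU : IsAffineOpen U) :
    letI := (p.appLE ⊤ U le_top).hom.toAlgebra
    letI := (q.appLE ⊤ ⊤ le_top).hom.toAlgebra
    ∃ e : Γ(X, U) ⊗[Γ(Spec (CommRingCat.of k), ⊤)] Γ(S', ⊤) ≃+* Γ(pullback p q, pullback.fst p q ⁻¹ᵁ U),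
      ∀ a c, e (a ⊗ₜ c) = (pullback.fst p q).app U a * (pullback.snd p q).appLE ⊤ _ le_top c := by
  let T : (Spec (CommRingCat.of k)).Opens := ⊤
  let W := pullback.fst p q ⁻¹ᵁ U
  have hS : IsAffineOpen (⊤ : S'.Opens) := isAffineOpen_top _
  have hWeq : W = pullback.fst p q ⁻¹ᵁ U ⊓ pullback.snd p q ⁻¹ᵁ ⊤ :=
    le_antisymm (le_inf le_rfl le_top) inf_le_left
  have hiso := isIso_pushoutSection_of_isAffineOpen (IsPullback.of_hasPullback p q)
    (show (⊤ : S'.Opens) ≤ q ⁻¹ᵁ T from le_top) (show U ≤ p ⁻¹ᵁ T from le_top) (UY := W) hWeq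
    (isAffineOpen_top _) hS hU
  have hpush := (isIso_pushoutSection_iff ..).1 hiso
  let a' := (pullback.fst p q).appLE U W le_rfl
  let b' := (pullback.snd p q).appLE ⊤ W le_top
  algebraize [(p.appLE T U le_top).hom, (q.appLE T ⊤ le_top).hom, a'.hom, b'.hom,
    a'.hom.comp (p.appLE T U le_top).hom]
  have : IsScalarTower Γ(Spec (CommRingCat.of k), T) Γ(S', ⊤) Γ(pullback p q, W) :=
    .of_algebraMap_eq fun x => congr($(hpush.1.1).hom x)
  have h' : Algebra.IsPushout Γ(Spec (CommRingCat.of k), T) Γ(X, U) Γ(S', ⊤) Γ(pullback p q, W) :=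
    CommRingCat.isPushout_iff_isPushout.mp hpush
  refine ⟨(Algebra.IsPushout.equiv _ Γ(X, U) Γ(S', ⊤) Γ(pullback p q, W)).toRingEquiv, fun a c => ?_⟩
  show Algebra.IsPushout.equiv _ Γ(X, U) Γ(S', ⊤) Γ(pullback p q, W) (a ⊗ₜ c) = _
  rw [Algebra.IsPushout.equiv_tmul]
  show a'.hom a * b'.hom c = _
  rw [show a' = (pullback.fst p q).app U from Scheme.Hom.appLE_eq_app _]

/-- The reduced closure of the images of geometrically reduced schemes commutes with field extensions. -/
theorem vanishingIdeal_closure_eq_comap {k : Type u} [Field k] {X : Scheme.{u}}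
    (p : X ⟶ Spec (CommRingCat.of k)) {S' : Scheme.{u}} [IsAffine S'] [Nontrivial Γ(S', ⊤)] (q : S' ⟶ Spec (CommRingCat.of k))
    {ι : Type u} (Z : ι → Scheme.{u}) (f : ∀ i, Z i ⟶ X) [∀ i, IsReduced (pullback (f i ≫ p) q)]
    (f' : ∀ i, pullback (f i ≫ p) q ⟶ pullback p q)
    (h1 : ∀ i, f' i ≫ pullback.fst p q = pullback.fst (f i ≫ p) q ≫ f i)
    (h2 : ∀ i, f' i ≫ pullback.snd p q = pullback.snd (f i ≫ p) q) :
    Scheme.IdealSheafData.vanishingIdeal (Closeds.closure (⋃ i, Set.range (f' i))) =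
      (Scheme.IdealSheafData.vanishingIdeal (Closeds.closure (⋃ i, Set.range (f i)))).comap
        (pullback.fst p q) := by
  haveI : IsAffineHom q := inferInstance
  haveI : IsAffineHom (pullback.fst p q) := MorphismProperty.pullback_fst _ _ inferInstance
  let π := pullback.fst p q
  refine Scheme.IdealSheafData.ext_of_iSup_eq_top
    (fun U : X.affineOpens => (⟨π ⁻¹ᵁ U.1, U.2.preimage π⟩ : (pullback p q).affineOpens)) ?_ fun U => ?_
  · show ⨆ U : X.affineOpens, π ⁻¹ᵁ U.1 = ⊤
    rw [← Scheme.Hom.preimage_iSup, iSup_affineOpens_eq_top, Scheme.Hom.preimage_top]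
  rw [Groth.Agent.QC70.ideal_comap_preimage π _ U]
  refine le_antisymm (fun x hx => ?_) ?_
  · let R := Γ(Spec (CommRingCat.of k), ⊤)
    letI : Field R :=
      (MulEquiv.isField (Field.toIsField k)
        (Scheme.ΓSpecIso (CommRingCat.of k)).commRingCatIsoToRingEquiv.toMulEquiv).toField
    letI : Algebra R Γ(X, U.1) := (p.appLE ⊤ U.1 le_top).hom.toAlgebra
    letI : Algebra R Γ(S', ⊤) := (q.appLE ⊤ ⊤ le_top).hom.toAlgebra
    obtain ⟨e, he⟩ := exists_sections_equiv p q U.2
    let I := (Scheme.IdealSheafData.vanishingIdeal (Closeds.closure (⋃ i, Set.range (f i)))).ideal U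
    let J := Σ i, {V : (Z i).affineOpens // V.1 ≤ f i ⁻¹ᵁ U.1}
    letI : ∀ j : J, Algebra R Γ(Z j.1, j.2.1.1) := fun j => ((f j.1 ≫ p).appLE ⊤ j.2.1.1 le_top).hom.toAlgebra
    let φ : ∀ j : J, Γ(X, U.1) →ₐ[R] Γ(Z j.1, j.2.1.1) := fun j =>
      { toRingHom := ((f j.1).appLE U.1 j.2.1.1 j.2.2).hom
        commutes' := fun r => by
          show ((p.appLE ⊤ U.1 le_top) ≫ (f j.1).appLE U.1 j.2.1.1 j.2.2) r = _
          rw [Scheme.Hom.appLE_comp_appLE]
          rfl }
    have hzero : ∀ (j : J) (a : Γ(X, U.1)), a ∈ I → (Z j.1).basicOpen (φ j a) = ⊥ := by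
      intro j a ha
      show (Z j.1).basicOpen ((f j.1).appLE U.1 j.2.1.1 j.2.2 a) = ⊥
      rw [Scheme.basicOpen_appLE, eq_bot_iff]
      intro z hz
      exact (mem_vanishingIdeal_closure_iff _ U a).1 ha _ (Set.mem_iUnion.2 ⟨j.1, z, rfl⟩) (j.2.2 hz.1) hz.2
    have hker : ∀ a : Γ(X, U.1), (∀ j, φ j a = 0) → a ∈ I := by
      intro a ha
      refine (mem_vanishingIdeal_closure_iff _ U a).2 fun y hy hyU hya => ?_
      obtain ⟨i, z, rfl⟩ := Set.mem_iUnion.1 hy
      obtain ⟨V, hV, hzV, hVU⟩ := exists_isAffineOpen_mem_and_subset (U := f i ⁻¹ᵁ U.1) (x := z) hyU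
      have h := congrArg (Z i).basicOpen (ha ⟨i, ⟨V, hV⟩, hVU⟩)
      change (Z i).basicOpen ((f i).appLE U.1 V hVU a) = _ at h
      rw [Scheme.basicOpen_appLE, Scheme.basicOpen_zero] at h
      exact h.le ⟨hzV, hya⟩
    have hred : ∀ (j : J) (a : Γ(X, U.1)), a ∈ I → φ j a = 0 := by
      intro j a ha
      obtain ⟨ej, hej⟩ := exists_sections_equiv (f j.1 ≫ p) q j.2.1.2
      haveI : _root_.IsReduced (Γ(Z j.1, j.2.1.1) ⊗[R] Γ(S', ⊤)) := isReduced_of_injective ej ej.injective
      have hb : φ j a ⊗ₜ[R] (1 : Γ(S', ⊤)) = 0 := by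
        apply ej.injective
        rw [hej, map_one, mul_one, map_zero]
        refine (AlgebraicGeometry.basicOpen_eq_bot_iff _).1 ?_
        rw [← Scheme.preimage_basicOpen, hzero j a ha, Scheme.Hom.preimage_bot]
      have hinj := Algebra.TensorProduct.includeLeft_injective (R := R) (S := R) (A := Γ(Z j.1, j.2.1.1))
        (B := Γ(S', ⊤)) (algebraMap R Γ(S', ⊤)).injective
      exact hinj (hb.trans (map_zero _).symm)
    obtain ⟨y, rfl⟩ := e.surjective x
    let ψ : ∀ j : J, (Γ(X, U.1) ⧸ I) →ₐ[R] Γ(Z j.1, j.2.1.1) := fun j =>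
      Ideal.Quotient.liftₐ I (φ j) fun a ha => hred j a ha
    have hy : Algebra.TensorProduct.map (Ideal.Quotient.mkₐ R I) (AlgHom.id R Γ(S', ⊤)) y = 0 := by
      refine FBase64.eq_zero_of_forall_map (k := R) ψ ?_ _ fun j => ?_
      · intro a ha
        obtain ⟨a, rfl⟩ := Ideal.Quotient.mk_surjective a
        exact Ideal.Quotient.eq_zero_iff_mem.2 (hker a fun j => ha j)
      · rw [← AlgHom.comp_apply, ← Algebra.TensorProduct.map_comp, Ideal.Quotient.liftₐ_comp, AlgHom.id_comp]
        obtain ⟨ej, hej⟩ := exists_sections_equiv (f j.1 ≫ p) q j.2.1.2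
        let W' := pullback.fst (f j.1 ≫ p) q ⁻¹ᵁ j.2.1.1
        have eW : W' ≤ f' j.1 ⁻¹ᵁ (π ⁻¹ᵁ U.1) := by
          rw [← Scheme.Hom.comp_preimage, h1, Scheme.Hom.comp_preimage]
          exact Scheme.Hom.preimage_mono _ j.2.2
        apply ej.injective
        rw [map_zero]
        have hc : ∀ y, ej (Algebra.TensorProduct.map (φ j) (AlgHom.id R Γ(S', ⊤)) y) =
            (f' j.1).appLE (π ⁻¹ᵁ U.1) W' eW (e y) := by
          intro y
          induction y using TensorProduct.induction_on with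
          | zero => simp
          | add a b ha hb => simp only [map_add, ha, hb]
          | tmul a c =>
            rw [Algebra.TensorProduct.map_tmul, hej, he, map_mul]
            congr 1
            · show (((f j.1).appLE U.1 j.2.1.1 j.2.2) ≫ (pullback.fst (f j.1 ≫ p) q).app j.2.1.1) a =
                (π.app U.1 ≫ (f' j.1).appLE (π ⁻¹ᵁ U.1) W' eW) a
              rw [Scheme.Hom.app_eq_appLE, Scheme.Hom.app_eq_appLE, Scheme.Hom.appLE_comp_appLE,
                Scheme.Hom.appLE_comp_appLE]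
              simp_rw [π, h1]
              rfl
            · show (pullback.snd (f j.1 ≫ p) q).appLE ⊤ W' le_top c =
                ((pullback.snd p q).appLE ⊤ (π ⁻¹ᵁ U.1) le_top ≫ (f' j.1).appLE (π ⁻¹ᵁ U.1) W' eW) c
              rw [Scheme.Hom.appLE_comp_appLE]
              simp_rw [h2]
        rw [hc]
        refine (AlgebraicGeometry.basicOpen_eq_bot_iff _).1 ?_
        rw [Scheme.basicOpen_appLE, eq_bot_iff]
        intro z hz
        exact (mem_vanishingIdeal_closure_iff _ _ _).1 hx _ (Set.mem_iUnion.2 ⟨j.1, z, rfl⟩) (eW hz.1) hz.2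
    have hy' : y ∈ RingHom.ker (Algebra.TensorProduct.map (Ideal.Quotient.mkₐ R I) (AlgHom.id R Γ(S', ⊤))) := hy
    rw [Algebra.TensorProduct.rTensor_ker _ (Ideal.Quotient.mkₐ_surjective R I)] at hy'
    rw [show RingHom.ker (Ideal.Quotient.mkₐ R I) = I from Ideal.Quotient.mkₐ_ker R I] at hy'
    refine (Ideal.map_le_iff_le_comap.2 (fun a ha => ?_) :
      I.map (Algebra.TensorProduct.includeLeft (R := R) (S := R) (A := Γ(X, U.1)) (B := Γ(S', ⊤))) ≤
        ((I.map (π.app U.1).hom).comap e.toRingHom)) hy'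
    rw [Ideal.mem_comap, Ideal.mem_comap]
    show e (a ⊗ₜ 1) ∈ _
    rw [he, map_one, mul_one]
    exact Ideal.mem_map_of_mem _ ha
  · rw [Ideal.map_le_iff_le_comap]
    intro a ha
    rw [Ideal.mem_comap, mem_vanishingIdeal_closure_iff]
    intro y hy hyU hya
    obtain ⟨i, z, rfl⟩ := Set.mem_iUnion.1 hy
    have hya' : π (f' i z) ∈ X.basicOpen a := by
      have : f' i z ∈ π ⁻¹ᵁ X.basicOpen a := by
        rw [Scheme.preimage_basicOpen]
        exact hya
      exact this
    rw [← Scheme.Hom.comp_apply, h1, Scheme.Hom.comp_apply] at hya'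
    exact (mem_vanishingIdeal_closure_iff _ U a).1 ha _ (Set.mem_iUnion.2 ⟨i, _, rfl⟩) (X.basicOpen_le a hya') hya'

end Groth.Agent.E4O.VanBC
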