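import Groth.Agent.E4O.CodimFibre
import Mathlib.RingTheory.Ideal.KrullsHeightTheorem

/-!
Cutting an equidimensional morphism by one function (EGA IV 13.3.5).
-/

universe u

open CategoryTheory AlgebraicGeometry TopologicalSpace Topology

namespace Groth.Agent.E4O

variable {X Y : Scheme.{u}} {f : X ⟶ Y}

/-- In a chart, the zero locus of a section is that of one element. -/
theorem Chart.exists_mem_zeroLocus_iff (C : Chart f) (g : Γ(X, ⊤)) :
    ∃ b : C.B, ∀ q, C.pt q ∈ X.zeroLocus ({g} : Set Γ(X, ⊤)) ↔ b ∈ q.asIdeal := by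
  refine ⟨(Scheme.ΓSpecIso (CommRingCat.of C.B)).hom (C.e.appTop g), fun q => ?_⟩
  have h : C.e ⁻¹ᵁ X.basicOpen g =
      PrimeSpectrum.basicOpen ((Scheme.ΓSpecIso (CommRingCat.of C.B)).hom (C.e.appTop g)) := by
    rw [Scheme.preimage_basicOpen, ← basicOpen_eq_of_affine']
    rfl
  rw [Scheme.mem_zeroLocus_iff]
  simp only [Set.mem_singleton_iff, forall_eq]
  show q ∉ C.e ⁻¹ᵁ X.basicOpen g ↔ _
  rw [h]
  exact not_not

variable (f) in
/-- A point of the zero locus has a generization maximal in the zero locus. -/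
theorem exists_max_zeroLocus [LocallyOfFiniteType f] (g : Γ(X, ⊤)) {x : X}
    (hx : x ∈ X.zeroLocus ({g} : Set Γ(X, ⊤))) :
    ∃ ξ, ξ ⤳ x ∧ ξ ∈ X.zeroLocus ({g} : Set Γ(X, ⊤)) ∧
      ∀ z, z ⤳ ξ → z ∈ X.zeroLocus ({g} : Set Γ(X, ⊤)) → z = ξ := by
  obtain ⟨C, ⟨q, rfl⟩, -⟩ := exists_chart f x
  obtain ⟨b, hb⟩ := C.exists_mem_zeroLocus_iff g
  obtain ⟨p, hp, hpq⟩ := Ideal.exists_minimalPrimes_le (I := Ideal.span {b}) (J := q.asIdeal)
    ((Ideal.span_singleton_le_iff_mem _).2 ((hb q).1 hx))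
  let p' : PrimeSpectrum C.B := ⟨p, hp.1.1⟩
  refine ⟨C.pt p', (C.specializes_iff _ _).2 hpq,
    (hb p').2 ((Ideal.span_singleton_le_iff_mem _).1 hp.1.2), fun z hz hzK => ?_⟩
  obtain ⟨t, rfl⟩ := hz.mem_open C.isOpenEmbedding_pt.isOpen_range ⟨p', rfl⟩
  have htp := (C.specializes_iff _ _).1 hz
  exact congrArg C.pt (PrimeSpectrum.ext (le_antisymm htp
    (hp.2 ⟨t.2, (Ideal.span_singleton_le_iff_mem _).2 ((hb t).1 hzK)⟩ htp)))

variable (f) in
/-- Krull's principal ideal theorem for zero loci. -/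
theorem ringKrullDim_stalk_le_one_of_max_zeroLocus [IsLocallyNoetherian Y] [LocallyOfFiniteType f]
    (g : Γ(X, ⊤)) {ξ : X} (hξ : ξ ∈ X.zeroLocus ({g} : Set Γ(X, ⊤)))
    (hmax : ∀ z, z ⤳ ξ → z ∈ X.zeroLocus ({g} : Set Γ(X, ⊤)) → z = ξ) :
    ringKrullDim (X.presheaf.stalk ξ) ≤ (1 : ℕ) := by
  obtain ⟨C, ⟨q, rfl⟩, hC⟩ := exists_chart f ξ
  have := hC ‹_›
  have : IsNoetherianRing C.B := Algebra.FiniteType.isNoetherianRing C.A _
  obtain ⟨b, hb⟩ := C.exists_mem_zeroLocus_iff g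
  have hq : q.asIdeal ∈ (Ideal.span {b}).minimalPrimes := by
    refine ⟨⟨q.2, (Ideal.span_singleton_le_iff_mem _).2 ((hb q).1 hξ)⟩, fun P hP hPle => ?_⟩
    have h1 := hmax (C.pt ⟨P, hP.1⟩) ((C.specializes_iff _ _).2 hPle)
      ((hb _).2 ((Ideal.span_singleton_le_iff_mem _).1 hP.2))
    exact (congrArg PrimeSpectrum.asIdeal (C.isOpenEmbedding_pt.injective h1)).ge
  rw [C.ringKrullDim_stalk]
  exact_mod_cast Ideal.height_le_one_of_isPrincipal_of_mem_minimalPrimes (Ideal.span {b}) _ hq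

variable (f) in
/-- The numerical content of cutting by a function missing the maximal points of the fibre. -/
theorem cut_of_isEquidimAt [IsLocallyNoetherian Y] [LocallyOfFiniteType f] (g : Γ(X, ⊤)) {x : X}
    {e : ℕ} (hf : EGA43.IsEquidimAt f x) (he : FlatMor.fibreDimAt f x = (e : ℕ))
    (hmax : ∀ z, z ⤳ x → f z = f x → IsFibreMax f z → z ∉ X.zeroLocus ({g} : Set Γ(X, ⊤))) :
    (∀ z ∈ X.zeroLocus ({g} : Set Γ(X, ⊤)), z ⤳ x → f z = f x → fdeg f z + 1 ≤ e) ∧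
    ∀ ξ ∈ X.zeroLocus ({g} : Set Γ(X, ⊤)), ξ ⤳ x →
      (∀ z, z ⤳ ξ → z ∈ X.zeroLocus ({g} : Set Γ(X, ⊤)) → z = ξ) →
      ringKrullDim (X.presheaf.stalk ξ) = (1 : ℕ) ∧ fdeg f ξ + 1 = e ∧
        closure {f ξ} ∈ irreducibleComponents (Y : Type u) := by
  have hcut : ∀ z ∈ X.zeroLocus ({g} : Set Γ(X, ⊤)), z ⤳ x → f z = f x → fdeg f z + 1 ≤ e := by
    intro z hz hzx hfz
    obtain ⟨w, hw, hfw, hwmax, -, -⟩ := exists_isFibreMax_specializes f z
    have hne : w ≠ z := fun h => hmax z hzx hfz (h ▸ hwmax) hz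
    have h1 := fdeg_lt hw hfw hne
    have h2 := fdeg_le_fibreDimAt (f := f) (hw.trans hzx) (hfw.trans hfz)
    rw [he] at h2
    have h3 : fdeg f w ≤ e := by exact_mod_cast h2
    omega
  refine ⟨hcut, fun ξ hξK hξx hξmax => codim_eq_of_isEquidimAt f hf he hξx
    (ringKrullDim_stalk_le_one_of_max_zeroLocus f g hξK hξmax) fun z hξz hzx hfz => hcut z ?_ hzx hfz⟩
  exact hξz.mem_closed (X.zeroLocus_isClosed _) hξK

end Groth.Agent.E4O
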